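import Groth.Agent.Lib.Helper90.EtaleNbhdIntIdem
import Mathlib.LinearAlgebra.Matrix.Charpoly.Coeff
import Mathlib.LinearAlgebra.Matrix.Charpoly.Basic

/-!
Etale-local lifting of idempotents of integral algebras (element form) and of idempotent matrices
around `V(I)` (Stacks 15.9.10/15.9.11 core), by helper90.
-/

set_option autoImplicit false
set_option linter.style.haveILetI false
universe u

open Polynomial TensorProduct

namespace Groth.Agent.Lib.Helper90.EtaleNbhd


/-- Stacks 15.9.10 in element form: an element `b` of an integral `A`-algebra `B` which is idempotent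
modulo `IB` becomes congruent to an idempotent after an etale base change `A → A'` inducing
`A/I ≅ A'/IA'`. -/
theorem exists_etale_idempotent_lift_of_isIntegral {A B : Type u} [CommRing A] [CommRing B]
    [Algebra A B] [Algebra.IsIntegral A B] (I : Ideal A) (b₀ : B)
    (hb : b₀ * b₀ - b₀ ∈ I.map (algebraMap A B)) :
    ∃ (A' : Type u) (_ : CommRing A') (_ : Algebra A A'), Algebra.Etale A A' ∧
      Function.Bijective (algebraMap (A ⧸ I) (A' ⧸ I.map (algebraMap A A'))) ∧
      ∃ e' : A' ⊗[A] B, IsIdempotentElem e' ∧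
        e' - 1 ⊗ₜ b₀ ∈ I.map (algebraMap A (A' ⊗[A] B)) := by
  classical
  obtain ⟨d, f, hf, hfb, hfmap⟩ :=
    Groth.Agent.Lib.Helper37.exists_monic_aeval_eq_zero_of_sq_sub_mem I b₀ hb
  have hX1 : (Polynomial.X - 1 : Polynomial (A ⧸ I)).Monic := by
    have := Polynomial.monic_X_sub_C (1 : A ⧸ I)
    rwa [Polynomial.C_1] at this
  have hcop : IsCoprime ((Polynomial.X : Polynomial (A ⧸ I)) ^ (d + 1))
      ((Polynomial.X - 1) ^ (d + 1)) := by
    apply IsCoprime.pow
    exact ⟨1, -1, by ring⟩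
  obtain ⟨A', _, _, hA', hbij, g', h', hg'm, hh'm, hcop', hfgh, hg', hh'⟩ :=
    exists_etale_lift_coprime_monic_factorization I f hf _ _
      (Polynomial.monic_X_pow _) (hX1.pow _) hcop hfmap
  refine ⟨A', inferInstance, inferInstance, hA', hbij, ?_⟩
  set c : A' ⊗[A] B := 1 ⊗ₜ b₀ with hc
  have hFc : Polynomial.aeval c (g' * h') = 0 := by
    rw [← hfgh, Polynomial.aeval_map_algebraMap]
    have : c = (Algebra.TensorProduct.includeRight : B →ₐ[A] A' ⊗[A] B) b₀ := rfl
    rw [this, Polynomial.aeval_algHom_apply, hfb, map_zero]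
  have hJ : (I.map (algebraMap A A')).map (algebraMap A' (A' ⊗[A] B)) =
      I.map (algebraMap A (A' ⊗[A] B)) := by
    rw [Ideal.map_map, ← IsScalarTower.algebraMap_eq]
  have hincl : ∀ z ∈ I.map (algebraMap A B),
      (1 : A') ⊗ₜ[A] z ∈ I.map (algebraMap A (A' ⊗[A] B)) := by
    intro z hz
    have h1 : (I.map (algebraMap A B)).map
        (Algebra.TensorProduct.includeRight : B →ₐ[A] A' ⊗[A] B).toRingHom =
        I.map (algebraMap A (A' ⊗[A] B)) := by
      rw [Ideal.map_map]
      congr 1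
      exact (Algebra.TensorProduct.includeRight : B →ₐ[A] A' ⊗[A] B).comp_algebraMap
    rw [← h1]
    exact Ideal.mem_map_of_mem _ hz
  have hg'' : g'.map (Ideal.Quotient.mk (I.map (algebraMap A A'))) = Polynomial.X ^ (d + 1) := by
    rw [hg', Polynomial.map_pow, Polynomial.map_X]
  have hh'' : h'.map (Ideal.Quotient.mk (I.map (algebraMap A A'))) =
      (Polynomial.X - 1) ^ (d + 1) := by
    rw [hh', Polynomial.map_pow, Polynomial.map_sub, Polynomial.map_X, Polynomial.map_one]
  have hcc : c * c - c ∈ (I.map (algebraMap A A')).map (algebraMap A' (A' ⊗[A] B)) := by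
    rw [hJ]
    have : c * c - c = (1 : A') ⊗ₜ[A] (b₀ * b₀ - b₀) := by
      rw [hc, TensorProduct.tmul_sub, Algebra.TensorProduct.tmul_mul_tmul, mul_one]
    rw [this]
    exact hincl _ hb
  obtain ⟨x, hx, hxc⟩ :=
    exists_idempotent_of_coprime_factorization
      (I.map (algebraMap A A')) c d g' h' hFc hcop' hg'' hh'' hcc
  rw [hJ] at hxc
  exact ⟨x, hx, hxc⟩



/-- A polynomial `θ` with `θ² - θ` divisible by `(X² - X)^m` and `θ(p) = p` for idempotents `p`. -/
theorem exists_idempotent_polynomial (A : Type*) [CommRing A] (m : ℕ) :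
    ∃ θ G : A[X], θ * θ - θ = (X ^ 2 - X) ^ m * G ∧
      ∀ (E : Type*) [Ring E] [Algebra A E] (p : E), IsIdempotentElem p → aeval p θ = p := by
  have hcop : IsCoprime ((X : A[X]) ^ (m + 1)) ((X - 1) ^ (m + 1)) := by
    apply IsCoprime.pow
    exact ⟨1, -1, by ring⟩
  obtain ⟨u, v, huv⟩ := hcop
  refine ⟨u * X ^ (m + 1), -((X ^ 2 - X) * u * v), ?_, ?_⟩
  · have h1 : v * (X - 1) ^ (m + 1) = 1 - u * X ^ (m + 1) := by linear_combination huv
    have h2 : u * X ^ (m + 1) * (u * X ^ (m + 1)) - u * X ^ (m + 1) =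
        -(u * X ^ (m + 1) * (v * (X - 1) ^ (m + 1))) := by rw [h1]; ring
    rw [h2]
    have h3 : (X : A[X]) ^ (m + 1) * (X - 1) ^ (m + 1) = (X ^ 2 - X) ^ (m + 1) := by
      rw [← mul_pow]; congr 1; ring
    calc -(u * X ^ (m + 1) * (v * (X - 1) ^ (m + 1)))
        = -(u * v * (X ^ (m + 1) * (X - 1) ^ (m + 1))) := by ring
      _ = (X ^ 2 - X) ^ m * -((X ^ 2 - X) * u * v) := by rw [h3, pow_succ]; ring
  · intro E _ _ p hp
    have hpp : p * p = p := hp.eq
    have hpow : p ^ (m + 1) = p := hp.pow_succ_eq m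
    have h0 : p * (p - 1) ^ (m + 1) = 0 := by
      rw [pow_succ', ← mul_assoc]
      have : p * (p - 1) = 0 := by rw [mul_sub, hpp, mul_one, sub_self]
      rw [this, zero_mul]
    have hsum := congrArg (aeval p) huv
    simp only [map_add, map_mul, map_pow, map_sub, aeval_X, map_one] at hsum
    rw [hpow] at hsum
    have h4 : (aeval p u * p + aeval p v * (p - 1) ^ (m + 1)) * p = p := by rw [hsum, one_mul]
    rw [add_mul, mul_assoc, hpp, mul_assoc] at h4
    have h5 : (p - 1) ^ (m + 1) * p = 0 := by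
      have hc : Commute p ((p - 1) ^ (m + 1)) :=
        ((Commute.refl p).sub_right (Commute.one_right p)).pow_right _
      rw [← hc.eq]; exact h0
    rw [h5, mul_zero, add_zero] at h4
    simp only [map_mul, map_pow, aeval_X, hpow]
    exact h4



/-- A matrix which is idempotent modulo `I` is a root of a monic polynomial congruent to
`(X² - X)^n` modulo `I`. -/
theorem exists_monic_aeval_matrix_eq_zero {A : Type*} [CommRing A] (I : Ideal A) {n : Type*}
    [Fintype n] [DecidableEq n] (φ : Matrix n n A)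
    (hφ : IsIdempotentElem (φ.map (Ideal.Quotient.mk I))) :
    ∃ F : A[X], F.Monic ∧ aeval φ F = 0 ∧
      F.map (Ideal.Quotient.mk I) = (X ^ 2 - X) ^ Fintype.card n := by
  cases subsingleton_or_nontrivial A with
  | inl hA =>
    refine ⟨1, monic_one, ?_, ?_⟩
    · haveI : Subsingleton (Matrix n n A) := inferInstance
      exact Subsingleton.elim _ _
    · haveI : Subsingleton (A ⧸ I) := Function.Surjective.subsingleton Ideal.Quotient.mk_surjective
      exact Subsingleton.elim _ _
  | inr hA =>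
  set ψ : Matrix n n A := φ * φ - φ with hψ
  have hψ0 : ψ.map (Ideal.Quotient.mk I) = 0 := by
    have h1 : (Ideal.Quotient.mk I).mapMatrix ψ =
        (Ideal.Quotient.mk I).mapMatrix φ * (Ideal.Quotient.mk I).mapMatrix φ -
          (Ideal.Quotient.mk I).mapMatrix φ := by rw [hψ, map_sub, map_mul]
    have h2 : (Ideal.Quotient.mk I).mapMatrix φ = φ.map (Ideal.Quotient.mk I) := rfl
    rw [h2, hφ.eq, sub_self] at h1
    exact h1
  have hf₁ : ψ.charpoly.map (Ideal.Quotient.mk I) = X ^ Fintype.card n := by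
    rw [← Matrix.charpoly_map, hψ0, Matrix.charpoly_zero]
  have hq : (X ^ 2 - X : A[X]).Monic := by
    apply monic_X_pow_sub
    exact degree_X_le.trans_lt (by norm_num)
  have hqdeg : (X ^ 2 - X : A[X]).natDegree ≠ 0 := by
    have : (X ^ 2 - X : A[X]).natDegree = 2 := by
      rw [natDegree_sub_eq_left_of_natDegree_lt] <;> simp
    rw [this]; norm_num
  refine ⟨ψ.charpoly.comp (X ^ 2 - X), (Matrix.charpoly_monic ψ).comp hq hqdeg, ?_, ?_⟩
  · rw [aeval_comp]
    have : aeval φ (X ^ 2 - X : A[X]) = ψ := by simp [hψ, pow_two]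
    rw [this]
    exact Matrix.aeval_self_charpoly ψ
  · rw [Polynomial.map_comp, hf₁]
    simp


/-- Integral-algebra step: a matrix idempotent modulo `I` gives an integral commutative algebra
`C → M_n(A)` and `b ∈ C` idempotent modulo `IC` mapping to a matrix congruent to the given one. -/
theorem exists_integral_algebra_of_matrix {A : Type u} [CommRing A] (I : Ideal A) (n : ℕ)
    (φ : Matrix (Fin n) (Fin n) A) (hφ : IsIdempotentElem (φ.map (Ideal.Quotient.mk I))) :
    ∃ (C : Type u) (_ : CommRing C) (_ : Algebra A C) (_ : Algebra.IsIntegral A C)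
      (ρ : C →ₐ[A] Matrix (Fin n) (Fin n) A) (b : C),
      b * b - b ∈ I.map (algebraMap A C) ∧
      (ρ b).map (Ideal.Quotient.mk I) = φ.map (Ideal.Quotient.mk I) := by
  classical
  obtain ⟨F, hFm, hFφ, hFmap⟩ := exists_monic_aeval_matrix_eq_zero I φ hφ
  obtain ⟨θ, G, hθ, hθp⟩ := exists_idempotent_polynomial A (Fintype.card (Fin n))
  haveI : Module.Finite A (AdjoinRoot F) := hFm.finite_adjoinRoot
  haveI : Algebra.IsIntegral A (AdjoinRoot F) := Algebra.IsIntegral.of_finite A (AdjoinRoot F)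
  let ρ : AdjoinRoot F →ₐ[A] Matrix (Fin n) (Fin n) A :=
    Ideal.Quotient.liftₐ (Ideal.span ({F} : Set A[X])) (aeval (R := A) φ) (by
      intro a ha
      obtain ⟨c, rfl⟩ := Ideal.mem_span_singleton'.mp ha
      rw [map_mul, hFφ, mul_zero])
  have hρ : ∀ q : A[X], ρ (AdjoinRoot.mk F q) = aeval φ q := fun q => rfl
  refine ⟨AdjoinRoot F, inferInstance, inferInstance, inferInstance, ρ, AdjoinRoot.mk F θ, ?_, ?_⟩
  · rw [← map_mul, ← map_sub, hθ, map_mul]
    apply Ideal.mul_mem_right
    have h1 : AdjoinRoot.mk F ((X ^ 2 - X) ^ Fintype.card (Fin n)) =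
        aeval (AdjoinRoot.root F) ((X ^ 2 - X) ^ Fintype.card (Fin n) : A[X]) -
          aeval (AdjoinRoot.root F) F := by
      rw [AdjoinRoot.aeval_eq, AdjoinRoot.aeval_eq, AdjoinRoot.mk_self, sub_zero]
    rw [h1]
    apply Groth.Agent.Lib.Helper37.aeval_sub_aeval_mem_map
    rw [hFmap]; simp
  · rw [hρ]
    have h2 : (aeval φ θ).map (Ideal.Quotient.mk I) =
        (Ideal.Quotient.mkₐ A I).mapMatrix (aeval φ θ) := rfl
    rw [h2, ← Polynomial.aeval_algHom_apply]
    have h3 : (Ideal.Quotient.mkₐ A I).mapMatrix φ = φ.map (Ideal.Quotient.mk I) := rfl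
    rw [h3]
    exact hθp _ _ hφ


/-- **Idempotent matrices lift etale-locally** around `V(I)`. -/
theorem exists_etale_lift_idempotent_matrix {A : Type u} [CommRing A] (I : Ideal A) (n : ℕ)
    (pbar : Matrix (Fin n) (Fin n) (A ⧸ I)) (hp : IsIdempotentElem pbar) :
    ∃ (A' : Type u) (_ : CommRing A') (_ : Algebra A A'), Algebra.Etale A A' ∧
      Function.Bijective (algebraMap (A ⧸ I) (A' ⧸ I.map (algebraMap A A'))) ∧
      ∃ p' : Matrix (Fin n) (Fin n) A', IsIdempotentElem p' ∧
        p'.map (Ideal.Quotient.mk (I.map (algebraMap A A'))) =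
          pbar.map (algebraMap (A ⧸ I) (A' ⧸ I.map (algebraMap A A'))) := by
  classical
  obtain ⟨φ, hφ⟩ : ∃ φ : Matrix (Fin n) (Fin n) A, φ.map (Ideal.Quotient.mk I) = pbar := by
    refine ⟨Matrix.of fun i j => (Ideal.Quotient.mk_surjective (pbar i j)).choose, ?_⟩
    ext i j
    exact (Ideal.Quotient.mk_surjective (pbar i j)).choose_spec
  obtain ⟨C, _, _, _, ρ, b, hbI, hρb⟩ := exists_integral_algebra_of_matrix I n φ (hφ ▸ hp)
  obtain ⟨A', _, _, hA', hbij, e', he', hcong⟩ :=
    exists_etale_idempotent_lift_of_isIntegral I b hbI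
  refine ⟨A', inferInstance, inferInstance, hA', hbij, ?_⟩
  let mA : Matrix (Fin n) (Fin n) A →ₐ[A] Matrix (Fin n) (Fin n) A' :=
    (Algebra.ofId A A').mapMatrix
  let ρ' : A' ⊗[A] C →ₐ[A'] Matrix (Fin n) (Fin n) A' :=
    Algebra.TensorProduct.lift (Algebra.ofId A' (Matrix (Fin n) (Fin n) A')) (mA.comp ρ)
      (fun x y => Algebra.commute_algebraMap_left x _)
  let Ψ : A' ⊗[A] C →+* Matrix (Fin n) (Fin n) (A' ⧸ I.map (algebraMap A A')) :=
    (Ideal.Quotient.mk (I.map (algebraMap A A'))).mapMatrix.comp ρ'.toRingHom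
  have hker : I.map (algebraMap A (A' ⊗[A] C)) ≤ RingHom.ker Ψ := by
    rw [Ideal.map_le_iff_le_comap]
    intro a ha
    change Ψ (algebraMap A _ a) = 0
    rw [IsScalarTower.algebraMap_apply A A' (A' ⊗[A] C)]
    change (Ideal.Quotient.mk (I.map (algebraMap A A'))).mapMatrix
      (ρ' (algebraMap A' _ (algebraMap A A' a))) = 0
    rw [ρ'.commutes]
    ext i j
    have hmem : Ideal.Quotient.mk (I.map (algebraMap A A')) (algebraMap A A' a) = 0 :=
      Ideal.Quotient.eq_zero_iff_mem.mpr (Ideal.mem_map_of_mem _ ha)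
    rw [RingHom.mapMatrix_apply, Matrix.map_apply, Matrix.algebraMap_matrix_apply]
    split_ifs
    · simpa using hmem
    · simp
  have hΨ : Ψ e' = Ψ (1 ⊗ₜ b) := by
    rw [← sub_eq_zero, ← map_sub]
    exact hker hcong
  have hΨb : Ψ (1 ⊗ₜ b) = pbar.map (algebraMap (A ⧸ I) (A' ⧸ I.map (algebraMap A A'))) := by
    change (Ideal.Quotient.mk (I.map (algebraMap A A'))).mapMatrix (ρ' (1 ⊗ₜ b)) = _
    have h1 : ρ' (1 ⊗ₜ b) = mA (ρ b) := by
      refine (Algebra.TensorProduct.lift_tmul _ _ _ (1 : A') b).trans ?_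
      rw [map_one, one_mul]
      rfl
    rw [h1, ← hφ, ← hρb]
    ext i j
    simp only [RingHom.mapMatrix_apply, Matrix.map_apply, mA, AlgHom.mapMatrix_apply]
    rw [Ideal.Quotient.algebraMap_quotient_map_quotient]
    rfl
  exact ⟨ρ' e', he'.map ρ', by
    have : (ρ' e').map (Ideal.Quotient.mk (I.map (algebraMap A A'))) = Ψ e' := rfl
    rw [this, hΨ, hΨb]⟩

end Groth.Agent.Lib.Helper90.EtaleNbhd
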