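import Mathlib

set_option autoImplicit false
set_option linter.style.haveILetI false
set_option linter.unusedSectionVars false
universe u

namespace Groth.Agent.Lib.Helper90.SmoothLift

open KaehlerDifferential TensorProduct

/-- `D f = ∑ ∂f/∂xᵢ • D xᵢ` in `Ω[R[x]/R]`. -/
theorem D_eq_sum_pderiv (R : Type*) [CommRing R] (n : ℕ) (f : MvPolynomial (Fin n) R) :
    D R (MvPolynomial (Fin n) R) f =
      ∑ i, MvPolynomial.pderiv i f • D R (MvPolynomial (Fin n) R) (MvPolynomial.X i) := by
  have h := (mvPolynomialBasis R (Fin n)).sum_repr (D R (MvPolynomial (Fin n) R) f)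
  refine h.symm.trans (Finset.sum_congr rfl fun i _ => ?_)
  rw [mvPolynomialBasis_repr_apply, mvPolynomialBasis_apply]

section LemmaD

variable {R : Type u} [CommRing R] {S : Type u} [CommRing S] [Algebra R S]

/-- **Split criterion with an invertible matrix.** Let `P → S` be an extension with `P` formally
smooth over `R`, whose kernel is generated by `k₁, …, k_m`.  If there is a `P`-linear map
`φ : Ω[P/R] → P.Cotangent` with `φ (D k_j) = ∑ Λ_{jp} [k_p]` for an invertible matrix `Λ`,
then `S` is formally smooth over `R`. -/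
theorem formallySmooth_of_matrix (P : Algebra.Extension.{u} R S) [Algebra.FormallySmooth R P.Ring]
    {m : ℕ} (k : Fin m → P.Ring) (hk : Ideal.span (Set.range k) = P.ker)
    (φ : Ω[P.Ring⁄R] →ₗ[P.Ring] P.Cotangent)
    (Λ : Matrix (Fin m) (Fin m) P.Ring) (hΛ : IsUnit Λ.det)
    (hφ : ∀ j, φ (D R P.Ring (k j)) =
      ∑ p, Λ j p • Algebra.Extension.Cotangent.mk
        ⟨k p, hk.le (Ideal.subset_span ⟨p, rfl⟩)⟩) :
    Algebra.FormallySmooth R S := by
  classical
  rw [P.formallySmooth_iff_split_injection]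
  set g : Fin m → P.Cotangent := fun p =>
    Algebra.Extension.Cotangent.mk ⟨k p, hk.le (Ideal.subset_span ⟨p, rfl⟩)⟩ with hg
  have hspan : Submodule.span S (Set.range g) = ⊤ :=
    Algebra.Extension.Cotangent.span_eq_top_of_span_eq_ker k hk
  let ℓ₀ : P.CotangentSpace →ₗ[S] P.Cotangent := LinearMap.liftBaseChange S φ
  let T : P.Cotangent →ₗ[S] P.Cotangent := ℓ₀ ∘ₗ P.cotangentComplex
  have hT : ∀ j, T (g j) = ∑ p, Λ j p • g p := by
    intro j
    change ℓ₀ (P.cotangentComplex (Algebra.Extension.Cotangent.mk _)) = _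
    rw [Algebra.Extension.cotangentComplex_mk]
    change LinearMap.liftBaseChange S φ (1 ⊗ₜ[P.Ring] D R P.Ring (k j)) = _
    rw [LinearMap.liftBaseChange_tmul, one_smul]
    exact hφ j
  -- `T` is surjective
  have hsurj : Function.Surjective T := by
    rw [← LinearMap.range_eq_top, eq_top_iff, ← hspan, Submodule.span_le]
    rintro _ ⟨j, rfl⟩
    have hinv : Λ⁻¹ * Λ = 1 := Matrix.nonsing_inv_mul Λ hΛ
    have : g j = ∑ q, Λ⁻¹ j q • T (g q) := by
      simp_rw [hT, Finset.smul_sum, smul_smul]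
      rw [Finset.sum_comm]
      simp_rw [← Finset.sum_smul]
      have h1 : ∀ p, ∑ q, Λ⁻¹ j q * Λ q p = (1 : Matrix (Fin m) (Fin m) P.Ring) j p := by
        intro p
        rw [← hinv, Matrix.mul_apply]
      simp_rw [h1, Matrix.one_apply, ite_smul, one_smul, zero_smul]
      rw [Finset.sum_ite_eq]
      simp
    rw [this]
    refine Submodule.sum_mem _ fun q _ => ?_
    have h2 : Λ⁻¹ j q • T (g q) = T (Λ⁻¹ j q • g q) := by
      rw [← algebraMap_smul S (Λ⁻¹ j q) (T (g q)), ← algebraMap_smul S (Λ⁻¹ j q) (g q), map_smul]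
    rw [h2]
    exact LinearMap.mem_range_self _ _
  haveI : Module.Finite S P.Cotangent :=
    ⟨⟨Finset.univ.image g, by rw [Finset.coe_image, Finset.coe_univ, Set.image_univ, hspan]⟩⟩
  have hbij : Function.Bijective T :=
    ⟨OrzechProperty.injective_of_surjective_endomorphism T hsurj, hsurj⟩
  let Te : P.Cotangent ≃ₗ[S] P.Cotangent := LinearEquiv.ofBijective T hbij
  refine ⟨Te.symm.toLinearMap ∘ₗ ℓ₀, ?_⟩
  ext x
  change Te.symm (T x) = x
  exact Te.symm_apply_apply x

end LemmaD


section Etale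

variable {R : Type u} [CommRing R] {n : ℕ} {P : Type u} [CommRing P] [Algebra R P]
  [Algebra (MvPolynomial (Fin n) R) P] [IsScalarTower R (MvPolynomial (Fin n) R) P]
  [Algebra.FormallyEtale (MvPolynomial (Fin n) R) P]

/-- **Derivations out of a formally étale algebra over a polynomial ring** are freely determined
by their values on the variables. -/
theorem exists_linearMap_kaehler {N : Type u} [AddCommGroup N] [Module P N] (ν : Fin n → N) :
    ∃ φ : Ω[P⁄R] →ₗ[P] N, ∀ c : MvPolynomial (Fin n) R,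
      φ (D R P (algebraMap (MvPolynomial (Fin n) R) P c)) =
        ∑ i, algebraMap (MvPolynomial (Fin n) R) P (MvPolynomial.pderiv i c) • ν i := by
  letI : Module (MvPolynomial (Fin n) R) N := Module.compHom N (algebraMap (MvPolynomial (Fin n) R) P)
  haveI : IsScalarTower (MvPolynomial (Fin n) R) P N :=
    ⟨fun c p x => by
      change (c • p) • x = algebraMap (MvPolynomial (Fin n) R) P c • (p • x)
      rw [Algebra.smul_def, mul_smul]⟩
  let φ₀ : Ω[MvPolynomial (Fin n) R⁄R] →ₗ[MvPolynomial (Fin n) R] N :=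
    (mvPolynomialBasis R (Fin n)).constr (MvPolynomial (Fin n) R) ν
  have hφ₀ : ∀ i, φ₀ (D R _ (MvPolynomial.X i)) = ν i := by
    intro i
    rw [← mvPolynomialBasis_apply]
    exact (mvPolynomialBasis R (Fin n)).constr_basis _ ν i
  let φ₁ : P ⊗[MvPolynomial (Fin n) R] Ω[MvPolynomial (Fin n) R⁄R] →ₗ[P] N :=
    LinearMap.liftBaseChange P φ₀
  refine ⟨φ₁ ∘ₗ (tensorKaehlerEquivOfFormallyEtale R (MvPolynomial (Fin n) R) P).symm.toLinearMap,
    fun c => ?_⟩
  rw [LinearMap.comp_apply, LinearEquiv.coe_coe,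
    tensorKaehlerEquivOfFormallyEtale_symm_D_algebraMap]
  change LinearMap.liftBaseChange P φ₀ (1 ⊗ₜ D R _ c) = _
  rw [LinearMap.liftBaseChange_tmul, one_smul, D_eq_sum_pderiv, map_sum]
  refine Finset.sum_congr rfl fun i _ => ?_
  rw [map_smul, hφ₀]
  rfl

/-- `Ω[P/R]` is spanned by the `D xᵢ`. -/
theorem exists_D_eq_sum (w : P) :
    ∃ τ : Fin n → P, D R P w =
      ∑ i, τ i • D R P (algebraMap (MvPolynomial (Fin n) R) P (MvPolynomial.X i)) := by
  set e := tensorKaehlerEquivOfFormallyEtale R (MvPolynomial (Fin n) R) P with he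
  set bW := (mvPolynomialBasis R (Fin n)).baseChange P with hbW
  obtain ⟨z, hz⟩ : ∃ z, e z = D R P w := ⟨e.symm (D R P w), e.apply_symm_apply _⟩
  refine ⟨fun i => bW.repr z i, ?_⟩
  rw [← hz]
  conv_lhs => rw [← bW.sum_repr z]
  rw [map_sum]
  refine Finset.sum_congr rfl fun i _ => ?_
  rw [map_smul, hbW, Module.Basis.baseChange_apply, mvPolynomialBasis_apply, he,
    tensorKaehlerEquivOfFormallyEtale_apply, mapBaseChange_tmul, one_smul, map_D]

end Etale

end Groth.Agent.Lib.Helper90.SmoothLift
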