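import Mathlib
import Groth.Agent.Lib.Helper90.SmoothLiftCore

set_option autoImplicit false
set_option linter.style.haveILetI false
set_option linter.unusedSectionVars false
universe u

namespace Groth.Agent.Lib.Helper90.SmoothLift

open KaehlerDifferential TensorProduct

section G2

variable {R : Type u} [CommRing R] {n : ℕ} {P : Type u} [CommRing P]
  [Algebra (MvPolynomial (Fin n) R) P]

/-- the generators `k = E • f` -/
noncomputable def kgen {m : ℕ} (f : Fin m → MvPolynomial (Fin n) R) (E : Matrix (Fin m) (Fin m) P)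
    (j : Fin m) : P :=
  ∑ l, E j l * algebraMap (MvPolynomial (Fin n) R) P (f l)

/-- the coefficient matrix of `D k` -/
noncomputable def cMat {m : ℕ} (f : Fin m → MvPolynomial (Fin n) R) (E : Matrix (Fin m) (Fin m) P)
    (τ : Fin m → Fin m → Fin n → P) : Matrix (Fin m) (Fin n) P :=
  fun j i => ∑ l, (E j l * algebraMap (MvPolynomial (Fin n) R) P (MvPolynomial.pderiv i (f l)) +
    algebraMap (MvPolynomial (Fin n) R) P (f l) * τ j l i)

/-- the matrix `Λ = 1 + c b - E` -/
noncomputable def lamMat {m : ℕ} (f : Fin m → MvPolynomial (Fin n) R) (E : Matrix (Fin m) (Fin m) P)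
    (τ : Fin m → Fin m → Fin n → P) (b : Matrix (Fin n) (Fin m) P) :
    Matrix (Fin m) (Fin m) P :=
  1 + cMat f E τ * b - E

theorem kgen_eq_sum_mul {m : ℕ} (f : Fin m → MvPolynomial (Fin n) R)
    (E : Matrix (Fin m) (Fin m) P) (hE : E * E = E) (j : Fin m) :
    kgen f E j = ∑ p, E j p * kgen f E p := by
  unfold kgen
  simp_rw [Finset.mul_sum, ← mul_assoc]
  rw [Finset.sum_comm]
  refine Finset.sum_congr rfl fun l _ => ?_
  rw [← Finset.sum_mul]
  congr 1
  conv_lhs => rw [← hE]
  rw [Matrix.mul_apply]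

end G2

section G2main

variable {R : Type u} [CommRing R] {n : ℕ} {S : Type u} [CommRing S] [Algebra R S]

theorem formallySmooth_of_kgen (Ext : Algebra.Extension.{u} R S)
    [Algebra (MvPolynomial (Fin n) R) Ext.Ring] [IsScalarTower R (MvPolynomial (Fin n) R) Ext.Ring]
    [Algebra.FormallyEtale (MvPolynomial (Fin n) R) Ext.Ring]
    {m : ℕ} (f : Fin m → MvPolynomial (Fin n) R) (E : Matrix (Fin m) (Fin m) Ext.Ring)
    (hE : E * E = E) (τ : Fin m → Fin m → Fin n → Ext.Ring)
    (hτ : ∀ j l, D R Ext.Ring (E j l) =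
      ∑ i, τ j l i • D R Ext.Ring (algebraMap (MvPolynomial (Fin n) R) Ext.Ring (MvPolynomial.X i)))
    (b : Matrix (Fin n) (Fin m) Ext.Ring) (hΛ : IsUnit (lamMat f E τ b).det)
    (hker : Ideal.span (Set.range (kgen f E)) = Ext.ker) :
    Algebra.FormallySmooth R S := by
  classical
  haveI : Algebra.FormallySmooth R Ext.Ring :=
    Algebra.FormallySmooth.comp R (MvPolynomial (Fin n) R) Ext.Ring
  have hkmem : ∀ p, kgen f E p ∈ Ext.ker := fun p => hker.le (Ideal.subset_span ⟨p, rfl⟩)
  let g : Fin m → Ext.Cotangent := fun p =>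
    Algebra.Extension.Cotangent.mk ⟨kgen f E p, hkmem p⟩
  let ν : Fin n → Ext.Cotangent := fun i => ∑ p, b i p • g p
  obtain ⟨φ, hφ⟩ := exists_linearMap_kaehler (R := R) (P := Ext.Ring) ν
  refine formallySmooth_of_matrix Ext (kgen f E) hker φ (lamMat f E τ b) hΛ fun j => ?_
  change _ = ∑ p, lamMat f E τ b j p • g p
  have hφX : ∀ i, φ (D R Ext.Ring (algebraMap (MvPolynomial (Fin n) R) Ext.Ring
      (MvPolynomial.X i))) = ν i := by
    intro i
    rw [hφ]
    simp_rw [MvPolynomial.pderiv_X, Pi.single_apply]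
    rw [Finset.sum_eq_single i]
    · rw [if_pos rfl, map_one, one_smul]
    · intro i' _ hne
      rw [if_neg hne.symm, map_zero, zero_smul]
    · intro h; exact absurd (Finset.mem_univ i) h
  have hφE : ∀ j l, φ (D R Ext.Ring (E j l)) = ∑ i, τ j l i • ν i := by
    intro j l
    rw [hτ, map_sum]
    simp_rw [map_smul, hφX]
  have h1 : φ (D R Ext.Ring (kgen f E j)) = ∑ i, cMat f E τ j i • ν i := by
    unfold kgen cMat
    rw [map_sum, map_sum]
    simp_rw [Derivation.leibniz, map_add, map_smul, hφE, hφ, Finset.smul_sum, smul_smul,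
      Finset.sum_smul, add_smul]
    rw [Finset.sum_comm]
    refine Finset.sum_congr rfl fun i _ => ?_
    rw [← Finset.sum_add_distrib]
  have h2 : ∑ p, E j p • g p = g j := by
    change ∑ p, E j p • Algebra.Extension.Cotangent.mk (⟨kgen f E p, hkmem p⟩ : Ext.ker) =
      Algebra.Extension.Cotangent.mk ⟨kgen f E j, hkmem j⟩
    simp_rw [← map_smul]
    rw [← map_sum]
    congr 1
    apply Subtype.ext
    rw [Submodule.coe_sum]
    simp_rw [Submodule.coe_smul, smul_eq_mul]
    exact (kgen_eq_sum_mul f E hE j).symm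
  have h3 : ∑ i, cMat f E τ j i • ν i = ∑ p, (cMat f E τ * b) j p • g p := by
    simp_rw [ν, Finset.smul_sum, smul_smul, Matrix.mul_apply, Finset.sum_smul]
    rw [Finset.sum_comm]
  rw [h1, h3]
  simp_rw [lamMat, Matrix.sub_apply, Matrix.add_apply, sub_smul, add_smul, Finset.sum_sub_distrib,
    Finset.sum_add_distrib]
  rw [h2]
  have h4 : ∑ p, (1 : Matrix (Fin m) (Fin m) Ext.Ring) j p • g p = g j := by
    simp_rw [Matrix.one_apply, ite_smul, one_smul, zero_smul]
    rw [Finset.sum_ite_eq]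
    simp
  rw [h4]
  abel

end G2main

end Groth.Agent.Lib.Helper90.SmoothLift
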