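import Mathlib
import Groth.Agent.Lib.Helper90.SmoothLiftQuot

set_option autoImplicit false
set_option linter.style.haveILetI false
set_option linter.unusedSectionVars false
universe u

namespace Groth.Agent.Lib.Helper90.SmoothLift

open KaehlerDifferential TensorProduct

section G1

variable {R : Type u} [CommRing R] {n : ℕ} {W : Type u} [CommRing W]
  [Algebra (MvPolynomial (Fin n) R) W]

theorem lamMat_apply {m : ℕ} (f : Fin m → MvPolynomial (Fin n) R)
    (E : Matrix (Fin m) (Fin m) W) (τ : Fin m → Fin m → Fin n → W)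
    (b : Matrix (Fin n) (Fin m) W) (j p : Fin m) :
    lamMat f E τ b j p = (1 : Matrix (Fin m) (Fin m) W) j p +
      ∑ i, (∑ l, (E j l * algebraMap (MvPolynomial (Fin n) R) W (MvPolynomial.pderiv i (f l)) +
        algebraMap (MvPolynomial (Fin n) R) W (f l) * τ j l i)) * b i p - E j p := rfl

theorem lamMat_sub_one_mem {m : ℕ} (𝔄 : Ideal W) (f : Fin m → MvPolynomial (Fin n) R)
    (hf : ∀ l, algebraMap (MvPolynomial (Fin n) R) W (f l) ∈ 𝔄)
    (E : Matrix (Fin m) (Fin m) W) (hE : E * E = E) (τ : Fin m → Fin m → Fin n → W)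
    (b₀ : Fin n → Fin m → MvPolynomial (Fin n) R)
    (hEE : ∀ j l, E j l - algebraMap (MvPolynomial (Fin n) R) W
      (∑ i, MvPolynomial.pderiv i (f j) * b₀ i l) ∈ 𝔄) (j p : Fin m) :
    lamMat f E τ (Matrix.of fun i p => algebraMap (MvPolynomial (Fin n) R) W (b₀ i p)) j p -
      (1 : Matrix (Fin m) (Fin m) W) j p ∈ 𝔄 := by
  rw [← Ideal.Quotient.eq]
  have hq1 : ∀ l, Ideal.Quotient.mk 𝔄 (algebraMap (MvPolynomial (Fin n) R) W (f l)) = 0 :=
    fun l => Ideal.Quotient.eq_zero_iff_mem.mpr (hf l)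
  have hq2 : ∀ j l, Ideal.Quotient.mk 𝔄 (E j l) = Ideal.Quotient.mk 𝔄
      (algebraMap (MvPolynomial (Fin n) R) W (∑ i, MvPolynomial.pderiv i (f j) * b₀ i l)) :=
    fun j l => Ideal.Quotient.eq.mpr (hEE j l)
  have hq3 : Ideal.Quotient.mk 𝔄 (E j p) =
      ∑ l, Ideal.Quotient.mk 𝔄 (E j l) * Ideal.Quotient.mk 𝔄 (E l p) := by
    conv_lhs => rw [← hE]
    rw [Matrix.mul_apply, map_sum]
    simp_rw [map_mul]
  rw [lamMat_apply]
  simp only [Matrix.of_apply, map_sub, map_add, map_sum, map_mul, hq1, zero_mul, add_zero]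
  rw [hq3]
  have : ∀ l, Ideal.Quotient.mk 𝔄 (E l p) = ∑ i, Ideal.Quotient.mk 𝔄
      (algebraMap (MvPolynomial (Fin n) R) W (MvPolynomial.pderiv i (f l))) *
      Ideal.Quotient.mk 𝔄 (algebraMap (MvPolynomial (Fin n) R) W (b₀ i p)) := by
    intro l
    rw [hq2, map_sum, map_sum]
    simp_rw [map_mul]
  simp_rw [this, Finset.mul_sum, Finset.sum_mul]
  rw [Finset.sum_comm]
  simp_rw [mul_assoc]
  ring

theorem det_lamMat_sub_one_mem {m : ℕ} (𝔄 : Ideal W) (f : Fin m → MvPolynomial (Fin n) R)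
    (hf : ∀ l, algebraMap (MvPolynomial (Fin n) R) W (f l) ∈ 𝔄)
    (E : Matrix (Fin m) (Fin m) W) (hE : E * E = E) (τ : Fin m → Fin m → Fin n → W)
    (b₀ : Fin n → Fin m → MvPolynomial (Fin n) R)
    (hEE : ∀ j l, E j l - algebraMap (MvPolynomial (Fin n) R) W
      (∑ i, MvPolynomial.pderiv i (f j) * b₀ i l) ∈ 𝔄) :
    (lamMat f E τ (Matrix.of fun i p => algebraMap (MvPolynomial (Fin n) R) W (b₀ i p))).det - 1 ∈ 𝔄 := by
  rw [← Ideal.Quotient.eq, RingHom.map_det, map_one]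
  have : (Ideal.Quotient.mk 𝔄).mapMatrix
      (lamMat f E τ (Matrix.of fun i p => algebraMap (MvPolynomial (Fin n) R) W (b₀ i p))) = 1 := by
    ext j p
    rw [RingHom.mapMatrix_apply, Matrix.map_apply]
    have h := lamMat_sub_one_mem 𝔄 f hf E hE τ b₀ hEE j p
    rw [← Ideal.Quotient.eq] at h
    rw [h, Matrix.one_apply, Matrix.one_apply]
    split_ifs <;> simp
  rw [this, Matrix.det_one]

end G1

end Groth.Agent.Lib.Helper90.SmoothLift
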