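import Mathlib
import Groth.Agent.Lib.Helper90.SmoothLiftCongr

set_option autoImplicit false
set_option linter.style.haveILetI false
set_option linter.unusedSectionVars false
universe u

namespace Groth.Agent.Lib.Helper90.SmoothLift

open KaehlerDifferential TensorProduct

section PartB

variable {Rb : Type u} [CommRing Rb] {n : ℕ}

theorem pderiv_mem_of_mem_sq (J : Ideal (MvPolynomial (Fin n) Rb)) (i : Fin n)
    {g : MvPolynomial (Fin n) Rb} (hg : g ∈ J ^ 2) : MvPolynomial.pderiv i g ∈ J := by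
  rw [pow_two] at hg
  refine Submodule.mul_induction_on hg ?_ ?_
  · intro a ha b hb
    rw [Derivation.leibniz, smul_eq_mul, smul_eq_mul]
    exact J.add_mem (J.mul_mem_right _ ha) (J.mul_mem_right _ hb)
  · intro x y hx hy
    rw [map_add]
    exact J.add_mem hx hy

variable {A₀ : Type u} [CommRing A₀] [Algebra Rb A₀] [Algebra.FormallySmooth Rb A₀]

theorem exists_coeff_B1 (πb : MvPolynomial (Fin n) Rb →ₐ[Rb] A₀)
    (hπ : Function.Surjective πb) {m : ℕ} (fb : Fin m → MvPolynomial (Fin n) Rb)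
    (hfb : Ideal.span (Set.range fb) = RingHom.ker πb.toRingHom) :
    ∃ bb : Fin n → Fin m → MvPolynomial (Fin n) Rb,
      (∀ j, fb j - ∑ l, (∑ i, MvPolynomial.pderiv i (fb j) * bb i l) * fb l ∈
        RingHom.ker πb.toRingHom ^ 2) := by
  classical
  letI : Algebra (MvPolynomial (Fin n) Rb) A₀ := πb.toRingHom.toAlgebra
  haveI : IsScalarTower Rb (MvPolynomial (Fin n) Rb) A₀ :=
    IsScalarTower.of_algebraMap_eq' πb.comp_algebraMap.symm
  have hsurj : Function.Surjective (algebraMap (MvPolynomial (Fin n) Rb) A₀) := hπ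
  obtain ⟨l, hl⟩ := (Algebra.FormallySmooth.iff_split_injection (R := Rb)
    (P := MvPolynomial (Fin n) Rb) (A := A₀) hsurj).mp inferInstance
  have hker : RingHom.ker (algebraMap (MvPolynomial (Fin n) Rb) A₀) =
      RingHom.ker πb.toRingHom := rfl
  let J : Ideal (MvPolynomial (Fin n) Rb) :=
    RingHom.ker (algebraMap (MvPolynomial (Fin n) Rb) A₀)
  have hx : ∀ i : Fin n, ∃ x : J, J.toCotangent x =
      l ((1 : A₀) ⊗ₜ[MvPolynomial (Fin n) Rb] D Rb (MvPolynomial (Fin n) Rb) (MvPolynomial.X i)) :=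
    fun i => Ideal.toCotangent_surjective _ _
  choose x hx using hx
  have hxm : ∀ i, ∃ c : Fin m → MvPolynomial (Fin n) Rb, ∑ l, c l * fb l = (x i : _) := by
    intro i
    have h0 : ((x i : J) : MvPolynomial (Fin n) Rb) ∈ Ideal.span (Set.range fb) := by
      rw [hfb]; exact (x i).2
    exact (Ideal.mem_span_range_iff_exists_fun).mp h0
  choose bb hbb using hxm
  refine ⟨bb, fun j => ?_⟩
  have hfj : fb j ∈ J := by
    change fb j ∈ RingHom.ker πb.toRingHom
    rw [← hfb]; exact Ideal.subset_span ⟨j, rfl⟩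
  have h1 : J.toCotangent ⟨fb j, hfj⟩ =
      J.toCotangent (∑ i, MvPolynomial.pderiv i (fb j) • x i) := by
    have h2 := LinearMap.congr_fun hl (J.toCotangent ⟨fb j, hfj⟩)
    rw [LinearMap.id_apply, LinearMap.comp_apply, kerCotangentToTensor_toCotangent] at h2
    rw [← h2]
    dsimp only
    rw [D_eq_sum_pderiv, TensorProduct.tmul_sum, map_sum, map_sum]
    refine Finset.sum_congr rfl fun i _ => ?_
    rw [TensorProduct.tmul_smul, map_smul, map_smul, hx]
  rw [Ideal.toCotangent_eq] at h1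
  change _ ∈ J ^ 2
  convert h1 using 2
  simp only [AddSubmonoidClass.coe_finsetSum, Submodule.coe_smul, smul_eq_mul, ← hbb,
    Finset.mul_sum, Finset.sum_mul]
  rw [Finset.sum_comm]
  refine Finset.sum_congr rfl fun i _ => Finset.sum_congr rfl fun l _ => ?_
  ring

theorem exists_coeff_of_formallySmooth (πb : MvPolynomial (Fin n) Rb →ₐ[Rb] A₀)
    (hπ : Function.Surjective πb) {m : ℕ} (fb : Fin m → MvPolynomial (Fin n) Rb)
    (hfb : Ideal.span (Set.range fb) = RingHom.ker πb.toRingHom) :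
    ∃ bb : Fin n → Fin m → MvPolynomial (Fin n) Rb,
      (∀ j, fb j - ∑ l, (∑ i, MvPolynomial.pderiv i (fb j) * bb i l) * fb l ∈
        RingHom.ker πb.toRingHom ^ 2) ∧
      ∀ j p, (∑ l, (∑ i, MvPolynomial.pderiv i (fb j) * bb i l) *
          (∑ i, MvPolynomial.pderiv i (fb l) * bb i p)) -
        (∑ i, MvPolynomial.pderiv i (fb j) * bb i p) ∈ RingHom.ker πb.toRingHom := by
  classical
  obtain ⟨bb, hB1⟩ := exists_coeff_B1 πb hπ fb hfb
  refine ⟨bb, hB1, fun j p => ?_⟩
  set J := RingHom.ker πb.toRingHom with hJ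
  have hfJ : ∀ l, fb l ∈ J := fun l => by
    rw [← hfb]; exact Ideal.subset_span ⟨l, rfl⟩
  -- derivative of B1
  have hd : ∀ i' : Fin n, MvPolynomial.pderiv i' (fb j) -
      ∑ l, (∑ i, MvPolynomial.pderiv i (fb j) * bb i l) * MvPolynomial.pderiv i' (fb l) ∈ J := by
    intro i'
    have h := pderiv_mem_of_mem_sq J i' (hB1 j)
    rw [map_sub, map_sum] at h
    have h3 : ∑ l, MvPolynomial.pderiv i' ((∑ i, MvPolynomial.pderiv i (fb j) * bb i l) * fb l) =
        ∑ l, (∑ i, MvPolynomial.pderiv i (fb j) * bb i l) * MvPolynomial.pderiv i' (fb l) +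
        ∑ l, fb l * MvPolynomial.pderiv i' (∑ i, MvPolynomial.pderiv i (fb j) * bb i l) := by
      rw [← Finset.sum_add_distrib]
      refine Finset.sum_congr rfl fun l _ => ?_
      rw [Derivation.leibniz, smul_eq_mul, smul_eq_mul]
    rw [h3] at h
    have h4 : ∑ l, fb l * MvPolynomial.pderiv i' (∑ i, MvPolynomial.pderiv i (fb j) * bb i l) ∈ J :=
      J.sum_mem fun l _ => J.mul_mem_right _ (hfJ l)
    have := J.add_mem h h4
    convert this using 1
    ring
  have hs : ∑ i', (MvPolynomial.pderiv i' (fb j) -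
      ∑ l, (∑ i, MvPolynomial.pderiv i (fb j) * bb i l) * MvPolynomial.pderiv i' (fb l)) *
        bb i' p ∈ J := J.sum_mem fun i' _ => J.mul_mem_right _ (hd i')
  have hneg := J.neg_mem hs
  convert hneg using 1
  have e1 : ∑ i', (MvPolynomial.pderiv i' (fb j) -
      ∑ l, (∑ i, MvPolynomial.pderiv i (fb j) * bb i l) * MvPolynomial.pderiv i' (fb l)) *
        bb i' p = ∑ i', MvPolynomial.pderiv i' (fb j) * bb i' p -
      ∑ i', (∑ l, (∑ i, MvPolynomial.pderiv i (fb j) * bb i l) *
        MvPolynomial.pderiv i' (fb l)) * bb i' p := by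
    rw [← Finset.sum_sub_distrib]
    exact Finset.sum_congr rfl fun _ _ => sub_mul _ _ _
  rw [e1, neg_sub]
  congr 1
  simp only [Finset.sum_mul, Finset.mul_sum]
  rw [Finset.sum_comm]
  refine Finset.sum_congr rfl fun i' _ => Finset.sum_congr rfl fun l _ =>
    Finset.sum_congr rfl fun i _ => ?_
  ring

end PartB

end Groth.Agent.Lib.Helper90.SmoothLift
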