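import Mathlib
import Groth.Agent.Lib.Helper90.SmoothLiftPartB

set_option autoImplicit false
set_option linter.style.haveILetI false
set_option linter.unusedSectionVars false
universe u

namespace Groth.Agent.Lib.Helper90.SmoothLift

open KaehlerDifferential TensorProduct

section Aux

variable {R : Type u} [CommRing R] {n : ℕ} {W : Type u} [CommRing W]
  [Algebra (MvPolynomial (Fin n) R) W] {P : Type u} [CommRing P]
  [Algebra (MvPolynomial (Fin n) R) P] [Algebra W P] [IsScalarTower (MvPolynomial (Fin n) R) W P]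

theorem cMat_map {m : ℕ} (f : Fin m → MvPolynomial (Fin n) R) (E : Matrix (Fin m) (Fin m) W)
    (τ : Fin m → Fin m → Fin n → W) :
    cMat f (E.map (algebraMap W P)) (fun j l i => algebraMap W P (τ j l i)) =
      (cMat f E τ).map (algebraMap W P) := by
  ext j i
  simp only [cMat, Matrix.map_apply, map_sum, map_add, map_mul,
    ← IsScalarTower.algebraMap_apply]

theorem kgen_map {m : ℕ} (f : Fin m → MvPolynomial (Fin n) R) (E : Matrix (Fin m) (Fin m) W)
    (j : Fin m) :
    kgen f (E.map (algebraMap W P)) j = algebraMap W P (kgen f E j) := by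
  simp only [kgen, Matrix.map_apply, map_sum, map_mul, ← IsScalarTower.algebraMap_apply]

theorem lamMat_map {m : ℕ} (f : Fin m → MvPolynomial (Fin n) R) (E : Matrix (Fin m) (Fin m) W)
    (τ : Fin m → Fin m → Fin n → W) (b : Matrix (Fin n) (Fin m) W) :
    lamMat f (E.map (algebraMap W P)) (fun j l i => algebraMap W P (τ j l i))
        (b.map (algebraMap W P)) =
      (lamMat f E τ b).map (algebraMap W P) := by
  unfold lamMat
  rw [cMat_map, Matrix.map_sub (hf := map_sub _), Matrix.map_add (hf := map_add _),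
    Matrix.map_mul, Matrix.map_one _ (map_zero _) (map_one _)]

theorem det_lamMat_map {m : ℕ} (f : Fin m → MvPolynomial (Fin n) R)
    (E : Matrix (Fin m) (Fin m) W)
    (τ : Fin m → Fin m → Fin n → W) (b : Matrix (Fin n) (Fin m) W) :
    (lamMat f (E.map (algebraMap W P)) (fun j l i => algebraMap W P (τ j l i))
        (b.map (algebraMap W P))).det = algebraMap W P (lamMat f E τ b).det := by
  rw [lamMat_map, RingHom.map_det, RingHom.mapMatrix_apply]

end Aux

section Nak

variable {W : Type u} [CommRing W]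

open Pointwise in
theorem exists_unit_nakayama (𝔄 𝔦 K₀ : Ideal W) {m : ℕ} (fW : Fin m → W)
    (h𝔄 : 𝔄 = 𝔦 ⊔ Ideal.span (Set.range fW))
    (hf : ∀ j, fW j ∈ K₀ ⊔ 𝔦 ⊔ 𝔄 ^ 2) :
    ∃ u : W, u - 1 ∈ 𝔄 ∧ ∀ x ∈ 𝔄, u * x ∈ K₀ ⊔ 𝔦 := by
  have hle : Ideal.span (Set.range fW) ≤ 𝔄 := h𝔄 ▸ le_sup_right
  have hi : 𝔦 ≤ 𝔄 := h𝔄 ▸ le_sup_left
  have hsq : 𝔄 ^ 2 ≤ 𝔦 ⊔ 𝔄 • (Ideal.span (Set.range fW) : Submodule W W) := by
    rw [pow_two]
    conv_lhs => rw [show 𝔄 * 𝔄 = 𝔄 * (𝔦 ⊔ Ideal.span (Set.range fW)) by rw [← h𝔄]]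
    rw [Ideal.mul_sup]
    exact sup_le_sup Ideal.mul_le_right le_rfl
  obtain ⟨u, hu1, hu2⟩ := Submodule.exists_sub_one_mem_and_smul_le_of_fg_of_le_sup
    (I := 𝔄) (N := (K₀ ⊔ 𝔦 : Ideal W)) (N' := Ideal.span (Set.range fW)) (P := 𝔄)
    (Submodule.fg_span (Set.finite_range fW)) hle (by
      rw [h𝔄]
      refine sup_le (le_sup_of_le_left le_sup_right) ?_
      rw [Ideal.span_le]
      rintro _ ⟨j, rfl⟩
      have := hf j
      rw [← h𝔄]
      refine (sup_le le_sup_left (hsq.trans ?_)) this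
      exact sup_le_sup le_sup_right le_rfl)
  refine ⟨u, hu1, fun x hx => ?_⟩
  exact hu2 (Submodule.smul_mem_pointwise_smul x u 𝔄 hx)

end Nak

section Loc

variable {W P T : Type*} [CommRing W] [CommRing P] [CommRing T] [Algebra W P]

theorem ker_lift_eq_map (M : Submonoid W) [IsLocalization M P] (ψ : W →+* T)
    (h : ∀ y : M, IsUnit (ψ y)) :
    RingHom.ker (IsLocalization.lift (M := M) (S := P) (g := ψ) h) =
      (RingHom.ker ψ).map (algebraMap W P) := by
  apply le_antisymm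
  · intro x hx
    obtain ⟨⟨w, t⟩, hwt⟩ := IsLocalization.surj M x
    have h1 : ψ w = 0 := by
      have := congrArg (IsLocalization.lift (M := M) (S := P) (g := ψ) h) hwt
      rw [map_mul, IsLocalization.lift_eq, IsLocalization.lift_eq, RingHom.mem_ker.mp hx,
        zero_mul] at this
      exact this.symm
    have h2 : x * algebraMap W P t ∈ (RingHom.ker ψ).map (algebraMap W P) := by
      rw [hwt]
      exact Ideal.mem_map_of_mem _ h1
    exact (Ideal.mul_unit_mem_iff_mem _ (IsLocalization.map_units P t)).mp h2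
  · rw [Ideal.map_le_iff_le_comap]
    intro w hw
    rw [Ideal.mem_comap, RingHom.mem_ker, IsLocalization.lift_eq]
    exact hw

end Loc

section Quot

theorem nonempty_quot_algEquiv {R S A₀ : Type u} [CommRing R] (I : Ideal R) [CommRing S]
    [Algebra R S] [CommRing A₀] [Algebra (R ⧸ I) A₀] (g : S →+* A₀)
    (hg : Function.Surjective g)
    (hcomm : ∀ r, g (algebraMap R S r) = algebraMap (R ⧸ I) A₀ (Ideal.Quotient.mk I r))
    (hk : RingHom.ker g = I.map (algebraMap R S)) :
    Nonempty ((S ⧸ I.map (algebraMap R S)) ≃ₐ[R ⧸ I] A₀) := by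
  let g' : (S ⧸ I.map (algebraMap R S)) →+* A₀ :=
    Ideal.Quotient.lift _ g (fun x hx => by rw [← hk] at hx; exact hx)
  have hg'mk : ∀ s, g' (Ideal.Quotient.mk _ s) = g s := fun s => Ideal.Quotient.lift_mk _ _ _
  let gA : (S ⧸ I.map (algebraMap R S)) →ₐ[R ⧸ I] A₀ :=
    { g' with
      commutes' := fun x => by
        obtain ⟨r, rfl⟩ := Ideal.Quotient.mk_surjective x
        change g' (Ideal.Quotient.mk _ (algebraMap R S r)) = _
        rw [hg'mk, hcomm] }
  refine ⟨AlgEquiv.ofBijective gA ⟨?_, ?_⟩⟩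
  · rw [injective_iff_map_eq_zero]
    intro x hx
    obtain ⟨s, rfl⟩ := Ideal.Quotient.mk_surjective x
    change g' (Ideal.Quotient.mk _ s) = 0 at hx
    rw [hg'mk] at hx
    rw [Ideal.Quotient.eq_zero_iff_mem, ← hk]
    exact hx
  · intro a
    obtain ⟨s, rfl⟩ := hg a
    exact ⟨Ideal.Quotient.mk _ s, hg'mk s⟩

end Quot

end Groth.Agent.Lib.Helper90.SmoothLift
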