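import Mathlib
import Groth.Agent.Lib.Helper4.EtaleLift

set_option autoImplicit false
set_option linter.style.haveILetI false
set_option linter.unusedSectionVars false
universe u

namespace Groth.Agent.Lib.Helper90.EtLiftQuot

open Groth.Agent.Lib.Helper4.EtaleLift
open TensorProduct MvPolynomial Algebra

section
variable {A₀ A C : Type u} [CommRing A₀] [CommRing A] [CommRing C] [Algebra A₀ A] [Algebra A C]
  [Algebra A₀ C] [IsScalarTower A₀ A C]
variable {ι σ : Type} [Finite ι] [Finite σ] (P : SubmersivePresentation A C ι σ)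
variable (v : σ → MvPolynomial ι A₀)
variable (w : σ → A) (hw : ∀ s, IsUnit (w s))
  (hv : ∀ s, MvPolynomial.map (algebraMap A₀ A) (v s) = w s • P.relation s)
variable {T : Type u} [CommRing T] [Algebra A T] [Algebra A₀ T] [IsScalarTower A₀ A T]
  (g : C₀ P v →ₐ[A₀] T)

theorem desc_algebraMap (q : P.Ring) :
    desc P v w hw hv g (algebraMap P.Ring C q) = aeval (R := A) (tval P v g) q := by
  unfold desc
  rw [AlgHom.comp_apply]
  change (Ideal.Quotient.liftₐ P.ker (aeval (R := A) (tval P v g)) _)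
    (P.quotientEquiv.symm (P.quotientEquiv (Ideal.Quotient.mk _ q))) = _
  rw [AlgEquiv.symm_apply_apply]
  rfl

theorem ψ_algebraMap (x : Q₀ v) :
    ψ P v w hw hv (algebraMap (Q₀ v) (C₀ P v) x) = ψ₀ P v w hv x := by
  unfold ψ
  rw [IsLocalization.Away.liftAlgHom_apply]
  exact IsLocalization.Away.lift_eq (g := (ψ₀ P v w hv).toRingHom) (pre₀ P v).jacobian
    (isUnit_ψ₀_jacobian P v w hw hv) x

/-- the map `A ⊗ C₀ → C` -/
noncomputable def Ψ : A ⊗[A₀] C₀ P v →ₐ[A] C :=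
  Algebra.TensorProduct.lift (Algebra.ofId A C) (ψ P v w hw hv) (fun _ _ => Commute.all _ _)

/-- the map `C → A ⊗ C₀` -/
noncomputable def Δ : C →ₐ[A] A ⊗[A₀] C₀ P v :=
  desc P v w hw hv (Algebra.TensorProduct.includeRight : C₀ P v →ₐ[A₀] A ⊗[A₀] C₀ P v)

theorem Ψ_tval (i : ι) :
    Ψ P v w hw hv (tval P v (Algebra.TensorProduct.includeRight :
      C₀ P v →ₐ[A₀] A ⊗[A₀] C₀ P v) i) = P.val i := by
  unfold tval Ψ
  rw [Algebra.TensorProduct.includeRight_apply, Algebra.TensorProduct.lift_tmul, map_one, one_mul,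
    ψ_algebraMap, ψ₀_mk, aeval_X]

theorem Ψ_Δ (c : C) : Ψ P v w hw hv (Δ P v w hw hv c) = c := by
  obtain ⟨q, rfl⟩ := P.algebraMap_surjective c
  unfold Δ
  rw [desc_algebraMap, ← AlgHom.comp_apply, MvPolynomial.comp_aeval]
  have : (fun i => Ψ P v w hw hv (tval P v (Algebra.TensorProduct.includeRight :
      C₀ P v →ₐ[A₀] A ⊗[A₀] C₀ P v) i)) = P.val := funext (Ψ_tval P v w hw hv)
  rw [this, P.algebraMap_apply]


theorem algHom_C₀_ext {T' : Type*} [CommRing T'] [Algebra A₀ T'] (f g : C₀ P v →ₐ[A₀] T')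
    (h : ∀ i, f (algebraMap (Q₀ v) (C₀ P v) (Ideal.Quotient.mk _ (X i))) =
      g (algebraMap (Q₀ v) (C₀ P v) (Ideal.Quotient.mk _ (X i)))) : f = g := by
  have h1 : (f.comp (IsScalarTower.toAlgHom A₀ (Q₀ v) (C₀ P v))).comp
      (Ideal.Quotient.mkₐ A₀ (Ideal.span (Set.range v))) =
      (g.comp (IsScalarTower.toAlgHom A₀ (Q₀ v) (C₀ P v))).comp
      (Ideal.Quotient.mkₐ A₀ (Ideal.span (Set.range v))) :=
    MvPolynomial.algHom_ext (fun i => h i)
  apply AlgHom.coe_ringHom_injective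
  apply IsLocalization.ringHom_ext (Submonoid.powers (pre₀ P v).jacobian)
  apply Ideal.Quotient.ringHom_ext
  refine RingHom.ext fun p => ?_
  exact congr($h1 p)

theorem Δ_Ψ (t : A ⊗[A₀] C₀ P v) : Δ P v w hw hv (Ψ P v w hw hv t) = t := by
  suffices h : (Δ P v w hw hv).comp (Ψ P v w hw hv) = AlgHom.id A _ from congr($h t)
  apply Algebra.TensorProduct.ext
  · ext
  · apply algHom_C₀_ext
    intro i
    change Δ P v w hw hv (Ψ P v w hw hv ((1 : A) ⊗ₜ[A₀]
      (algebraMap (Q₀ v) (C₀ P v) (Ideal.Quotient.mk _ (X i))))) =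
      (1 : A) ⊗ₜ[A₀] (algebraMap (Q₀ v) (C₀ P v) (Ideal.Quotient.mk _ (X i)))
    have h1 := Ψ_tval P v w hw hv i
    unfold tval at h1
    rw [Algebra.TensorProduct.includeRight_apply] at h1
    rw [h1]
    have h2 : P.val i = algebraMap P.Ring C (X i) := by rw [P.algebraMap_apply, aeval_X]
    rw [h2]
    unfold Δ
    rw [desc_algebraMap, aeval_X]
    rfl

end

/-- **Étale algebras lift along surjections**: for `A₀ → A` surjective and `C` étale over `A`
there is an étale `A₀`-algebra `C₀` with `A ⊗ C₀ ≅ C`. -/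
theorem exists_etale_lift_of_surjective {A₀ A C : Type u} [CommRing A₀] [CommRing A] [CommRing C]
    [Algebra A₀ A] [Algebra A C] [Algebra.Etale A C]
    (h : Function.Surjective (algebraMap A₀ A)) :
    ∃ (C₀ : Type u) (_ : CommRing C₀) (_ : Algebra A₀ C₀), Algebra.Etale A₀ C₀ ∧
      Nonempty (A ⊗[A₀] C₀ ≃ₐ[A] C) := by
  letI : Algebra A₀ C := ((algebraMap A C).comp (algebraMap A₀ A)).toAlgebra
  haveI : IsScalarTower A₀ A C := IsScalarTower.of_algebraMap_eq (fun _ => rfl)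
  obtain ⟨ι, σ, _, _, P, hP⟩ :=
    (Algebra.Etale.iff_isStandardSmoothOfRelativeDimension_zero.mp
      (inferInstance : Algebra.Etale A C)).out
  choose w v hw hv using fun s : σ => hlift_of_surjective h ι (P.relation s)
  refine ⟨C₀ P v, inferInstance, inferInstance, etale_C₀ P v hP, ⟨?_⟩⟩
  exact AlgEquiv.ofAlgHom (Ψ P v w hw hv) (Δ P v w hw hv)
    (AlgHom.ext (Ψ_Δ P v w hw hv)) (AlgHom.ext (Δ_Ψ P v w hw hv))

end Groth.Agent.Lib.Helper90.EtLiftQuot
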