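import Groth.Agent.Lib.Helper90.PairHzPow

set_option autoImplicit false
set_option linter.style.haveILetI false
universe u

open TensorProduct

namespace Groth.Agent.Lib.Helper90.PairHz

section Tower

variable {A R B : Type*} [CommRing A] [CommRing R] [CommRing B] [Algebra A R] [Algebra R B]
  [Algebra A B] [IsScalarTower A R B] (K : Ideal A)

/-- In a tower `A → R → B`, if `R/KR → B/KB` is bijective, the two quotients are isomorphic
as `A/K`-algebras. -/
theorem nonempty_algEquiv_quotient_of_quotBij (h : QuotBij (K.map (algebraMap A R)) B) :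
    Nonempty ((R ⧸ K.map (algebraMap A R)) ≃ₐ[A ⧸ K] (B ⧸ K.map (algebraMap A B))) := by
  have hmap : (K.map (algebraMap A R)).map (algebraMap R B) = K.map (algebraMap A B) := by
    rw [Ideal.map_map, ← IsScalarTower.algebraMap_eq]
  have hle : K.map (algebraMap A R) ≤ (K.map (algebraMap A B)).comap (algebraMap R B) := by
    rw [← Ideal.map_le_iff_le_comap, hmap]
  let ψ₀ : (R ⧸ K.map (algebraMap A R)) →+* (B ⧸ K.map (algebraMap A B)) :=
    Ideal.quotientMap _ (algebraMap R B) hle
  have hcomm : ∀ x : A ⧸ K, ψ₀ (algebraMap _ _ x) = algebraMap _ _ x := by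
    intro x
    obtain ⟨a, rfl⟩ := Ideal.Quotient.mk_surjective x
    rw [Ideal.Quotient.algebraMap_quotient_map_quotient,
      Ideal.Quotient.algebraMap_quotient_map_quotient]
    change Ideal.Quotient.mk _ (algebraMap R B (algebraMap A R a)) = _
    rw [← IsScalarTower.algebraMap_apply]
  let ψ : (R ⧸ K.map (algebraMap A R)) →ₐ[A ⧸ K] (B ⧸ K.map (algebraMap A B)) :=
    { ψ₀ with commutes' := hcomm }
  have hbij : Function.Bijective ψ := by
    constructor
    · rw [injective_iff_map_eq_zero]
      intro x hx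
      obtain ⟨r, rfl⟩ := Ideal.Quotient.mk_surjective x
      have hx' : Ideal.Quotient.mk (K.map (algebraMap A B)) (algebraMap R B r) = 0 := hx
      rw [Ideal.Quotient.eq_zero_iff_mem, ← hmap] at hx'
      exact Ideal.Quotient.eq_zero_iff_mem.mpr (h.inj r hx')
    · intro y
      obtain ⟨b, rfl⟩ := Ideal.Quotient.mk_surjective y
      obtain ⟨r, hr⟩ := h.surj b
      rw [hmap] at hr
      refine ⟨Ideal.Quotient.mk _ r, ?_⟩
      change Ideal.Quotient.mk (K.map (algebraMap A B)) (algebraMap R B r) = _
      exact (Ideal.Quotient.eq.mpr hr).symm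
  exact ⟨AlgEquiv.ofBijective ψ hbij⟩

end Tower

section Hens

variable {A : Type u} [CommRing A] (I : Ideal A)
  {R : Type u} [CommRing R] [Algebra A R]
  {B : Type u} [CommRing B] [Algebra R B] [Algebra A B] [IsScalarTower A R B]

/-- For a henselization `B` of `(R, IR)`, `R/I^r R ≅ B/I^r B` as `A/I^r`-algebras. -/
theorem nonempty_algEquiv_quotient_pow
    (hB : Hens2.IsPairHenselization R (I.map (algebraMap A R)) B) (r : ℕ) :
    Nonempty ((R ⧸ (I ^ r).map (algebraMap A R)) ≃ₐ[A ⧸ I ^ r]
      (B ⧸ (I ^ r).map (algebraMap A B))) := by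
  apply nonempty_algEquiv_quotient_of_quotBij
  rw [Ideal.map_pow]
  exact quotBij_pow_of_isPairHenselization _ hB r

theorem flat_of_isPairHenselization_tower [Module.Flat A R]
    (hB : Hens2.IsPairHenselization R (I.map (algebraMap A R)) B) : Module.Flat A B := by
  haveI := flat_of_isPairHenselization _ hB
  exact Module.Flat.trans A R B

end Hens

end Groth.Agent.Lib.Helper90.PairHz
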