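import Groth.Agent.Lib.Helper90.PairHzIndex
import Groth.Agent.S19567

/-!
# Henselization of a pair: the direct limit (helper90)
-/

set_option autoImplicit false
set_option linter.style.haveILetI false
universe u

namespace Groth.Agent.Lib.Helper90.PairHz

variable {A : Type u} [CommRing A] (I : Ideal A)

section GenLoc

variable {B : Type*} [CommRing B] [Algebra A B] (M : Submonoid B) (hM : M ≤ onePlus I B)
  (S : Type*) [CommRing S] [Algebra B S] [Algebra A S] [IsScalarTower A B S] [IsLocalization M S]

include hM in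
/-- Localizing at a submonoid of `1 + IB` does not change the quotient by `I`. -/
theorem QuotBij.of_isLocalization (h : QuotBij I B) : QuotBij I S := by
  have hmap : (I.map (algebraMap A B)).map (algebraMap B S) = I.map (algebraMap A S) := by
    rw [Ideal.map_map, ← IsScalarTower.algebraMap_eq]
  constructor
  · intro l
    obtain ⟨⟨b, ⟨s, hs⟩⟩, h1⟩ := IsLocalization.surj M l
    change l * algebraMap B S s = algebraMap B S b at h1
    obtain ⟨a, ha⟩ := h.surj b
    refine ⟨a, ?_⟩
    have e : l - algebraMap A S a =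
        -(l * algebraMap B S (s - 1)) + algebraMap B S (b - algebraMap A B a) := by
      rw [IsScalarTower.algebraMap_apply A B S, map_sub, map_sub, map_one, ← h1]; ring
    rw [e, ← hmap]
    refine Ideal.add_mem _ (Ideal.neg_mem_iff _ |>.mpr (Ideal.mul_mem_left _ _ ?_)) ?_
    · exact Ideal.mem_map_of_mem _ (hM hs)
    · exact Ideal.mem_map_of_mem _ ha
  · intro a ha
    rw [IsScalarTower.algebraMap_apply A B S, ← hmap,
      IsLocalization.mem_map_algebraMap_iff M] at ha
    obtain ⟨⟨⟨c, hc⟩, ⟨s, hs⟩⟩, h1⟩ := ha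
    change algebraMap B S (algebraMap A B a) * algebraMap B S s = algebraMap B S c at h1
    rw [← map_mul, IsLocalization.eq_iff_exists M] at h1
    obtain ⟨⟨t, ht⟩, h1⟩ := h1
    change t * (algebraMap A B a * s) = t * c at h1
    have hts : t * s ∈ onePlus I B := (onePlus I B).mul_mem (hM ht) (hM hs)
    have h2 : algebraMap A B a * (t * s) ∈ I.map (algebraMap A B) := by
      have : algebraMap A B a * (t * s) = t * c := by rw [← h1]; ring
      rw [this]; exact Ideal.mul_mem_left _ _ hc
    have h3 : algebraMap A B a =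
        algebraMap A B a * (t * s) - algebraMap A B a * (t * s - 1) := by ring
    apply h.inj a
    rw [h3]
    exact Ideal.sub_mem _ h2 (Ideal.mul_mem_left _ _ hts)

end GenLoc

/-- Localizing a good neighbourhood at an element of `1 + IB` gives a good neighbourhood. -/
theorem IsGood.away {B : Type u} [CommRing B] [Algebra A B] (h : IsGood I B) {s : B}
    (hs : s ∈ onePlus I B) : IsGood I (Localization.Away s) := by
  haveI := h.1
  haveI : Algebra.Etale B (Localization.Away s) := Algebra.Etale.of_isLocalizationAway s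
  refine ⟨Algebra.Etale.comp A B (Localization.Away s), (quotBij_iff I).mp ?_⟩
  refine QuotBij.of_isLocalization I (Submonoid.powers s) ?_ (Localization.Away s) (h.quotBij I)
  rw [Submonoid.powers_le]
  exact hs


instance (j : GIdx I) : Algebra.Etale A j.1.Ring := j.2.1

/-- The localized neighbourhood attached to an index. -/
abbrev GIdx.L (j : GIdx I) : Type u := Loc I j.1.Ring

instance subsingleton_algHom (j j' : GIdx I) : Subsingleton (GIdx.L I j →ₐ[A] GIdx.L I j') :=
  ⟨fun f g => locAlgHom_ext I (j.2.quotBij I) (map_le_jacobson_loc I) f g⟩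

instance : Preorder (GIdx I) where
  le j j' := Nonempty (GIdx.L I j →ₐ[A] GIdx.L I j')
  le_refl j := ⟨AlgHom.id A _⟩
  le_trans := fun _ _ _ ⟨f⟩ ⟨g⟩ => ⟨g.comp f⟩

theorem le_def (j j' : GIdx I) : j ≤ j' ↔ Nonempty (GIdx.L I j →ₐ[A] GIdx.L I j') := Iff.rfl

/-- A map from a good neighbourhood `B` (presented by `j`) to a good neighbourhood presented by
`j'` gives `j ≤ j'`. -/
theorem le_of_algHom {j j' : GIdx I} (g : j.1.Ring →ₐ[A] j'.1.Ring) : j ≤ j' :=
  ⟨locLift I (map_le_jacobson_loc I) ((IsScalarTower.toAlgHom A j'.1.Ring (GIdx.L I j')).comp g)⟩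

instance : IsDirected (GIdx I) (· ≤ ·) where
  directed j j' := by
    obtain ⟨A₃, _, _, hA₃, hbij, ⟨f₁⟩, ⟨f₂⟩⟩ :=
      (Groth.Agent.S19567.result A I).1 j.1.Ring j'.1.Ring j.2.2 j'.2.2
    obtain ⟨j₃, ⟨e⟩⟩ := exists_gidx I A₃ ⟨hA₃, hbij⟩
    exact ⟨j₃, le_of_algHom I (e.symm.toAlgHom.comp f₁), le_of_algHom I (e.symm.toAlgHom.comp f₂)⟩

/-- The (unique) transition maps. -/
noncomputable def tr (j j' : GIdx I) (h : j ≤ j') : GIdx.L I j →ₐ[A] GIdx.L I j' :=
  Classical.choice h

instance : DirectedSystem (fun j : GIdx I => GIdx.L I j) (fun j j' h => (tr I j j' h)) where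
  map_self j x := by
    have : tr I j j le_rfl = AlgHom.id A _ := Subsingleton.elim _ _
    rw [this]; rfl
  map_map k j i hij hjk x := by
    have : (tr I j k hjk).comp (tr I i j hij) = tr I i k (hij.trans hjk) := Subsingleton.elim _ _
    exact congr($this x)

/-- Ring-hom version of the transition maps. -/
noncomputable def trR (j j' : GIdx I) (h : j ≤ j') : GIdx.L I j →+* GIdx.L I j' :=
  (tr I j j' h).toRingHom

instance : DirectedSystem (fun j : GIdx I => GIdx.L I j) (fun j j' h => (trR I j j' h)) where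
  map_self j x := by
    have : tr I j j le_rfl = AlgHom.id A _ := Subsingleton.elim _ _
    change tr I j j le_rfl x = x
    rw [this]; rfl
  map_map k j i hij hjk x := by
    have : (tr I j k hjk).comp (tr I i j hij) = tr I i k (hij.trans hjk) := Subsingleton.elim _ _
    exact congr($this x)

/-- The henselization of the pair `(A, I)`: direct limit of the localized good neighbourhoods. -/
abbrev Hz : Type u :=
  Ring.DirectLimit (fun j : GIdx I => GIdx.L I j) (fun j j' h => trR I j j' h)

/-- The canonical maps into the direct limit. -/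
noncomputable def ofL (j : GIdx I) : GIdx.L I j →+* Hz I := Ring.DirectLimit.of _ _ j

theorem ofL_tr {j j' : GIdx I} (h : j ≤ j') (x : GIdx.L I j) :
    ofL I j' (tr I j j' h x) = ofL I j x :=
  Ring.DirectLimit.of_f (f := fun j j' h => trR I j j' h) h x

theorem ofL_algebraMap_eq (j j' : GIdx I) (a : A) :
    ofL I j (algebraMap A _ a) = ofL I j' (algebraMap A _ a) := by
  obtain ⟨k, hjk, hj'k⟩ := exists_ge_ge j j'
  rw [← ofL_tr I hjk, ← ofL_tr I hj'k, AlgHom.commutes, AlgHom.commutes]

noncomputable instance : Algebra A (Hz I) :=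
  ((ofL I (Classical.arbitrary _)).comp (algebraMap A _)).toAlgebra

theorem algebraMap_Hz (j : GIdx I) (a : A) :
    algebraMap A (Hz I) a = ofL I j (algebraMap A _ a) :=
  ofL_algebraMap_eq I _ j a

/-- The canonical maps into the direct limit, as `A`-algebra maps. -/
noncomputable def ofLₐ (j : GIdx I) : GIdx.L I j →ₐ[A] Hz I :=
  { ofL I j with commutes' := fun a => (algebraMap_Hz I j a).symm }

theorem ofLₐ_apply (j : GIdx I) (x : GIdx.L I j) : ofLₐ I j x = ofL I j x := rfl

theorem exists_ofL (z : Hz I) : ∃ (j : GIdx I) (x : GIdx.L I j), ofL I j x = z :=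
  Ring.DirectLimit.exists_of z

theorem ofL_eq_zero {j : GIdx I} {x : GIdx.L I j} (h : ofL I j x = 0) :
    ∃ (j' : GIdx I) (hjj' : j ≤ j'), tr I j j' hjj' x = 0 :=
  Ring.DirectLimit.of.zero_exact (f' := fun j j' h => trR I j j' h) h

end Groth.Agent.Lib.Helper90.PairHz
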