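import Groth.Agent.Lib.Helper90.EtaleNbhdFactor
import Groth.Agent.Lib.Helper37.HenselIdem

set_option autoImplicit false
set_option linter.style.haveILetI false
universe u

open Polynomial TensorProduct

namespace Groth.Agent.Lib.Helper90.EtaleNbhd

/-- If `c` is a root of `F = g' h'` with `g', h'` coprime, `g' ≡ X^(d+1)`, `h' ≡ (X-1)^(d+1)` modulo
`I'`, and `c` is idempotent modulo `I' C`, then there is an idempotent congruent to `c`. -/
theorem exists_idempotent_of_coprime_factorization {A' C : Type*} [CommRing A'] [CommRing C]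
    [Algebra A' C] (I' : Ideal A') (c : C) (d : ℕ) (g' h' : A'[X])
    (hF : aeval c (g' * h') = 0) (hcop : IsCoprime g' h')
    (hg : g'.map (Ideal.Quotient.mk I') = X ^ (d + 1))
    (hh : h'.map (Ideal.Quotient.mk I') = (X - 1) ^ (d + 1))
    (hc : c * c - c ∈ I'.map (algebraMap A' C)) :
    ∃ x : C, IsIdempotentElem x ∧ x - c ∈ I'.map (algebraMap A' C) := by
  obtain ⟨u, v, huv⟩ := hcop
  set IB := I'.map (algebraMap A' C) with hIB
  set x : C := aeval c (u * g') with hx
  set y : C := aeval c (v * h') with hy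
  have hxy1 : x + y = 1 := by
    rw [hx, hy, ← map_add, huv, map_one]
  have hxy0 : x * y = 0 := by
    have : x * y = aeval c (u * v) * aeval c (g' * h') := by
      rw [hx, hy]; simp only [map_mul]; ring
    rw [this, hF, mul_zero]
  have hxidem : IsIdempotentElem x := by
    change x * x = x
    have : x * x = x * (x + y) - x * y := by ring
    rw [this, hxy1, hxy0, mul_one, sub_zero]
  refine ⟨x, hxidem, ?_⟩
  let π := Ideal.Quotient.mk IB
  set β := π c with hβ
  have hββ : β * β = β := by
    rw [← sub_eq_zero, hβ, ← map_mul, ← map_sub]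
    exact Ideal.Quotient.eq_zero_iff_mem.mpr hc
  have hπ : ∀ p q : A'[X], p.map (Ideal.Quotient.mk I') = q.map (Ideal.Quotient.mk I') →
      π (aeval c p) = π (aeval c q) := by
    intro p q hpq
    rw [← sub_eq_zero, ← map_sub]
    exact Ideal.Quotient.eq_zero_iff_mem.mpr
      (Groth.Agent.Lib.Helper37.aeval_sub_aeval_mem_map I' c p q hpq)
  have h1 : π (aeval c (u * g')) = π (aeval c u) * β ^ (d + 1) := by
    rw [hπ (u * g') (u * X ^ (d + 1)) (by
      rw [Polynomial.map_mul, Polynomial.map_mul, hg, Polynomial.map_pow, map_X])]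
    simp [hβ]
  have h2 : π (aeval c (v * h')) = π (aeval c v) * (β - 1) ^ (d + 1) := by
    rw [hπ (v * h') (v * (X - 1) ^ (d + 1)) (by
      rw [Polynomial.map_mul, Polynomial.map_mul, hh, Polynomial.map_pow, Polynomial.map_sub,
        map_X, Polynomial.map_one])]
    simp [hβ]
  have hβpow : β ^ (d + 1) = β := by
    have : IsIdempotentElem β := hββ
    exact this.pow_succ_eq d
  have hβ0 : β * (β - 1) ^ (d + 1) = 0 := by
    rw [pow_succ', ← mul_assoc]
    have : β * (β - 1) = 0 := by rw [mul_sub, hββ, mul_one, sub_self]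
    rw [this, zero_mul]
  have hsum : π (aeval c u) * β ^ (d + 1) + π (aeval c v) * (β - 1) ^ (d + 1) = 1 := by
    rw [← h1, ← h2, ← map_add, ← hx, ← hy, hxy1, map_one]
  have hUβ : π (aeval c u) * β = β := by
    have := congr($hsum * β)
    rw [add_mul, mul_assoc, mul_assoc, mul_comm ((β - 1) ^ (d + 1)) β, hβ0, mul_zero, add_zero,
      hβpow, hββ, one_mul] at this
    exact this
  rw [← Ideal.Quotient.eq_zero_iff_mem, map_sub, sub_eq_zero]
  change π (aeval c (u * g')) = β
  rw [h1, hβpow, hUβ]

end Groth.Agent.Lib.Helper90.EtaleNbhd
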