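import Mathlib
import Groth.Agent.Lib.Helper90.PairHzLimit
import Groth.Agent.S2041

/-!
# Quasi-finite => finite after etale localisation along `V(I)` (helper90)

`A` a ring, `I` an ideal, `B` an `A`-algebra of finite type with `B/IB` finite over `A`.
* `exists_integral_sub_one_mem`: Zariski's main theorem gives an integral `r ∈ 1 + IB` with
  `B'[1/r] = B[1/r]` (`B'` the integral closure).
* `exists_finite_subalgebra`: a finite subalgebra `D ∋ r` with `D[1/r] = B[1/r]`, `r^N(1-r) ∈ ID`.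
* `exists_good_idempotent`: lift the idempotent `r^(N+1)` of `D/ID` to a good etale nbhd `A₂`
  (uses S2041), shrinking so that `r` is invertible on the factor.
* `exists_nbhd_of_finite_subalgebra`: the factor `C = (A₂ ⊗ D)/(1-e)` is finite over `A₂`,
  etale over `B` and `B/IB = C/IC`.
-/

set_option autoImplicit false
set_option linter.style.haveILetI false
universe u

namespace Groth.Agent.Lib.Helper90.QFNbhd

open Groth.Agent.Lib.Helper90.PairHz
open TensorProduct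

section ZMT

variable {A B : Type u} [CommRing A] [CommRing B] [Algebra A B]

/-- If `B/IB` is a finite `A`-module, Zariski's main property holds at every prime containing `IB`. -/
theorem zariskisMainProperty_of_finite_quotient [Algebra.FiniteType A B] (I : Ideal A)
    (hfin : Module.Finite A (B ⧸ I.map (algebraMap A B))) (q : Ideal B) [q.IsPrime]
    (hq : I.map (algebraMap A B) ≤ q) : Algebra.ZariskisMainProperty A q := by
  have hIp : I ≤ q.under A := fun a ha => hq (Ideal.mem_map_of_mem _ ha)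
  have hle : I.map (algebraMap A B) ≤ (q.under A).map (algebraMap A B) := Ideal.map_mono hIp
  have : Module.Finite A (B ⧸ (q.under A).map (algebraMap A B)) :=
    Module.Finite.of_surjective (Ideal.Quotient.factorₐ A hle).toLinearMap
      (Ideal.Quotient.factor_surjective hle)
  have : Algebra.WeaklyQuasiFiniteAt A q := inferInstance
  exact .of_finiteType_of_weaklyQuasiFiniteAt q

variable (A B) in
/-- The ideal of the integral closure consisting of the `r` with `B'[1/r] = B[1/r]`. -/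
def conductorLike : Ideal (integralClosure A B) where
  carrier := {r | ∀ x : B, ∃ m : ℕ, IsIntegral A ((r : B) ^ m * x)}
  zero_mem' := fun x => ⟨1, by simpa using isIntegral_zero⟩
  add_mem' := by
    intro r s hr hs x
    obtain ⟨m, hm⟩ := hr x
    obtain ⟨n, hn⟩ := hs x
    refine ⟨m + n, ?_⟩
    have : (((r + s : integralClosure A B) : B)) ^ (m + n) * x =
        ∑ k ∈ Finset.range (m + n + 1),
          ((r : B) ^ k * (s : B) ^ (m + n - k) * ((m + n).choose k : B)) * x := by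
      rw [Subalgebra.coe_add, add_pow, Finset.sum_mul]
    rw [this]
    refine IsIntegral.sum _ fun k hk => ?_
    have hk' : k ≤ m + n := Nat.lt_succ_iff.mp (Finset.mem_range.mp hk)
    have hc : IsIntegral A ((((m + n).choose k : ℕ) : B)) := isIntegral_natCast _
    by_cases hkm : m ≤ k
    · have e : (r : B) ^ k * (s : B) ^ (m + n - k) * ((m + n).choose k : B) * x =
          ((r : B) ^ (k - m) * (s : B) ^ (m + n - k) * ((m + n).choose k : B)) *
            ((r : B) ^ m * x) := by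
        have : (r : B) ^ k = (r : B) ^ (k - m) * (r : B) ^ m := by
          rw [← pow_add, Nat.sub_add_cancel hkm]
        rw [this]; ring
      rw [e]
      exact ((((r.2).pow _).mul ((s.2).pow _)).mul hc).mul hm
    · have hkn : n ≤ m + n - k := by omega
      have e : (r : B) ^ k * (s : B) ^ (m + n - k) * ((m + n).choose k : B) * x =
          ((r : B) ^ k * (s : B) ^ (m + n - k - n) * ((m + n).choose k : B)) *
            ((s : B) ^ n * x) := by
        have : (s : B) ^ (m + n - k) = (s : B) ^ (m + n - k - n) * (s : B) ^ n := by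
          rw [← pow_add, Nat.sub_add_cancel hkn]
        rw [this]; ring
      rw [e]
      exact ((((r.2).pow _).mul ((s.2).pow _)).mul hc).mul hn
  smul_mem' := by
    intro c r hr x
    obtain ⟨m, hm⟩ := hr x
    refine ⟨m, ?_⟩
    have : (((c • r : integralClosure A B)) : B) ^ m * x = (c : B) ^ m * ((r : B) ^ m * x) := by
      rw [smul_eq_mul, Subalgebra.coe_mul, mul_pow, mul_assoc]
    rw [this]
    exact ((c.2).pow _).mul hm

theorem mem_conductorLike {r : integralClosure A B} :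
    r ∈ conductorLike A B ↔ ∀ x : B, ∃ m : ℕ, IsIntegral A ((r : B) ^ m * x) := Iff.rfl

/-- There is an integral `r ∈ 1 + IB` with `B'[1/r] = B[1/r]`. -/
theorem exists_integral_sub_one_mem [Algebra.FiniteType A B] (I : Ideal A)
    (hfin : Module.Finite A (B ⧸ I.map (algebraMap A B))) :
    ∃ r : B, IsIntegral A r ∧ r - 1 ∈ I.map (algebraMap A B) ∧
      ∀ x : B, ∃ m : ℕ, IsIntegral A (r ^ m * x) := by
  set B' := integralClosure A B with hB'
  set IB := I.map (algebraMap A B) with hIB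
  set J : Ideal B' := IB.comap (algebraMap B' B) with hJ
  have htop : conductorLike A B ⊔ J = ⊤ := by
    by_contra hne
    obtain ⟨P, hP, hle⟩ := Ideal.exists_le_maximal _ hne
    have hPp : P.IsPrime := hP.isPrime
    have : Algebra.IsIntegral A (B ⧸ IB) := Algebra.IsIntegral.of_finite A _
    have : Algebra.IsIntegral B' (B ⧸ IB) := Algebra.IsIntegral.tower_top (R := A)
    have hker : (⊥ : Ideal (B ⧸ IB)).comap (algebraMap B' (B ⧸ IB)) ≤ P := by
      intro x hx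
      apply hle
      apply Ideal.mem_sup_right
      rw [Ideal.mem_comap, Ideal.mem_bot] at hx
      rw [hJ, Ideal.mem_comap]
      rwa [IsScalarTower.algebraMap_apply B' B (B ⧸ IB), Ideal.Quotient.algebraMap_eq,
        Ideal.Quotient.eq_zero_iff_mem] at hx
    obtain ⟨Q, -, hQp, hQ⟩ := Ideal.exists_ideal_over_prime_of_isIntegral P
      (⊥ : Ideal (B ⧸ IB)) hker
    set q : Ideal B := Q.comap (Ideal.Quotient.mk IB) with hq
    have hqp : q.IsPrime := Ideal.comap_isPrime _ _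
    have hIq : IB ≤ q := by
      intro x hx
      rw [hq, Ideal.mem_comap, Ideal.Quotient.eq_zero_iff_mem.mpr hx]
      exact Q.zero_mem
    have hz := zariskisMainProperty_of_finite_quotient I hfin q hIq
    obtain ⟨r, hrq, hr, hrx⟩ := Algebra.zariskisMainProperty_iff.mp hz
    apply hrq
    have hrK : (⟨r, hr⟩ : B') ∈ conductorLike A B := hrx
    have hrP : (⟨r, hr⟩ : B') ∈ P := hle (Ideal.mem_sup_left hrK)
    rw [← hQ, Ideal.mem_comap] at hrP
    rw [hq, Ideal.mem_comap]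
    rwa [IsScalarTower.algebraMap_apply B' B (B ⧸ IB), Ideal.Quotient.algebraMap_eq] at hrP
  rw [Ideal.eq_top_iff_one, Submodule.mem_sup] at htop
  obtain ⟨k, hk, j, hj, hkj⟩ := htop
  refine ⟨k.1, k.2, ?_, hk⟩
  have : (k : B) - 1 = -(j : B) := by
    have := congrArg (Subtype.val) hkj
    simp only [Subalgebra.coe_add, Subalgebra.coe_one] at this
    rw [← this]; ring
  rw [this]
  exact Ideal.neg_mem_iff _ |>.mpr hj

/-- A finite subalgebra `D` containing `r` with `D[1/r] = B[1/r]` and `r^N (1 - r) ∈ ID`. -/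
theorem exists_finite_subalgebra [Algebra.FiniteType A B] (I : Ideal A) (r : B)
    (hr : IsIntegral A r) (hr1 : r - 1 ∈ I.map (algebraMap A B))
    (hrx : ∀ x : B, ∃ m : ℕ, IsIntegral A (r ^ m * x)) :
    ∃ (D : Subalgebra A B) (hrD : r ∈ D), D.toSubmodule.FG ∧
      (∀ x : B, ∃ m : ℕ, r ^ m * x ∈ D) ∧
      ∃ N : ℕ, (⟨r, hrD⟩ : D) ^ N * (1 - ⟨r, hrD⟩) ∈ I.map (algebraMap A D) := by
  classical
  obtain ⟨s, hs⟩ := Algebra.FiniteType.out (R := A) (A := B)
  choose m hm using hrx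
  set t : Set B := insert r ((fun x => r ^ m x * x) '' (s : Set B)) with ht
  set D : Subalgebra A B := Algebra.adjoin A t with hD
  have hrD : r ∈ D := Algebra.subset_adjoin (Set.mem_insert _ _)
  have hfg : D.toSubmodule.FG := by
    refine fg_adjoin_of_finite ?_ ?_
    · exact Set.Finite.insert _ (s.finite_toSet.image _)
    · rintro a (rfl | ⟨x, -, rfl⟩)
      exacts [hr, hm x]
  have hpow : ∀ n : ℕ, r ^ n ∈ D := fun n => D.pow_mem hrD n
  have hx : ∀ x : B, ∃ n : ℕ, r ^ n * x ∈ D := by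
    intro x
    have hxtop : x ∈ Algebra.adjoin A (s : Set B) := by rw [hs]; trivial
    induction hxtop using Algebra.adjoin_induction with
    | mem x hx =>
      exact ⟨m x, Algebra.subset_adjoin (Set.mem_insert_of_mem _ ⟨x, hx, rfl⟩)⟩
    | algebraMap a => exact ⟨0, by simpa using D.algebraMap_mem a⟩
    | add x y _ _ hx hy =>
      obtain ⟨n₁, h₁⟩ := hx
      obtain ⟨n₂, h₂⟩ := hy
      refine ⟨n₁ + n₂, ?_⟩
      have : r ^ (n₁ + n₂) * (x + y) = r ^ n₂ * (r ^ n₁ * x) + r ^ n₁ * (r ^ n₂ * y) := by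
        rw [pow_add]; ring
      rw [this]
      exact D.add_mem (D.mul_mem (hpow _) h₁) (D.mul_mem (hpow _) h₂)
    | mul x y _ _ hx hy =>
      obtain ⟨n₁, h₁⟩ := hx
      obtain ⟨n₂, h₂⟩ := hy
      refine ⟨n₁ + n₂, ?_⟩
      have : r ^ (n₁ + n₂) * (x * y) = (r ^ n₁ * x) * (r ^ n₂ * y) := by
        rw [pow_add]; ring
      rw [this]
      exact D.mul_mem h₁ h₂
  refine ⟨D, hrD, hfg, hx, ?_⟩
  -- the key claim, by induction on membership in `IB`
  have key : ∀ y ∈ I.map (algebraMap A B), ∃ N : ℕ, ∃ z ∈ I.map (algebraMap A D),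
      (z : B) = r ^ N * y := by
    intro y hy
    rw [Ideal.map] at hy
    induction hy using Submodule.span_induction with
    | mem y hy =>
      obtain ⟨a, ha, rfl⟩ := hy
      exact ⟨0, algebraMap A D a, Ideal.mem_map_of_mem _ ha, by simp⟩
    | zero => exact ⟨0, 0, Ideal.zero_mem _, by simp⟩
    | add x y _ _ hx hy =>
      obtain ⟨n₁, z₁, hz₁, h₁⟩ := hx
      obtain ⟨n₂, z₂, hz₂, h₂⟩ := hy
      refine ⟨n₁ + n₂, ⟨r, hrD⟩ ^ n₂ * z₁ + ⟨r, hrD⟩ ^ n₁ * z₂,
        Ideal.add_mem _ (Ideal.mul_mem_left _ _ hz₁) (Ideal.mul_mem_left _ _ hz₂), ?_⟩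
      simp only [Subalgebra.coe_add, Subalgebra.coe_mul, Subalgebra.coe_pow, h₁, h₂, pow_add]
      ring
    | smul c y _ hy =>
      obtain ⟨n₁, z₁, hz₁, h₁⟩ := hy
      obtain ⟨n₂, h₂⟩ := hx c
      refine ⟨n₂ + n₁, ⟨_, h₂⟩ * z₁, Ideal.mul_mem_left _ _ hz₁, ?_⟩
      simp only [Subalgebra.coe_mul, h₁, pow_add, smul_eq_mul]
      ring
  have h1r : 1 - r ∈ I.map (algebraMap A B) := by
    have : 1 - r = -(r - 1) := by ring
    rw [this]; exact Ideal.neg_mem_iff _ |>.mpr hr1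
  obtain ⟨N, z, hz, hzN⟩ := key _ h1r
  refine ⟨N, ?_⟩
  have : (⟨r, hrD⟩ : D) ^ N * (1 - ⟨r, hrD⟩) = z := by
    apply Subtype.ext
    simp only [Subalgebra.coe_mul, Subalgebra.coe_pow, Subalgebra.coe_sub, Subalgebra.coe_one, hzN]
  rw [this]
  exact hz

end ZMT

section Quot

variable {A : Type u} [CommRing A] (I : Ideal A)
variable {A₂ D : Type u} [CommRing A₂] [CommRing D] [Algebra A A₂] [Algebra A D]

/-- The retraction `A₂ → D/ID` for a neighbourhood `A₂` with `A/I = A₂/IA₂`. -/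
theorem exists_algHom_quotient (h : QuotBij I A₂) :
    Nonempty (A₂ →ₐ[A] D ⧸ I.map (algebraMap A D)) := by
  have hbij := (quotBij_iff I).mp h
  let E : (A ⧸ I) ≃+* (A₂ ⧸ I.map (algebraMap A A₂)) := RingEquiv.ofBijective _ hbij
  have hker : ∀ a ∈ I, ((Ideal.Quotient.mk (I.map (algebraMap A D))).comp (algebraMap A D)) a = 0 := by
    intro a ha
    exact Ideal.Quotient.eq_zero_iff_mem.mpr (Ideal.mem_map_of_mem _ ha)
  let g₀ : A₂ →+* D ⧸ I.map (algebraMap A D) :=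
    (Ideal.Quotient.lift I _ hker).comp
      ((E.symm : (A₂ ⧸ I.map (algebraMap A A₂)) →+* (A ⧸ I)).comp
        (Ideal.Quotient.mk (I.map (algebraMap A A₂))))
  refine ⟨{ g₀ with commutes' := ?_ }⟩
  intro a
  change (Ideal.Quotient.lift I _ hker) (E.symm (Ideal.Quotient.mk _ (algebraMap A A₂ a))) = _
  have : Ideal.Quotient.mk (I.map (algebraMap A A₂)) (algebraMap A A₂ a) =
      E (Ideal.Quotient.mk I a) := by
    change _ = algebraMap (A ⧸ I) (A₂ ⧸ I.map (algebraMap A A₂)) (Ideal.Quotient.mk I a)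
    rw [Ideal.Quotient.algebraMap_quotient_map_quotient]
  rw [this, RingEquiv.symm_apply_apply, Ideal.Quotient.lift_mk]
  rfl

/-- `D/ID → (A₂ ⊗ D)/I(A₂ ⊗ D)` is injective when `A/I = A₂/IA₂`. -/
theorem mem_map_of_one_tmul_mem (h : QuotBij I A₂) (x : D)
    (hx : (1 : A₂) ⊗ₜ[A] x ∈ I.map (algebraMap A (A₂ ⊗[A] D))) :
    x ∈ I.map (algebraMap A D) := by
  obtain ⟨g⟩ := exists_algHom_quotient (D := D) I h
  let ψ : A₂ ⊗[A] D →ₐ[A] D ⧸ I.map (algebraMap A D) :=
    Algebra.TensorProduct.lift g (Ideal.Quotient.mkₐ A _) (fun _ _ => Commute.all _ _)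
  have hψ : ∀ t ∈ I.map (algebraMap A (A₂ ⊗[A] D)), ψ t = 0 := by
    intro t ht
    have : (I.map (algebraMap A (A₂ ⊗[A] D))).map ψ.toRingHom = ⊥ := by
      rw [Ideal.map_map, eq_bot_iff, Ideal.map_le_iff_le_comap]
      intro a ha
      rw [Ideal.mem_comap, Ideal.mem_bot]
      change ψ (algebraMap A _ a) = 0
      rw [AlgHom.commutes]
      rw [IsScalarTower.algebraMap_apply A D (D ⧸ I.map (algebraMap A D)),
        Ideal.Quotient.algebraMap_eq]
      exact Ideal.Quotient.eq_zero_iff_mem.mpr (Ideal.mem_map_of_mem _ ha)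
    have h1 : ψ.toRingHom t ∈ (I.map (algebraMap A (A₂ ⊗[A] D))).map ψ.toRingHom :=
      Ideal.mem_map_of_mem _ ht
    rw [this, Ideal.mem_bot] at h1
    exact h1
  have := hψ _ hx
  rw [Algebra.TensorProduct.lift_tmul, map_one, one_mul] at this
  exact Ideal.Quotient.eq_zero_iff_mem.mp this

/-- `D → (A₂ ⊗ D)/I(A₂ ⊗ D)` is surjective when `A/I = A₂/IA₂`. -/
theorem exists_sub_one_tmul_mem (h : QuotBij I A₂) (t : A₂ ⊗[A] D) :
    ∃ d : D, t - (1 : A₂) ⊗ₜ[A] d ∈ I.map (algebraMap A (A₂ ⊗[A] D)) := by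
  induction t using TensorProduct.induction_on with
  | zero => exact ⟨0, by simp⟩
  | tmul a d =>
    obtain ⟨a₀, ha₀⟩ := h.surj a
    refine ⟨a₀ • d, ?_⟩
    have hmap : (I.map (algebraMap A A₂)).map (algebraMap A₂ (A₂ ⊗[A] D)) =
        I.map (algebraMap A (A₂ ⊗[A] D)) := by
      rw [Ideal.map_map, ← IsScalarTower.algebraMap_eq]
    have e : a ⊗ₜ[A] d - (1 : A₂) ⊗ₜ[A] (a₀ • d) =
        (algebraMap A₂ (A₂ ⊗[A] D) (a - algebraMap A A₂ a₀)) * ((1 : A₂) ⊗ₜ[A] d) := by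
      rw [Algebra.TensorProduct.algebraMap_apply, Algebra.TensorProduct.tmul_mul_tmul,
        Algebra.algebraMap_self_apply, mul_one, one_mul, TensorProduct.sub_tmul,
        TensorProduct.tmul_smul, TensorProduct.smul_tmul', Algebra.smul_def, mul_one]
    rw [e, ← hmap]
    exact Ideal.mul_mem_right _ _ (Ideal.mem_map_of_mem _ ha₀)
  | add x y hx hy =>
    obtain ⟨d₁, h₁⟩ := hx
    obtain ⟨d₂, h₂⟩ := hy
    refine ⟨d₁ + d₂, ?_⟩
    have : x + y - (1 : A₂) ⊗ₜ[A] (d₁ + d₂) = (x - 1 ⊗ₜ d₁) + (y - 1 ⊗ₜ d₂) := by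
      rw [TensorProduct.tmul_add]; ring
    rw [this]
    exact Ideal.add_mem _ h₁ h₂

end Quot

/-- If `D ⊆ B` and every element of `B` is in `D` after multiplying by a power of `r ∈ D`, then
`B[1/r]` is a localization of `D` at `r`. -/
theorem isLocalization_away_of_forall_exists {D B : Type*} [CommRing D] [CommRing B] [Algebra D B]
    (hinj : Function.Injective (algebraMap D B)) (r : D)
    (h1 : ∀ x : B, ∃ m : ℕ, ∃ d : D, algebraMap D B d = algebraMap D B r ^ m * x)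
    (L : Type*) [CommRing L] [Algebra B L] [Algebra D L] [IsScalarTower D B L]
    [IsLocalization.Away (algebraMap D B r) L] : IsLocalization.Away r L := by
  have hru : IsUnit (algebraMap D L r) := by
    rw [IsScalarTower.algebraMap_apply D B L]
    exact IsLocalization.Away.algebraMap_isUnit _
  refine ⟨?_, ?_, ?_⟩
  · rintro ⟨_, n, rfl⟩
    simpa using hru.pow n
  · intro z
    obtain ⟨n, b, hb⟩ := IsLocalization.Away.surj (algebraMap D B r) z
    obtain ⟨m, d, hd⟩ := h1 b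
    refine ⟨⟨d, ⟨r ^ (n + m), n + m, rfl⟩⟩, ?_⟩
    change z * algebraMap D L (r ^ (n + m)) = algebraMap D L d
    rw [IsScalarTower.algebraMap_apply D B L, IsScalarTower.algebraMap_apply D B L d, hd,
      map_pow, map_pow, pow_add, ← mul_assoc, hb, map_mul, map_pow]
    ring
  · intro x y hxy
    rw [IsScalarTower.algebraMap_apply D B L, IsScalarTower.algebraMap_apply D B L y,
      IsLocalization.eq_iff_exists (Submonoid.powers (algebraMap D B r))] at hxy
    obtain ⟨⟨_, n, rfl⟩, hc⟩ := hxy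
    refine ⟨⟨r ^ n, n, rfl⟩, ?_⟩
    apply hinj
    simpa using hc

theorem map_mem_map_of_algHom {A : Type*} [CommRing A] (I : Ideal A) {U₁ U₂ : Type*} [CommRing U₁]
    [CommRing U₂] [Algebra A U₁] [Algebra A U₂] (φ : U₁ →ₐ[A] U₂) {x : U₁}
    (hx : x ∈ I.map (algebraMap A U₁)) : φ x ∈ I.map (algebraMap A U₂) := by
  have h2 : (I.map (algebraMap A U₁)).map φ.toRingHom = I.map (algebraMap A U₂) := by
    rw [Ideal.map_map]
    congr 1
    exact φ.comp_algebraMap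
  rw [← h2]
  exact Ideal.mem_map_of_mem _ hx

/-- Lifting the idempotent `r^(N+1)` of `D/ID` to a good étale neighbourhood over which `r`
becomes invertible on the corresponding factor. -/
theorem exists_good_idempotent {A : Type u} [CommRing A] (I : Ideal A) {D : Type u} [CommRing D]
    [Algebra A D] [Module.Finite A D] (r : D) (N : ℕ)
    (h3 : r ^ N * (1 - r) ∈ I.map (algebraMap A D)) :
    ∃ (A₂ : Type u) (_ : CommRing A₂) (_ : Algebra A A₂), IsGood I A₂ ∧
      ∃ e c : A₂ ⊗[A] D, IsIdempotentElem e ∧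
        e - (1 : A₂) ⊗ₜ[A] (r ^ (N + 1)) ∈ I.map (algebraMap A (A₂ ⊗[A] D)) ∧
        e * ((1 : A₂) ⊗ₜ[A] r) * c = e := by
  classical
  have hint : Algebra.IsIntegral A D := Algebra.IsIntegral.of_finite A D
  -- Step 1: the idempotent of `D/ID`
  have hgeom : 1 - r ^ (N + 1) = (1 - r) * ∑ i ∈ Finset.range (N + 1), r ^ i :=
    (mul_neg_geom_sum r (N + 1)).symm
  have hid : r ^ (N + 1) * r ^ (N + 1) - r ^ (N + 1) ∈ I.map (algebraMap A D) := by
    have : r ^ (N + 1) * r ^ (N + 1) - r ^ (N + 1) =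
        -((r * ∑ i ∈ Finset.range (N + 1), r ^ i) * (r ^ N * (1 - r))) := by
      have : r ^ (N + 1) * r ^ (N + 1) - r ^ (N + 1) = -(r ^ (N + 1) * (1 - r ^ (N + 1))) := by
        ring
      rw [this, hgeom, pow_succ]; ring
    rw [this]
    exact Ideal.neg_mem_iff _ |>.mpr (Ideal.mul_mem_left _ _ h3)
  have he : IsIdempotentElem (Ideal.Quotient.mk (I.map (algebraMap A D)) (r ^ (N + 1))) := by
    change _ * _ = _
    rw [← map_mul]
    exact Ideal.Quotient.eq.mpr hid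
  -- Step 2: lift it
  obtain ⟨A₁, _, _, hA₁, hbij, e₁, he₁, hlift⟩ := Groth.Agent.S2041.result I _ he
  have hgood : IsGood I A₁ := ⟨hA₁, hbij⟩
  have he₁r := hlift _ rfl
  -- Step 3: Nakayama
  set 𝔞 : Ideal (A₁ ⊗[A] D) := Ideal.span {1 - e₁, (1 : A₁) ⊗ₜ[A] r} with h𝔞
  set I₁ : Ideal A₁ := I.map (algebraMap A A₁) with hI₁
  have hfinM : Module.Finite A₁ ((A₁ ⊗[A] D) ⧸ 𝔞) :=
    Module.Finite.of_surjective (Ideal.Quotient.mkₐ A₁ 𝔞).toLinearMap
      (Ideal.Quotient.mkₐ_surjective A₁ 𝔞)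
  have hmapT : I₁.map (algebraMap A₁ (A₁ ⊗[A] D)) = I.map (algebraMap A (A₁ ⊗[A] D)) := by
    rw [hI₁, Ideal.map_map, ← IsScalarTower.algebraMap_eq]
  have hsm : ∀ z ∈ I₁ • (⊤ : Submodule A₁ (A₁ ⊗[A] D)),
      Ideal.Quotient.mk 𝔞 z ∈ I₁ • (⊤ : Submodule A₁ ((A₁ ⊗[A] D) ⧸ 𝔞)) := by
    intro z hz
    refine Submodule.smul_induction_on hz ?_ ?_
    · intro a ha t _
      have : Ideal.Quotient.mk 𝔞 (a • t) = a • Ideal.Quotient.mk 𝔞 t := rfl
      rw [this]
      exact Submodule.smul_mem_smul ha trivial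
    · intro x y hx hy
      rw [map_add]
      exact Submodule.add_mem _ hx hy
  have hle : (⊤ : Submodule A₁ ((A₁ ⊗[A] D) ⧸ 𝔞)) ≤ I₁ • ⊤ := by
    rintro y -
    obtain ⟨t, rfl⟩ := Ideal.Quotient.mk_surjective y
    have e1 : t = t * (e₁ - (1 : A₁) ⊗ₜ[A] (r ^ (N + 1))) +
        (t * (1 - e₁) + t * ((1 : A₁) ⊗ₜ[A] (r ^ N)) * ((1 : A₁) ⊗ₜ[A] r)) := by
      rw [mul_assoc, Algebra.TensorProduct.tmul_mul_tmul, one_mul, ← pow_succ]; ring
    have h𝔞1 : t * (1 - e₁) + t * ((1 : A₁) ⊗ₜ[A] (r ^ N)) * ((1 : A₁) ⊗ₜ[A] r) ∈ 𝔞 :=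
      Ideal.add_mem _ (Ideal.mul_mem_left _ _ (Ideal.subset_span (by simp)))
        (Ideal.mul_mem_left _ _ (Ideal.subset_span (by simp)))
    have e2 : Ideal.Quotient.mk 𝔞 t =
        Ideal.Quotient.mk 𝔞 (t * (e₁ - (1 : A₁) ⊗ₜ[A] (r ^ (N + 1)))) := by
      rw [Ideal.Quotient.eq]
      have : t - t * (e₁ - (1 : A₁) ⊗ₜ[A] (r ^ (N + 1))) =
          t * (1 - e₁) + t * ((1 : A₁) ⊗ₜ[A] (r ^ N)) * ((1 : A₁) ⊗ₜ[A] r) := by
        nth_rewrite 1 [e1]; ring
      rw [this]; exact h𝔞1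
    rw [e2]
    apply hsm
    rw [Ideal.smul_top_eq_map, Submodule.restrictScalars_mem, hmapT]
    exact Ideal.mul_mem_left _ _ he₁r
  obtain ⟨f, hf1, hf⟩ := Submodule.exists_sub_one_mem_and_smul_eq_zero_of_fg_of_le_smul I₁
    (⊤ : Submodule A₁ ((A₁ ⊗[A] D) ⧸ 𝔞)) Module.Finite.fg_top hle
  have hfa : f ⊗ₜ[A] (1 : D) ∈ 𝔞 := by
    have := hf (Ideal.Quotient.mk 𝔞 1) trivial
    have h2 : f • Ideal.Quotient.mk 𝔞 (1 : (A₁ ⊗[A] D)) = Ideal.Quotient.mk 𝔞 (f ⊗ₜ[A] (1 : D)) := by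
      change Ideal.Quotient.mk 𝔞 (f • (1 : (A₁ ⊗[A] D))) = _
      rw [Algebra.TensorProduct.one_def, TensorProduct.smul_tmul', smul_eq_mul, mul_one]
    rw [h2] at this
    exact Ideal.Quotient.eq_zero_iff_mem.mp this
  obtain ⟨a, b, hab⟩ := Ideal.mem_span_pair.mp hfa
  have hkey : e₁ * (f ⊗ₜ[A] (1 : D)) = e₁ * b * ((1 : A₁) ⊗ₜ[A] r) := by
    have h0 : e₁ * (1 - e₁) = 0 := by rw [mul_sub, mul_one, he₁.eq, sub_self]
    rw [← hab, mul_add, mul_left_comm, h0, mul_zero, zero_add, mul_assoc]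
  -- Step 4: shrink
  have hfone : f ∈ onePlus I A₁ := hf1
  refine ⟨Localization.Away f, inferInstance, inferInstance, IsGood.away I hgood hfone, ?_⟩
  set A₂ := Localization.Away f with hA₂
  let φ : (A₁ ⊗[A] D) →ₐ[A] A₂ ⊗[A] D :=
    Algebra.TensorProduct.map (IsScalarTower.toAlgHom A A₁ A₂) (AlgHom.id A D)
  obtain ⟨u, hu⟩ := (IsLocalization.Away.algebraMap_isUnit (S := A₂) f).exists_right_inv
  refine ⟨φ e₁, φ b * (u ⊗ₜ[A] (1 : D)), he₁.map φ, ?_, ?_⟩
  · have : φ e₁ - (1 : A₂) ⊗ₜ[A] (r ^ (N + 1)) = φ (e₁ - (1 : A₁) ⊗ₜ[A] (r ^ (N + 1))) := by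
      rw [map_sub]
      congr 1
      simp [φ]
    rw [this]
    exact map_mem_map_of_algHom I φ he₁r
  · have h1 : φ (e₁ * (f ⊗ₜ[A] (1 : D))) = φ (e₁ * b * ((1 : A₁) ⊗ₜ[A] r)) := by rw [hkey]
    have h2 : φ (f ⊗ₜ[A] (1 : D)) = (algebraMap A₁ A₂ f) ⊗ₜ[A] (1 : D) := by simp [φ]
    have h3 : φ ((1 : A₁) ⊗ₜ[A] r) = (1 : A₂) ⊗ₜ[A] r := by simp [φ]
    rw [map_mul, map_mul, map_mul, h2, h3] at h1
    calc φ e₁ * ((1 : A₂) ⊗ₜ[A] r) * (φ b * (u ⊗ₜ[A] (1 : D)))
        = (φ e₁ * φ b * ((1 : A₂) ⊗ₜ[A] r)) * (u ⊗ₜ[A] (1 : D)) := by ring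
      _ = φ e₁ * ((algebraMap A₁ A₂ f) ⊗ₜ[A] (1 : D)) * (u ⊗ₜ[A] (1 : D)) := by rw [← h1]
      _ = φ e₁ := by
        rw [mul_assoc, Algebra.TensorProduct.tmul_mul_tmul, hu, mul_one,
          ← Algebra.TensorProduct.one_def, mul_one]

set_option maxHeartbeats 1000000 in
theorem exists_nbhd_of_finite_subalgebra {A : Type u} [CommRing A] (I : Ideal A) {B D : Type u}
    [CommRing B] [CommRing D] [Algebra A B] [Algebra A D] [Algebra D B] [IsScalarTower A D B]
    [Module.Finite A D]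
    (hinj : Function.Injective (algebraMap D B)) (r : D) (N : ℕ)
    (h1 : ∀ x : B, ∃ m : ℕ, ∃ d : D, algebraMap D B d = algebraMap D B r ^ m * x)
    (h2 : algebraMap D B r - 1 ∈ I.map (algebraMap A B))
    (h3 : r ^ N * (1 - r) ∈ I.map (algebraMap A D)) :
    ∃ (A' : Type u) (_ : CommRing A') (_ : Algebra A A') (_ : Algebra.Etale A A')
      (C : Type u) (_ : CommRing C) (_ : Algebra A C) (_ : Algebra A' C) (_ : Algebra B C)
      (_ : IsScalarTower A A' C) (_ : IsScalarTower A B C),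
      QuotBij I A' ∧ Algebra.Etale B C ∧ Module.Finite A' C ∧
      (∀ c : C, ∃ b : B, c - algebraMap B C b ∈ I.map (algebraMap A C)) ∧
      (∀ b : B, algebraMap B C b ∈ I.map (algebraMap A C) → b ∈ I.map (algebraMap A B)) := by
  classical
  obtain ⟨A₂, _, _, hgood, e, c, he, her, hec⟩ := exists_good_idempotent I r N h3
  have hA₂ : Algebra.Etale A A₂ := hgood.1
  have hQB : QuotBij I A₂ := hgood.quotBij I
  letI algDT : Algebra D (A₂ ⊗[A] D) := Algebra.TensorProduct.rightAlgebra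
  have hDT : ∀ d : D, algebraMap D (A₂ ⊗[A] D) d = (1 : A₂) ⊗ₜ[A] d := fun d => rfl
  haveI : IsScalarTower A D (A₂ ⊗[A] D) := Algebra.TensorProduct.right_isScalarTower
  haveI etDT : Algebra.Etale D (A₂ ⊗[A] D) :=
    Algebra.Etale.of_equiv (Algebra.TensorProduct.commRight A D A₂)
  set 𝔠 : Ideal (A₂ ⊗[A] D) := Ideal.span {1 - e} with h𝔠
  haveI locC : IsLocalization.Away e ((A₂ ⊗[A] D) ⧸ 𝔠) :=
    IsLocalization.Away.quotient_of_isIdempotentElem he
  haveI etTC : Algebra.Etale (A₂ ⊗[A] D) ((A₂ ⊗[A] D) ⧸ 𝔠) := Algebra.Etale.of_isLocalizationAway e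
  haveI etDC : Algebra.Etale D ((A₂ ⊗[A] D) ⧸ 𝔠) :=
    Algebra.Etale.comp D (A₂ ⊗[A] D) ((A₂ ⊗[A] D) ⧸ 𝔠)
  have hDC : ∀ d : D, algebraMap D ((A₂ ⊗[A] D) ⧸ 𝔠) d =
      Ideal.Quotient.mk 𝔠 ((1 : A₂) ⊗ₜ[A] d) := fun d => rfl
  have hmke : Ideal.Quotient.mk 𝔠 e = 1 := by
    have : Ideal.Quotient.mk 𝔠 (1 - e) = 0 :=
      Ideal.Quotient.eq_zero_iff_mem.mpr (Ideal.subset_span rfl)
    rw [map_sub, map_one, sub_eq_zero] at this
    exact this.symm
  have hunit : IsUnit (algebraMap D ((A₂ ⊗[A] D) ⧸ 𝔠) r) := by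
    rw [hDC]
    have := congrArg (Ideal.Quotient.mk 𝔠) hec
    rw [map_mul, map_mul, hmke, one_mul] at this
    exact IsUnit.of_mul_eq_one _ this
  -- the localization `L = B[1/r]`, also a localization of `D`
  set L := Localization.Away (algebraMap D B r) with hL
  haveI locL : IsLocalization.Away r L := isLocalization_away_of_forall_exists hinj r h1 L
  letI algLC : Algebra L ((A₂ ⊗[A] D) ⧸ 𝔠) := (IsLocalization.Away.lift r hunit).toAlgebra
  haveI : IsScalarTower D L ((A₂ ⊗[A] D) ⧸ 𝔠) :=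
    IsScalarTower.of_algebraMap_eq (fun d => (IsLocalization.Away.lift_eq r hunit d).symm)
  haveI feLC : Algebra.FormallyEtale L ((A₂ ⊗[A] D) ⧸ 𝔠) :=
    Algebra.FormallyEtale.localization_base (Submonoid.powers r)
  haveI : Algebra.FinitePresentation D L := IsLocalization.Away.finitePresentation r
  haveI fpLC : Algebra.FinitePresentation L ((A₂ ⊗[A] D) ⧸ 𝔠) :=
    Algebra.FinitePresentation.of_restrict_scalars_finitePresentation D L _
  haveI etLC : Algebra.Etale L ((A₂ ⊗[A] D) ⧸ 𝔠) := ⟨feLC, fpLC⟩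
  letI algBC : Algebra B ((A₂ ⊗[A] D) ⧸ 𝔠) :=
    ((algebraMap L ((A₂ ⊗[A] D) ⧸ 𝔠)).comp (algebraMap B L)).toAlgebra
  haveI : IsScalarTower B L ((A₂ ⊗[A] D) ⧸ 𝔠) := IsScalarTower.of_algebraMap_eq (fun _ => rfl)
  haveI etBL : Algebra.Etale B L := Algebra.Etale.of_isLocalizationAway (algebraMap D B r)
  haveI etBC : Algebra.Etale B ((A₂ ⊗[A] D) ⧸ 𝔠) := Algebra.Etale.comp B L _
  have hDBC : ∀ d : D, algebraMap B ((A₂ ⊗[A] D) ⧸ 𝔠) (algebraMap D B d) =
      algebraMap D ((A₂ ⊗[A] D) ⧸ 𝔠) d := by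
    intro d
    change algebraMap L ((A₂ ⊗[A] D) ⧸ 𝔠) (algebraMap D L d) = _
    rw [← IsScalarTower.algebraMap_apply D L]
  haveI towerABC : IsScalarTower A B ((A₂ ⊗[A] D) ⧸ 𝔠) := by
    refine IsScalarTower.of_algebraMap_eq (fun a => ?_)
    rw [IsScalarTower.algebraMap_apply A D B, hDBC,
      ← IsScalarTower.algebraMap_apply A D ((A₂ ⊗[A] D) ⧸ 𝔠)]
  have hmapC : ∀ z : A₂ ⊗[A] D, z ∈ I.map (algebraMap A (A₂ ⊗[A] D)) →
      Ideal.Quotient.mk 𝔠 z ∈ I.map (algebraMap A ((A₂ ⊗[A] D) ⧸ 𝔠)) := fun z hz =>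
    map_mem_map_of_algHom I (Ideal.Quotient.mkₐ A 𝔠) hz
  have hpowr : ∀ k : ℕ, algebraMap D B r ^ k - 1 ∈ I.map (algebraMap A B) := fun k =>
    (onePlus I B).pow_mem h2 k
  refine ⟨A₂, inferInstance, inferInstance, hA₂, (A₂ ⊗[A] D) ⧸ 𝔠, inferInstance, inferInstance,
    inferInstance, algBC, inferInstance, towerABC, hQB, etBC, inferInstance, ?_, ?_⟩
  · intro c'
    obtain ⟨t, rfl⟩ := Ideal.Quotient.mk_surjective c'
    obtain ⟨d, hd⟩ := exists_sub_one_tmul_mem I hQB t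
    refine ⟨algebraMap D B d, ?_⟩
    rw [hDBC, hDC, ← map_sub]
    exact hmapC _ hd
  · intro b hb
    obtain ⟨m, d, hd⟩ := h1 b
    have h4 : Ideal.Quotient.mk 𝔠 ((1 : A₂) ⊗ₜ[A] d) ∈
        I.map (algebraMap A ((A₂ ⊗[A] D) ⧸ 𝔠)) := by
      rw [← hDC, ← hDBC, hd, map_mul]
      exact Ideal.mul_mem_left _ _ hb
    -- pull back along the quotient map
    have h5 : e * ((1 : A₂) ⊗ₜ[A] d) ∈ I.map (algebraMap A (A₂ ⊗[A] D)) := by
      have hmm : I.map (algebraMap A ((A₂ ⊗[A] D) ⧸ 𝔠)) =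
          (I.map (algebraMap A (A₂ ⊗[A] D))).map (Ideal.Quotient.mk 𝔠) := by
        rw [Ideal.map_map]
        rfl
      rw [hmm, Ideal.mem_map_iff_of_surjective _ Ideal.Quotient.mk_surjective] at h4
      obtain ⟨i, hi, hi2⟩ := h4
      rw [Ideal.Quotient.eq, h𝔠, Ideal.mem_span_singleton'] at hi2
      obtain ⟨w, hw⟩ := hi2
      have h0 : e * (1 - e) = 0 := by rw [mul_sub, mul_one, he.eq, sub_self]
      have : e * ((1 : A₂) ⊗ₜ[A] d) = e * i - w * (e * (1 - e)) := by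
        have : (1 : A₂) ⊗ₜ[A] d = i - w * (1 - e) := by rw [hw]; ring
        rw [this]; ring
      rw [this, h0, mul_zero, sub_zero]
      exact Ideal.mul_mem_left _ _ hi
    have h6 : (1 : A₂) ⊗ₜ[A] (r ^ (N + 1) * d) ∈ I.map (algebraMap A (A₂ ⊗[A] D)) := by
      have : (1 : A₂) ⊗ₜ[A] (r ^ (N + 1) * d) =
          e * ((1 : A₂) ⊗ₜ[A] d) - (e - (1 : A₂) ⊗ₜ[A] (r ^ (N + 1))) * ((1 : A₂) ⊗ₜ[A] d) := by
        rw [sub_mul, Algebra.TensorProduct.tmul_mul_tmul, one_mul]; ring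
      rw [this]
      exact Ideal.sub_mem _ h5 (Ideal.mul_mem_right _ _ her)
    have h7 : r ^ (N + 1) * d ∈ I.map (algebraMap A D) := mem_map_of_one_tmul_mem I hQB _ h6
    have h8 : algebraMap D B r ^ (N + 1 + m) * b ∈ I.map (algebraMap A B) := by
      have := map_mem_map_of_algHom I (IsScalarTower.toAlgHom A D B) h7
      rw [IsScalarTower.coe_toAlgHom', map_mul, map_pow, hd] at this
      rw [pow_add, mul_assoc]
      exact this
    have : b = algebraMap D B r ^ (N + 1 + m) * b - (algebraMap D B r ^ (N + 1 + m) - 1) * b := by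
      ring
    rw [this]
    exact Ideal.sub_mem _ h8 (Ideal.mul_mem_right _ _ (hpowr _))

end Groth.Agent.Lib.Helper90.QFNbhd
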