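import Mathlib
import Groth.Agent.Lib.Helper90.QFNbhd
import Groth.Agent.Lib.Helper37.HenselHom
import Groth.Agent.Lib.Helper37.HenselIdem

/-!
# Quasi-finite => finite over a henselian pair (helper90)

Variants of `QFNbhd` with the neighbourhood and the idempotent as inputs, and the henselian case
(no etale neighbourhood needed): `exists_finite_good_of_henselian`.
-/

set_option autoImplicit false
set_option linter.style.haveILetI false
universe u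

namespace Groth.Agent.Lib.Helper90.QFNbhd

open Groth.Agent.Lib.Helper90.PairHz
open TensorProduct

/-- Nakayama step: on the factor cut out by `e ≡ r^(N+1)`, `r` divides some `f ∈ 1 + IA₁`. -/
theorem exists_mul_eq_of_idempotent {A : Type u} [CommRing A] (I : Ideal A) {A₁ D : Type u}
    [CommRing A₁] [Algebra A A₁] [CommRing D] [Algebra A D] [Module.Finite A D] (r : D) (N : ℕ)
    (e₁ : A₁ ⊗[A] D) (he₁ : IsIdempotentElem e₁)
    (he₁r : e₁ - (1 : A₁) ⊗ₜ[A] (r ^ (N + 1)) ∈ I.map (algebraMap A (A₁ ⊗[A] D))) :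
    ∃ f : A₁, f - 1 ∈ I.map (algebraMap A A₁) ∧ ∃ b : A₁ ⊗[A] D,
      e₁ * (f ⊗ₜ[A] (1 : D)) = e₁ * b * ((1 : A₁) ⊗ₜ[A] r) := by
  classical
  -- Step 3: Nakayama
  set 𝔞 : Ideal (A₁ ⊗[A] D) := Ideal.span {1 - e₁, (1 : A₁) ⊗ₜ[A] r} with h𝔞
  set I₁ : Ideal A₁ := I.map (algebraMap A A₁) with hI₁
  have hfinM : Module.Finite A₁ ((A₁ ⊗[A] D) ⧸ 𝔞) :=
    Module.Finite.of_surjective (Ideal.Quotient.mkₐ A₁ 𝔞).toLinearMap
      (Ideal.Quotient.mkₐ_surjective A₁ 𝔞)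
  have hmapT : I₁.map (algebraMap A₁ (A₁ ⊗[A] D)) = I.map (algebraMap A (A₁ ⊗[A] D)) := by
    rw [hI₁, Ideal.map_map, ← IsScalarTower.algebraMap_eq]
  have hsm : ∀ z ∈ I₁ • (⊤ : Submodule A₁ (A₁ ⊗[A] D)),
      Ideal.Quotient.mk 𝔞 z ∈ I₁ • (⊤ : Submodule A₁ ((A₁ ⊗[A] D) ⧸ 𝔞)) := by
    intro z hz
    refine Submodule.smul_induction_on hz ?_ ?_
    · intro a ha t _
      have : Ideal.Quotient.mk 𝔞 (a • t) = a • Ideal.Quotient.mk 𝔞 t := rfl
      rw [this]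
      exact Submodule.smul_mem_smul ha trivial
    · intro x y hx hy
      rw [map_add]
      exact Submodule.add_mem _ hx hy
  have hle : (⊤ : Submodule A₁ ((A₁ ⊗[A] D) ⧸ 𝔞)) ≤ I₁ • ⊤ := by
    rintro y -
    obtain ⟨t, rfl⟩ := Ideal.Quotient.mk_surjective y
    have e1 : t = t * (e₁ - (1 : A₁) ⊗ₜ[A] (r ^ (N + 1))) +
        (t * (1 - e₁) + t * ((1 : A₁) ⊗ₜ[A] (r ^ N)) * ((1 : A₁) ⊗ₜ[A] r)) := by
      rw [mul_assoc, Algebra.TensorProduct.tmul_mul_tmul, one_mul, ← pow_succ]; ring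
    have h𝔞1 : t * (1 - e₁) + t * ((1 : A₁) ⊗ₜ[A] (r ^ N)) * ((1 : A₁) ⊗ₜ[A] r) ∈ 𝔞 :=
      Ideal.add_mem _ (Ideal.mul_mem_left _ _ (Ideal.subset_span (by simp)))
        (Ideal.mul_mem_left _ _ (Ideal.subset_span (by simp)))
    have e2 : Ideal.Quotient.mk 𝔞 t =
        Ideal.Quotient.mk 𝔞 (t * (e₁ - (1 : A₁) ⊗ₜ[A] (r ^ (N + 1)))) := by
      rw [Ideal.Quotient.eq]
      have : t - t * (e₁ - (1 : A₁) ⊗ₜ[A] (r ^ (N + 1))) =
          t * (1 - e₁) + t * ((1 : A₁) ⊗ₜ[A] (r ^ N)) * ((1 : A₁) ⊗ₜ[A] r) := by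
        nth_rewrite 1 [e1]; ring
      rw [this]; exact h𝔞1
    rw [e2]
    apply hsm
    rw [Ideal.smul_top_eq_map, Submodule.restrictScalars_mem, hmapT]
    exact Ideal.mul_mem_left _ _ he₁r
  obtain ⟨f, hf1, hf⟩ := Submodule.exists_sub_one_mem_and_smul_eq_zero_of_fg_of_le_smul I₁
    (⊤ : Submodule A₁ ((A₁ ⊗[A] D) ⧸ 𝔞)) Module.Finite.fg_top hle
  have hfa : f ⊗ₜ[A] (1 : D) ∈ 𝔞 := by
    have := hf (Ideal.Quotient.mk 𝔞 1) trivial
    have h2 : f • Ideal.Quotient.mk 𝔞 (1 : (A₁ ⊗[A] D)) = Ideal.Quotient.mk 𝔞 (f ⊗ₜ[A] (1 : D)) := by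
      change Ideal.Quotient.mk 𝔞 (f • (1 : (A₁ ⊗[A] D))) = _
      rw [Algebra.TensorProduct.one_def, TensorProduct.smul_tmul', smul_eq_mul, mul_one]
    rw [h2] at this
    exact Ideal.Quotient.eq_zero_iff_mem.mp this
  obtain ⟨a, b, hab⟩ := Ideal.mem_span_pair.mp hfa
  have hkey : e₁ * (f ⊗ₜ[A] (1 : D)) = e₁ * b * ((1 : A₁) ⊗ₜ[A] r) := by
    have h0 : e₁ * (1 - e₁) = 0 := by rw [mul_sub, mul_one, he₁.eq, sub_self]
    rw [← hab, mul_add, mul_left_comm, h0, mul_zero, zero_add, mul_assoc]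
  exact ⟨f, hf1, b, hkey⟩

set_option maxHeartbeats 1000000 in
/-- The main construction with the neighbourhood `A₂` and the idempotent `e` as inputs. -/
theorem nbhd_of_idempotent {A : Type u} [CommRing A] (I : Ideal A) {B D : Type u}
    [CommRing B] [CommRing D] [Algebra A B] [Algebra A D] [Algebra D B] [IsScalarTower A D B]
    [Module.Finite A D]
    (hinj : Function.Injective (algebraMap D B)) (r : D) (N : ℕ)
    (h1 : ∀ x : B, ∃ m : ℕ, ∃ d : D, algebraMap D B d = algebraMap D B r ^ m * x)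
    (h2 : algebraMap D B r - 1 ∈ I.map (algebraMap A B))
    (A₂ : Type u) [CommRing A₂] [Algebra A A₂] (hgood : IsGood I A₂)
    (e c : A₂ ⊗[A] D) (he : IsIdempotentElem e)
    (her : e - (1 : A₂) ⊗ₜ[A] (r ^ (N + 1)) ∈ I.map (algebraMap A (A₂ ⊗[A] D)))
    (hec : e * ((1 : A₂) ⊗ₜ[A] r) * c = e) :
    ∃ (_ : Algebra B ((A₂ ⊗[A] D) ⧸ Ideal.span {1 - e}))
      (_ : IsScalarTower A B ((A₂ ⊗[A] D) ⧸ Ideal.span {1 - e})),
      Algebra.Etale B ((A₂ ⊗[A] D) ⧸ Ideal.span {1 - e}) ∧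
      (∀ c' : (A₂ ⊗[A] D) ⧸ Ideal.span {1 - e}, ∃ b : B,
        c' - algebraMap B _ b ∈ I.map (algebraMap A ((A₂ ⊗[A] D) ⧸ Ideal.span {1 - e}))) ∧
      (∀ b : B, algebraMap B ((A₂ ⊗[A] D) ⧸ Ideal.span {1 - e}) b ∈
        I.map (algebraMap A ((A₂ ⊗[A] D) ⧸ Ideal.span {1 - e})) → b ∈ I.map (algebraMap A B)) := by
  classical
  have hA₂ : Algebra.Etale A A₂ := hgood.1
  have hQB : QuotBij I A₂ := hgood.quotBij I
  letI algDT : Algebra D (A₂ ⊗[A] D) := Algebra.TensorProduct.rightAlgebra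
  have hDT : ∀ d : D, algebraMap D (A₂ ⊗[A] D) d = (1 : A₂) ⊗ₜ[A] d := fun d => rfl
  haveI : IsScalarTower A D (A₂ ⊗[A] D) := Algebra.TensorProduct.right_isScalarTower
  haveI etDT : Algebra.Etale D (A₂ ⊗[A] D) :=
    Algebra.Etale.of_equiv (Algebra.TensorProduct.commRight A D A₂)
  set 𝔠 : Ideal (A₂ ⊗[A] D) := Ideal.span {1 - e} with h𝔠
  haveI locC : IsLocalization.Away e ((A₂ ⊗[A] D) ⧸ 𝔠) :=
    IsLocalization.Away.quotient_of_isIdempotentElem he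
  haveI etTC : Algebra.Etale (A₂ ⊗[A] D) ((A₂ ⊗[A] D) ⧸ 𝔠) := Algebra.Etale.of_isLocalizationAway e
  haveI etDC : Algebra.Etale D ((A₂ ⊗[A] D) ⧸ 𝔠) :=
    Algebra.Etale.comp D (A₂ ⊗[A] D) ((A₂ ⊗[A] D) ⧸ 𝔠)
  have hDC : ∀ d : D, algebraMap D ((A₂ ⊗[A] D) ⧸ 𝔠) d =
      Ideal.Quotient.mk 𝔠 ((1 : A₂) ⊗ₜ[A] d) := fun d => rfl
  have hmke : Ideal.Quotient.mk 𝔠 e = 1 := by
    have : Ideal.Quotient.mk 𝔠 (1 - e) = 0 :=
      Ideal.Quotient.eq_zero_iff_mem.mpr (Ideal.subset_span rfl)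
    rw [map_sub, map_one, sub_eq_zero] at this
    exact this.symm
  have hunit : IsUnit (algebraMap D ((A₂ ⊗[A] D) ⧸ 𝔠) r) := by
    rw [hDC]
    have := congrArg (Ideal.Quotient.mk 𝔠) hec
    rw [map_mul, map_mul, hmke, one_mul] at this
    exact IsUnit.of_mul_eq_one _ this
  -- the localization `L = B[1/r]`, also a localization of `D`
  set L := Localization.Away (algebraMap D B r) with hL
  haveI locL : IsLocalization.Away r L := isLocalization_away_of_forall_exists hinj r h1 L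
  letI algLC : Algebra L ((A₂ ⊗[A] D) ⧸ 𝔠) := (IsLocalization.Away.lift r hunit).toAlgebra
  haveI : IsScalarTower D L ((A₂ ⊗[A] D) ⧸ 𝔠) :=
    IsScalarTower.of_algebraMap_eq (fun d => (IsLocalization.Away.lift_eq r hunit d).symm)
  haveI feLC : Algebra.FormallyEtale L ((A₂ ⊗[A] D) ⧸ 𝔠) :=
    Algebra.FormallyEtale.localization_base (Submonoid.powers r)
  haveI : Algebra.FinitePresentation D L := IsLocalization.Away.finitePresentation r
  haveI fpLC : Algebra.FinitePresentation L ((A₂ ⊗[A] D) ⧸ 𝔠) :=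
    Algebra.FinitePresentation.of_restrict_scalars_finitePresentation D L _
  haveI etLC : Algebra.Etale L ((A₂ ⊗[A] D) ⧸ 𝔠) := ⟨feLC, fpLC⟩
  letI algBC : Algebra B ((A₂ ⊗[A] D) ⧸ 𝔠) :=
    ((algebraMap L ((A₂ ⊗[A] D) ⧸ 𝔠)).comp (algebraMap B L)).toAlgebra
  haveI : IsScalarTower B L ((A₂ ⊗[A] D) ⧸ 𝔠) := IsScalarTower.of_algebraMap_eq (fun _ => rfl)
  haveI etBL : Algebra.Etale B L := Algebra.Etale.of_isLocalizationAway (algebraMap D B r)
  haveI etBC : Algebra.Etale B ((A₂ ⊗[A] D) ⧸ 𝔠) := Algebra.Etale.comp B L _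
  have hDBC : ∀ d : D, algebraMap B ((A₂ ⊗[A] D) ⧸ 𝔠) (algebraMap D B d) =
      algebraMap D ((A₂ ⊗[A] D) ⧸ 𝔠) d := by
    intro d
    change algebraMap L ((A₂ ⊗[A] D) ⧸ 𝔠) (algebraMap D L d) = _
    rw [← IsScalarTower.algebraMap_apply D L]
  haveI towerABC : IsScalarTower A B ((A₂ ⊗[A] D) ⧸ 𝔠) := by
    refine IsScalarTower.of_algebraMap_eq (fun a => ?_)
    rw [IsScalarTower.algebraMap_apply A D B, hDBC,
      ← IsScalarTower.algebraMap_apply A D ((A₂ ⊗[A] D) ⧸ 𝔠)]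
  have hmapC : ∀ z : A₂ ⊗[A] D, z ∈ I.map (algebraMap A (A₂ ⊗[A] D)) →
      Ideal.Quotient.mk 𝔠 z ∈ I.map (algebraMap A ((A₂ ⊗[A] D) ⧸ 𝔠)) := fun z hz =>
    map_mem_map_of_algHom I (Ideal.Quotient.mkₐ A 𝔠) hz
  have hpowr : ∀ k : ℕ, algebraMap D B r ^ k - 1 ∈ I.map (algebraMap A B) := fun k =>
    (onePlus I B).pow_mem h2 k
  refine ⟨algBC, towerABC, etBC, ?_, ?_⟩
  · intro c'
    obtain ⟨t, rfl⟩ := Ideal.Quotient.mk_surjective c'
    obtain ⟨d, hd⟩ := exists_sub_one_tmul_mem I hQB t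
    refine ⟨algebraMap D B d, ?_⟩
    rw [hDBC, hDC, ← map_sub]
    exact hmapC _ hd
  · intro b hb
    obtain ⟨m, d, hd⟩ := h1 b
    have h4 : Ideal.Quotient.mk 𝔠 ((1 : A₂) ⊗ₜ[A] d) ∈
        I.map (algebraMap A ((A₂ ⊗[A] D) ⧸ 𝔠)) := by
      rw [← hDC, ← hDBC, hd, map_mul]
      exact Ideal.mul_mem_left _ _ hb
    -- pull back along the quotient map
    have h5 : e * ((1 : A₂) ⊗ₜ[A] d) ∈ I.map (algebraMap A (A₂ ⊗[A] D)) := by
      have hmm : I.map (algebraMap A ((A₂ ⊗[A] D) ⧸ 𝔠)) =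
          (I.map (algebraMap A (A₂ ⊗[A] D))).map (Ideal.Quotient.mk 𝔠) := by
        rw [Ideal.map_map]
        rfl
      rw [hmm, Ideal.mem_map_iff_of_surjective _ Ideal.Quotient.mk_surjective] at h4
      obtain ⟨i, hi, hi2⟩ := h4
      rw [Ideal.Quotient.eq, h𝔠, Ideal.mem_span_singleton'] at hi2
      obtain ⟨w, hw⟩ := hi2
      have h0 : e * (1 - e) = 0 := by rw [mul_sub, mul_one, he.eq, sub_self]
      have : e * ((1 : A₂) ⊗ₜ[A] d) = e * i - w * (e * (1 - e)) := by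
        have : (1 : A₂) ⊗ₜ[A] d = i - w * (1 - e) := by rw [hw]; ring
        rw [this]; ring
      rw [this, h0, mul_zero, sub_zero]
      exact Ideal.mul_mem_left _ _ hi
    have h6 : (1 : A₂) ⊗ₜ[A] (r ^ (N + 1) * d) ∈ I.map (algebraMap A (A₂ ⊗[A] D)) := by
      have : (1 : A₂) ⊗ₜ[A] (r ^ (N + 1) * d) =
          e * ((1 : A₂) ⊗ₜ[A] d) - (e - (1 : A₂) ⊗ₜ[A] (r ^ (N + 1))) * ((1 : A₂) ⊗ₜ[A] d) := by
        rw [sub_mul, Algebra.TensorProduct.tmul_mul_tmul, one_mul]; ring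
      rw [this]
      exact Ideal.sub_mem _ h5 (Ideal.mul_mem_right _ _ her)
    have h7 : r ^ (N + 1) * d ∈ I.map (algebraMap A D) := mem_map_of_one_tmul_mem I hQB _ h6
    have h8 : algebraMap D B r ^ (N + 1 + m) * b ∈ I.map (algebraMap A B) := by
      have := map_mem_map_of_algHom I (IsScalarTower.toAlgHom A D B) h7
      rw [IsScalarTower.coe_toAlgHom', map_mul, map_pow, hd] at this
      rw [pow_add, mul_assoc]
      exact this
    have : b = algebraMap D B r ^ (N + 1 + m) * b - (algebraMap D B r ^ (N + 1 + m) - 1) * b := by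
      ring
    rw [this]
    exact Ideal.sub_mem _ h8 (Ideal.mul_mem_right _ _ (hpowr _))


theorem quotBij_of_surj_ker {A : Type*} [CommRing A] (I : Ideal A) {R C : Type*} [CommRing R]
    [CommRing C] [Algebra A R] [Algebra A C] [Algebra R C] [IsScalarTower A R C]
    (hsurj : ∀ c' : C, ∃ b : R, c' - algebraMap R C b ∈ I.map (algebraMap A C))
    (hker : ∀ b : R, algebraMap R C b ∈ I.map (algebraMap A C) → b ∈ I.map (algebraMap A R)) :
    QuotBij (I.map (algebraMap A R)) C := by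
  have hmm : (I.map (algebraMap A R)).map (algebraMap R C) = I.map (algebraMap A C) := by
    rw [Ideal.map_map, ← IsScalarTower.algebraMap_eq]
  refine ⟨fun c' => ?_, fun x hx => ?_⟩
  · obtain ⟨x, hx⟩ := hsurj c'
    exact ⟨x, hmm ▸ hx⟩
  · exact hker x (hmm ▸ hx)

theorem isGood_self {A : Type u} [CommRing A] (I : Ideal A) : IsGood I A := by
  refine ⟨inferInstance, (quotBij_iff I).mp ⟨fun c => ⟨c, by simp⟩, fun a ha => ?_⟩⟩
  rwa [Algebra.algebraMap_self, Ideal.map_id] at ha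

set_option maxHeartbeats 2000000 in
/-- Over a henselian pair `(A, I)`: a finite type algebra `R` with `R/IR` finite has a good étale
neighbourhood `C` (of `V(IR)`) which is finite over `A`. -/
theorem exists_finite_good_of_henselian {A : Type u} [CommRing A] (I : Ideal A) [HenselianRing A I]
    {R : Type u} [CommRing R] [Algebra A R] [Algebra.FiniteType A R]
    (hfin : Module.Finite A (R ⧸ I.map (algebraMap A R))) :
    ∃ (C : Type u) (_ : CommRing C) (_ : Algebra A C) (_ : Algebra R C) (_ : IsScalarTower A R C),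
      Algebra.Etale R C ∧ Module.Finite A C ∧ QuotBij (I.map (algebraMap A R)) C := by
  classical
  obtain ⟨r, hr, hr1, hrx⟩ := exists_integral_sub_one_mem I hfin
  obtain ⟨D, hrD, hfg, hx, N, hN⟩ := exists_finite_subalgebra I r hr hr1 hrx
  have hfinD : Module.Finite A D := ⟨(Submodule.fg_top _).mpr hfg⟩
  have hinj : Function.Injective (algebraMap D R) := Subtype.val_injective
  have h1 : ∀ x : R, ∃ m : ℕ, ∃ d : D,
      algebraMap D R d = algebraMap D R (⟨r, hrD⟩ : D) ^ m * x := by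
    intro x
    obtain ⟨m, hm⟩ := hx x
    exact ⟨m, ⟨_, hm⟩, rfl⟩
  have h2 : algebraMap D R (⟨r, hrD⟩ : D) - 1 ∈ I.map (algebraMap A R) := hr1
  generalize (⟨r, hrD⟩ : D) = r' at hN h1 h2
  have hintT : Algebra.IsIntegral A (A ⊗[A] D) := Algebra.IsIntegral.of_finite A _
  have hgeom : 1 - r' ^ (N + 1) = (1 - r') * ∑ i ∈ Finset.range (N + 1), r' ^ i :=
    (mul_neg_geom_sum r' (N + 1)).symm
  have hid : r' ^ (N + 1) * r' ^ (N + 1) - r' ^ (N + 1) ∈ I.map (algebraMap A D) := by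
    have : r' ^ (N + 1) * r' ^ (N + 1) - r' ^ (N + 1) =
        -((r' * ∑ i ∈ Finset.range (N + 1), r' ^ i) * (r' ^ N * (1 - r'))) := by
      have : r' ^ (N + 1) * r' ^ (N + 1) - r' ^ (N + 1) =
          -(r' ^ (N + 1) * (1 - r' ^ (N + 1))) := by ring
      rw [this, hgeom, pow_succ]; ring
    rw [this]
    exact Ideal.neg_mem_iff _ |>.mpr (Ideal.mul_mem_left _ _ hN)
  have hb₀ : ((1 : A) ⊗ₜ[A] (r' ^ (N + 1))) * ((1 : A) ⊗ₜ[A] (r' ^ (N + 1))) -
      (1 : A) ⊗ₜ[A] (r' ^ (N + 1)) ∈ I.map (algebraMap A (A ⊗[A] D)) := by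
    have := map_mem_map_of_algHom I (Algebra.TensorProduct.includeRight : D →ₐ[A] A ⊗[A] D) hid
    rwa [map_sub, map_mul, Algebra.TensorProduct.includeRight_apply] at this
  obtain ⟨e, he, heb⟩ := Groth.Agent.Lib.Helper37.exists_idempotent_lift I _ hb₀
  obtain ⟨f, hf1, b, hkey⟩ := exists_mul_eq_of_idempotent I r' N e he heb
  have hjac : I.map (algebraMap A A) ≤ Ideal.jacobson ⊥ := by
    rw [Algebra.algebraMap_self, Ideal.map_id]
    exact HenselianRing.jac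
  have hfu : IsUnit f := isUnit_of_mem_onePlus I hjac hf1
  obtain ⟨u, hu⟩ := hfu.exists_right_inv
  have hec : e * ((1 : A) ⊗ₜ[A] r') * (b * (u ⊗ₜ[A] (1 : D))) = e := by
    calc e * ((1 : A) ⊗ₜ[A] r') * (b * (u ⊗ₜ[A] (1 : D)))
        = (e * b * ((1 : A) ⊗ₜ[A] r')) * (u ⊗ₜ[A] (1 : D)) := by ring
      _ = e * (f ⊗ₜ[A] (1 : D)) * (u ⊗ₜ[A] (1 : D)) := by rw [← hkey]
      _ = e := by
        rw [mul_assoc, Algebra.TensorProduct.tmul_mul_tmul, hu, mul_one,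
          ← Algebra.TensorProduct.one_def, mul_one]
  obtain ⟨algRC, tower, hEt, hsurj, hker⟩ :=
    nbhd_of_idempotent I hinj r' N h1 h2 A (isGood_self I) e (b * (u ⊗ₜ[A] (1 : D))) he heb hec
  exact ⟨(A ⊗[A] D) ⧸ Ideal.span ({1 - e} : Set (A ⊗[A] D)), inferInstance, inferInstance, algRC,
    tower, hEt, inferInstance, quotBij_of_surj_ker I hsurj hker⟩

end Groth.Agent.Lib.Helper90.QFNbhd
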