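import Mathlib
import Groth.Prelude.Def_EssEt
import Groth.Agent.Lib.Helper14.EssEtale

set_option autoImplicit false
set_option linter.style.haveILetI false
set_option linter.unusedSectionVars false
universe u

namespace Groth.Agent.Lib.Helper90.FracEssEt

section Base
variable {A : Type*} [CommRing A] [IsReduced A]

/-- In a reduced ring with finitely many minimal primes, a prime missing all non-zero-divisors
is a minimal prime. -/
theorem mem_minimalPrimes_of_disjoint (hmin : (minimalPrimes A).Finite) (p : Ideal A)
    [hp : p.IsPrime] (hd : Disjoint (p : Set A) (nonZeroDivisors A)) : p ∈ minimalPrimes A := by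
  classical
  have hsub : (p : Set A) ⊆ ⋃ q ∈ ((hmin.toFinset : Finset (Ideal A)) : Set (Ideal A)),
      ((id q : Ideal A) : Set A) := by
    intro x hx
    have hx' : x ∉ nonZeroDivisors A := fun h => Set.disjoint_left.mp hd hx h
    rw [mem_nonZeroDivisors_iff_right] at hx'
    push Not at hx'
    obtain ⟨y, hxy, hy⟩ := hx'
    have hmem : x ∈ ⋃ q ∈ (⊥ : Ideal A).minimalPrimes, (q : Set A) := by
      rw [Ideal.iUnion_minimalPrimes]
      refine ⟨y, ?_, ?_⟩
      · rw [(Ideal.radical_eq_iff.mpr (by
          exact (Ideal.isRadical_bot_iff.mpr ‹_›)) : (⊥ : Ideal A).radical = ⊥)]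
        simpa using hy
      · rw [mul_comm, hxy]; exact Ideal.zero_mem _
    simp only [Set.mem_iUnion] at hmem ⊢
    obtain ⟨q, hq, hxq⟩ := hmem
    exact ⟨q, by simpa [minimalPrimes] using hq, hxq⟩
  obtain ⟨q, hq, hpq⟩ := (Ideal.subset_union_prime (f := id) ⊥ ⊥ (by
    intro i hi _ _
    have : i ∈ minimalPrimes A := by simpa using hi
    exact this.1.1)).mp hsub
  have hq' : q ∈ minimalPrimes A := by simpa using hq
  have : q ≤ p := hq'.2 ⟨hp, bot_le⟩ hpq
  have : p = q := le_antisymm hpq this
  rw [this]; exact hq'

/-- The contraction of a prime of the total ring of fractions is a minimal prime. -/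
theorem comap_mem_minimalPrimes (hmin : (minimalPrimes A).Finite)
    (P : Ideal (FractionRing A)) [hP : P.IsPrime] :
    P.comap (algebraMap A (FractionRing A)) ∈ minimalPrimes A := by
  have h := (IsLocalization.isPrime_iff_isPrime_disjoint (nonZeroDivisors A)
    (FractionRing A) P).mp hP
  haveI := h.1
  exact mem_minimalPrimes_of_disjoint hmin _ h.2.symm

/-- The total ring of fractions of a reduced ring with finitely many minimal primes is
artinian. -/
theorem isArtinianRing_fractionRing (hmin : (minimalPrimes A).Finite) :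
    IsArtinianRing (FractionRing A) := by
  classical
  have hc : ∀ (P : Ideal (FractionRing A)) [P.IsPrime],
      P.comap (algebraMap A (FractionRing A)) ∈ minimalPrimes A :=
    fun P _ => comap_mem_minimalPrimes hmin P
  have hmc : ∀ P : Ideal (FractionRing A),
      (P.comap (algebraMap A (FractionRing A))).map (algebraMap A (FractionRing A)) = P :=
    fun P => IsLocalization.map_under (nonZeroDivisors A) (FractionRing A) P
  haveI : Finite (PrimeSpectrum (FractionRing A)) := by
    haveI : Finite (minimalPrimes A) := hmin.to_subtype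
    refine Finite.of_injective (fun P : PrimeSpectrum (FractionRing A) =>
      (⟨P.asIdeal.comap (algebraMap A (FractionRing A)), hc P.asIdeal⟩ : minimalPrimes A)) ?_
    intro P Q h
    have h' : P.asIdeal.comap (algebraMap A (FractionRing A)) =
        Q.asIdeal.comap (algebraMap A (FractionRing A)) := congrArg Subtype.val h
    ext1
    rw [← hmc P.asIdeal, ← hmc Q.asIdeal, h']
  haveI : Ring.KrullDimLE 0 (FractionRing A) := .mk₀ fun I hI => by
    obtain ⟨m, hm, hIm⟩ := Ideal.exists_le_maximal I hI.ne_top
    haveI := hm.isPrime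
    have h1 := hc I
    have h2 := hc m
    have hle : I.comap (algebraMap A (FractionRing A)) ≤
        m.comap (algebraMap A (FractionRing A)) := Ideal.comap_mono hIm
    have hge : m.comap (algebraMap A (FractionRing A)) ≤
        I.comap (algebraMap A (FractionRing A)) := h2.2 ⟨h1.1.1, bot_le⟩ hle
    have : I = m := by rw [← hmc I, ← hmc m, le_antisymm hle hge]
    rw [this]; exact hm
  haveI : DiscreteTopology (PrimeSpectrum (FractionRing A)) :=
    PrimeSpectrum.discreteTopology_iff_finite_and_krullDimLE_zero.mpr
      ⟨inferInstance, inferInstance⟩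
  have hloc : ∀ p : PrimeSpectrum (FractionRing A),
      IsArtinianRing (Localization.AtPrime p.asIdeal) := by
    intro p
    haveI : Ring.KrullDimLE 0 (Localization.AtPrime p.asIdeal) :=
      Ring.KrullDimLE.of_isLocalization p.asIdeal
        (by rw [Ring.KrullDimLE.minimalPrimes_eq_setOfPred_isPrime]; exact p.2) _
    have hF : IsField (Localization.AtPrime p.asIdeal) := Ring.KrullDimLE.isField_of_isReduced
    letI := hF.toField
    infer_instance
  haveI : IsArtinianRing (PrimeSpectrum.PiLocalization (FractionRing A)) := by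
    unfold PrimeSpectrum.PiLocalization
    infer_instance
  exact (PrimeSpectrum.toPiLocalizationEquiv (FractionRing A)).symm.toRingEquiv.isArtinianRing

end Base

section Clear

/-- Clearing denominators: a finite module over a localization `K` of `A` is, up to
multiplication by elements of the submonoid, spanned over `A` by a finite set. -/
theorem exists_finset_smul_mem_span {A K N : Type*} [CommRing A] (M : Submonoid A) [CommRing K]
    [Algebra A K] [IsLocalization M K] [AddCommGroup N] [Module A N] [Module K N]
    [IsScalarTower A K N] [Module.Finite K N] :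
    ∃ t : Finset N, ∀ x : N, ∃ a ∈ M, a • x ∈ Submodule.span A (t : Set N) := by
  obtain ⟨t, ht⟩ := (Module.Finite.fg_top : (⊤ : Submodule K N).FG)
  refine ⟨t, fun x => ?_⟩
  have hx : x ∈ Submodule.span K (t : Set N) := ht ▸ Submodule.mem_top
  induction hx using Submodule.span_induction with
  | mem x hx => exact ⟨1, M.one_mem, by rw [one_smul]; exact Submodule.subset_span hx⟩
  | zero => exact ⟨1, M.one_mem, by simp⟩
  | add x y _ _ hx hy =>
    obtain ⟨a, ha, hax⟩ := hx
    obtain ⟨b, hb, hby⟩ := hy
    refine ⟨a * b, M.mul_mem ha hb, ?_⟩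
    rw [smul_add]
    refine Submodule.add_mem _ ?_ ?_
    · rw [mul_comm, mul_smul]; exact Submodule.smul_mem _ _ hax
    · rw [mul_smul]; exact Submodule.smul_mem _ _ hby
  | smul c x _ hx =>
    obtain ⟨a, ha, hax⟩ := hx
    obtain ⟨⟨r, s⟩, hrs⟩ := IsLocalization.surj M c
    refine ⟨s * a, M.mul_mem s.2 ha, ?_⟩
    have h1 : (s : A) • c = algebraMap A K r := by
      rw [Algebra.smul_def, mul_comm]; exact hrs
    have : ((s : A) * a) • (c • x) = r • (a • x) := by
      rw [mul_smul, smul_comm a c x, ← smul_assoc, h1, algebraMap_smul]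
    rw [this]
    exact Submodule.smul_mem _ _ hax

end Clear

section Ext
variable {A : Type*} [CommRing A] [IsReduced A] {E : Type*} [CommRing E] [Algebra A E]
  [Module.Flat A E] [Algebra.QuasiFinite A E]

omit [IsReduced A] [Algebra.QuasiFinite A E] in
theorem map_nzd_le :
    Algebra.algebraMapSubmonoid E (nonZeroDivisors A) ≤ nonZeroDivisors E := by
  rintro _ ⟨a, ha, rfl⟩
  have hreg : IsSMulRegular E a := Module.Flat.isSMulRegular_of_nonZeroDivisors ha
  rw [mem_nonZeroDivisors_iff_right]
  intro x hx
  apply hreg.right_eq_zero_of_smul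
  rw [Algebra.smul_def, mul_comm]
  exact hx

theorem isUnit_of_mem_nzd (hmin : (minimalPrimes A).Finite) (e : E)
    (he : e ∈ nonZeroDivisors E) :
    IsUnit (algebraMap E (Localization (Algebra.algebraMapSubmonoid E (nonZeroDivisors A))) e) := by
  by_contra hu
  obtain ⟨Q, hQ, heQ⟩ := exists_max_ideal_of_mem_nonunits hu
  have h := (IsLocalization.isPrime_iff_isPrime_disjoint
    (Algebra.algebraMapSubmonoid E (nonZeroDivisors A)) _ Q).mp hQ.isPrime
  obtain ⟨P, hP⟩ : ∃ P : Ideal E, P = Q.comap (algebraMap E _) := ⟨_, rfl⟩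
  haveI : P.IsPrime := hP ▸ h.1
  have hdisj : Disjoint ((Algebra.algebraMapSubmonoid E (nonZeroDivisors A) : Submonoid E) : Set E)
      (P : Set E) := hP ▸ h.2
  have heP : e ∈ P := hP ▸ heQ
  have hp : Disjoint ((P.under A : Ideal A) : Set A) (nonZeroDivisors A) := by
    rw [Set.disjoint_left]
    intro a haP ha
    exact Set.disjoint_left.mp hdisj ⟨a, ha, rfl⟩ haP
  have hpmin := mem_minimalPrimes_of_disjoint hmin (P.under A) hp
  obtain ⟨P', hP'min, hP'le⟩ := Ideal.exists_minimalPrimes_le (bot_le : ⊥ ≤ P)
  haveI := hP'min.1.1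
  have hunder : P'.under A = P.under A := by
    have hle : P'.under A ≤ P.under A := Ideal.comap_mono hP'le
    exact le_antisymm hle (hpmin.2 ⟨inferInstance, bot_le⟩ hle)
  have hPP : P' = P := Algebra.QuasiFinite.eq_of_le_of_under_eq (R := A) P' P hP'le hunder
  have hPmin : P ∈ minimalPrimes E := hPP ▸ hP'min
  exact notMem_nonZeroDivisors_of_mem_mem_minimalPrimes heP hPmin he

theorem isLocalization_fractionRing (hmin : (minimalPrimes A).Finite) :
    IsLocalization (Algebra.algebraMapSubmonoid E (nonZeroDivisors A)) (FractionRing E) := by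
  haveI : IsLocalization (nonZeroDivisors E)
      (Localization (Algebra.algebraMapSubmonoid E (nonZeroDivisors A))) :=
    IsLocalization.of_le (Algebra.algebraMapSubmonoid E (nonZeroDivisors A)) (nonZeroDivisors E)
      map_nzd_le (fun r hr => isUnit_of_mem_nzd hmin r hr)
  let e : Localization (Algebra.algebraMapSubmonoid E (nonZeroDivisors A)) ≃ₐ[E] FractionRing E :=
    IsLocalization.algEquiv (nonZeroDivisors E) _ _
  exact IsLocalization.isLocalization_of_algEquiv _ e

open TensorProduct in
theorem exists_finset_span (hmin : (minimalPrimes A).Finite) :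
    ∃ t : Finset (FractionRing E), ∀ x : FractionRing E, ∃ a ∈ nonZeroDivisors A,
      algebraMap A (FractionRing E) a * x ∈ Submodule.span A (t : Set (FractionRing E)) := by
  classical
  haveI : IsArtinianRing (FractionRing A) := isArtinianRing_fractionRing hmin
  haveI : Module.Finite (FractionRing A) (FractionRing A ⊗[A] E) := Module.Finite.of_quasiFinite
  obtain ⟨t', ht'⟩ := exists_finset_smul_mem_span (A := A) (K := FractionRing A)
    (N := FractionRing A ⊗[A] E) (nonZeroDivisors A)
  haveI : IsLocalization (nonZeroDivisors E)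
      (Localization (Algebra.algebraMapSubmonoid E (nonZeroDivisors A))) :=
    IsLocalization.of_le (Algebra.algebraMapSubmonoid E (nonZeroDivisors A)) (nonZeroDivisors E)
      map_nzd_le (fun r hr => isUnit_of_mem_nzd hmin r hr)
  let e : Localization (Algebra.algebraMapSubmonoid E (nonZeroDivisors A)) ≃ₐ[E] FractionRing E :=
    IsLocalization.algEquiv (nonZeroDivisors E) _ _
  let ψ : FractionRing A ⊗[A] E ≃+* FractionRing E :=
    (Localization.tensorRightAlgEquiv (nonZeroDivisors A) E).toRingEquiv.trans e.toRingEquiv
  have hψ1 : ∀ x : E, ψ (1 ⊗ₜ x) = algebraMap E (FractionRing E) x := by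
    intro x
    change e (Localization.tensorRightAlgEquiv (nonZeroDivisors A) E (1 ⊗ₜ x)) = _
    rw [Localization.tensorRightAlgEquiv_apply_one_tmul, e.commutes]
  have hψa : ∀ (a : A) (y : FractionRing A ⊗[A] E),
      ψ (a • y) = algebraMap A (FractionRing E) a * ψ y := by
    intro a y
    have h1 : a • y = ((1 : FractionRing A) ⊗ₜ[A] algebraMap A E a) * y := by
      rw [Algebra.algebraMap_eq_smul_one, TensorProduct.tmul_smul,
        ← Algebra.TensorProduct.one_def, smul_mul_assoc, one_mul]
    rw [h1, map_mul, hψ1, ← IsScalarTower.algebraMap_apply]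
  let ψl : FractionRing A ⊗[A] E →ₗ[A] FractionRing E :=
    { toFun := ψ
      map_add' := map_add ψ
      map_smul' := fun a y => by
        rw [RingHom.id_apply, Algebra.smul_def]
        exact hψa a y }
  refine ⟨t'.image ψ, fun x => ?_⟩
  obtain ⟨a, ha, hay⟩ := ht' (ψ.symm x)
  refine ⟨a, ha, ?_⟩
  have h2 := Submodule.apply_mem_span_image_of_mem_span ψl hay
  have h3 : ψl (a • ψ.symm x) = algebraMap A (FractionRing E) a * x := by
    change ψ (a • ψ.symm x) = _
    rw [hψa, ψ.apply_symm_apply]
  rw [h3] at h2
  rw [Finset.coe_image]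
  exact h2

end Ext

section EssEt

/-- An essentially etale local algebra is flat. -/
theorem flat_of_isEssentiallyEtale {A E : Type u} [CommRing A] [IsLocalRing A] [CommRing E]
    [Algebra A E] (hE : EGA4loc.IsEssentiallyEtale A E) : Module.Flat A E := by
  obtain ⟨C, _, _, q, _, hC, -, ⟨e⟩⟩ := hE
  haveI := hC
  haveI : Module.Flat A (Localization.AtPrime q) := Module.Flat.trans A C (Localization.AtPrime q)
  exact Module.Flat.of_linearEquiv e.toLinearEquiv

/-- An essentially etale local algebra is quasi-finite. -/
theorem quasiFinite_of_isEssentiallyEtale {A E : Type u} [CommRing A] [IsLocalRing A] [CommRing E]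
    [Algebra A E] (hE : EGA4loc.IsEssentiallyEtale A E) : Algebra.QuasiFinite A E := by
  obtain ⟨hunr, hess⟩ := Groth.Agent.Lib.Helper14.formallyUnramified_of_isEssentiallyEtale hE
  infer_instance

end EssEt

end Groth.Agent.Lib.Helper90.FracEssEt
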