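import Mathlib
import Groth.Agent.Lib.Helper90.FracEssEt

set_option autoImplicit false
set_option linter.style.haveILetI false
set_option linter.unusedSectionVars false
universe u

namespace Groth.Agent.Lib.Helper90.FracEssEt

open TensorProduct Polynomial

/-- Over an artinian ring, an integral element of an algebra is either a unit whose inverse is a
polynomial in it, or is killed by a nonzero polynomial expression in it. -/
theorem exists_poly_of_isIntegral {R T : Type*} [CommRing R] [IsArtinianRing R] [CommRing T]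
    [Algebra R T] (x : T) (hint : IsIntegral R x) :
    (IsUnit x → ∃ q : R[X], x * aeval x q = 1) ∧
    (¬ IsUnit x → ∃ q : R[X], aeval x q ≠ 0 ∧ x * aeval x q = 0) := by
  have : Module.Finite R (Algebra.adjoin R {x}) := Algebra.finite_adjoin_simple_of_isIntegral hint
  have : IsArtinianRing (Algebra.adjoin R {x}) := isArtinian_of_tower R inferInstance
  have hBinj : Function.Injective (Algebra.adjoin R {x}).subtype := Subtype.val_injective
  have hrange : ∀ c : Algebra.adjoin R {x}, ∃ q : R[X], (c : T) = aeval x q := by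
    intro c
    have hc : (c : T) ∈ (aeval (R := R) x).range := by
      rw [← Algebra.adjoin_singleton_eq_range_aeval]
      exact c.2
    obtain ⟨q, hq⟩ := hc
    exact ⟨q, hq.symm⟩
  obtain ⟨b, hb⟩ : ∃ b : Algebra.adjoin R {x}, (b : T) = x :=
    ⟨⟨x, Algebra.self_mem_adjoin_singleton _ x⟩, rfl⟩
  constructor
  · intro hxu
    have hbn : b ∈ nonZeroDivisors (Algebra.adjoin R {x}) :=
      comap_nonZeroDivisors_le_of_injective hBinj (by
        change (b : T) ∈ nonZeroDivisors T
        rw [hb]
        exact hxu.mem_nonZeroDivisors)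
    obtain ⟨c, hc⟩ := (IsArtinianRing.isUnit_of_mem_nonZeroDivisors hbn).exists_right_inv
    obtain ⟨q, hq⟩ := hrange c
    refine ⟨q, ?_⟩
    have h1 : (b : T) * (c : T) = 1 := congrArg Subtype.val hc
    rw [hb, hq] at h1
    exact h1
  · intro hxu
    have hbu : ¬ IsUnit b := fun h => hxu (hb ▸ h.map (Algebra.adjoin R {x}).subtype)
    have hbn : b ∉ nonZeroDivisors (Algebra.adjoin R {x}) :=
      fun h => hbu (IsArtinianRing.isUnit_of_mem_nonZeroDivisors h)
    rw [mem_nonZeroDivisors_iff_right] at hbn
    push Not at hbn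
    obtain ⟨g, hgb, hg⟩ := hbn
    obtain ⟨q, hq⟩ := hrange g
    refine ⟨q, ?_, ?_⟩
    · rw [← hq]
      exact fun h => hg (Subtype.ext h)
    · have h1 : (g : T) * (b : T) = 0 := congrArg Subtype.val hgb
      rw [hb, hq, mul_comm] at h1
      exact h1

section Ext2
variable {A : Type*} [CommRing A] [IsReduced A] {E : Type*} [CommRing E] [Algebra A E]
  [Module.Flat A E] [Algebra.QuasiFinite A E]

/-- The total ring of fractions of `E` is `K_A ⊗_A E`. -/
theorem exists_tensor_equiv (hmin : (minimalPrimes A).Finite) :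
    ∃ ψ : FractionRing A ⊗[A] E ≃+* FractionRing E,
      (∀ x : E, ψ (1 ⊗ₜ x) = algebraMap E (FractionRing E) x) ∧
      ∀ (a : A) (y : FractionRing A ⊗[A] E), ψ (a • y) = algebraMap A (FractionRing E) a * ψ y := by
  classical
  haveI : IsLocalization (nonZeroDivisors E)
      (Localization (Algebra.algebraMapSubmonoid E (nonZeroDivisors A))) :=
    IsLocalization.of_le (Algebra.algebraMapSubmonoid E (nonZeroDivisors A)) (nonZeroDivisors E)
      map_nzd_le (fun r hr => isUnit_of_mem_nzd hmin r hr)
  let e : Localization (Algebra.algebraMapSubmonoid E (nonZeroDivisors A)) ≃ₐ[E] FractionRing E :=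
    IsLocalization.algEquiv (nonZeroDivisors E) _ _
  let ψ : FractionRing A ⊗[A] E ≃+* FractionRing E :=
    (Localization.tensorRightAlgEquiv (nonZeroDivisors A) E).toRingEquiv.trans e.toRingEquiv
  have hψ1 : ∀ x : E, ψ (1 ⊗ₜ x) = algebraMap E (FractionRing E) x := by
    intro x
    change e (Localization.tensorRightAlgEquiv (nonZeroDivisors A) E (1 ⊗ₜ x)) = _
    rw [Localization.tensorRightAlgEquiv_apply_one_tmul, e.commutes]
  refine ⟨ψ, hψ1, ?_⟩
  intro a y
  have h1 : a • y = ((1 : FractionRing A) ⊗ₜ[A] algebraMap A E a) * y := by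
    rw [Algebra.algebraMap_eq_smul_one, TensorProduct.tmul_smul,
      ← Algebra.TensorProduct.one_def, smul_mul_assoc, one_mul]
  rw [h1, map_mul, hψ1, ← IsScalarTower.algebraMap_apply]

/-- Key lemma: for `e : E`, either `e` is a non-zero-divisor and becomes invertible up to a
non-zero-divisor of `A` by a polynomial in `e` over `A`, or `e` is killed by a nonzero polynomial
expression in `e` over `A`. -/
theorem exists_poly (hmin : (minimalPrimes A).Finite) (e : E) :
    (e ∈ nonZeroDivisors E → ∃ a ∈ nonZeroDivisors A, ∃ p : A[X],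
      e * aeval e p = algebraMap A E a) ∧
    (e ∉ nonZeroDivisors E → ∃ p : A[X], aeval e p ≠ 0 ∧ e * aeval e p = 0) := by
  classical
  obtain ⟨ψ, hψ1, hψa⟩ := exists_tensor_equiv (E := E) hmin
  haveI : IsArtinianRing (FractionRing A) := isArtinianRing_fractionRing hmin
  haveI : Module.Finite (FractionRing A) (FractionRing A ⊗[A] E) := Module.Finite.of_quasiFinite
  let ι : E →ₐ[A] FractionRing A ⊗[A] E := Algebra.TensorProduct.includeRight
  have hι : ∀ x, ι x = 1 ⊗ₜ x := fun x => rfl
  have hιinj : Function.Injective ι := by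
    intro x y h
    have h1 := congrArg ψ h
    rw [hι, hι, hψ1, hψ1] at h1
    exact IsFractionRing.injective E (FractionRing E) h1
  obtain ⟨x, hx⟩ : ∃ x, x = ι e := ⟨_, rfl⟩
  have hψx : ψ x = algebraMap E (FractionRing E) e := by rw [hx, hι, hψ1]
  have hint : IsIntegral (FractionRing A) x := Algebra.IsIntegral.isIntegral x
  have hunit_iff : IsUnit x ↔ e ∈ nonZeroDivisors E := by
    constructor
    · intro hxu
      have h1 : IsUnit (ψ x) := hxu.map ψ
      rw [hψx] at h1
      rw [mem_nonZeroDivisors_iff_right]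
      intro z hz
      have h2 : algebraMap E (FractionRing E) z * algebraMap E (FractionRing E) e = 0 := by
        rw [← map_mul, hz, map_zero]
      have h3 := h1.mul_left_eq_zero.mp h2
      exact IsFractionRing.injective E (FractionRing E) (h3.trans (map_zero _).symm)
    · intro he
      have h1 : IsUnit (algebraMap E (FractionRing E) e) :=
        IsLocalization.map_units (FractionRing E) ⟨e, he⟩
      have h2 : IsUnit (ψ x) := by rw [hψx]; exact h1
      have h3 := h2.map ψ.symm
      rwa [ψ.symm_apply_apply] at h3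
  obtain ⟨hP1, hP2⟩ := exists_poly_of_isIntegral x hint
  -- clearing denominators
  have hclear : ∀ q : (FractionRing A)[X], ∃ a ∈ nonZeroDivisors A, ∃ p : A[X],
      ι (aeval e p) = a • aeval x q := by
    intro q
    obtain ⟨a, ha, hq⟩ := IsLocalization.integerNormalization_spec (nonZeroDivisors A) q
    refine ⟨a, ha, IsLocalization.integerNormalization (nonZeroDivisors A) q, ?_⟩
    rw [← Polynomial.aeval_algHom_apply, ← hx, ← Polynomial.aeval_map_algebraMap (FractionRing A),
      hq, ← algebraMap_smul (FractionRing A) a q, map_smul, algebraMap_smul]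
  constructor
  · intro he
    have hxu : IsUnit x := hunit_iff.mpr he
    obtain ⟨q, hxq⟩ := hP1 hxu
    obtain ⟨a, ha, p, hp⟩ := hclear q
    refine ⟨a, ha, p, hιinj ?_⟩
    rw [map_mul, hp, ← hx, mul_smul_comm, hxq, AlgHom.commutes, Algebra.algebraMap_eq_smul_one]
  · intro he
    have hxu : ¬ IsUnit x := fun h => he (hunit_iff.mp h)
    obtain ⟨q, hq0, hxq⟩ := hP2 hxu
    obtain ⟨a, ha, p, hp⟩ := hclear q
    have hu : IsUnit (algebraMap A (FractionRing A) a) :=
      IsLocalization.map_units (FractionRing A) ⟨a, ha⟩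
    refine ⟨p, ?_, hιinj ?_⟩
    · intro h0
      rw [h0, map_zero, ← algebraMap_smul (FractionRing A) a] at hp
      exact hq0 (hu.smul_eq_zero.mp hp.symm)
    · rw [map_mul, hp, ← hx, mul_smul_comm, hxq, smul_zero, map_zero]

/-- The intersection of `E` with an intermediate ring between the total rings of fractions is a
local ring dominated by `E` whose total ring of fractions is the intermediate ring. -/
theorem exists_local_inter (hmin : (minimalPrimes A).Finite) [IsLocalRing E]
    (L : Subalgebra A (FractionRing E))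
    (hL : ∀ s ∈ nonZeroDivisors A, ∃ y ∈ L, algebraMap A (FractionRing E) s * y = 1) :
    ∃ D : Subalgebra A E,
      (D : Set E) = (algebraMap E (FractionRing E)) ⁻¹' (L : Set (FractionRing E)) ∧
      ∃ _ : IsLocalRing D, IsLocalHom (algebraMap D E) ∧
        ∀ l ∈ L, ∃ d ∈ D, ∃ s ∈ nonZeroDivisors A, ∃ y ∈ L,
          algebraMap A (FractionRing E) s * y = 1 ∧ l = algebraMap E (FractionRing E) d * y := by
  classical
  obtain ⟨D, hDdef⟩ : ∃ D : Subalgebra A E,
      D = L.comap (IsScalarTower.toAlgHom A E (FractionRing E)) := ⟨_, rfl⟩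
  have hD : ∀ x, x ∈ D ↔ algebraMap E (FractionRing E) x ∈ L := fun x => by
    rw [hDdef]; exact Iff.rfl
  have hinv : ∀ d ∈ D, IsUnit d → ∃ d' ∈ D, d * d' = 1 := by
    intro d hd hdu
    obtain ⟨a, ha, p, hp⟩ := (exists_poly hmin d).1 hdu.mem_nonZeroDivisors
    obtain ⟨y, hy, hay⟩ := hL a ha
    obtain ⟨d', hd'⟩ := hdu.exists_right_inv
    refine ⟨d', ?_, hd'⟩
    have hpD : aeval d p ∈ D :=
      Algebra.adjoin_le (Set.singleton_subset_iff.mpr hd) (Polynomial.aeval_mem_adjoin_singleton A d)
    have h1 : algebraMap E (FractionRing E) d' =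
        algebraMap E (FractionRing E) (aeval d p) * y := by
      have h2 : algebraMap E (FractionRing E) (d' * (d * aeval d p)) =
          algebraMap E (FractionRing E) (aeval d p) := by
        rw [← mul_assoc, mul_comm d' d, hd', one_mul]
      rw [hp, map_mul, ← IsScalarTower.algebraMap_apply] at h2
      calc algebraMap E (FractionRing E) d'
          = algebraMap E (FractionRing E) d' * (algebraMap A (FractionRing E) a * y) := by
            rw [hay, mul_one]
        _ = algebraMap E (FractionRing E) (aeval d p) * y := by rw [← mul_assoc, h2]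
    rw [hD, h1]
    exact L.mul_mem ((hD _).mp hpD) hy
  have hunitD : ∀ d : D, IsUnit d ↔ IsUnit (d : E) := by
    intro d
    constructor
    · intro h
      exact h.map D.val
    · intro h
      obtain ⟨d', hd'D, hdd'⟩ := hinv d.1 d.2 h
      exact IsUnit.of_mul_eq_one (⟨d', hd'D⟩ : D) (Subtype.ext hdd')
  haveI hloc : IsLocalRing D := IsLocalRing.of_nonunits_add (by
    intro a b ha hb
    rw [mem_nonunits_iff, hunitD] at ha hb ⊢
    exact IsLocalRing.nonunits_add ha hb)
  refine ⟨D, ?_, hloc, ⟨fun d hd => (hunitD d).mpr hd⟩, ?_⟩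
  · ext x
    exact hD x
  · intro l hl
    haveI := isLocalization_fractionRing (E := E) hmin
    obtain ⟨⟨e, m⟩, hem⟩ := IsLocalization.surj
      (Algebra.algebraMapSubmonoid E (nonZeroDivisors A)) l
    obtain ⟨s, hs, hsm⟩ := m.2
    obtain ⟨y, hy, hsy⟩ := hL s hs
    have h1 : algebraMap E (FractionRing E) m.1 = algebraMap A (FractionRing E) s := by
      rw [← hsm, ← IsScalarTower.algebraMap_apply]
    have h2 : algebraMap E (FractionRing E) e = l * algebraMap A (FractionRing E) s := by
      rw [← h1]; exact hem.symm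
    refine ⟨e, ?_, s, hs, y, hy, hsy, ?_⟩
    · rw [hD, h2, mul_comm, ← Algebra.smul_def]
      exact L.smul_mem hl s
    · rw [h2, mul_assoc, hsy, mul_one]

end Ext2

end Groth.Agent.Lib.Helper90.FracEssEt
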