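import Mathlib
import Groth.Agent.Lib.Helper90.FracEssEt2

set_option autoImplicit false
set_option linter.style.haveILetI false
set_option linter.unusedSectionVars false
universe u

namespace Groth.Agent.Lib.Helper90.FracEssEt

open TensorProduct Polynomial

section Clear2

/-- Clearing denominators, element version. -/
theorem exists_smul_mem_span_of_mem_span {A K N : Type*} [CommRing A] (M : Submonoid A)
    [CommRing K] [Algebra A K] [IsLocalization M K] [AddCommGroup N] [Module A N] [Module K N]
    [IsScalarTower A K N] (t : Set N) {x : N} (hx : x ∈ Submodule.span K t) :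
    ∃ a ∈ M, a • x ∈ Submodule.span A t := by
  induction hx using Submodule.span_induction with
  | mem x hx => exact ⟨1, M.one_mem, by rw [one_smul]; exact Submodule.subset_span hx⟩
  | zero => exact ⟨1, M.one_mem, by simp⟩
  | add x y _ _ hx hy =>
    obtain ⟨a, ha, hax⟩ := hx
    obtain ⟨b, hb, hby⟩ := hy
    refine ⟨a * b, M.mul_mem ha hb, ?_⟩
    rw [smul_add]
    refine Submodule.add_mem _ ?_ ?_
    · rw [mul_comm, mul_smul]; exact Submodule.smul_mem _ _ hax
    · rw [mul_smul]; exact Submodule.smul_mem _ _ hby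
  | smul c x _ hx =>
    obtain ⟨a, ha, hax⟩ := hx
    obtain ⟨⟨r, s⟩, hrs⟩ := IsLocalization.surj M c
    refine ⟨s * a, M.mul_mem s.2 ha, ?_⟩
    have h1 : (s : A) • c = algebraMap A K r := by
      rw [Algebra.smul_def, mul_comm]; exact hrs
    have : ((s : A) * a) • (c • x) = r • (a • x) := by
      rw [mul_smul, smul_comm a c x, ← smul_assoc, h1, algebraMap_smul]
    rw [this]
    exact Submodule.smul_mem _ _ hax

end Clear2

section Sub
variable {A : Type*} [CommRing A] [IsReduced A] {E : Type*} [CommRing E] [Algebra A E]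
  [Module.Flat A E] [Algebra.QuasiFinite A E]
variable {D : Type*} [CommRing D] [Algebra A D] (j : D →ₐ[A] E) (hj : Function.Injective j)

omit [IsReduced A] [Module.Flat A E] [Algebra.QuasiFinite A E] in
theorem includeRight_injective_aux (ψ : FractionRing A ⊗[A] E ≃+* FractionRing E)
    (hψ1 : ∀ x : E, ψ (1 ⊗ₜ x) = algebraMap E (FractionRing E) x) :
    Function.Injective
      (Algebra.TensorProduct.includeRight : E →ₐ[A] FractionRing A ⊗[A] E) := by
  intro x y h
  have h1 := congrArg ψ h
  change ψ (1 ⊗ₜ x) = ψ (1 ⊗ₜ y) at h1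
  rw [hψ1, hψ1] at h1
  exact IsFractionRing.injective E (FractionRing E) h1

include hj in
theorem map_mem_nzd (hmin : (minimalPrimes A).Finite) {s : D} (hs : s ∈ nonZeroDivisors D) :
    j s ∈ nonZeroDivisors E := by
  by_contra h
  obtain ⟨p, hp0, hp⟩ := (exists_poly hmin (j s)).2 h
  have h1 : j (aeval s p) = aeval (j s) p := (Polynomial.aeval_algHom_apply j s p).symm
  rw [← h1, ← map_mul] at hp
  have h2 : s * aeval s p = 0 := hj (hp.trans (map_zero j).symm)
  have h3 : aeval s p = 0 := (mem_nonZeroDivisors_iff.mp hs).1 _ h2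
  exact hp0 (by rw [← h1, h3, map_zero])

include hj in
theorem exists_mul_eq_algebraMap (hmin : (minimalPrimes A).Finite) {s : D}
    (hs : s ∈ nonZeroDivisors D) :
    ∃ a ∈ nonZeroDivisors A, ∃ c : D, s * c = algebraMap A D a := by
  obtain ⟨a, ha, p, hp⟩ := (exists_poly hmin (j s)).1 (map_mem_nzd j hj hmin hs)
  refine ⟨a, ha, aeval s p, hj ?_⟩
  rw [map_mul, ← Polynomial.aeval_algHom_apply, hp, AlgHom.commutes]

include hj in
theorem exists_finset_span_sub (hmin : (minimalPrimes A).Finite) :
    ∃ F : Finset D, ∀ d : D, ∃ a ∈ nonZeroDivisors A,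
      a • d ∈ Submodule.span A (F : Set D) := by
  classical
  obtain ⟨ψ, hψ1, -⟩ := exists_tensor_equiv (E := E) hmin
  haveI : IsArtinianRing (FractionRing A) := isArtinianRing_fractionRing hmin
  haveI : Module.Finite (FractionRing A) (FractionRing A ⊗[A] E) := Module.Finite.of_quasiFinite
  haveI : IsNoetherian (FractionRing A) (FractionRing A ⊗[A] E) :=
    isNoetherian_of_isNoetherianRing_of_finite _ _
  let κ : D →ₐ[A] FractionRing A ⊗[A] E := Algebra.TensorProduct.includeRight.comp j
  have hκ : Function.Injective κ := (includeRight_injective_aux ψ hψ1).comp hj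
  have hfg : (Submodule.span (FractionRing A) (Set.range κ)).FG := IsNoetherian.noetherian _
  obtain ⟨s', hs'sub, hs'⟩ := (Submodule.fg_span_iff_fg_span_finset_subset _).mp hfg
  rw [← Set.image_univ] at hs'sub
  obtain ⟨F, -, hF⟩ := Finset.subset_set_image_iff.mp hs'sub
  refine ⟨F, fun d => ?_⟩
  have h1 : κ d ∈ Submodule.span (FractionRing A) (s' : Set (FractionRing A ⊗[A] E)) := by
    rw [← hs']
    exact Submodule.subset_span ⟨d, rfl⟩
  obtain ⟨a, ha, hax⟩ := exists_smul_mem_span_of_mem_span (A := A) (K := FractionRing A)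
    (nonZeroDivisors A) _ h1
  refine ⟨a, ha, ?_⟩
  rw [← hF, Finset.coe_image, ← map_smul] at hax
  have h2 : Submodule.span A (κ '' (F : Set D)) =
      (Submodule.span A (F : Set D)).map κ.toLinearMap := by
    rw [Submodule.map_span]; rfl
  rw [h2] at hax
  obtain ⟨z, hz, hzd⟩ := hax
  have : z = a • d := hκ hzd
  rw [← this]
  exact hz

include hj in
theorem exists_finset_adjoin_sub (hmin : (minimalPrimes A).Finite) :
    ∃ t : Finset (FractionRing D), ∀ x : FractionRing D, ∃ a ∈ nonZeroDivisors A,
      algebraMap A (FractionRing D) a * x ∈ Algebra.adjoin A (t : Set (FractionRing D)) := by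
  classical
  obtain ⟨F, hF⟩ := exists_finset_span_sub j hj hmin
  refine ⟨F.image (algebraMap D (FractionRing D)), fun x => ?_⟩
  obtain ⟨⟨d, s⟩, hds⟩ := IsLocalization.surj (nonZeroDivisors D) x
  obtain ⟨a, ha, c, hc⟩ := exists_mul_eq_algebraMap j hj hmin s.2
  obtain ⟨a', ha', hspan⟩ := hF (d * c)
  refine ⟨a' * a, mul_mem ha' ha, ?_⟩
  have h1 : x * algebraMap A (FractionRing D) a = algebraMap D (FractionRing D) (d * c) := by
    rw [IsScalarTower.algebraMap_apply A D (FractionRing D), ← hc, map_mul, ← mul_assoc, hds,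
      map_mul]
  have h2 : algebraMap A (FractionRing D) (a' * a) * x =
      algebraMap D (FractionRing D) (a' • (d * c)) := by
    calc algebraMap A (FractionRing D) (a' * a) * x
        = algebraMap A (FractionRing D) a' * (x * algebraMap A (FractionRing D) a) := by
          rw [map_mul]; ring
      _ = algebraMap A (FractionRing D) a' * algebraMap D (FractionRing D) (d * c) := by rw [h1]
      _ = algebraMap D (FractionRing D) (a' • (d * c)) := by
          rw [Algebra.smul_def, IsScalarTower.algebraMap_apply A D (FractionRing D) a', ← map_mul]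
  rw [h2]
  apply Algebra.span_le_adjoin
  rw [Finset.coe_image]
  exact Submodule.apply_mem_span_image_of_mem_span
    (IsScalarTower.toAlgHom A D (FractionRing D)).toLinearMap hspan

end Sub

end Groth.Agent.Lib.Helper90.FracEssEt
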