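import Mathlib
import Groth.Prelude.Def_EssEt
import Groth.Agent.Lib.Helper37.Hz11

set_option autoImplicit false
set_option linter.style.haveILetI false
set_option linter.unusedSectionVars false
universe u

namespace Groth.Agent.Lib.Helper90.EssEtSub

open IsLocalRing

section Structure

variable {A D : Type u} [CommRing A] [IsLocalRing A] [CommRing D] [IsLocalRing D] [Algebra A D]
  [IsLocalHom (algebraMap A D)] [Algebra.EssFiniteType A D] [Algebra.FormallyUnramified A D]

/-- A local, essentially finite type, formally unramified algebra over a local ring is a quotient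
of a localization of an etale algebra at a prime over the maximal ideal. -/
theorem exists_etale_surjective :
    ∃ (C : Type u) (_ : CommRing C) (_ : Algebra A C) (q : Ideal C) (_ : q.IsPrime),
      Algebra.Etale A C ∧ q.comap (algebraMap A C) = maximalIdeal A ∧
      ∃ ψ : Localization.AtPrime q →ₐ[A] D, Function.Surjective ψ ∧
        IsLocalHom ψ.toRingHom := by
  classical
  -- the finite type subalgebra
  let D₀ := Algebra.EssFiniteType.subalgebra A D
  let q₀ : Ideal D₀ := (maximalIdeal D).comap (algebraMap D₀ D)
  haveI hq₀ : q₀.IsPrime := Ideal.comap_isPrime _ _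
  have hM : Algebra.EssFiniteType.submonoid A D = q₀.primeCompl := by
    ext x
    simp only [Algebra.EssFiniteType.submonoid, Submonoid.mem_comap, IsUnit.mem_submonoid_iff,
      Ideal.mem_primeCompl_iff, q₀, Ideal.mem_comap, mem_maximalIdeal, mem_nonunits_iff, not_not]
    exact Iff.rfl
  haveI : IsLocalization.AtPrime D q₀ := by
    have := Algebra.EssFiniteType.isLocalization (R := A) (S := D)
    rw [hM] at this
    exact this
  let e : D ≃ₐ[A] Localization.AtPrime q₀ :=
    (IsLocalization.algEquiv q₀.primeCompl D (Localization.AtPrime q₀)).restrictScalars A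
  haveI : Algebra.FormallyUnramified A (Localization.AtPrime q₀) :=
    Algebra.FormallyUnramified.of_equiv e
  haveI : Algebra.IsUnramifiedAt A q₀ := ‹_›
  obtain ⟨f, hf, P, φ, hφ⟩ :=
    Algebra.IsUnramifiedAt.exists_hasStandardEtaleSurjectionOn (R := A) q₀
  have hfu : IsUnit (algebraMap D₀ D f) := by
    by_contra h
    exact hf h
  let g₀ : Localization.Away f →+* D := IsLocalization.Away.lift f hfu
  have hg₀ : ∀ x : D₀, g₀ (algebraMap D₀ (Localization.Away f) x) = algebraMap D₀ D x :=
    fun x => IsLocalization.Away.lift_eq f hfu x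
  let g : Localization.Away f →ₐ[A] D :=
    { g₀ with
      commutes' := fun a => by
        change g₀ (algebraMap A (Localization.Away f) a) = algebraMap A D a
        rw [IsScalarTower.algebraMap_apply A D₀ (Localization.Away f), hg₀,
          ← IsScalarTower.algebraMap_apply] }
  let ψ₀ : P.Ring →ₐ[A] D := g.comp φ
  let q : Ideal P.Ring := (maximalIdeal D).comap ψ₀.toRingHom
  haveI : q.IsPrime := Ideal.comap_isPrime _ _
  have hunit : ∀ y : q.primeCompl, IsUnit (ψ₀ y) := fun y => by
    by_contra h
    exact y.2 h
  let ψ : Localization.AtPrime q →ₐ[A] D :=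
    IsLocalization.liftAlgHom (M := q.primeCompl) (f := ψ₀) hunit
  refine ⟨P.Ring, inferInstance, inferInstance, q, inferInstance, inferInstance, ?_, ψ, ?_, ?_⟩
  · ext a
    simp only [Ideal.mem_comap, q]
    rw [show ψ₀.toRingHom (algebraMap A P.Ring a) = algebraMap A D a from ψ₀.commutes a]
    exact map_mem_nonunits_iff (algebraMap A D) a
  · intro d
    obtain ⟨⟨x, t⟩, hxt⟩ := IsLocalization.surj q₀.primeCompl d
    obtain ⟨cx, hcx⟩ := hφ (algebraMap D₀ (Localization.Away f) x)
    obtain ⟨ct, hct⟩ := hφ (algebraMap D₀ (Localization.Away f) t)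
    have h1 : ψ₀ cx = algebraMap D₀ D x := by
      change g₀ (φ cx) = _
      rw [hcx, hg₀]
    have h2 : ψ₀ ct = algebraMap D₀ D t := by
      change g₀ (φ ct) = _
      rw [hct, hg₀]
    have htu : IsUnit (algebraMap D₀ D t) := IsLocalization.map_units D t
    have hct' : ct ∈ q.primeCompl := by
      change ψ₀ ct ∉ maximalIdeal D
      rw [h2]
      simpa using htu
    refine ⟨IsLocalization.mk' _ cx ⟨ct, hct'⟩, ?_⟩
    change IsLocalization.lift hunit (IsLocalization.mk' _ cx ⟨ct, hct'⟩) = d
    rw [IsLocalization.lift_mk'_spec]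
    change ψ₀ cx = ψ₀ ct * d
    rw [h1, h2, mul_comm]
    exact hxt.symm
  · constructor
    intro z hz
    obtain ⟨c, t, rfl⟩ := IsLocalization.exists_mk'_eq q.primeCompl z
    have hlift : ∀ x : P.Ring, ψ (algebraMap P.Ring (Localization.AtPrime q) x) = ψ₀ x :=
      fun x => IsLocalization.lift_eq hunit x
    have hψ : ψ (IsLocalization.mk' _ c t) * ψ₀ t = ψ₀ c := by
      have h3 := congrArg ψ (IsLocalization.mk'_spec (Localization.AtPrime q) c t)
      rw [map_mul, hlift, hlift] at h3
      exact h3
    have hc : IsUnit (ψ₀ c) := hψ ▸ (IsUnit.mul hz (hunit t))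
    have hcq : c ∈ q.primeCompl := fun h => h hc
    exact (IsLocalization.AtPrime.isUnit_mk'_iff (Localization.AtPrime q) q c t).mpr hcq

end Structure

section Cancel

open TensorProduct

/-- Flatness cancellation: if the multiplication `S ⊗_R S → S` is flat and `C` is an `S`-algebra
that is flat over `R`, then `C` is flat over `S`. -/
theorem flat_of_flat_lmul {R S C : Type u} [CommRing R] [CommRing S] [CommRing C] [Algebra R S]
    [Algebra R C] [Algebra S C] [IsScalarTower R S C]
    (h : (Algebra.TensorProduct.lmul' (S := S) R).Flat) [Module.Flat R C] : Module.Flat S C := by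
  have h1 : (Algebra.TensorProduct.mapOfCompatibleSMul S R S S C).Flat :=
    RingHom.Flat.mapOfCompatibleSMul S C h
  have h2 : (algebraMap S (S ⊗[R] C)).Flat := RingHom.flat_algebraMap_iff.mpr inferInstance
  have h3 : ((Algebra.TensorProduct.lid S C : S ⊗[S] C ≃ₐ[S] C) : S ⊗[S] C →+* C).Flat :=
    RingHom.Flat.of_bijective (Algebra.TensorProduct.lid S C).bijective
  have h4 := (h2.comp h1).comp h3
  have e : (((Algebra.TensorProduct.lid S C : S ⊗[S] C ≃ₐ[S] C) : S ⊗[S] C →+* C).comp
      ((Algebra.TensorProduct.mapOfCompatibleSMul S R S S C : S ⊗[R] C →+* S ⊗[S] C).comp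
        (algebraMap S (S ⊗[R] C)))) = algebraMap S C := by
    ext s
    simp [Algebra.algebraMap_eq_smul_one]
  rw [← RingHom.flat_algebraMap_iff, ← e]
  exact h4

/-- A local `A`-algebra map from the localization of an etale `A`-algebra at a prime to a local
ring which is flat over `A` is injective. -/
theorem injective_of_flat {A : Type u} [CommRing A] {C : Type u} [CommRing C] [Algebra A C]
    [Algebra.Etale A C] (q : Ideal C) [q.IsPrime] {S : Type u} [CommRing S] [IsLocalRing S]
    [Algebra A S] [Module.Flat A S] (ρ : Localization.AtPrime q →ₐ[A] S)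
    [hρ : IsLocalHom ρ.toRingHom] : Function.Injective ρ := by
  letI algCS : Algebra C S :=
    (ρ.toRingHom.comp (algebraMap C (Localization.AtPrime q))).toAlgebra
  haveI : IsScalarTower A C S := IsScalarTower.of_algebraMap_eq (fun a => by
    change algebraMap A S a = ρ (algebraMap C _ (algebraMap A C a))
    rw [← IsScalarTower.algebraMap_apply A C (Localization.AtPrime q), ρ.commutes])
  haveI : Module.Flat C S := flat_of_flat_lmul (R := A) (Algebra.WeaklyEtale.flat_lmul' A C)
  letI algLS : Algebra (Localization.AtPrime q) S := ρ.toRingHom.toAlgebra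
  haveI : IsScalarTower C (Localization.AtPrime q) S :=
    IsScalarTower.of_algebraMap_eq (fun c => rfl)
  haveI : Module.Flat (Localization.AtPrime q) S :=
    (Module.flat_iff_of_isLocalization (Localization.AtPrime q) q.primeCompl S).mpr inferInstance
  haveI : IsLocalHom (algebraMap (Localization.AtPrime q) S) := hρ
  haveI : Module.FaithfullyFlat (Localization.AtPrime q) S :=
    Module.FaithfullyFlat.of_flat_of_isLocalHom
  exact FaithfulSMul.algebraMap_injective (Localization.AtPrime q) S

end Cancel

section Main

/-- A local subalgebra of a strict henselization, essentially of finite type and dominated by it,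
with `m_A D = m_D`, is essentially etale. -/
theorem isEssentiallyEtale_of_sub (A S : Type u) [CommRing A] [IsLocalRing A]
    [CommRing S] [IsLocalRing S] [Algebra A S] [IsLocalHom (algebraMap A S)]
    [Hensel.IsStrictHenselization A S] (D : Subalgebra A S) [IsLocalRing D]
    [IsLocalHom (algebraMap D S)] [Algebra.EssFiniteType A D]
    (hm : Ideal.map (algebraMap A D) (maximalIdeal A) = maximalIdeal D) :
    EGA4loc.IsEssentiallyEtale A D := by
  haveI : Module.FaithfullyFlat A S :=
    Groth.Agent.Lib.Helper37.Hz.faithfullyFlat_of_isStrictHenselization A S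
  haveI hloc : IsLocalHom (algebraMap A D) := by
    constructor
    intro a ha
    have h1 : IsUnit (algebraMap D S (algebraMap A D a)) := ha.map _
    rw [← IsScalarTower.algebraMap_apply] at h1
    exact isUnit_of_map_unit (algebraMap A S) a h1
  haveI : Algebra.IsSeparable (ResidueField A) (ResidueField S) :=
    (Hensel.IsStrictHenselization.isSepClosure (R := A) (S := S)).separable
  haveI : IsScalarTower (ResidueField A) (ResidueField D) (ResidueField S) :=
    IsScalarTower.of_algebraMap_eq (fun x => by
      obtain ⟨a, rfl⟩ := residue_surjective x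
      rfl)
  haveI : Algebra.IsSeparable (ResidueField A) (ResidueField D) :=
    Algebra.isSeparable_tower_bot_of_isSeparable (ResidueField A) (ResidueField D) (ResidueField S)
  haveI : Algebra.FormallyUnramified A D := Algebra.FormallyUnramified.of_map_maximalIdeal hm
  obtain ⟨C, _, _, q, _, hC, hq, ψ, hψs, hψl⟩ := exists_etale_surjective (A := A) (D := D)
  haveI := hC
  let ρ : Localization.AtPrime q →ₐ[A] S := (D.val).comp ψ
  haveI : IsLocalHom ρ.toRingHom := by
    constructor
    intro z hz
    have h1 : IsUnit (algebraMap D S (ψ z)) := hz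
    have h2 : IsUnit (ψ z) := isUnit_of_map_unit (algebraMap D S) _ h1
    exact hψl.map_nonunit z h2
  have hinj : Function.Injective ρ := injective_of_flat q ρ
  have hψi : Function.Injective ψ := fun x y h => hinj (by
    change D.val (ψ x) = D.val (ψ y)
    rw [h])
  exact ⟨C, _, _, q, _, hC, hq, ⟨(AlgEquiv.ofBijective ψ ⟨hψi, hψs⟩).symm⟩⟩

end Main

end Groth.Agent.Lib.Helper90.EssEtSub
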