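import Mathlib
import Groth.Prelude.Def_EssEt
import Groth.Agent.Lib.Helper37.Hz11
import Groth.Agent.Lib.Helper90.EssEtSub

set_option autoImplicit false
set_option linter.style.haveILetI false
set_option linter.unusedSectionVars false
universe u

namespace Groth.Agent.Lib.Helper90.SHensUnion

open IsLocalRing Groth.Agent.Lib.Helper37.Hz

section Generic

/-- A local `A`-algebra map from the localization of an etale `A`-algebra at a prime to a local
ring which is flat over `A` is faithfully flat. -/
theorem faithfullyFlat_of_flat {A : Type u} [CommRing A] {C : Type u} [CommRing C] [Algebra A C]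
    [Algebra.Etale A C] (q : Ideal C) [q.IsPrime] {S : Type u} [CommRing S] [IsLocalRing S]
    [Algebra A S] [Module.Flat A S] (ρ : Localization.AtPrime q →ₐ[A] S)
    [hρ : IsLocalHom ρ.toRingHom] :
    @Module.FaithfullyFlat (Localization.AtPrime q) S _ _ ρ.toRingHom.toAlgebra.toModule := by
  letI algCS : Algebra C S :=
    (ρ.toRingHom.comp (algebraMap C (Localization.AtPrime q))).toAlgebra
  haveI : IsScalarTower A C S := IsScalarTower.of_algebraMap_eq (fun a => by
    change algebraMap A S a = ρ (algebraMap C _ (algebraMap A C a))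
    rw [← IsScalarTower.algebraMap_apply A C (Localization.AtPrime q), ρ.commutes])
  haveI : Module.Flat C S :=
    Groth.Agent.Lib.Helper90.EssEtSub.flat_of_flat_lmul (R := A) (Algebra.WeaklyEtale.flat_lmul' A C)
  letI algLS : Algebra (Localization.AtPrime q) S := ρ.toRingHom.toAlgebra
  haveI : IsScalarTower C (Localization.AtPrime q) S :=
    IsScalarTower.of_algebraMap_eq (fun c => rfl)
  haveI : Module.Flat (Localization.AtPrime q) S :=
    (Module.flat_iff_of_isLocalization (Localization.AtPrime q) q.primeCompl S).mpr inferInstance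
  haveI : IsLocalHom (algebraMap (Localization.AtPrime q) S) := hρ
  exact Module.FaithfullyFlat.of_flat_of_isLocalHom

end Generic

/-- Every finite subset of a strict henselization lies in a local essentially etale
subalgebra `E` over which `S` is flat, whose units are exactly its elements that are units
in `S`, and which is saturated: if `u * d ∈ E` with `u ∈ E` a non-zero-divisor of `S` then
`d ∈ E`. -/
theorem exists_essEtale_sub' (A S : Type u) [CommRing A] [IsLocalRing A]
    [CommRing S] [IsLocalRing S] [Algebra A S] [IsLocalHom (algebraMap A S)]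
    [Hensel.IsStrictHenselization A S] (σ : Finset S) :
    ∃ E : Subalgebra A S, (σ : Set S) ⊆ E ∧ (∀ x ∈ E, IsUnit x → ∃ y ∈ E, x * y = 1) ∧
      Module.Flat E S ∧
      (∀ u ∈ E, ∀ e ∈ E, u ∈ nonZeroDivisors S → ∀ d : S, u * d = e → d ∈ E) ∧
      ∃ _ : IsLocalRing E, EGA4loc.IsEssentiallyEtale A E := by
  classical
  haveI : Module.FaithfullyFlat A S := faithfullyFlat_of_isStrictHenselization A S
  obtain ⟨e⟩ := nonempty_algEquiv_SHens A S
  obtain ⟨i, y, hy⟩ := exists_of_finite (R := A) (Ω := SepCl A) (fun k : σ => e k.1)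
  let ρ : Localization.AtPrime (ptKer i.θ) →ₐ[A] S :=
    (e.symm : SHens A →ₐ[A] S).comp (of i)
  haveI hρl : IsLocalHom ρ.toRingHom := by
    constructor
    intro z hz
    have h1 : IsUnit (e (ρ z)) := hz.map e
    have h2 : e (ρ z) = of i z := e.apply_symm_apply _
    rw [h2] at h1
    exact (isLocalHom_of i).map_nonunit z h1
  have hinj : Function.Injective ρ := Groth.Agent.Lib.Helper90.EssEtSub.injective_of_flat _ ρ
  have hff := faithfullyFlat_of_flat (ptKer i.θ) ρ
  let eE : Localization.AtPrime (ptKer i.θ) ≃ₐ[A] ρ.range := AlgEquiv.ofInjective ρ hinj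
  refine ⟨ρ.range, ?_, ?_, ?_, ?_, ?_⟩
  · intro k hk
    refine ⟨y ⟨k, hk⟩, ?_⟩
    change e.symm (of i (y ⟨k, hk⟩)) = k
    rw [hy ⟨k, hk⟩]
    exact e.symm_apply_apply k
  · rintro x ⟨z, rfl⟩ hx
    have hz : IsUnit z := hρl.map_nonunit z hx
    obtain ⟨w, hw⟩ := hz.exists_right_inv
    exact ⟨ρ w, ⟨w, rfl⟩, by
      change ρ z * ρ w = 1
      rw [← map_mul, hw, map_one]⟩
  · -- flatness of `S` over the range
    rw [← RingHom.flat_algebraMap_iff]
    have h1 : ρ.toRingHom.Flat := hff.toFlat
    have h2 : (eE.symm : ρ.range →+* Localization.AtPrime (ptKer i.θ)).Flat :=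
      RingHom.Flat.of_bijective eE.symm.bijective
    have h3 : algebraMap ρ.range S =
        ρ.toRingHom.comp (eE.symm : ρ.range →+* Localization.AtPrime (ptKer i.θ)) := by
      ext x
      obtain ⟨z, hz⟩ := x.2
      have hx : x = eE z := Subtype.ext hz.symm
      change (x : S) = ρ (eE.symm x)
      rw [hx, eE.symm_apply_apply]
      rfl
    rw [h3]
    exact h2.comp h1
  · -- saturation
    rintro u ⟨gu, rfl⟩ e' ⟨ge, rfl⟩ hu d hd
    letI algLS : Algebra (Localization.AtPrime (ptKer i.θ)) S := ρ.toRingHom.toAlgebra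
    haveI : Module.FaithfullyFlat (Localization.AtPrime (ptKer i.θ)) S := hff
    have h1 := Ideal.comap_map_eq_self_of_faithfullyFlat (B := S) (Ideal.span {gu})
    have h2 : ge ∈ ((Ideal.span {gu}).map (algebraMap _ S)).comap (algebraMap _ S) := by
      rw [Ideal.mem_comap]
      change ρ ge ∈ _
      have h3 : ρ ge = ρ gu * d := hd.symm
      rw [h3]
      exact Ideal.mul_mem_right _ _ (Ideal.mem_map_of_mem _ (Ideal.mem_span_singleton_self gu))
    rw [h1, Ideal.mem_span_singleton] at h2
    obtain ⟨g', hg'⟩ := h2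
    refine ⟨g', ?_⟩
    have h4 : ρ gu * (d - ρ g') = 0 := by
      have h5 : ρ gu * d = ρ ge := hd
      rw [mul_sub, h5, hg', map_mul, sub_self]
    have h6 := (mem_nonZeroDivisors_iff.mp hu).1 _ h4
    exact (sub_eq_zero.mp h6).symm
  · refine ⟨eE.toRingEquiv.isLocalRing, ?_⟩
    exact ⟨i.Ring, inferInstance, inferInstance, ptKer i.θ, inferInstance, inferInstance,
      comap_ptKer i.θ, ⟨eE.symm⟩⟩

end Groth.Agent.Lib.Helper90.SHensUnion
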