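import Mathlib
import Groth.Agent.Lib.Helper90.FracEssEt3
import Groth.Agent.Lib.Helper90.SHensUnion2

set_option autoImplicit false
set_option linter.style.haveILetI false
set_option linter.unusedSectionVars false
universe u

namespace Groth.Agent.Lib.Helper90.SHensFrac

open IsLocalRing Polynomial Groth.Agent.Lib.Helper90.FracEssEt Groth.Agent.Lib.Helper90.SHensUnion

section Abstract

/-- Clearing a common denominator in a finitely generated subalgebra of the total ring of
fractions. -/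
theorem exists_pow_mul_mem {A D : Type*} [CommRing A] [CommRing D] [Algebra A D]
    (t : Finset (FractionRing D)) (D₀ : Subalgebra A D) (s₀ : D) (hs₀ : s₀ ∈ D₀)
    (hx : ∀ τ ∈ t, ∃ x ∈ D₀,
      algebraMap D (FractionRing D) x = algebraMap D (FractionRing D) s₀ * τ)
    {z : FractionRing D} (hz : z ∈ Algebra.adjoin A (t : Set (FractionRing D))) :
    ∃ n : ℕ, ∃ e ∈ D₀,
      algebraMap D (FractionRing D) (s₀ ^ n) * z = algebraMap D (FractionRing D) e := by
  induction hz using Algebra.adjoin_induction with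
  | mem τ hτ =>
    obtain ⟨x, hxD, hxe⟩ := hx τ hτ
    exact ⟨1, x, hxD, by rw [pow_one, hxe]⟩
  | algebraMap a =>
    refine ⟨0, algebraMap A D a, D₀.algebraMap_mem a, ?_⟩
    rw [pow_zero, map_one, one_mul, ← IsScalarTower.algebraMap_apply]
  | add z₁ z₂ _ _ h₁ h₂ =>
    obtain ⟨n₁, e₁, he₁, h₁⟩ := h₁
    obtain ⟨n₂, e₂, he₂, h₂⟩ := h₂
    refine ⟨n₁ + n₂, s₀ ^ n₂ * e₁ + s₀ ^ n₁ * e₂,
      D₀.add_mem (D₀.mul_mem (D₀.pow_mem hs₀ _) he₁) (D₀.mul_mem (D₀.pow_mem hs₀ _) he₂), ?_⟩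
    rw [map_add, map_mul, map_mul, ← h₁, ← h₂, pow_add, map_mul]
    ring
  | mul z₁ z₂ _ _ h₁ h₂ =>
    obtain ⟨n₁, e₁, he₁, h₁⟩ := h₁
    obtain ⟨n₂, e₂, he₂, h₂⟩ := h₂
    refine ⟨n₁ + n₂, e₁ * e₂, D₀.mul_mem he₁ he₂, ?_⟩
    rw [map_mul, ← h₁, ← h₂, pow_add, map_mul]
    ring

end Abstract

section Main

variable (A S : Type u) [CommRing A] [IsLocalRing A] [IsReduced A]
  [CommRing S] [IsLocalRing S] [Algebra A S] [IsLocalHom (algebraMap A S)]
  [Hensel.IsStrictHenselization A S]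

/-- A non-zero-divisor of an `A`-subalgebra of the strict henselization is a non-zero-divisor of
the strict henselization. -/
theorem nzd_sub (hmin : (minimalPrimes A).Finite) (D : Subalgebra A S) (s : D)
    (hs : s ∈ nonZeroDivisors D) : (s : S) ∈ nonZeroDivisors S := by
  classical
  by_contra hns
  obtain ⟨E', hσ, -, hflat, -, hloc, hess⟩ := exists_essEtale_sub' A S {(s : S)}
  have hsE : (s : S) ∈ E' := hσ (by simp)
  haveI := hflat
  haveI : Module.Flat A E' := flat_of_isEssentiallyEtale hess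
  haveI : Algebra.QuasiFinite A E' := quasiFinite_of_isEssentiallyEtale hess
  have h1 : (⟨(s : S), hsE⟩ : E') ∉ nonZeroDivisors E' := by
    intro h
    have hreg : IsSMulRegular S (⟨(s : S), hsE⟩ : E') :=
      Module.Flat.isSMulRegular_of_nonZeroDivisors h
    apply hns
    rw [mem_nonZeroDivisors_iff_right]
    intro x hx
    apply hreg.right_eq_zero_of_smul
    rw [Algebra.smul_def, mul_comm]
    exact hx
  obtain ⟨p, hp0, hp⟩ := (exists_poly hmin (⟨(s : S), hsE⟩ : E')).2 h1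
  have h2 : ((aeval (⟨(s : S), hsE⟩ : E') p : E') : S) = aeval (s : S) p :=
    (Polynomial.aeval_algHom_apply E'.val (⟨(s : S), hsE⟩ : E') p).symm
  have h3 : ((aeval s p : D) : S) = aeval (s : S) p :=
    (Polynomial.aeval_algHom_apply D.val s p).symm
  have h4 : s * aeval s p = 0 := by
    apply Subtype.ext
    change (s : S) * ((aeval s p : D) : S) = 0
    rw [h3, ← h2]
    exact congrArg Subtype.val hp
  have h5 : aeval s p = 0 := (mem_nonZeroDivisors_iff.mp hs).1 _ h4
  apply hp0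
  apply Subtype.ext
  rw [h2, ← h3, h5]
  rfl

/-- If the total ring of fractions of an `A`-subalgebra `D` of the strict henselization is finitely
generated over that of `A`, then `D` lies in a local essentially etale subalgebra. -/
theorem exists_essEtale_of_fg (hmin : (minimalPrimes A).Finite) (D : Subalgebra A S)
    (hfg : ∃ t : Finset (FractionRing D), ∀ x : FractionRing D, ∃ a ∈ nonZeroDivisors A,
      algebraMap A (FractionRing D) a * x ∈ Algebra.adjoin A (t : Set (FractionRing D))) :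
    ∃ E : Subalgebra A S, D ≤ E ∧ ∃ _ : IsLocalRing E, EGA4loc.IsEssentiallyEtale A E := by
  classical
  obtain ⟨t, ht⟩ := hfg
  obtain ⟨s₀, hs₀⟩ := IsLocalization.exist_integer_multiples_of_finset (nonZeroDivisors D) t
  have hxex : ∀ τ ∈ t, ∃ x : D,
      algebraMap D (FractionRing D) x = algebraMap D (FractionRing D) s₀ * τ := by
    intro τ hτ
    obtain ⟨x, hx⟩ := hs₀ τ hτ
    exact ⟨x, by rw [hx, Algebra.smul_def]⟩
  choose x hx using hxex
  obtain ⟨σ, hσdef⟩ : ∃ σ : Finset S, σ = insert ((s₀ : D) : S)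
      (t.attach.image (fun τ : {y // y ∈ t} => ((x τ.1 τ.2 : D) : S))) := ⟨_, rfl⟩
  obtain ⟨E₀, hσ, -, hflat, hsat, hloc, hess⟩ := exists_essEtale_sub' A S σ
  refine ⟨E₀, ?_, hloc, hess⟩
  have hs₀E : ((s₀ : D) : S) ∈ E₀ := hσ (by
    rw [hσdef, Finset.coe_insert]
    exact Set.mem_insert _ _)
  have hxE : ∀ τ (hτ : τ ∈ t), ((x τ hτ : D) : S) ∈ E₀ := by
    intro τ hτ
    apply hσ
    rw [hσdef, Finset.coe_insert]
    right
    rw [Finset.coe_image]
    exact ⟨⟨τ, hτ⟩, Finset.mem_coe.mpr (Finset.mem_attach _ _), rfl⟩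
  have hs₀S : ((s₀ : D) : S) ∈ nonZeroDivisors S := nzd_sub A S hmin D s₀ s₀.2
  haveI : Module.FaithfullyFlat A S :=
    Groth.Agent.Lib.Helper37.Hz.faithfullyFlat_of_isStrictHenselization A S
  intro d hd
  obtain ⟨a, ha, haz⟩ := ht (algebraMap D (FractionRing D) ⟨d, hd⟩)
  obtain ⟨n, e, heD, hne⟩ := exists_pow_mul_mem t (E₀.comap D.val) (s₀ : D) hs₀E
    (fun τ hτ => ⟨x τ hτ, hxE τ hτ, hx τ hτ⟩) haz
  have h1 : (s₀ : D) ^ n * (algebraMap A D a * ⟨d, hd⟩) = e := by
    apply IsFractionRing.injective D (FractionRing D)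
    rw [← hne, map_mul, map_mul, ← IsScalarTower.algebraMap_apply]
  have h2 : (((s₀ : D) : S) ^ n * algebraMap A S a) * d = (e : S) := by
    have := congrArg Subtype.val h1
    rw [← this]
    change _ = ((s₀ : D) : S) ^ n * (algebraMap A S a * d)
    ring
  have hu : ((s₀ : D) : S) ^ n * algebraMap A S a ∈ nonZeroDivisors S :=
    mul_mem (pow_mem hs₀S n) (map_nzd_le (E := S) ⟨a, ha, rfl⟩)
  exact hsat _ (E₀.mul_mem (E₀.pow_mem hs₀E n) (E₀.algebraMap_mem a)) _ heD hu d h2

end Main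

end Groth.Agent.Lib.Helper90.SHensFrac
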