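import Mathlib
import Groth.Agent.Lib.Helper90.SHensUnion2
import Groth.Agent.Lib.Helper90.FracEssEt

set_option autoImplicit false
set_option linter.style.haveILetI false
set_option linter.unusedSectionVars false
universe u

namespace Groth.Agent.Lib.Helper90.SHensIncomp

open IsLocalRing Groth.Agent.Lib.Helper90.SHensUnion Groth.Agent.Lib.Helper90.FracEssEt

variable (A S : Type u) [CommRing A] [IsLocalRing A]
  [CommRing S] [IsLocalRing S] [Algebra A S] [IsLocalHom (algebraMap A S)]
  [Hensel.IsStrictHenselization A S]

/-- Incomparability for a strict henselization: two comparable primes with the same contraction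
are equal. -/
theorem eq_of_le_of_comap_eq (P Q : Ideal S) [P.IsPrime] [Q.IsPrime] (hle : P ≤ Q)
    (h : P.comap (algebraMap A S) = Q.comap (algebraMap A S)) : P = Q := by
  classical
  refine le_antisymm hle ?_
  intro x hxQ
  by_contra hxP
  obtain ⟨E, hσ, -, -, -, hloc, hess⟩ := exists_essEtale_sub' A S {x}
  have hxE : x ∈ E := hσ (by simp)
  haveI : Algebra.QuasiFinite A E := quasiFinite_of_isEssentiallyEtale hess
  have h1 : P.comap (algebraMap E S) = Q.comap (algebraMap E S) := by
    refine Algebra.QuasiFinite.eq_of_le_of_under_eq (R := A) _ _ (Ideal.comap_mono hle) ?_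
    change (P.comap (algebraMap E S)).comap (algebraMap A E) =
      (Q.comap (algebraMap E S)).comap (algebraMap A E)
    rw [Ideal.comap_comap, Ideal.comap_comap, ← IsScalarTower.algebraMap_eq, h]
  have h2 : (⟨x, hxE⟩ : E) ∈ Q.comap (algebraMap E S) := hxQ
  rw [← h1] at h2
  exact hxP h2

end Groth.Agent.Lib.Helper90.SHensIncomp
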