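import Groth.Agent.Lib.QCoh.Helper74_LocFree

/-!
# Counting generators over an open cover (helper90)

* `span_eq_top_of_cover` : glueing `n` generators "up to powers of `a i`" for a partition of unity
  `a : Fin m → R` into `n * m` generators.
* `exists_gens_of_localization` : generators of a localization `M_a` come from `M`.
* `exists_gens_away_of_epi` : an epimorphism `O_U^n ⟶ M^~|_U` on an open `U ⊇ D(a)` of `Spec R`
  gives `n` generators of `R_a ⊗ M`.
* `exists_generators_card_mul_of_open_cover` : the quantitative statement.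
-/

set_option autoImplicit false
set_option linter.style.haveILetI false
universe u

open CategoryTheory CategoryTheory.Limits AlgebraicGeometry TopologicalSpace TensorProduct

namespace Groth.Agent.Lib.Helper90.GenCover

/-- Quantitative glueing of generators. -/
theorem span_eq_top_of_cover {R M : Type*} [CommRing R] [AddCommGroup M] [Module R M]
    {m n : ℕ} (a : Fin m → R) (ha : Ideal.span (Set.range a) = ⊤)
    (t : Fin m → Fin n → M)
    (h : ∀ i, ∀ x : M, ∃ N : ℕ, (a i) ^ N • x ∈ Submodule.span R (Set.range (t i))) :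
    ∃ s : Fin (n * m) → M, Submodule.span R (Set.range s) = ⊤ := by
  refine ⟨fun k => t (finProdFinEquiv.symm k).2 (finProdFinEquiv.symm k).1, ?_⟩
  rw [eq_top_iff]
  rintro x -
  refine Submodule.mem_of_span_eq_top_of_smul_pow_mem _ (Set.range a) ha x ?_
  rintro ⟨_, i, rfl⟩
  obtain ⟨N, hN⟩ := h i x
  refine ⟨N, ?_⟩
  refine Submodule.span_mono ?_ hN
  rintro _ ⟨j, rfl⟩
  exact ⟨finProdFinEquiv (j, i), by simp⟩

open Classical in
/-- If the localization `M'` of `M` at `powers a` is generated by `n` elements over `R'`, there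
are `n` elements of `M` generating `M` up to powers of `a`. -/
theorem exists_gens_of_localization {R M : Type*} [CommRing R] [AddCommGroup M] [Module R M]
    (a : R) {R' M' : Type*} [CommRing R'] [Algebra R R'] [IsLocalization.Away a R']
    [AddCommGroup M'] [Module R M'] [Module R' M'] [IsScalarTower R R' M']
    (f : M →ₗ[R] M') [IsLocalizedModule (Submonoid.powers a) f] {n : ℕ}
    (g : Fin n → M') (hg : Submodule.span R' (Set.range g) = ⊤) :
    ∃ t : Fin n → M, ∀ x : M, ∃ N : ℕ, a ^ N • x ∈ Submodule.span R (Set.range t) := by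
  have hsurj : ∀ j, ∃ p : M × Submonoid.powers a, p.2 • g j = f p.1 :=
    fun j => IsLocalizedModule.surj (Submonoid.powers a) f (g j)
  choose p hp using hsurj
  refine ⟨fun j => (p j).1, ?_⟩
  -- the `f (t j)` generate `M'` over `R'`
  have hspan : Submodule.span R' (Set.range fun j => f (p j).1) = ⊤ := by
    rw [eq_top_iff, ← hg, Submodule.span_le]
    rintro _ ⟨j, rfl⟩
    have hu : IsUnit (algebraMap R R' ((p j).2 : R)) :=
      IsLocalization.map_units R' (p j).2
    obtain ⟨u, hu⟩ := hu
    have : g j = (↑u⁻¹ : R') • f (p j).1 := by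
      rw [← hp j, Submonoid.smul_def, ← algebraMap_smul R' ((p j).2 : R) (g j), ← hu, smul_smul]
      simp
    rw [this]
    exact Submodule.smul_mem _ _ (Submodule.subset_span ⟨j, rfl⟩)
  intro x
  have hx : f x ∈ Submodule.span R' (Set.range fun j => f (p j).1) := by rw [hspan]; trivial
  rw [Submodule.mem_span_range_iff_exists_fun] at hx
  obtain ⟨c, hc⟩ := hx
  -- clear denominators
  obtain ⟨⟨_, k, rfl⟩, hk⟩ := IsLocalization.exist_integer_multiples_of_finset
    (Submonoid.powers a) (Finset.univ.image c)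
  have hk' : ∀ j, ∃ r : R, algebraMap R R' r = a ^ k • c j := fun j => by
    obtain ⟨r, hr⟩ := hk (c j) (Finset.mem_image_of_mem _ (Finset.mem_univ _))
    exact ⟨r, hr⟩
  choose r hr using hk'
  have h1 : f (a ^ k • x) = f (∑ j, r j • (p j).1) := by
    rw [map_smul, ← hc, Finset.smul_sum, map_sum]
    refine Finset.sum_congr rfl fun j _ => ?_
    rw [map_smul, ← algebraMap_smul R' (r j), hr j, smul_assoc]
  obtain ⟨⟨_, l, rfl⟩, hl⟩ := (IsLocalizedModule.eq_iff_exists (Submonoid.powers a) f).1 h1
  refine ⟨l + k, ?_⟩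
  have : a ^ (l + k) • x = a ^ l • ∑ j, r j • (p j).1 := by
    rw [pow_add, mul_smul]; exact hl
  rw [this]
  refine Submodule.smul_mem _ _ (Submodule.sum_mem _ fun j _ => ?_)
  exact Submodule.smul_mem _ _ (Submodule.subset_span ⟨j, rfl⟩)

open Scheme.Modules Groth.Agent.Lib.QCoh

/-- Restricting an epimorphism `O_U^n ⟶ N|_U` to an open immersion landing in `U`. -/
theorem exists_epi_restrict {X Y : Scheme.{u}} (j : Y ⟶ X) [IsOpenImmersion j] (N : X.Modules)
    (U : X.Opens) (n : ℕ) (hj : Set.range j.base ⊆ U)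
    (φ : FlatMod.freeMod (↑U) n ⟶ N.restrict U.ι) [Epi φ] :
    ∃ ψ : FlatMod.freeMod Y n ⟶ N.restrict j, Epi ψ := by
  have hj' : Set.range j.base ⊆ Set.range U.ι.base := by simpa using hj
  have : IsOpenImmersion (IsOpenImmersion.lift U.ι j hj' ≫ U.ι) := by
    rw [IsOpenImmersion.lift_fac]; infer_instance
  have : IsOpenImmersion (IsOpenImmersion.lift U.ι j hj') := IsOpenImmersion.of_comp _ U.ι
  have e1 : (N.restrict U.ι).restrict (IsOpenImmersion.lift U.ι j hj') ≅ N.restrict j :=
    ((restrictFunctorComp (IsOpenImmersion.lift U.ι j hj') U.ι).app N).symm ≪≫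
      (restrictFunctorCongr (IsOpenImmersion.lift_fac U.ι j hj')).app N
  have h1 : Epi ((restrictFunctor (IsOpenImmersion.lift U.ι j hj')).map φ) := inferInstance
  exact ⟨(restrictFreeModIso (IsOpenImmersion.lift U.ι j hj') n).inv ≫
    (restrictFunctor (IsOpenImmersion.lift U.ι j hj')).map φ ≫ e1.hom, inferInstance⟩

/-- An epimorphism `O^n ⟶ Q^~` on `Spec R'` gives `n` generators of `Q`. -/
theorem exists_gens_of_epi_tilde {R' : CommRingCat.{u}} (Q : ModuleCat.{u} R') (n : ℕ)
    (ψ : FlatMod.freeMod (Spec R') n ⟶ tilde Q) [Epi ψ] :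
    ∃ g : Fin n → Q, Submodule.span R' (Set.range g) = ⊤ := by
  have hχ : Epi ((tildeFinsuppFreeModIso R' n).hom ≫ ψ) := inferInstance
  obtain ⟨g, hg⟩ := (tilde.functor R').map_surjective ((tildeFinsuppFreeModIso R' n).hom ≫ ψ)
  have : Epi ((tilde.functor R').map g) := by rw [hg]; exact hχ
  have hepi : Epi g := (tilde.functor R').epi_of_epi_map this
  have hsurj : Function.Surjective g.hom := (ModuleCat.epi_iff_surjective g).1 hepi
  refine ⟨fun k => g.hom (Finsupp.single ⟨k⟩ 1), ?_⟩
  rw [eq_top_iff]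
  rintro y -
  obtain ⟨x, rfl⟩ := hsurj y
  induction x using Finsupp.induction_linear with
  | zero => simp
  | add x y hx hy => rw [map_add]; exact Submodule.add_mem _ hx hy
  | single i r =>
    have : (Finsupp.single i r : ULift.{u} (Fin n) →₀ R') =
        r • Finsupp.single i 1 := by simp
    rw [this, LinearMap.map_smul]
    exact Submodule.smul_mem _ _ (Submodule.subset_span ⟨i.down, rfl⟩)

/-- An epimorphism `O_U^n ⟶ M^~|_U` over an open `U ⊇ D(a)` of `Spec R` gives `n` generators of
`R_a ⊗ M` over `R_a`. -/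
theorem exists_gens_away_of_epi {R : CommRingCat.{u}} (M : ModuleCat.{u} R)
    (U : (Spec R).Opens) (n : ℕ)
    (φ : FlatMod.freeMod (↑U) n ⟶ (tilde M).restrict U.ι) [Epi φ] (a : R)
    (ha : (PrimeSpectrum.basicOpen a : Set (PrimeSpectrum R)) ⊆ (U : Set (Spec R))) :
    ∃ g : Fin n → (Localization.Away a ⊗[R] M),
      Submodule.span (Localization.Away a) (Set.range g) = ⊤ := by
  have hj : Set.range (Spec.map (CommRingCat.ofHom
      (algebraMap R (Localization.Away a)))).base ⊆ U := by
    intro y hy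
    apply ha
    have := Scheme.Hom.opensRange_localizationAway a
    rw [← this]
    exact hy
  obtain ⟨ψ, hψ⟩ := exists_epi_restrict
    (Spec.map (CommRingCat.ofHom (algebraMap R (Localization.Away a)))) (tilde M) U n hj φ
  have : Epi (ψ ≫ (restrictTildeAwayIso M a).hom) := inferInstance
  exact exists_gens_of_epi_tilde (R' := .of (Localization.Away a))
    (ModuleCat.of _ (Localization.Away a ⊗[R] M)) n (ψ ≫ (restrictTildeAwayIso M a).hom)

/-- A finite open cover of a prime spectrum is refined by basic opens of a partition of unity. -/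
theorem exists_partition_of_cover {R : Type*} [CommRing R] {m : ℕ}
    (U : Fin m → Opens (PrimeSpectrum R)) (hU : ⨆ i, U i = ⊤) :
    ∃ a : Fin m → R, Ideal.span (Set.range a) = ⊤ ∧
      ∀ i, (PrimeSpectrum.basicOpen (a i) : Set (PrimeSpectrum R)) ⊆ U i := by
  let I : Fin m → Ideal R := fun i => PrimeSpectrum.vanishingIdeal ((U i : Set (PrimeSpectrum R))ᶜ)
  have hI : ⨆ i, I i = ⊤ := by
    rw [← PrimeSpectrum.zeroLocus_empty_iff_eq_top, PrimeSpectrum.zeroLocus_iSup]
    rw [Set.eq_empty_iff_forall_notMem]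
    intro x hx
    have hx' : x ∈ (⨆ i, U i : Opens (PrimeSpectrum R)) := by rw [hU]; trivial
    obtain ⟨i, hi⟩ := Opens.mem_iSup.1 hx'
    have h1 := Set.mem_iInter.1 hx i
    rw [PrimeSpectrum.zeroLocus_vanishingIdeal_eq_closure,
      (U i).isOpen.isClosed_compl.closure_eq] at h1
    exact h1 hi
  have h1 : (1 : R) ∈ ⨆ i, I i := by rw [hI]; trivial
  rw [Submodule.mem_iSup_iff_exists_finsupp] at h1
  obtain ⟨f, hf, hsum⟩ := h1
  refine ⟨fun i => f i, ?_, fun i x hx => ?_⟩
  · rw [Ideal.eq_top_iff_one, ← hsum, Finsupp.sum]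
    exact Submodule.sum_mem _ fun i _ => Ideal.subset_span ⟨i, rfl⟩
  · by_contra hxU
    have := (PrimeSpectrum.mem_vanishingIdeal _ _).1 (hf i) x hxU
    exact hx this

theorem exists_generators_card_mul_of_open_cover (R : CommRingCat.{u}) (M : ModuleCat.{u} R)
    (n m : ℕ) (U : Fin m → (Spec R).Opens) (hU : ⨆ i, U i = ⊤)
    (hgen : ∀ i, ∃ φ : FlatMod.freeMod (↑(U i)) n ⟶
      (AlgebraicGeometry.tilde M).restrict (U i).ι, Epi φ) :
    ∃ s : Fin (n * m) → M, Submodule.span R (Set.range s) = ⊤ := by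
  obtain ⟨a, ha, haU⟩ := exists_partition_of_cover (R := R) U hU
  have key : ∀ i, ∃ t : Fin n → M, ∀ x : M, ∃ N : ℕ,
      (a i) ^ N • x ∈ Submodule.span R (Set.range t) := by
    intro i
    obtain ⟨φ, hφ⟩ := hgen i
    obtain ⟨g, hg⟩ := exists_gens_away_of_epi M (U i) n φ (a i) (haU i)
    exact exists_gens_of_localization (a i) (R' := Localization.Away (a i))
      (TensorProduct.mk R (Localization.Away (a i)) M 1) g hg
  choose t ht using key
  exact span_eq_top_of_cover a ha t ht

end Groth.Agent.Lib.Helper90.GenCover
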