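import Groth.Agent.Lib.Helper90.PairHzUnique

set_option autoImplicit false
set_option linter.style.haveILetI false
universe u

namespace Groth.Agent.Lib.Helper90.PairHz

variable {A : Type u} [CommRing A] (I : Ideal A)

/-- If `A/I → B/IB` is surjective then so is `A/I^n → B/I^n B`. -/
theorem QuotBij.pow_surj {B : Type*} [CommRing B] [Algebra A B] (h : QuotBij I B) (n : ℕ) :
    ∀ z : B, ∃ a : A, z - algebraMap A B a ∈ (I ^ n).map (algebraMap A B) := by
  induction n with
  | zero =>
    intro z
    refine ⟨0, ?_⟩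
    rw [pow_zero, Ideal.one_eq_top, Ideal.map_top]
    exact Submodule.mem_top
  | succ n ih =>
    -- elements of `I^n B` lie in `alg(I^n) + I^(n+1) B`
    have key : ∀ w ∈ (I ^ n).map (algebraMap A B),
        ∃ a ∈ I ^ n, w - algebraMap A B a ∈ (I ^ (n + 1)).map (algebraMap A B) := by
      intro w hw
      refine Submodule.span_induction (p := fun w _ => ∃ a ∈ I ^ n,
        w - algebraMap A B a ∈ (I ^ (n + 1)).map (algebraMap A B)) ?_ ?_ ?_ ?_ hw
      · rintro _ ⟨k, hk, rfl⟩
        exact ⟨k, hk, by simp⟩
      · exact ⟨0, zero_mem _, by simp⟩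
      · rintro x y _ _ ⟨a, ha, hxa⟩ ⟨b, hb, hyb⟩
        refine ⟨a + b, add_mem ha hb, ?_⟩
        have : x + y - algebraMap A B (a + b) = (x - algebraMap A B a) + (y - algebraMap A B b) := by
          rw [map_add]; ring
        rw [this]
        exact add_mem hxa hyb
      · rintro b x _ ⟨a, ha, hxa⟩
        obtain ⟨c, hc⟩ := h.surj b
        refine ⟨c * a, Ideal.mul_mem_left _ _ ha, ?_⟩
        have : b • x - algebraMap A B (c * a) =
            b * (x - algebraMap A B a) + (b - algebraMap A B c) * algebraMap A B a := by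
          rw [map_mul, smul_eq_mul]; ring
        rw [this]
        refine add_mem (Ideal.mul_mem_left _ _ hxa) ?_
        rw [pow_succ', Ideal.map_mul]
        exact Ideal.mul_mem_mul hc (Ideal.mem_map_of_mem _ ha)
    intro z
    obtain ⟨a, ha⟩ := ih z
    obtain ⟨a', -, ha'⟩ := key _ ha
    refine ⟨a + a', ?_⟩
    have : z - algebraMap A B (a + a') = z - algebraMap A B a - algebraMap A B a' := by
      rw [map_add]; ring
    rw [this]
    exact ha'

/-- For a flat `B` with `A/I ≅ B/IB`, an ideal `K` containing a power of `I` is contracted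
from `B`. -/
theorem QuotBij.mem_of_flat {B : Type*} [CommRing B] [Algebra A B] [Module.Flat A B]
    (h : QuotBij I B) (K : Ideal A) (n : ℕ) (hK : I ^ n ≤ K) (a : A)
    (ha : algebraMap A B a ∈ K.map (algebraMap A B)) : a ∈ K := by
  classical
  obtain ⟨t, htK, c, hc⟩ := (Submodule.mem_span_image_iff_exists_fun (R := B)
    (v := algebraMap A B) (s := (K : Set A))).mp ha
  -- the relation
  let f : Option t → A := fun o => o.elim a (fun i => -(i : A))
  let x : Option t → B := fun o => o.elim 1 c
  have hrel : ∑ o, f o • x o = 0 := by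
    rw [Fintype.sum_option]
    change a • (1 : B) + ∑ i : t, (-(i : A)) • c i = 0
    rw [Algebra.smul_def, mul_one, ← hc, ← Finset.sum_add_distrib]
    refine Finset.sum_eq_zero fun i _ => ?_
    have e1 : c i • algebraMap A B (i : A) = c i * algebraMap A B (i : A) := smul_eq_mul _ _
    have e2 : (-(i : A)) • c i = -(algebraMap A B (i : A) * c i) := by
      rw [Algebra.smul_def, map_neg, neg_mul]
    rw [e1, e2]; ring
  obtain ⟨k, am, y, hy, ham⟩ := Module.Flat.isTrivialRelation_of_sum_smul_eq_zero
    (R := A) (M := B) (f := f) (x := x) hrel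
  have h1 : (1 : B) = ∑ j, am none j • y j := hy none
  have h2 : ∀ j, a * am none j ∈ K := by
    intro j
    have := ham j
    rw [Fintype.sum_option] at this
    change a * am none j + ∑ i : t, (-(i : A)) * am (some i) j = 0 at this
    have h3 : a * am none j = ∑ i : t, (i : A) * am (some i) j := by
      rw [← sub_eq_zero, ← this, sub_eq_add_neg, ← Finset.sum_neg_distrib]
      congr 1
      refine Finset.sum_congr rfl fun i _ => ?_
      ring
    rw [h3]
    exact Ideal.sum_mem _ fun i _ => Ideal.mul_mem_right _ _ (htK i.2)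
  choose cj hcj using fun j => h.surj (y j)
  let c₀ : A := ∑ j, am none j * cj j
  have h4 : algebraMap A B (1 - c₀) ∈ I.map (algebraMap A B) := by
    have : algebraMap A B (1 - c₀) = ∑ j, am none j • (y j - algebraMap A B (cj j)) := by
      rw [map_sub, map_one, h1, map_sum, ← Finset.sum_sub_distrib]
      refine Finset.sum_congr rfl fun j _ => ?_
      rw [Algebra.smul_def, Algebra.smul_def, map_mul]; ring
    rw [this]
    exact Ideal.sum_mem _ fun j _ => Submodule.smul_of_tower_mem _ _ (hcj j)
  have h5 : 1 - c₀ ∈ I := h.inj _ h4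
  have h6 : a * c₀ ∈ K := by
    change a * ∑ j, am none j * cj j ∈ K
    rw [Finset.mul_sum]
    refine Ideal.sum_mem _ fun j _ => ?_
    rw [← mul_assoc]
    exact Ideal.mul_mem_right _ _ (h2 j)
  have h7 : (1 - c₀) ^ n ∈ K := hK (Ideal.pow_mem_pow h5 n)
  obtain ⟨q, hq⟩ : c₀ ∣ 1 - (1 - c₀) ^ n := by
    have := sub_dvd_pow_sub_pow (1 : A) (1 - c₀) n
    rwa [one_pow, sub_sub_cancel] at this
  have : a = a * (1 - c₀) ^ n + (a * c₀) * q := by
    rw [mul_assoc, ← hq]; ring
  rw [this]
  exact add_mem (Ideal.mul_mem_left _ _ h7) (Ideal.mul_mem_right _ _ h6)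

theorem QuotBij.pow {B : Type*} [CommRing B] [Algebra A B] [Module.Flat A B]
    (h : QuotBij I B) (n : ℕ) : QuotBij (I ^ n) B :=
  ⟨h.pow_surj I n, fun a ha => h.mem_of_flat I (I ^ n) n le_rfl a ha⟩

/-- The henselization of `(A, I)` has the same quotients modulo all powers of `I`. -/
theorem quotBij_pow_of_isPairHenselization {B : Type u} [CommRing B] [Algebra A B]
    (hB : Hens2.IsPairHenselization A I B) (n : ℕ) : QuotBij (I ^ n) B := by
  haveI := flat_of_isPairHenselization I hB
  exact (quotBij_of_isPairHenselization I hB).pow I n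

end Groth.Agent.Lib.Helper90.PairHz
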