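import Groth.Agent.Lib.Helper90.PairHzUnique
import Groth.Agent.Lib.Helper65.SpreadOut

set_option autoImplicit false
set_option linter.style.haveILetI false
universe u

namespace Groth.Agent.Lib.Helper90.PairHz

variable {A : Type u} [CommRing A] (I : Ideal A)

/-- The canonical map from a good neighbourhood, through an index presentation. -/
theorem ofGood_eq_of_equiv (B : Type u) [CommRing B] [Algebra A B] (hB : IsGood I B)
    (j : GIdx I) (e : j.1.Ring ≃ₐ[A] B) (b : B) :
    ofGood I B hB b = ofL I j (algebraMap _ _ (e.symm b)) := by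
  have : ofGood I B hB = (ofGood I j.1.Ring j.2).comp e.symm.toAlgHom := algHom_ext_Hz I hB _ _
  rw [this]
  exact ofGood_ring I j (e.symm b)

/-- An element of a good neighbourhood dying in the henselization dies in a further good
neighbourhood. -/
theorem exists_good_of_ofGood_eq_zero (B : Type u) [CommRing B] [Algebra A B] (hB : IsGood I B)
    (s : B) (h : ofGood I B hB s = 0) :
    ∃ (B' : Type u) (_ : CommRing B') (_ : Algebra A B') (_ : IsGood I B'),
      ∃ ψ : B →ₐ[A] B', ψ s = 0 := by
  obtain ⟨j, ⟨e⟩⟩ := exists_gidx I B hB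
  rw [ofGood_eq_of_equiv I B hB j e] at h
  obtain ⟨j', hjj', hz⟩ := ofL_eq_zero I h
  let φ : B →ₐ[A] GIdx.L I j' :=
    ((tr I j j' hjj').comp (IsScalarTower.toAlgHom A j.1.Ring (GIdx.L I j))).comp e.symm.toAlgHom
  have hφs : φ s = 0 := hz
  haveI := hB.1
  haveI : Algebra.FinitePresentation A B := inferInstance
  obtain ⟨t, ht, φt, hφt⟩ := Groth.Agent.Lib.Helper65.SpreadOut.exists_lift_away (R := A) (S := B)
    (C := j'.1.Ring) (onePlus I j'.1.Ring) (CT := GIdx.L I j') φ
  have hunit : IsUnit ((Algebra.ofId j'.1.Ring (GIdx.L I j')) t) :=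
    IsLocalization.map_units (GIdx.L I j') (⟨t, ht⟩ : onePlus I j'.1.Ring)
  let κ : Localization.Away t →ₐ[j'.1.Ring] GIdx.L I j' :=
    IsLocalization.Away.liftAlgHom (A := j'.1.Ring) (R := j'.1.Ring) (S := Localization.Away t) t
      (f := Algebra.ofId j'.1.Ring (GIdx.L I j')) hunit
  have hκ : κ (φt s) = 0 := (hφt κ s).trans hφs
  obtain ⟨n, c, hc⟩ := IsLocalization.Away.surj t (φt s) (S := Localization.Away t)
  have hc0 : algebraMap j'.1.Ring (GIdx.L I j') c = 0 := by
    have := congrArg κ hc
    rw [map_mul, hκ, zero_mul, AlgHom.commutes] at this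
    exact this.symm
  obtain ⟨⟨m, hm⟩, hmc⟩ := (IsLocalization.map_eq_zero_iff (onePlus I j'.1.Ring)
    (GIdx.L I j') c).mp hc0
  have htm : t * m ∈ onePlus I j'.1.Ring := mul_mem ht hm
  have hgood : IsGood I (Localization.Away (t * m)) := j'.2.away I htm
  have hunit' : IsUnit ((IsScalarTower.toAlgHom A j'.1.Ring (Localization.Away (t * m))) t) :=
    IsLocalization.Away.isUnit_of_dvd (t * m) (dvd_mul_right _ _)
  let χ : Localization.Away t →ₐ[A] Localization.Away (t * m) :=
    IsLocalization.Away.liftAlgHom (A := A) (R := j'.1.Ring) (S := Localization.Away t) t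
      (f := IsScalarTower.toAlgHom A j'.1.Ring (Localization.Away (t * m))) hunit'
  have hχ : ∀ b : j'.1.Ring, χ (algebraMap _ _ b) = algebraMap _ _ b := fun b =>
    IsLocalization.Away.lift_eq t hunit' b
  refine ⟨Localization.Away (t * m), inferInstance, inferInstance, hgood, χ.comp φt, ?_⟩
  rw [AlgHom.comp_apply]
  have h1 := congrArg χ hc
  rw [map_mul, map_pow, hχ, hχ] at h1
  have hmu : IsUnit (algebraMap j'.1.Ring (Localization.Away (t * m)) m) :=
    IsLocalization.Away.isUnit_of_dvd (t * m) (dvd_mul_left _ _)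
  have htu : IsUnit ((algebraMap j'.1.Ring (Localization.Away (t * m)) t) ^ n) := hunit'.pow n
  have h2 : algebraMap j'.1.Ring (Localization.Away (t * m)) c = 0 := by
    have : algebraMap j'.1.Ring (Localization.Away (t * m)) m *
        algebraMap j'.1.Ring (Localization.Away (t * m)) c = 0 := by
      rw [← map_mul]
      simp only at hmc
      rw [hmc, map_zero]
    exact (hmu.mul_right_eq_zero).mp this
  rw [h2] at h1
  exact (htu.mul_left_eq_zero).mp h1

end Groth.Agent.Lib.Helper90.PairHz
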