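import Groth.Agent.Lib.Helper90.PairHzProps

set_option autoImplicit false
set_option linter.style.haveILetI false
universe u

namespace Groth.Agent.Lib.Helper90.PairHz

variable {A : Type u} [CommRing A] (I : Ideal A)

/-- Finitely many elements of the henselization come from a common localized neighbourhood. -/
theorem exists_common_L (s : Finset (Hz I)) :
    ∃ (k : GIdx I), ∀ z ∈ s, ∃ l : GIdx.L I k, ofL I k l = z := by
  classical
  induction s using Finset.induction_on with
  | empty => exact ⟨Classical.arbitrary _, by simp⟩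
  | insert z s _ ih =>
    obtain ⟨k, hk⟩ := ih
    obtain ⟨j, l, rfl⟩ := exists_ofL I z
    obtain ⟨m, hkm, hjm⟩ := exists_ge_ge k j
    refine ⟨m, fun w hw => ?_⟩
    rcases Finset.mem_insert.mp hw with rfl | hw
    · exact ⟨tr I j m hjm l, ofL_tr I hjm l⟩
    · obtain ⟨l', rfl⟩ := hk w hw
      exact ⟨tr I k m hkm l', ofL_tr I hkm l'⟩

/-- Finitely many elements of the henselization come from a common good neighbourhood. -/
theorem exists_good_range (s : Finset (Hz I)) :
    ∃ (B : Type u) (_ : CommRing B) (_ : Algebra A B) (hB : IsGood I B),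
      ∀ z ∈ s, z ∈ Set.range (ofGood I B hB) := by
  classical
  obtain ⟨k, hk⟩ := exists_common_L I s
  choose! l hl using hk
  obtain ⟨⟨m, hm⟩, hmint⟩ :=
    IsLocalization.exist_integer_multiples_of_finset (onePlus I k.1.Ring) (s.image l)
  have hgood : IsGood I (Localization.Away m) := k.2.away I hm
  have hunit : IsUnit ((IsScalarTower.toAlgHom A k.1.Ring (GIdx.L I k)) m) :=
    IsLocalization.map_units (GIdx.L I k) (⟨m, hm⟩ : onePlus I k.1.Ring)
  let φ : Localization.Away m →ₐ[A] GIdx.L I k :=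
    IsLocalization.Away.liftAlgHom m (f := IsScalarTower.toAlgHom A k.1.Ring (GIdx.L I k)) hunit
  have hφ : ∀ b : k.1.Ring, φ (algebraMap _ _ b) = algebraMap _ _ b := fun b =>
    IsLocalization.Away.lift_eq m hunit b
  have hof : ofGood I (Localization.Away m) hgood = (ofLₐ I k).comp φ :=
    algHom_ext_Hz I hgood _ _
  refine ⟨Localization.Away m, inferInstance, inferInstance, hgood, fun z hz => ?_⟩
  obtain ⟨b, hb⟩ := hmint (l z) (Finset.mem_image_of_mem l hz)
  -- `algebraMap b = m • l z`
  have hmu : IsUnit (algebraMap k.1.Ring (Localization.Away m) m) :=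
    IsLocalization.Away.algebraMap_isUnit m
  obtain ⟨u, hu⟩ := hmu
  refine ⟨algebraMap _ _ b * ↑u⁻¹, ?_⟩
  rw [hof, AlgHom.comp_apply, map_mul, hφ, hb]
  have h1 : φ (↑u⁻¹ : Localization.Away m) * algebraMap k.1.Ring (GIdx.L I k) m = 1 := by
    rw [← hφ m, ← map_mul, ← hu, Units.inv_mul, map_one]
  have h2 : ((⟨m, hm⟩ : onePlus I k.1.Ring) : k.1.Ring) • l z =
      algebraMap k.1.Ring (GIdx.L I k) m * l z :=
    Algebra.smul_def (R := k.1.Ring) (A := GIdx.L I k) m (l z)
  rw [h2, ofLₐ_apply]
  conv_rhs => rw [← hl z hz]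
  congr 1
  calc algebraMap k.1.Ring (GIdx.L I k) m * l z * φ (↑u⁻¹ : Localization.Away m)
      = (φ (↑u⁻¹ : Localization.Away m) * algebraMap k.1.Ring (GIdx.L I k) m) * l z := by ring
    _ = l z := by rw [h1, one_mul]

end Groth.Agent.Lib.Helper90.PairHz
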