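import Groth.Agent.Lib.Helper90.PairHzUniv
import Groth.Agent.Lib.Helper90.PairHzRange

set_option autoImplicit false
set_option linter.style.haveILetI false
universe u v w

open TensorProduct

namespace Groth.Agent.Lib.Helper90.PairHz

/-- A module which is a "filtered union" of flat modules is flat (abstract direct limit form). -/
theorem flat_of_directed_cover {A : Type u} [CommRing A] {M : Type v} [AddCommGroup M] [Module A M]
    {ι : Type w} (N : ι → Type v) [∀ i, AddCommGroup (N i)] [∀ i, Module A (N i)]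
    [∀ i, Module.Flat A (N i)] (φ : ∀ i, N i →ₗ[A] M)
    (h1 : ∀ s : Finset M, ∃ i, ∀ z ∈ s, ∃ y : N i, φ i y = z)
    (h2 : ∀ (i : ι) (y : N i), φ i y = 0 → ∃ (j : ι) (g : N i →ₗ[A] N j),
      (∀ y, φ j (g y) = φ i y) ∧ g y = 0) : Module.Flat A M := by
  classical
  apply Module.Flat.of_forall_isTrivialRelation
  intro l f x hfx
  obtain ⟨k, hk⟩ := h1 (Finset.univ.image x)
  have hk' : ∀ i, ∃ y : N k, φ k y = x i := fun i =>
    hk (x i) (Finset.mem_image_of_mem x (Finset.mem_univ i))
  choose y hy using hk'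
  have h0 : φ k (∑ i, f i • y i) = 0 := by
    rw [map_sum, ← hfx]
    refine Finset.sum_congr rfl fun i _ => ?_
    rw [← hy i, map_smul]
  obtain ⟨k', g, hg, hz⟩ := h2 k _ h0
  have hrel : ∑ i, f i • (g (y i)) = 0 := by
    rw [← hz, map_sum]
    refine Finset.sum_congr rfl fun i _ => ?_
    rw [map_smul]
  obtain ⟨n, a, w, hw1, hw2⟩ := Module.Flat.isTrivialRelation_of_sum_smul_eq_zero hrel
  refine ⟨n, a, fun j => φ k' (w j), fun i => ?_, hw2⟩
  have hw1' : g (y i) = ∑ j, a i j • w j := hw1 i
  rw [← hy i, ← hg (y i), hw1', map_sum]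
  refine Finset.sum_congr rfl fun j _ => ?_
  rw [map_smul]

variable {A : Type u} [CommRing A] (I : Ideal A)

/-- Two henselizations of the same pair are uniquely isomorphic. -/
theorem nonempty_algEquiv_of_isPairHenselization {B B' : Type u} [CommRing B] [Algebra A B]
    [CommRing B'] [Algebra A B'] (hB : Hens2.IsPairHenselization A I B)
    (hB' : Hens2.IsPairHenselization A I B') : Nonempty (B ≃ₐ[A] B') := by
  obtain ⟨g, hg, -⟩ := hB.2 B' (I.map (algebraMap A B')) (algebraMap A B') hB'.1 le_rfl
  obtain ⟨h, hh, -⟩ := hB'.2 B (I.map (algebraMap A B)) (algebraMap A B) hB.1 le_rfl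
  obtain ⟨i, -, hi⟩ := hB.2 B (I.map (algebraMap A B)) (algebraMap A B) hB.1 le_rfl
  obtain ⟨i', -, hi'⟩ := hB'.2 B' (I.map (algebraMap A B')) (algebraMap A B') hB'.1 le_rfl
  simp only at hg hh hi hi'
  have h1 : h.comp g = RingHom.id B := by
    rw [hi (h.comp g) (by rw [RingHom.comp_assoc, hg, hh]), hi (RingHom.id B) (by simp)]
  have h2 : g.comp h = RingHom.id B' := by
    rw [hi' (g.comp h) (by rw [RingHom.comp_assoc, hh, hg]), hi' (RingHom.id B') (by simp)]
  exact ⟨AlgEquiv.ofRingEquiv (f := RingEquiv.ofRingHom g h h2 h1) (fun a => congr($hg a))⟩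

/-- Every henselization of `(A, I)` is isomorphic to the constructed one. -/
theorem nonempty_algEquiv_Hz {B : Type u} [CommRing B] [Algebra A B]
    (hB : Hens2.IsPairHenselization A I B) : Nonempty (B ≃ₐ[A] Hz I) :=
  nonempty_algEquiv_of_isPairHenselization I hB (isPairHenselization_Hz I)

/-- The relative quotient is unchanged by henselization. -/
theorem quotBij_of_isPairHenselization {B : Type u} [CommRing B] [Algebra A B]
    (hB : Hens2.IsPairHenselization A I B) : QuotBij I B := by
  obtain ⟨e⟩ := nonempty_algEquiv_Hz I hB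
  exact (quotBij_Hz I).of_algEquiv I e.symm

theorem flat_L (k : GIdx I) : Module.Flat A (GIdx.L I k) :=
  Module.Flat.trans A k.1.Ring (GIdx.L I k)

/-- The henselization is flat. -/
instance flat_Hz : Module.Flat A (Hz I) := by
  haveI : ∀ k : GIdx I, Module.Flat A (GIdx.L I k) := flat_L I
  refine flat_of_directed_cover (fun k : GIdx I => GIdx.L I k)
    (fun k => (ofLₐ I k).toLinearMap) (fun s => exists_common_L I s) ?_
  intro k y hy
  obtain ⟨k', hkk', hz⟩ := ofL_eq_zero I (j := k) (x := y) hy
  exact ⟨k', (tr I k k' hkk').toLinearMap, fun z => ofL_tr I hkk' z, hz⟩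

theorem flat_of_isPairHenselization {B : Type u} [CommRing B] [Algebra A B]
    (hB : Hens2.IsPairHenselization A I B) : Module.Flat A B := by
  obtain ⟨e⟩ := nonempty_algEquiv_Hz I hB
  exact Module.Flat.of_linearEquiv e.toLinearEquiv

end Groth.Agent.Lib.Helper90.PairHz
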