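import Mathlib
import Groth.Agent.Lib.Helper90.PairHzKer
import Groth.Agent.Lib.Helper90.PairHzRange
import Groth.Agent.Lib.Helper90.PairHzUnique

set_option autoImplicit false
set_option linter.style.haveILetI false
universe u

namespace Groth.Agent.Lib.Helper90.PairHz

variable {A : Type u} [CommRing A] (I : Ideal A)

/-- Finitely many elements of a good neighbourhood dying in the henselization die in a further
good neighbourhood. -/
theorem exists_good_kill (B : Type u) [CommRing B] [Algebra A B] (hB : IsGood I B)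
    (s : Finset B) (h : ∀ b ∈ s, ofGood I B hB b = 0) :
    ∃ (B' : Type u) (_ : CommRing B') (_ : Algebra A B') (_ : IsGood I B'),
      ∃ ψ : B →ₐ[A] B', ∀ b ∈ s, ψ b = 0 := by
  classical
  induction s using Finset.induction_on with
  | empty => exact ⟨B, inferInstance, inferInstance, hB, AlgHom.id A B, by simp⟩
  | insert b s _ ih =>
    obtain ⟨B₁, _, _, hB₁, ψ₁, hψ₁⟩ := ih (fun x hx => h x (Finset.mem_insert_of_mem hx))
    have h1 : ofGood I B₁ hB₁ (ψ₁ b) = 0 := by
      have : (ofGood I B₁ hB₁).comp ψ₁ = ofGood I B hB := algHom_ext_Hz I hB _ _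
      rw [← AlgHom.comp_apply, this]
      exact h b (Finset.mem_insert_self _ _)
    obtain ⟨B₂, _, _, hB₂, ψ₂, hψ₂⟩ := exists_good_of_ofGood_eq_zero I B₁ hB₁ (ψ₁ b) h1
    refine ⟨B₂, inferInstance, inferInstance, hB₂, ψ₂.comp ψ₁, fun x hx => ?_⟩
    rcases Finset.mem_insert.mp hx with rfl | hx
    · exact hψ₂
    · rw [AlgHom.comp_apply, hψ₁ x hx, map_zero]

/-- A map from a finitely presented algebra to the henselization factors through a good
neighbourhood. -/
theorem exists_good_factor (R₀ : Type u) [CommRing R₀] [Algebra A R₀]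
    [Algebra.FinitePresentation A R₀] (χ : R₀ →ₐ[A] Hz I) :
    ∃ (B : Type u) (_ : CommRing B) (_ : Algebra A B) (hB : IsGood I B) (φ : R₀ →ₐ[A] B),
      (ofGood I B hB).comp φ = χ := by
  classical
  obtain ⟨n, π, hπ, s, hs⟩ := Algebra.FinitePresentation.out (R := A) (A := R₀)
  obtain ⟨B₀, _, _, hB₀, hrange⟩ := exists_good_range I
    (Finset.univ.image (fun i : Fin n => χ (π (MvPolynomial.X i))))
  have hr : ∀ i : Fin n, ∃ b : B₀, ofGood I B₀ hB₀ b = χ (π (MvPolynomial.X i)) := fun i =>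
    hrange _ (Finset.mem_image_of_mem _ (Finset.mem_univ i))
  choose r hr using hr
  let θ₁ : MvPolynomial (Fin n) A →ₐ[A] B₀ := MvPolynomial.aeval r
  have hθ₁ : (ofGood I B₀ hB₀).comp θ₁ = χ.comp π := by
    apply MvPolynomial.algHom_ext
    intro i
    change ofGood I B₀ hB₀ (MvPolynomial.aeval r (MvPolynomial.X i)) = _
    rw [MvPolynomial.aeval_X]
    exact hr i
  have hzero : ∀ b ∈ s.image θ₁, ofGood I B₀ hB₀ b = 0 := by
    intro b hb
    obtain ⟨p, hp, rfl⟩ := Finset.mem_image.mp hb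
    have h1 : ofGood I B₀ hB₀ (θ₁ p) = χ (π p) := congr($hθ₁ p)
    have h2 : π p = 0 := by
      have : p ∈ RingHom.ker π.toRingHom := by
        rw [← hs]; exact Ideal.subset_span hp
      exact this
    rw [h1, h2, map_zero]
  obtain ⟨B', _, _, hB', ψ, hψ⟩ := exists_good_kill I B₀ hB₀ (s.image θ₁) hzero
  let θ₂ : MvPolynomial (Fin n) A →ₐ[A] B' := ψ.comp θ₁
  have hker : RingHom.ker π.toRingHom ≤ RingHom.ker θ₂.toRingHom := by
    rw [← hs, Ideal.span_le]
    intro p hp
    exact hψ _ (Finset.mem_image_of_mem _ hp)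
  let φ₀ : R₀ →ₐ[A] B' := AlgHom.liftOfSurjective π hπ θ₂ hker
  refine ⟨B', inferInstance, inferInstance, hB', φ₀, ?_⟩
  ext x
  obtain ⟨p, rfl⟩ := hπ x
  rw [AlgHom.comp_apply, AlgHom.liftOfSurjective_apply]
  change ofGood I B' hB' (ψ (θ₁ p)) = _
  have : (ofGood I B' hB').comp ψ = ofGood I B₀ hB₀ := algHom_ext_Hz I hB₀ _ _
  rw [← AlgHom.comp_apply, this]
  exact congr($hθ₁ p)

/-- A map from a finitely presented algebra to a henselization of `(A, I)` factors through a good
neighbourhood. -/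
theorem exists_good_factor_of_isPairHenselization {C : Type u} [CommRing C] [Algebra A C]
    (hC : Hens2.IsPairHenselization A I C) (R₀ : Type u) [CommRing R₀] [Algebra A R₀]
    [Algebra.FinitePresentation A R₀] (χ : R₀ →ₐ[A] C) :
    ∃ (B : Type u) (_ : CommRing B) (_ : Algebra A B) (_ : IsGood I B) (g : B →ₐ[A] C)
      (φ : R₀ →ₐ[A] B), g.comp φ = χ := by
  obtain ⟨e⟩ := nonempty_algEquiv_Hz I hC
  obtain ⟨B, _, _, hB, φ, hφ⟩ := exists_good_factor I R₀ (e.toAlgHom.comp χ)
  refine ⟨B, inferInstance, inferInstance, hB, e.symm.toAlgHom.comp (ofGood I B hB), φ, ?_⟩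
  rw [AlgHom.comp_assoc, hφ]
  ext x
  simp

end Groth.Agent.Lib.Helper90.PairHz
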