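import Mathlib
import Groth.Agent.Lib.Helper90.PairHzFactor

set_option autoImplicit false
set_option linter.style.haveILetI false
universe u

namespace Groth.Agent.Lib.Helper90.PairHz

variable {A : Type u} [CommRing A] (I : Ideal A)

/-- Finitely many elements of a henselization of `(A, I)` come from a good neighbourhood. -/
theorem exists_good_range_of_isPairHenselization {C : Type u} [CommRing C] [Algebra A C]
    (hC : Hens2.IsPairHenselization A I C) (s : Finset C) :
    ∃ (B : Type u) (_ : CommRing B) (_ : Algebra A B) (_ : IsGood I B) (g : B →ₐ[A] C),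
      ∀ z ∈ s, z ∈ Set.range g := by
  classical
  obtain ⟨e⟩ := nonempty_algEquiv_Hz I hC
  obtain ⟨B, _, _, hB, hr⟩ := exists_good_range I (s.image e)
  refine ⟨B, inferInstance, inferInstance, hB, e.symm.toAlgHom.comp (ofGood I B hB), fun z hz => ?_⟩
  obtain ⟨b, hb⟩ := hr (e z) (Finset.mem_image_of_mem _ hz)
  exact ⟨b, by simp [hb]⟩

end Groth.Agent.Lib.Helper90.PairHz
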