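import Groth.Agent.Lib.Helper90.PairHzQuot

set_option autoImplicit false
set_option linter.style.haveILetI false
universe u

namespace Groth.Agent.Lib.Helper90.PairHz

/-- The henselization of `(R₁, J₁)` is also the henselization of any good etale neighbourhood
`P'` mapping to it. -/
theorem isPairHenselization_over_good {R₁ : Type u} [CommRing R₁] (J₁ : Ideal R₁)
    {P : Type u} [CommRing P] [Algebra R₁ P] (hP : Hens2.IsPairHenselization R₁ J₁ P)
    {P' : Type u} [CommRing P'] [Algebra R₁ P'] (hP' : IsGood J₁ P') [Algebra P' P]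
    [IsScalarTower R₁ P' P] :
    Hens2.IsPairHenselization P' (J₁.map (algebraMap R₁ P')) P := by
  have hmap : (J₁.map (algebraMap R₁ P')).map (algebraMap P' P) = J₁.map (algebraMap R₁ P) := by
    rw [Ideal.map_map, ← IsScalarTower.algebraMap_eq]
  haveI := hP'.1
  refine ⟨hmap ▸ hP.1, fun C _ JC f hCJ hIJ => ?_⟩
  have hIJ₀ : J₁.map (f.comp (algebraMap R₁ P')) ≤ JC := by
    rw [← Ideal.map_map]; exact hIJ
  obtain ⟨g, hg, hguniq⟩ := hP.2 C JC (f.comp (algebraMap R₁ P')) hCJ hIJ₀
  simp only at hg hguniq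
  letI : Algebra R₁ C := (f.comp (algebraMap R₁ P')).toAlgebra
  have hjac : J₁.map (algebraMap R₁ C) ≤ Ideal.jacobson ⊥ := hIJ₀.trans hCJ.jac
  let f₁ : P' →ₐ[R₁] C := { f with commutes' := fun _ => rfl }
  let f₂ : P' →ₐ[R₁] C :=
    { g.comp (algebraMap P' P) with
      commutes' := fun r => by
        change g (algebraMap P' P (algebraMap R₁ P' r)) = f (algebraMap R₁ P' r)
        rw [← IsScalarTower.algebraMap_apply]
        exact congr($hg r) }
  have h12 : f₂ = f₁ := algHom_ext_of_quotBij J₁ (hP'.quotBij J₁) hjac f₂ f₁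
  refine ⟨g, ?_, ?_⟩
  · exact congr(($h12).toRingHom)
  · intro g' hg'
    apply hguniq
    rw [IsScalarTower.algebraMap_eq R₁ P' P, ← RingHom.comp_assoc, hg']

variable {A : Type u} [CommRing A] (I : Ideal A)

/-- A quotient of a henselized finitely presented algebra by a finitely generated ideal is the
henselization of a finitely presented algebra. -/
theorem exists_fp_isPairHenselization_of_surjective
    {R₁ : Type u} [CommRing R₁] [Algebra A R₁] [Algebra.FinitePresentation A R₁]
    {P : Type u} [CommRing P] [Algebra R₁ P] [Algebra A P] [IsScalarTower A R₁ P]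
    (hP : Hens2.IsPairHenselization R₁ (I.map (algebraMap A R₁)) P)
    {B : Type u} [CommRing B] [Algebra A B] (φ : P →ₐ[A] B) (hφ : Function.Surjective φ)
    (hfg : (RingHom.ker φ.toRingHom).FG) :
    ∃ (R : Type u) (_ : CommRing R) (_ : Algebra A R) (_ : Algebra R B) (_ : IsScalarTower A R B),
      Algebra.FinitePresentation A R ∧
        Hens2.IsPairHenselization R (I.map (algebraMap A R)) B := by
  classical
  obtain ⟨e⟩ := nonempty_algEquiv_Hz (I.map (algebraMap A R₁)) hP
  obtain ⟨s, hs⟩ := hfg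
  obtain ⟨P', _, _, hP', hrange⟩ := exists_good_range (I.map (algebraMap A R₁)) (s.image e)
  let ψ : P' →ₐ[R₁] P := e.symm.toAlgHom.comp (ofGood (I.map (algebraMap A R₁)) P' hP')
  have hψ : ∀ k ∈ s, ∃ k' : P', ψ k' = k := by
    intro k hk
    obtain ⟨k', hk'⟩ := hrange (e k) (Finset.mem_image_of_mem e hk)
    refine ⟨k', ?_⟩
    change e.symm (ofGood (I.map (algebraMap A R₁)) P' hP' k') = k
    rw [hk', AlgEquiv.symm_apply_apply]
  choose! k' hk' using hψ
  let K' : Ideal P' := Ideal.span ((s.image k' : Finset P') : Set P')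
  have hK'fg : K'.FG := ⟨s.image k', rfl⟩
  have hK'map : K'.map ψ.toRingHom = RingHom.ker φ.toRingHom := by
    rw [← hs, Ideal.map_span]
    congr 1
    ext x
    simp only [Finset.coe_image, Set.mem_image, Finset.mem_coe]
    constructor
    · rintro ⟨_, ⟨k, hk, rfl⟩, rfl⟩
      change ψ (k' k) ∈ _
      rw [hk' k hk]; exact hk
    · intro hx
      exact ⟨k' x, ⟨x, hx, rfl⟩, hk' x hx⟩
  letI : Algebra A P' := ((algebraMap R₁ P').comp (algebraMap A R₁)).toAlgebra
  haveI : IsScalarTower A R₁ P' := IsScalarTower.of_algebraMap_eq (fun _ => rfl)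
  haveI : Algebra.Etale R₁ P' := hP'.1
  haveI : Algebra.FinitePresentation A P' := Algebra.FinitePresentation.trans A R₁ P'
  haveI : Algebra.FinitePresentation A (P' ⧸ K') := Algebra.FinitePresentation.quotient hK'fg
  let χ : P' →ₐ[A] B := φ.comp (ψ.restrictScalars A)
  have hχ : ∀ x ∈ K', χ.toRingHom x = 0 := by
    intro x hx
    have : ψ.toRingHom x ∈ RingHom.ker φ.toRingHom := by
      rw [← hK'map]; exact Ideal.mem_map_of_mem _ hx
    exact this
  letI : Algebra (P' ⧸ K') B := (Ideal.Quotient.lift K' χ.toRingHom hχ).toAlgebra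
  haveI : IsScalarTower A (P' ⧸ K') B :=
    IsScalarTower.of_algebraMap_eq (fun a => (χ.commutes a).symm)
  refine ⟨P' ⧸ K', inferInstance, inferInstance, inferInstance, inferInstance, inferInstance, ?_⟩
  letI : Algebra P' P := ψ.toRingHom.toAlgebra
  haveI : IsScalarTower R₁ P' P := IsScalarTower.of_algebraMap_eq (fun r => (ψ.commutes r).symm)
  have h1 : Hens2.IsPairHenselization P' ((I.map (algebraMap A R₁)).map (algebraMap R₁ P')) P :=
    isPairHenselization_over_good _ hP hP'
  have hker : RingHom.ker φ.toRingHom =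
      (RingHom.ker (Ideal.Quotient.mk K')).map (algebraMap P' P) := by
    rw [Ideal.mk_ker]; exact hK'map.symm
  have h2 := isPairHenselization_of_surjective _ h1 (Ideal.Quotient.mk K')
    Ideal.Quotient.mk_surjective (B := B) φ.toRingHom hφ hker rfl
  have hid : ((I.map (algebraMap A R₁)).map (algebraMap R₁ P')).map (Ideal.Quotient.mk K') =
      I.map (algebraMap A (P' ⧸ K')) := by
    rw [Ideal.map_map, Ideal.map_map]
    rfl
  rw [hid] at h2
  exact h2

/-- If `π : R₁ → R` is a surjection of `A`-algebras with finitely generated kernel, then the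
henselization of `(R, IR)` is the quotient of the henselization of `(R₁, IR₁)` by the (finitely
generated) extended kernel. -/
theorem exists_surjective_algHom_of_presentation
    {R₁ : Type u} [CommRing R₁] [Algebra A R₁]
    {P : Type u} [CommRing P] [Algebra R₁ P] [Algebra A P] [IsScalarTower A R₁ P]
    (hP : Hens2.IsPairHenselization R₁ (I.map (algebraMap A R₁)) P)
    {R : Type u} [CommRing R] [Algebra A R] (π : R₁ →ₐ[A] R) (hπ : Function.Surjective π)
    (hfg : (RingHom.ker π.toRingHom).FG)
    {B : Type u} [CommRing B] [Algebra R B] [Algebra A B] [IsScalarTower A R B]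
    (hB : Hens2.IsPairHenselization R (I.map (algebraMap A R)) B) :
    ∃ φ : P →ₐ[A] B, Function.Surjective φ ∧ (RingHom.ker φ.toRingHom).FG ∧
      RingHom.ker φ.toRingHom = (RingHom.ker π.toRingHom).map (algebraMap R₁ P) ∧
      ∀ x : R₁, φ (algebraMap R₁ P x) = algebraMap R B (π x) := by
  let K : Ideal P := (RingHom.ker π.toRingHom).map (algebraMap R₁ P)
  have hle : RingHom.ker π.toRingHom ≤
      RingHom.ker ((Ideal.Quotient.mk K).comp (algebraMap R₁ P)) := by
    intro x hx
    rw [RingHom.mem_ker, RingHom.comp_apply, Ideal.Quotient.eq_zero_iff_mem]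
    exact Ideal.mem_map_of_mem _ hx
  let ρ : R →+* P ⧸ K := RingHom.liftOfSurjective π.toRingHom hπ
    ⟨(Ideal.Quotient.mk K).comp (algebraMap R₁ P), hle⟩
  have hρ : ρ.comp π.toRingHom = (Ideal.Quotient.mk K).comp (algebraMap R₁ P) :=
    RingHom.liftOfRightInverse_comp _ _ _ _
  letI : Algebra R (P ⧸ K) := ρ.toAlgebra
  have hker : RingHom.ker (Ideal.Quotient.mk K) =
      (RingHom.ker π.toRingHom).map (algebraMap R₁ P) := Ideal.mk_ker
  have h1 := isPairHenselization_of_surjective _ hP π.toRingHom hπ (B := P ⧸ K)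
    (Ideal.Quotient.mk K) Ideal.Quotient.mk_surjective hker hρ
  have hid : (I.map (algebraMap A R₁)).map π.toRingHom = I.map (algebraMap A R) := by
    rw [Ideal.map_map]
    congr 1
    exact π.comp_algebraMap
  rw [hid] at h1
  obtain ⟨ε⟩ := nonempty_algEquiv_of_isPairHenselization _ h1 hB
  have hεmk : ∀ x : R₁, ε (Ideal.Quotient.mk K (algebraMap R₁ P x)) = algebraMap R B (π x) := by
    intro x
    have : Ideal.Quotient.mk K (algebraMap R₁ P x) = algebraMap R (P ⧸ K) (π x) :=
      (congr($hρ x)).symm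
    rw [this, ε.commutes]
  let φ : P →ₐ[A] B :=
    { (ε : (P ⧸ K) →+* B).comp (Ideal.Quotient.mk K) with
      commutes' := fun a => by
        change ε (Ideal.Quotient.mk K (algebraMap A P a)) = algebraMap A B a
        rw [IsScalarTower.algebraMap_apply A R₁ P, hεmk, π.commutes,
          ← IsScalarTower.algebraMap_apply] }
  have hkerφ : RingHom.ker φ.toRingHom = K := by
    ext x
    rw [RingHom.mem_ker]
    change ε (Ideal.Quotient.mk K x) = 0 ↔ _
    rw [map_eq_zero_iff ε ε.injective, Ideal.Quotient.eq_zero_iff_mem]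
  refine ⟨φ, ?_, ?_, hkerφ, hεmk⟩
  · exact ε.surjective.comp Ideal.Quotient.mk_surjective
  · rw [hkerφ]
    exact hfg.map _

end Groth.Agent.Lib.Helper90.PairHz
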