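import Groth.Agent.Lib.Helper90.PairHzTower
import Groth.Agent.Lib.Helper90.PairHzRange
import Groth.Agent.Lib.Helper83.FlatLocalDim

/-!
# The henselization of a Noetherian pair is Noetherian

* `isNoetherianRing_of_closed_fg` (after helper37's `Hz19`): `M` f.g., `A ⧸ M` Noetherian and
  finitely generated ideals `M`-adically closed imply `A` Noetherian.
* `isNoetherianRing_Hz`, `isNoetherianRing_of_isPairHenselization`.
* `adicCompletion_map_bijective_of_quotBij`.
-/

set_option autoImplicit false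
set_option linter.style.haveILetI false

universe u

namespace Groth.Agent.Lib.Helper90.PairHz

open Groth.Agent.Lib.Helper83

section Abstract

/-- A ring with a finitely generated ideal `M` with `A ⧸ M` Noetherian in which all finitely
generated ideals are `M`-adically closed is Noetherian. -/
theorem isNoetherianRing_of_closed_fg {A : Type*} [CommRing A] (M : Ideal A) (hM : M.FG)
    [IsNoetherianRing (A ⧸ M)]
    (hcl : ∀ 𝔞 : Ideal A, 𝔞.FG → ∀ x, (∀ n : ℕ, x ∈ 𝔞 ⊔ M ^ n) → x ∈ 𝔞) :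
    IsNoetherianRing A := by
  classical
  have hÂ : IsNoetherianRing (AdicCompletion M A) := by
    have := AdicCompletion.isAdicComplete_self M hM
    have : IsNoetherianRing (AdicCompletion M A ⧸ M.map (algebraMap A (AdicCompletion M A))) :=
      isNoetherianRing_of_ringEquiv _ (adicCompletionQuotientEquiv M hM).symm
    exact isNoetherianRing_of_isAdicComplete (M.map (algebraMap A (AdicCompletion M A)))
      (hM.map _)
  rw [isNoetherianRing_iff_ideal_fg]
  intro I
  have hfg : (I.map (algebraMap A (AdicCompletion M A))).FG := IsNoetherian.noetherian _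
  obtain ⟨s, hs, hspan⟩ := (Submodule.fg_span_iff_fg_span_finset_subset _).mp hfg
  obtain ⟨t, ht, rfl⟩ := Finset.subset_set_image_iff.mp hs
  set 𝔞 : Ideal A := Ideal.span (t : Set A) with h𝔞
  have h𝔞I : 𝔞 ≤ I := Ideal.span_le.mpr ht
  have hmap : I.map (algebraMap A (AdicCompletion M A)) =
      𝔞.map (algebraMap A (AdicCompletion M A)) := by
    rw [h𝔞, Ideal.map_span, ← Finset.coe_image]
    exact hspan
  have hI𝔞 : I ≤ 𝔞 := by
    intro x hx
    apply hcl 𝔞 ⟨t, rfl⟩
    intro n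
    have h1 : algebraMap A (AdicCompletion M A) x ∈ 𝔞.map (algebraMap A (AdicCompletion M A)) := by
      rw [← hmap]
      exact Ideal.mem_map_of_mem _ hx
    have h2 := Ideal.mem_map_of_mem (AdicCompletion.evalₐ M n).toRingHom h1
    rw [Ideal.map_map] at h2
    have hcomp : (AdicCompletion.evalₐ M n).toRingHom.comp (algebraMap A (AdicCompletion M A)) =
        Ideal.Quotient.mk (M ^ n) := by
      ext a
      exact (AdicCompletion.evalₐ M n).commutes a
    rw [hcomp] at h2
    have h3 : (AdicCompletion.evalₐ M n).toRingHom (algebraMap A (AdicCompletion M A) x) =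
        Ideal.Quotient.mk (M ^ n) x := (AdicCompletion.evalₐ M n).commutes x
    rw [h3] at h2
    have h4 : x ∈ (𝔞.map (Ideal.Quotient.mk (M ^ n))).comap (Ideal.Quotient.mk (M ^ n)) := h2
    rw [Ideal.comap_map_of_surjective _ Ideal.Quotient.mk_surjective, ← RingHom.ker_eq_comap_bot,
      Ideal.mk_ker] at h4
    exact h4
  rw [le_antisymm hI𝔞 h𝔞I]
  exact ⟨t, rfl⟩

/-- Krull's intersection theorem modulo an ideal, for an ideal in the Jacobson radical. -/
theorem mem_of_forall_mem_sup_pow_of_le_jacobson {A : Type*} [CommRing A]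
    [IsNoetherianRing A] (K : Ideal A) (hK : K ≤ Ideal.jacobson ⊥) (J : Ideal A) (z : A)
    (hz : ∀ n : ℕ, z ∈ J ⊔ K ^ n) : z ∈ J := by
  have hbot : (⨅ i : ℕ, K ^ i • ⊤ : Submodule A (A ⧸ J)) = ⊥ :=
    Ideal.iInf_pow_smul_eq_bot_of_le_jacobson K hK
  have h1 : (Ideal.Quotient.mk J z : A ⧸ J) ∈
      (⨅ i : ℕ, K ^ i • ⊤ : Submodule A (A ⧸ J)) := by
    rw [Submodule.mem_iInf]
    intro n
    obtain ⟨j, hj, w, hw, rfl⟩ := Submodule.mem_sup.mp (hz n)
    have h2 : (Ideal.Quotient.mk J (j + w) : A ⧸ J) = w • (1 : A ⧸ J) := by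
      rw [map_add, Ideal.Quotient.eq_zero_iff_mem.mpr hj, zero_add, Algebra.smul_def, mul_one]
      rfl
    rw [h2]
    exact Submodule.smul_mem_smul hw Submodule.mem_top
  rw [hbot, Submodule.mem_bot] at h1
  exact Ideal.Quotient.eq_zero_iff_mem.mp h1

end Abstract

variable {A : Type u} [CommRing A] (I : Ideal A)

theorem quotBij_pow_L (j : GIdx I) (n : ℕ) : QuotBij (I ^ n) (GIdx.L I j) := by
  haveI := flat_L I j
  exact (quotBij_L I j).pow I n

theorem quotBij_pow_Hz (n : ℕ) : QuotBij (I ^ n) (Hz I) :=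
  (quotBij_Hz I).pow I n

theorem ofL_algebraMap (j : GIdx I) (a : A) :
    ofL I j (algebraMap A (GIdx.L I j) a) = algebraMap A (Hz I) a :=
  (ofLₐ I j).commutes a

/-- Ideals of a stage containing `I^n` are contracted from the henselization. -/
theorem mem_of_ofL_mem_map (j : GIdx I) (𝔠 : Ideal (GIdx.L I j)) (n : ℕ)
    (h𝔠 : (I ^ n).map (algebraMap A (GIdx.L I j)) ≤ 𝔠) (y : GIdx.L I j)
    (hy : ofL I j y ∈ 𝔠.map (ofL I j)) : y ∈ 𝔠 := by
  have hQL := quotBij_pow_L I j n
  have hQH := quotBij_pow_Hz I n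
  have key : ∀ z ∈ 𝔠.map (ofL I j), ∃ c ∈ 𝔠,
      z - ofL I j c ∈ (I ^ n).map (algebraMap A (Hz I)) := by
    intro z hz
    refine Submodule.span_induction (p := fun z _ => ∃ c ∈ 𝔠,
      z - ofL I j c ∈ (I ^ n).map (algebraMap A (Hz I))) ?_ ?_ ?_ ?_ hz
    · rintro _ ⟨c, hc, rfl⟩
      exact ⟨c, hc, by rw [sub_self]; exact Ideal.zero_mem _⟩
    · exact ⟨0, 𝔠.zero_mem, by rw [map_zero, sub_self]; exact Ideal.zero_mem _⟩
    · rintro z₁ z₂ _ _ ⟨c₁, hc₁, h1⟩ ⟨c₂, hc₂, h2⟩
      refine ⟨c₁ + c₂, 𝔠.add_mem hc₁ hc₂, ?_⟩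
      have : z₁ + z₂ - ofL I j (c₁ + c₂) = (z₁ - ofL I j c₁) + (z₂ - ofL I j c₂) := by
        rw [map_add]
        ring
      rw [this]
      exact Ideal.add_mem _ h1 h2
    · rintro h z _ ⟨c, hc, h1⟩
      obtain ⟨a, ha⟩ := hQH.surj h
      refine ⟨algebraMap A (GIdx.L I j) a * c, 𝔠.mul_mem_left _ hc, ?_⟩
      have : h • z - ofL I j (algebraMap A (GIdx.L I j) a * c) =
          (h - algebraMap A (Hz I) a) * z + algebraMap A (Hz I) a * (z - ofL I j c) := by
        rw [map_mul, ofL_algebraMap, smul_eq_mul]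
        ring
      rw [this]
      exact Ideal.add_mem _ (Ideal.mul_mem_right _ _ ha) (Ideal.mul_mem_left _ _ h1)
  obtain ⟨c, hc, h1⟩ := key _ hy
  rw [← map_sub] at h1
  obtain ⟨a, ha⟩ := hQL.surj (y - c)
  have h2 : ofL I j (y - c - algebraMap A (GIdx.L I j) a) ∈ (I ^ n).map (algebraMap A (Hz I)) :=
    map_mem_map_of_algHom (I ^ n) (ofLₐ I j) ha
  have h3 : algebraMap A (Hz I) a ∈ (I ^ n).map (algebraMap A (Hz I)) := by
    have := Ideal.sub_mem _ h1 h2
    rwa [← map_sub, sub_sub_cancel, ofL_algebraMap] at this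
  have h4 : a ∈ I ^ n := hQH.inj a h3
  have h5 : algebraMap A (GIdx.L I j) a ∈ 𝔠 := h𝔠 (Ideal.mem_map_of_mem _ h4)
  have h6 : y - c ∈ 𝔠 := by
    have := 𝔠.add_mem (h𝔠 ha) h5
    rwa [sub_add_cancel] at this
  have := 𝔠.add_mem h6 hc
  rwa [sub_add_cancel] at this

instance isNoetherianRing_presRing [IsNoetherianRing A] (j : Pres A) :
    IsNoetherianRing j.Ring :=
  inferInstanceAs (IsNoetherianRing (MvPolynomial (Fin j.n) A ⧸ _))

instance isNoetherianRing_L [IsNoetherianRing A] (j : GIdx I) : IsNoetherianRing (GIdx.L I j) :=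
  IsLocalization.isNoetherianRing (onePlus I j.1.Ring) (GIdx.L I j) inferInstance

variable [IsNoetherianRing A]

/-- Finitely generated ideals of the henselization are closed in the `I`-adic topology. -/
theorem mem_of_forall_mem_sup_pow_Hz (𝔞 : Ideal (Hz I)) (h𝔞 : 𝔞.FG) (x : Hz I)
    (hx : ∀ n : ℕ, x ∈ 𝔞 ⊔ (I.map (algebraMap A (Hz I))) ^ n) : x ∈ 𝔞 := by
  classical
  obtain ⟨r, a, ha⟩ := Submodule.fg_iff_exists_fin_generating_family.mp h𝔞
  obtain ⟨k, hk⟩ := exists_common_L I (insert x (Finset.univ.image a))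
  obtain ⟨y₀, hy₀⟩ := hk x (Finset.mem_insert_self _ _)
  have hk' : ∀ i : Fin r, ∃ l : GIdx.L I k, ofL I k l = a i := fun i =>
    hk (a i) (Finset.mem_insert_of_mem (Finset.mem_image_of_mem _ (Finset.mem_univ _)))
  choose y hy using hk'
  set J : Ideal (GIdx.L I k) := Ideal.span (Set.range y) with hJ
  have hJmap : J.map (ofL I k) = 𝔞 := by
    rw [hJ, Ideal.map_span, ← Set.range_comp, ← ha]
    congr 2
    ext i
    exact hy i
  have hcomp : (ofL I k).comp (algebraMap A (GIdx.L I k)) = algebraMap A (Hz I) :=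
    RingHom.ext fun a => ofL_algebraMap I k a
  have hmem : y₀ ∈ J := by
    apply mem_of_forall_mem_sup_pow_of_le_jacobson (I.map (algebraMap A (GIdx.L I k)))
      (map_le_jacobson_loc I) J
    intro n
    apply mem_of_ofL_mem_map I k _ n
    · rw [Ideal.map_pow]
      exact le_sup_right
    · rw [Ideal.map_sup, Ideal.map_pow, Ideal.map_map, hcomp, hJmap, hy₀]
      exact hx n
  rw [← hy₀, ← hJmap]
  exact Ideal.mem_map_of_mem _ hmem

/-- **The henselization of a Noetherian pair is Noetherian.** -/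
instance isNoetherianRing_Hz : IsNoetherianRing (Hz I) := by
  have hM : (I.map (algebraMap A (Hz I))).FG := Ideal.FG.map (IsNoetherian.noetherian _) _
  have hbij := (quotBij_iff I).mp (quotBij_Hz I)
  have : IsNoetherianRing (Hz I ⧸ I.map (algebraMap A (Hz I))) :=
    isNoetherianRing_of_ringEquiv (A ⧸ I) (RingEquiv.ofBijective _ hbij)
  exact isNoetherianRing_of_closed_fg _ hM (mem_of_forall_mem_sup_pow_Hz I)

theorem isNoetherianRing_of_isPairHenselization {B : Type u} [CommRing B] [Algebra A B]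
    (hB : Hens2.IsPairHenselization A I B) : IsNoetherianRing B := by
  obtain ⟨e⟩ := nonempty_algEquiv_Hz I hB
  exact isNoetherianRing_of_ringEquiv (Hz I) e.symm.toRingEquiv

end Groth.Agent.Lib.Helper90.PairHz
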