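import Mathlib
import Groth.Agent.Lib.Helper90.PairHzNoeth
import Groth.Agent.Lib.Helper90.PairHzComp
import Groth.Agent.Lib.Helper90.PairHzHfp
import Groth.Agent.S0525
import Groth.Agent.S17596
import Groth.Agent.Lib.Helper37.HenselHom

/-!
# The henselization of `R[X]` along `(X)` (helper90)

Weierstrass preparation for `R{X}` over a henselian local ring `R`.
-/

set_option autoImplicit false
set_option linter.style.haveILetI false
universe u

namespace Groth.Agent.Lib.Helper90.HensWeier

open Polynomial Groth.Agent.Lib.Helper90.PairHz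

variable {R : Type u} [CommRing R] {B : Type u} [CommRing B] [Algebra R B] [Algebra R[X] B]
  [IsScalarTower R R[X] B]

omit [Algebra R B] [IsScalarTower R R[X] B] in
theorem map_span_X : (Ideal.span {(X : R[X])}).map (algebraMap R[X] B) =
    Ideal.span {algebraMap R[X] B X} := by
  rw [Ideal.map_span, Set.image_singleton]

section Rho

variable (hB : Hens2.IsPairHenselization R[X] (Ideal.span {(X : R[X])}) B)

include hB

theorem exists_rho : ∃ ρ : B →+* R, ∀ p : R[X], ρ (algebraMap R[X] B p) = p.eval 0 := by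
  have hle : (Ideal.span {(X : R[X])}).map (evalRingHom (0 : R)) ≤ (⊥ : Ideal R) := by
    rw [Ideal.map_span, Ideal.span_le]
    rintro _ ⟨p, hp, rfl⟩
    rw [Set.mem_singleton_iff] at hp
    subst hp
    simp
  obtain ⟨ρ, hρ, -⟩ := hB.2 R ⊥ (evalRingHom (0 : R))
    (Groth.Agent.Lib.Helper37.henselianRing_bot) hle
  exact ⟨ρ, fun p => RingHom.congr_fun hρ p⟩

/-- the residue map `B → R` -/
noncomputable def rho : B →+* R := (exists_rho hB).choose

theorem rho_algebraMap (p : R[X]) : rho hB (algebraMap R[X] B p) = p.eval 0 :=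
  (exists_rho hB).choose_spec p

theorem rho_algebraMap_R (r : R) : rho hB (algebraMap R B r) = r := by
  rw [IsScalarTower.algebraMap_apply R R[X] B, rho_algebraMap]
  simp

theorem rho_X : rho hB (algebraMap R[X] B X) = 0 := by
  rw [rho_algebraMap]; simp

theorem rho_surjective : Function.Surjective (rho hB) := fun r => ⟨_, rho_algebraMap_R hB r⟩

theorem ker_rho : RingHom.ker (rho hB) = Ideal.span {algebraMap R[X] B X} := by
  apply le_antisymm
  · intro b hb
    rw [RingHom.mem_ker] at hb
    obtain ⟨p, hp⟩ := (quotBij_of_isPairHenselization _ hB).surj b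
    rw [map_span_X] at hp
    have h0 : p.eval 0 = 0 := by
      have h1 : rho hB (b - algebraMap R[X] B p) = 0 := by
        obtain ⟨c, hc⟩ := Ideal.mem_span_singleton'.mp hp
        rw [← hc, map_mul, rho_X, mul_zero]
      rw [map_sub, hb, rho_algebraMap, zero_sub, neg_eq_zero] at h1
      exact h1
    have hpX : X ∣ p := by
      rw [Polynomial.X_dvd_iff, Polynomial.coeff_zero_eq_eval_zero, h0]
    obtain ⟨q, rfl⟩ := hpX
    have : b = (b - algebraMap R[X] B (X * q)) + algebraMap R[X] B (X * q) := by ring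
    rw [this]
    refine Ideal.add_mem _ hp ?_
    rw [map_mul]
    exact Ideal.mul_mem_right _ _ (Ideal.mem_span_singleton_self _)
  · rw [Ideal.span_le]
    intro b hb
    rw [Set.mem_singleton_iff] at hb
    subst hb
    exact rho_X hB

theorem span_X_le_jacobson : Ideal.span {algebraMap R[X] B X} ≤ Ideal.jacobson ⊥ := by
  rw [← map_span_X]
  exact hB.1.jac

theorem isUnit_iff_rho (b : B) : IsUnit b ↔ IsUnit (rho hB b) := by
  refine ⟨fun h => h.map _, fun h => ?_⟩
  obtain ⟨r, hr⟩ := h.exists_right_inv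
  have h1 : b * algebraMap R B r - 1 ∈ RingHom.ker (rho hB) := by
    rw [RingHom.mem_ker, map_sub, map_mul, rho_algebraMap_R, hr, map_one, sub_self]
  rw [ker_rho] at h1
  have h2 : IsUnit (b * algebraMap R B r) := by
    have h3 := Ideal.mem_jacobson_bot.mp (span_X_le_jacobson hB h1) 1
    rwa [mul_one, sub_add_cancel] at h3
  exact isUnit_of_mul_isUnit_left h2

theorem nontrivial_of_nontrivial [Nontrivial R] : Nontrivial B :=
  (rho hB).domain_nontrivial

theorem isLocalRing [IsLocalRing R] : IsLocalRing B := by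
  haveI := nontrivial_of_nontrivial hB
  refine IsLocalRing.of_isUnit_or_isUnit_one_sub_self fun b => ?_
  rw [isUnit_iff_rho hB, isUnit_iff_rho hB (1 - b), map_sub, map_one]
  exact IsLocalRing.isUnit_or_isUnit_one_sub_self _

theorem mem_maximalIdeal_iff [IsLocalRing R] [IsLocalRing B] (b : B) :
    b ∈ IsLocalRing.maximalIdeal B ↔ rho hB b ∈ IsLocalRing.maximalIdeal R := by
  rw [IsLocalRing.mem_maximalIdeal, IsLocalRing.mem_maximalIdeal, mem_nonunits_iff,
    mem_nonunits_iff, isUnit_iff_rho hB]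

end Rho

section ModM

variable [IsLocalRing R]

variable (R) in
/-- the ideal `m R[X]` -/
noncomputable abbrev mP : Ideal R[X] := (IsLocalRing.maximalIdeal R).map (C : R →+* R[X])

variable (R B) in
/-- the ideal `m B` -/
noncomputable abbrev mB : Ideal B := (mP R).map (algebraMap R[X] B)

theorem mB_eq : mB R B = (IsLocalRing.maximalIdeal R).map (algebraMap R B) := by
  rw [mB, mP, Ideal.map_map]
  congr 1
  refine RingHom.ext fun r => ?_
  rw [RingHom.comp_apply, IsScalarTower.algebraMap_apply R R[X] B, Polynomial.algebraMap_apply,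
    Algebra.algebraMap_self, RingHom.id_apply]

theorem algebraMap_mem_mB {r : R} (hr : r ∈ IsLocalRing.maximalIdeal R) :
    algebraMap R B r ∈ mB R B := by
  rw [mB_eq]
  exact Ideal.mem_map_of_mem _ hr

instance isNoetherianRing_quot_mP : IsNoetherianRing (R[X] ⧸ mP R) := by
  let _ : Field (R ⧸ IsLocalRing.maximalIdeal R) := Ideal.Quotient.field _
  exact isNoetherianRing_of_ringEquiv _
    (Ideal.polynomialQuotientEquivQuotientPolynomial (IsLocalRing.maximalIdeal R))

variable (hB : Hens2.IsPairHenselization R[X] (Ideal.span {(X : R[X])}) B)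

include hB

theorem isPairHenselization_quot_mB :
    Hens2.IsPairHenselization (R[X] ⧸ mP R) ((Ideal.span {(X : R[X])}).map (Ideal.Quotient.mk (mP R)))
      (B ⧸ mB R B) :=
  isPairHenselization_quotient _ hB (mP R)

theorem isNoetherianRing_quot_mB : IsNoetherianRing (B ⧸ mB R B) :=
  isNoetherianRing_of_isPairHenselization _ (isPairHenselization_quot_mB hB)

theorem rho_mem_of_mem_mB {b : B} (hb : b ∈ mB R B) : rho hB b ∈ IsLocalRing.maximalIdeal R := by
  rw [mB_eq] at hb
  have : (IsLocalRing.maximalIdeal R).map (algebraMap R B) ≤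
      (IsLocalRing.maximalIdeal R).comap (rho hB) := by
    rw [Ideal.map_le_iff_le_comap]
    intro r hr
    rw [Ideal.mem_comap, Ideal.mem_comap, rho_algebraMap_R]
    exact hr
  exact this hb

variable [IsLocalRing B]

theorem mB_le_maximalIdeal : mB R B ≤ IsLocalRing.maximalIdeal B := fun b hb =>
  (mem_maximalIdeal_iff hB b).mpr (rho_mem_of_mem_mB hB hb)

theorem nontrivial_quot_mB : Nontrivial (B ⧸ mB R B) :=
  Ideal.Quotient.nontrivial_iff.mpr
    (fun h => (IsLocalRing.maximalIdeal.isMaximal B).ne_top (top_le_iff.mp (h ▸ mB_le_maximalIdeal hB)))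

theorem isLocalRing_quot_mB : IsLocalRing (B ⧸ mB R B) :=
  haveI := nontrivial_quot_mB hB
  IsLocalRing.of_surjective' (Ideal.Quotient.mk (mB R B)) Ideal.Quotient.mk_surjective

theorem isUnit_of_isUnit_mk {b : B} (h : IsUnit (Ideal.Quotient.mk (mB R B) b)) : IsUnit b := by
  obtain ⟨c, hc⟩ := h.exists_right_inv
  obtain ⟨c, rfl⟩ := Ideal.Quotient.mk_surjective c
  rw [← map_mul, ← map_one (Ideal.Quotient.mk (mB R B)), Ideal.Quotient.eq] at hc
  have h1 : b * c - 1 ∈ IsLocalRing.maximalIdeal B := mB_le_maximalIdeal hB hc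
  have h2 : IsUnit (b * c) := by
    by_contra hne
    have h3 : b * c ∈ IsLocalRing.maximalIdeal B := hne
    have h4 := Ideal.sub_mem _ h3 h1
    rw [sub_sub_cancel] at h4
    exact (IsLocalRing.maximalIdeal.isMaximal B).ne_top ((Ideal.eq_top_iff_one _).mpr h4)
  exact isUnit_of_mul_isUnit_left h2

/-- elements of the maximal ideal of `B` lie in `mB + XB` -/
theorem mem_mB_sup_span_X {b : B} (hb : b ∈ IsLocalRing.maximalIdeal B) :
    b ∈ mB R B ⊔ Ideal.span {algebraMap R[X] B X} := by
  have hr := (mem_maximalIdeal_iff hB b).mp hb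
  have h1 : b - algebraMap R B (rho hB b) ∈ RingHom.ker (rho hB) := by
    rw [RingHom.mem_ker, map_sub, rho_algebraMap_R, sub_self]
  rw [ker_rho] at h1
  have : b = algebraMap R B (rho hB b) + (b - algebraMap R B (rho hB b)) := by ring
  rw [this]
  exact Ideal.add_mem _ (Ideal.mem_sup_left (algebraMap_mem_mB hr)) (Ideal.mem_sup_right h1)

/-- **Weierstrass decomposition modulo `m`.** -/
theorem exists_pow_mul_unit {f : B} (hf : f ∉ mB R B) :
    ∃ (d : ℕ) (v : Bˣ), f - algebraMap R[X] B X ^ d * v ∈ mB R B := by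
  classical
  haveI := isNoetherianRing_quot_mB hB
  haveI := isLocalRing_quot_mB hB
  set x : B ⧸ mB R B := Ideal.Quotient.mk _ (algebraMap R[X] B X) with hx
  -- the maximal ideal is principal
  have hmax : IsLocalRing.maximalIdeal (B ⧸ mB R B) = Ideal.span {x} := by
    apply le_antisymm
    · intro y hy
      obtain ⟨b, rfl⟩ := Ideal.Quotient.mk_surjective y
      have hb : b ∈ IsLocalRing.maximalIdeal B := by
        by_contra hne
        have hu : IsUnit b := by
          by_contra hnu
          exact hne hnu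
        exact hy (hu.map _)
      obtain ⟨m, hm, z, hz, rfl⟩ := Submodule.mem_sup.mp (mem_mB_sup_span_X hB hb)
      obtain ⟨c, rfl⟩ := Ideal.mem_span_singleton'.mp hz
      rw [map_add, Ideal.Quotient.eq_zero_iff_mem.mpr hm, zero_add, map_mul]
      exact Ideal.mul_mem_left _ _ (Ideal.mem_span_singleton_self _)
    · rw [Ideal.span_le, Set.singleton_subset_iff]
      intro hu
      have hu' : IsUnit (algebraMap R[X] B X) := isUnit_of_isUnit_mk hB hu
      rw [isUnit_iff_rho hB, rho_X] at hu'
      exact not_isUnit_zero hu'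
  have hfbar : Ideal.Quotient.mk (mB R B) f ≠ 0 := fun h => hf (Ideal.Quotient.eq_zero_iff_mem.mp h)
  have hkrull : ⨅ i : ℕ, IsLocalRing.maximalIdeal (B ⧸ mB R B) ^ i = ⊥ :=
    Ideal.iInf_pow_eq_bot_of_isLocalRing _ (IsLocalRing.maximalIdeal.isMaximal _).ne_top
  have hex : ∃ i : ℕ, Ideal.Quotient.mk (mB R B) f ∉ IsLocalRing.maximalIdeal (B ⧸ mB R B) ^ i := by
    by_contra hall
    push Not at hall
    apply hfbar
    have : Ideal.Quotient.mk (mB R B) f ∈ ⨅ i : ℕ, IsLocalRing.maximalIdeal (B ⧸ mB R B) ^ i :=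
      Ideal.mem_iInf.mpr hall
    rw [hkrull] at this
    exact this
  have hi₀ := Nat.find_spec hex
  have hmin := fun j => Nat.find_min hex (m := j)
  set i₀ := Nat.find hex with hi₀def
  have hpos : i₀ ≠ 0 := by
    intro h0
    rw [h0, pow_zero, Ideal.one_eq_top] at hi₀
    exact hi₀ Submodule.mem_top
  obtain ⟨d, hd⟩ := Nat.exists_eq_succ_of_ne_zero hpos
  have hmem : Ideal.Quotient.mk (mB R B) f ∈ IsLocalRing.maximalIdeal (B ⧸ mB R B) ^ d := by
    by_contra hne
    exact hmin d (by omega) hne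
  rw [hmax, Ideal.span_singleton_pow] at hmem
  obtain ⟨vbar, hv⟩ := Ideal.mem_span_singleton'.mp hmem
  obtain ⟨v, rfl⟩ := Ideal.Quotient.mk_surjective vbar
  have hvu : IsUnit v := by
    apply isUnit_of_isUnit_mk hB
    by_contra hnu
    have hvm : Ideal.Quotient.mk (mB R B) v ∈ IsLocalRing.maximalIdeal (B ⧸ mB R B) := hnu
    apply hi₀
    have hxm : x ∈ IsLocalRing.maximalIdeal (B ⧸ mB R B) := by
      rw [hmax]; exact Ideal.mem_span_singleton_self _
    have hfx : Ideal.Quotient.mk (mB R B) f = x ^ d * Ideal.Quotient.mk (mB R B) v := by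
      rw [← hv, mul_comm]
    rw [hd, pow_succ, hfx]
    exact Ideal.mul_mem_mul (Ideal.pow_mem_pow hxm d) hvm
  refine ⟨d, hvu.unit, ?_⟩
  rw [← Ideal.Quotient.eq, map_mul, map_pow, ← hv, IsUnit.unit_spec, mul_comm]

end ModM

section Span

omit [Algebra R B] [Algebra R[X] B] [IsScalarTower R R[X] B] in
theorem X_pow_dvd_sub_sum (d : ℕ) (p : R[X]) :
    X ^ d ∣ p - ∑ i : Fin d, C (p.coeff i) * X ^ (i : ℕ) := by
  rw [X_pow_dvd_iff]
  intro k hk
  rw [coeff_sub, finset_sum_coeff, sub_eq_zero]
  rw [Finset.sum_eq_single (⟨k, hk⟩ : Fin d)]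
  · rw [coeff_C_mul_X_pow, if_pos rfl]
  · intro i _ hi
    rw [coeff_C_mul_X_pow, if_neg]
    intro h
    exact hi (Fin.ext h.symm)
  · intro h
    exact absurd (Finset.mem_univ _) h

variable (hB : Hens2.IsPairHenselization R[X] (Ideal.span {(X : R[X])}) B)

include hB

/-- every element of `B` is a polynomial of degree `< d` modulo `X^d B` -/
theorem exists_sum_sub_mem_span_pow (d : ℕ) (b : B) :
    ∃ a : Fin d → R, b - ∑ i : Fin d, algebraMap R B (a i) * algebraMap R[X] B X ^ (i : ℕ) ∈
      Ideal.span {algebraMap R[X] B X ^ d} := by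
  obtain ⟨p, hp⟩ := (quotBij_pow_of_isPairHenselization _ hB d).surj b
  rw [Ideal.span_singleton_pow, Ideal.map_span, Set.image_singleton, map_pow] at hp
  refine ⟨fun i => p.coeff i, ?_⟩
  obtain ⟨q, hq⟩ := X_pow_dvd_sub_sum d p
  have h1 : algebraMap R[X] B p - ∑ i : Fin d, algebraMap R B (p.coeff i) *
      algebraMap R[X] B X ^ (i : ℕ) = algebraMap R[X] B X ^ d * algebraMap R[X] B q := by
    rw [← map_pow, ← map_mul, ← hq, map_sub, map_sum]
    congr 1
    refine Finset.sum_congr rfl fun i _ => ?_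
    rw [map_mul, map_pow, ← Polynomial.algebraMap_eq, ← IsScalarTower.algebraMap_apply]
  have h2 : b - ∑ i : Fin d, algebraMap R B (p.coeff i) * algebraMap R[X] B X ^ (i : ℕ) =
      (b - algebraMap R[X] B p) + algebraMap R[X] B X ^ d * algebraMap R[X] B q := by
    rw [← h1]; ring
  rw [h2]
  exact Ideal.add_mem _ hp (Ideal.mul_mem_right _ _ (Ideal.mem_span_singleton_self _))

end Span

section General

/-- Henselization along `J₁` is also henselization along `J₂` if `J₁ ≤ √J₂` and the henselization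
is henselian along `J₂`. -/
theorem isPairHenselization_of_le_radical {D : Type u} [CommRing D] (J₁ J₂ : Ideal D)
    {H : Type u} [CommRing H] [Algebra D H] (hH : Hens2.IsPairHenselization D J₁ H)
    (hle : J₁ ≤ J₂.radical) (hhens : HenselianRing H (J₂.map (algebraMap D H))) :
    Hens2.IsPairHenselization D J₂ H := by
  refine ⟨hhens, fun T _ JT φ hT hφ => ?_⟩
  have hT' : HenselianRing T JT.radical :=
    (Groth.Agent.S0525.result T JT JT.radical (Ideal.radical_idem JT).symm).mp hT
  refine hH.2 T JT.radical φ hT' ?_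
  rw [Ideal.map_le_iff_le_comap]
  intro x hx
  obtain ⟨n, hn⟩ := hle hx
  rw [Ideal.mem_comap]
  refine ⟨n, ?_⟩
  rw [← map_pow]
  exact hφ (Ideal.mem_map_of_mem _ hn)

/-- If `C` is henselian along `XC`, and `C/XC` is a quotient of a ring `R` henselian along `m`,
then `C` is henselian along `mC`. -/
theorem henselianRing_map_of_surjective_quotient {R : Type*} [CommRing R] (m : Ideal R)
    [HenselianRing R m] {C : Type*} [CommRing C] [Algebra R C] (XC : Ideal C)
    [hX : HenselianRing C XC]
    (hsurj : Function.Surjective ((Ideal.Quotient.mk XC).comp (algebraMap R C))) :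
    HenselianRing C (m.map (algebraMap R C)) := by
  have h1 : HenselianRing (C ⧸ XC) (m.map ((Ideal.Quotient.mk XC).comp (algebraMap R C))) :=
    Groth.Agent.Lib.Helper37.henselianRing_map_of_surjective _ hsurj m
  have h2 : (XC ⊔ m.map (algebraMap R C)).map (Ideal.Quotient.mk XC) =
      m.map ((Ideal.Quotient.mk XC).comp (algebraMap R C)) := by
    rw [Ideal.map_sup, Ideal.map_quotient_self, bot_sup_eq, Ideal.map_map]
  rw [← h2] at h1
  have h3 : HenselianRing C (XC ⊔ m.map (algebraMap R C)) :=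
    Groth.Agent.Lib.Helper37.henselianRing_of_quotient (I := XC) le_sup_left
  exact Groth.Agent.Lib.Helper37.henselianRing_of_le (J := XC ⊔ m.map (algebraMap R C)) le_sup_right

end General


section Finite

variable {R : Type u} [CommRing R] {B : Type u} [CommRing B] [Algebra R B] [Algebra R[X] B]
  [IsScalarTower R R[X] B]

variable [HenselianLocalRing R]
variable (hB : Hens2.IsPairHenselization R[X] (Ideal.span {(X : R[X])}) B)

include hB

set_option maxHeartbeats 1600000 in
/-- the quotient `B/(f)` is generated over `R` by `1, X, …, X^(d-1)` if `f ≡ X^d v` mod `m` -/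
theorem exists_sum_sub_mem_span [IsLocalRing B] {f : B} (d : ℕ) (v : Bˣ)
    (hfv : f - algebraMap R[X] B X ^ d * v ∈ mB R B) (b : B) :
    ∃ a : Fin d → R, b - ∑ i : Fin d, algebraMap R B (a i) * algebraMap R[X] B X ^ (i : ℕ) ∈
      Ideal.span {f} := by
  classical
  -- Step 1: `X^d ∈ (f) + mB`
  obtain ⟨w, j, hj, hxd⟩ : ∃ w j : B, j ∈ mB R B ∧ algebraMap R[X] B X ^ d = w * f + j := by
    refine ⟨((v⁻¹ : Bˣ) : B), -(((v⁻¹ : Bˣ) : B) * (f - algebraMap R[X] B X ^ d * v)), ?_, ?_⟩
    · exact Ideal.neg_mem_iff _ |>.mpr (Ideal.mul_mem_left _ _ hfv)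
    · have h1 : ((v⁻¹ : Bˣ) : B) * (v : B) = 1 := Units.inv_mul v
      linear_combination (-(algebraMap R[X] B X ^ d)) * h1
  -- `j` as a finite sum
  have hj' := hj
  rw [mB_eq] at hj
  obtain ⟨n, c, gm, hsum⟩ := Submodule.mem_span_set'.mp hj
  have hgm : ∀ i, ∃ r ∈ IsLocalRing.maximalIdeal R, algebraMap R B r = (gm i : B) := fun i => (gm i).2
  choose mm hmm hmm' using hgm
  -- Step 2: finite stage
  obtain ⟨E', _, _, hE', g, hg⟩ := exists_good_range_of_isPairHenselization _ hB
    (insert f (insert w (Finset.univ.image c)))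
  obtain ⟨f₁, hf₁⟩ := hg f (by simp)
  obtain ⟨w₁, hw₁⟩ := hg w (by simp)
  have hc : ∀ i, ∃ c₁, g c₁ = c i := fun i => hg (c i) (by simp)
  choose c₁ hc₁ using hc
  obtain ⟨δ, hδdef⟩ : ∃ δ : E', δ = algebraMap R[X] E' X ^ d - w₁ * f₁ -
      ∑ i, c₁ i * algebraMap R[X] E' (C (mm i)) := ⟨_, rfl⟩
  have hδ : g δ = 0 := by
    rw [hδdef, map_sub, map_sub, map_pow, map_mul, map_sum, hf₁, hw₁, AlgHom.commutes, hxd,
      ← hsum]
    have : ∀ i, g (c₁ i * algebraMap R[X] E' (C (mm i))) = c i • (gm i : B) := by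
      intro i
      rw [map_mul, hc₁, AlgHom.commutes, smul_eq_mul, ← hmm' i, ← Polynomial.algebraMap_eq,
        ← IsScalarTower.algebraMap_apply]
    simp only [this]
    ring
  -- algebra structures
  letI : Algebra R E' := ((algebraMap R[X] E').comp (C : R →+* R[X])).toAlgebra
  haveI : IsScalarTower R R[X] E' := IsScalarTower.of_algebraMap_eq (fun r => rfl)
  letI : Algebra E' B := g.toRingHom.toAlgebra
  have hgalg : ∀ e, algebraMap E' B e = g e := fun _ => rfl
  haveI : IsScalarTower R[X] E' B := IsScalarTower.of_algebraMap_eq (fun p => (g.commutes p).symm)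
  haveI : IsScalarTower R E' B := IsScalarTower.of_algebraMap_eq (fun r => by
    rw [IsScalarTower.algebraMap_apply R R[X] B, IsScalarTower.algebraMap_apply R[X] E' B,
      ← IsScalarTower.algebraMap_apply R R[X] E'])
  have h3 := isPairHenselization_over_good _ hB hE'
  obtain ⟨K, hKdef⟩ : ∃ K : Ideal E', K = Ideal.span {f₁, δ} := ⟨_, rfl⟩
  have h4 := isPairHenselization_quotient _ h3 K
  have hKmap : K.map (algebraMap E' B) = Ideal.span {f} := by
    rw [hKdef, Ideal.map_span, Set.image_pair, hgalg, hgalg, hf₁, hδ, Set.pair_comm,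
      Ideal.span_insert_zero]
  -- finite presentation
  haveI : Algebra.Etale R[X] E' := hE'.1
  haveI : Algebra.FinitePresentation R E' := Algebra.FinitePresentation.trans R R[X] E'
  have hKfg : K.FG := by
    rw [hKdef]
    exact ⟨{f₁, δ}, by simp⟩
  haveI : Algebra.FinitePresentation R (E' ⧸ K) := Algebra.FinitePresentation.quotient hKfg
  haveI : IsScalarTower R (E' ⧸ K) (B ⧸ K.map (algebraMap E' B)) :=
    IsScalarTower.of_algebraMap_eq (fun r => by
      change Ideal.Quotient.mk _ (algebraMap R B r) =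
        Ideal.Quotient.mk _ (algebraMap E' B (algebraMap R E' r))
      rw [← IsScalarTower.algebraMap_apply R E' B])
  -- the two ideals of `D = E'/K`
  obtain ⟨xD, hxDdef⟩ : ∃ xD : E' ⧸ K, xD = Ideal.Quotient.mk K (algebraMap R[X] E' X) := ⟨_, rfl⟩
  have hJ₁ : ((Ideal.span {(X : R[X])}).map (algebraMap R[X] E')).map (Ideal.Quotient.mk K) =
      Ideal.span {xD} := by
    rw [Ideal.map_span, Set.image_singleton, Ideal.map_span, Set.image_singleton, hxDdef]
  rw [hJ₁] at h4
  have hxDpow : xD ^ d ∈ (IsLocalRing.maximalIdeal R).map (algebraMap R (E' ⧸ K)) := by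
    have h1 : algebraMap R[X] E' X ^ d = δ + w₁ * f₁ +
        ∑ i, c₁ i * algebraMap R[X] E' (C (mm i)) := by rw [hδdef]; ring
    have hf₁K : Ideal.Quotient.mk K f₁ = 0 := Ideal.Quotient.eq_zero_iff_mem.mpr (by
      rw [hKdef]; exact Ideal.subset_span (by simp))
    have hδK : Ideal.Quotient.mk K δ = 0 := Ideal.Quotient.eq_zero_iff_mem.mpr (by
      rw [hKdef]; exact Ideal.subset_span (by simp))
    rw [hxDdef, ← map_pow, h1, map_add, map_add, map_mul, hf₁K, hδK, mul_zero, add_zero, zero_add,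
      map_sum]
    refine Ideal.sum_mem _ fun i _ => ?_
    rw [map_mul]
    refine Ideal.mul_mem_left _ _ ?_
    exact Ideal.mem_map_of_mem (algebraMap R (E' ⧸ K)) (hmm i)
  have hle : Ideal.span {xD} ≤ ((IsLocalRing.maximalIdeal R).map (algebraMap R (E' ⧸ K))).radical := by
    rw [Ideal.span_le, Set.singleton_subset_iff]
    exact ⟨d, hxDpow⟩
  -- henselian along `m`
  obtain ⟨xC, hxCdef⟩ : ∃ xC : B ⧸ K.map (algebraMap E' B),
      xC = Ideal.Quotient.mk _ (algebraMap R[X] B X) := ⟨_, rfl⟩
  have hXC : (Ideal.span {xD}).map (algebraMap (E' ⧸ K) (B ⧸ K.map (algebraMap E' B))) =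
      Ideal.span {xC} := by
    rw [Ideal.map_span, Set.image_singleton, hxDdef, hxCdef]
    congr 2
    change Ideal.Quotient.mk _ (algebraMap E' B (algebraMap R[X] E' X)) = _
    rw [← IsScalarTower.algebraMap_apply R[X] E' B]
  have hhX : HenselianRing (B ⧸ K.map (algebraMap E' B)) (Ideal.span {xC}) := hXC ▸ h4.1
  have hsurj : Function.Surjective ((Ideal.Quotient.mk (Ideal.span {xC})).comp
      (algebraMap R (B ⧸ K.map (algebraMap E' B)))) := by
    intro y
    obtain ⟨y, rfl⟩ := Ideal.Quotient.mk_surjective y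
    obtain ⟨b', rfl⟩ := Ideal.Quotient.mk_surjective y
    refine ⟨rho hB b', ?_⟩
    rw [RingHom.comp_apply, Ideal.Quotient.eq]
    have h1 : b' - algebraMap R B (rho hB b') ∈ RingHom.ker (rho hB) := by
      rw [RingHom.mem_ker, map_sub, rho_algebraMap_R, sub_self]
    rw [ker_rho] at h1
    obtain ⟨t, ht⟩ := Ideal.mem_span_singleton'.mp h1
    have h2 : algebraMap R (B ⧸ K.map (algebraMap E' B)) (rho hB b') - Ideal.Quotient.mk _ b' =
        -(Ideal.Quotient.mk _ t) * xC := by
      rw [hxCdef, neg_mul, ← map_mul, ht, map_sub]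
      change Ideal.Quotient.mk _ (algebraMap R B (rho hB b')) - _ = _
      ring
    rw [h2]
    exact Ideal.mul_mem_left _ _ (Ideal.mem_span_singleton_self _)
  haveI : HenselianRing R (IsLocalRing.maximalIdeal R) := inferInstance
  have hhm : HenselianRing (B ⧸ K.map (algebraMap E' B))
      ((IsLocalRing.maximalIdeal R).map (algebraMap R (B ⧸ K.map (algebraMap E' B)))) :=
    henselianRing_map_of_surjective_quotient (IsLocalRing.maximalIdeal R) (Ideal.span {xC}) hsurj
  have hmm2 : ((IsLocalRing.maximalIdeal R).map (algebraMap R (E' ⧸ K))).map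
      (algebraMap (E' ⧸ K) (B ⧸ K.map (algebraMap E' B))) =
      (IsLocalRing.maximalIdeal R).map (algebraMap R (B ⧸ K.map (algebraMap E' B))) := by
    rw [Ideal.map_map, ← IsScalarTower.algebraMap_eq]
  have h5 : Hens2.IsPairHenselization (E' ⧸ K)
      ((IsLocalRing.maximalIdeal R).map (algebraMap R (E' ⧸ K))) (B ⧸ K.map (algebraMap E' B)) :=
    isPairHenselization_of_le_radical _ _ h4 hle (hmm2 ▸ hhm)
  -- spanning modulo `m`
  have hmC : ∀ z : B, z ∈ mB R B → Ideal.Quotient.mk (K.map (algebraMap E' B)) z ∈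
      (IsLocalRing.maximalIdeal R).map (algebraMap R (B ⧸ K.map (algebraMap E' B))) := by
    intro z hz
    rw [mB_eq] at hz
    have : (IsLocalRing.maximalIdeal R).map (algebraMap R (B ⧸ K.map (algebraMap E' B))) =
        ((IsLocalRing.maximalIdeal R).map (algebraMap R B)).map (Ideal.Quotient.mk _) := by
      rw [Ideal.map_map]; rfl
    rw [this]
    exact Ideal.mem_map_of_mem _ hz
  have hstar : ∀ y : B ⧸ K.map (algebraMap E' B), ∃ a : Fin d → R,
      y - ∑ i : Fin d, a i • xC ^ (i : ℕ) ∈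
        (IsLocalRing.maximalIdeal R).map (algebraMap R (B ⧸ K.map (algebraMap E' B))) := by
    intro y
    obtain ⟨b', rfl⟩ := Ideal.Quotient.mk_surjective y
    obtain ⟨a, ha⟩ := exists_sum_sub_mem_span_pow hB d b'
    refine ⟨a, ?_⟩
    obtain ⟨t, ht⟩ := Ideal.mem_span_singleton'.mp ha
    have h1 : Ideal.Quotient.mk (K.map (algebraMap E' B)) b' - ∑ i : Fin d, a i • xC ^ (i : ℕ) =
        Ideal.Quotient.mk _ (t * j) := by
      have h2 : Ideal.Quotient.mk (K.map (algebraMap E' B)) f = 0 :=
        Ideal.Quotient.eq_zero_iff_mem.mpr (hKmap ▸ Ideal.mem_span_singleton_self f)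
      have h3 : ∑ i : Fin d, a i • xC ^ (i : ℕ) = Ideal.Quotient.mk (K.map (algebraMap E' B))
          (∑ i : Fin d, algebraMap R B (a i) * algebraMap R[X] B X ^ (i : ℕ)) := by
        rw [map_sum]
        refine Finset.sum_congr rfl fun i _ => ?_
        rw [map_mul, map_pow, hxCdef, Algebra.smul_def]
        rfl
      rw [h3, ← map_sub, ← ht, hxd, mul_add, map_add, ← mul_assoc, map_mul _ (t * w) f, h2, mul_zero,
        zero_add]
    rw [h1]
    exact hmC _ (Ideal.mul_mem_left _ _ hj')
  -- finiteness of the closed fibre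
  have hfinq : Module.Finite R ((B ⧸ K.map (algebraMap E' B)) ⧸
      (IsLocalRing.maximalIdeal R).map (algebraMap R (B ⧸ K.map (algebraMap E' B)))) := by
    refine ⟨?_⟩
    have htop : (⊤ : Submodule R ((B ⧸ K.map (algebraMap E' B)) ⧸
        (IsLocalRing.maximalIdeal R).map (algebraMap R (B ⧸ K.map (algebraMap E' B))))) =
        Submodule.span R (Set.range fun i : Fin d => Ideal.Quotient.mkₐ R
          ((IsLocalRing.maximalIdeal R).map (algebraMap R (B ⧸ K.map (algebraMap E' B))))
          (xC ^ (i : ℕ))) := by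
      symm
      rw [eq_top_iff]
      intro y _
      obtain ⟨c', rfl⟩ := Ideal.Quotient.mkₐ_surjective R _ y
      obtain ⟨a, ha⟩ := hstar c'
      have h1 : Ideal.Quotient.mkₐ R ((IsLocalRing.maximalIdeal R).map
          (algebraMap R (B ⧸ K.map (algebraMap E' B)))) c' =
          ∑ i : Fin d, a i • Ideal.Quotient.mkₐ R ((IsLocalRing.maximalIdeal R).map
            (algebraMap R (B ⧸ K.map (algebraMap E' B)))) (xC ^ (i : ℕ)) := by
        rw [← sub_eq_zero]
        simp only [← map_smul, ← map_sum, ← map_sub]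
        exact Ideal.Quotient.eq_zero_iff_mem.mpr ha
      rw [h1]
      exact Submodule.sum_mem _ fun i _ => Submodule.smul_mem _ _ (Submodule.subset_span ⟨i, rfl⟩)
    rw [htop]
    exact Submodule.fg_span (Set.finite_range _)
  have hfin : (Ideal.quotientMap ((IsLocalRing.maximalIdeal R).map
      (algebraMap R (B ⧸ K.map (algebraMap E' B)))) (algebraMap R (B ⧸ K.map (algebraMap E' B)))
      Ideal.le_comap_map).Finite := by
    apply RingHom.Finite.of_comp_finite (f := Ideal.Quotient.mk (IsLocalRing.maximalIdeal R))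
    have h1 : (Ideal.quotientMap ((IsLocalRing.maximalIdeal R).map
        (algebraMap R (B ⧸ K.map (algebraMap E' B)))) (algebraMap R (B ⧸ K.map (algebraMap E' B)))
        Ideal.le_comap_map).comp (Ideal.Quotient.mk (IsLocalRing.maximalIdeal R)) =
        algebraMap R ((B ⧸ K.map (algebraMap E' B)) ⧸ (IsLocalRing.maximalIdeal R).map
          (algebraMap R (B ⧸ K.map (algebraMap E' B)))) := by
      refine RingHom.ext fun r => ?_
      rfl
    rw [h1]
    exact RingHom.finite_algebraMap.mpr hfinq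
  obtain ⟨hfinC, -⟩ := Groth.Agent.S17596.result R (IsLocalRing.maximalIdeal R) (E' ⧸ K)
    (B ⧸ K.map (algebraMap E' B)) h5 hfin
  -- Nakayama
  have hN : (⊤ : Submodule R (B ⧸ K.map (algebraMap E' B))) ≤
      Submodule.span R (Set.range fun i : Fin d => xC ^ (i : ℕ)) := by
    apply Submodule.le_of_le_smul_of_le_jacobson_bot (I := IsLocalRing.maximalIdeal R)
      hfinC.fg_top (IsLocalRing.maximalIdeal_le_jacobson ⊥)
    intro y _
    obtain ⟨a, ha⟩ := hstar y
    have h1 : y = ∑ i : Fin d, a i • xC ^ (i : ℕ) + (y - ∑ i : Fin d, a i • xC ^ (i : ℕ)) := by ring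
    rw [h1]
    refine Submodule.add_mem_sup ?_ ?_
    · exact Submodule.sum_mem _ fun i _ => Submodule.smul_mem _ _ (Submodule.subset_span ⟨i, rfl⟩)
    · rw [Ideal.smul_top_eq_map]
      exact ha
  have hb := hN (Submodule.mem_top (x := Ideal.Quotient.mk (K.map (algebraMap E' B)) b))
  obtain ⟨a, ha⟩ := (Submodule.mem_span_range_iff_exists_fun R).mp hb
  refine ⟨a, ?_⟩
  rw [← hKmap, ← Ideal.Quotient.eq_zero_iff_mem, map_sub, ← ha, map_sum, sub_eq_zero]
  refine Finset.sum_congr rfl fun i _ => ?_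
  rw [map_mul, map_pow, hxCdef, Algebra.smul_def]
  rfl

end Finite

section Exist

variable {R : Type u} [CommRing R] {B : Type u} [CommRing B] [Algebra R B] [Algebra R[X] B]
  [IsScalarTower R R[X] B]

variable [HenselianLocalRing R]
variable (hB : Hens2.IsPairHenselization R[X] (Ideal.span {(X : R[X])}) B)

include hB

theorem algebraMap_C (r : R) : algebraMap R[X] B (C r) = algebraMap R B r := by
  rw [← Polynomial.algebraMap_eq, ← IsScalarTower.algebraMap_apply]

/-- a monic polynomial of degree `d` in `(f)` -/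
theorem exists_monic_mem_span [IsLocalRing B] {f : B} (d : ℕ) (v : Bˣ)
    (hfv : f - algebraMap R[X] B X ^ d * v ∈ mB R B) :
    ∃ P : R[X], P.Monic ∧ P.natDegree = d ∧ algebraMap R[X] B P ∈ Ideal.span {f} := by
  obtain ⟨a, ha⟩ := exists_sum_sub_mem_span hB d v hfv (algebraMap R[X] B X ^ d)
  have hqdeg : (-(∑ i : Fin d, C (a i) * X ^ (i : ℕ))).degree < (d : WithBot ℕ) := by
    rw [degree_neg]; exact degree_sum_fin_lt a
  refine ⟨X ^ d + -(∑ i : Fin d, C (a i) * X ^ (i : ℕ)), monic_X_pow_add hqdeg, ?_, ?_⟩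
  · rw [natDegree_add_eq_left_of_degree_lt, natDegree_X_pow]
    rwa [degree_X_pow]
  · have : algebraMap R[X] B (X ^ d + -(∑ i : Fin d, C (a i) * X ^ (i : ℕ))) =
        algebraMap R[X] B X ^ d - ∑ i : Fin d, algebraMap R B (a i) * algebraMap R[X] B X ^ (i : ℕ) := by
      rw [map_add, map_neg, map_pow, map_sum, ← sub_eq_add_neg]
      congr 1
      refine Finset.sum_congr rfl fun i _ => ?_
      rw [map_mul, map_pow, algebraMap_C hB]
    rw [this]
    exact ha


omit [HenselianLocalRing R] [Algebra R B] [IsScalarTower R R[X] B] hB in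
theorem sub_X_pow_mem_mP [IsLocalRing R] {P : R[X]} (hP : P.Monic)
    (hc : ∀ i, i < P.natDegree → P.coeff i ∈ IsLocalRing.maximalIdeal R) :
    P - X ^ P.natDegree ∈ mP R := by
  rw [mP, Ideal.mem_map_C_iff]
  intro n
  rw [coeff_sub, coeff_X_pow]
  rcases lt_trichotomy n P.natDegree with h | h | h
  · rw [if_neg h.ne, sub_zero]
    exact hc n h
  · rw [if_pos h, h, hP.coeff_natDegree, sub_self]
    exact Ideal.zero_mem _
  · rw [if_neg h.ne', sub_zero, coeff_eq_zero_of_natDegree_lt h]
    exact Ideal.zero_mem _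

/-- **Weierstrass preparation: existence.** -/
theorem exists_weierstrass [IsLocalRing B] {f : B} (hf : f ∉ mB R B) :
    ∃ (P : R[X]) (u : Bˣ), P.Monic ∧
      (∀ i, i < P.natDegree → P.coeff i ∈ IsLocalRing.maximalIdeal R) ∧
      f = algebraMap R[X] B P * u := by
  obtain ⟨d, v, hfv⟩ := exists_pow_mul_unit hB hf
  obtain ⟨P, hPm, hPd, hPf⟩ := exists_monic_mem_span hB d v hfv
  obtain ⟨w, hw⟩ := Ideal.mem_span_singleton'.mp hPf
  -- coefficients
  have hq := quotBij_pow_of_isPairHenselization _ (isPairHenselization_quot_mB hB) d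
  have hJd : ((Ideal.span {(X : R[X])}).map (Ideal.Quotient.mk (mP R))) ^ d =
      Ideal.span {Ideal.Quotient.mk (mP R) X ^ d} := by
    rw [Ideal.map_span, Set.image_singleton, Ideal.span_singleton_pow]
  have hmem : Ideal.Quotient.mk (mP R) P ∈
      ((Ideal.span {(X : R[X])}).map (Ideal.Quotient.mk (mP R))) ^ d := by
    apply hq.inj
    rw [hJd, Ideal.map_span, Set.image_singleton]
    change Ideal.Quotient.mk (mB R B) (algebraMap R[X] B P) ∈
      Ideal.span {Ideal.Quotient.mk (mB R B) (algebraMap R[X] B (X ^ d))}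
    rw [← hw, map_mul, map_pow]
    have h1 : Ideal.Quotient.mk (mB R B) f =
        Ideal.Quotient.mk (mB R B) (algebraMap R[X] B X ^ d * v) := Ideal.Quotient.eq.mpr hfv
    rw [h1, map_mul, map_pow]
    rw [Ideal.mem_span_singleton']
    exact ⟨Ideal.Quotient.mk _ w * Ideal.Quotient.mk _ (v : B), by ring⟩
  rw [hJd] at hmem
  obtain ⟨tbar, ht⟩ := Ideal.mem_span_singleton'.mp hmem
  obtain ⟨t, rfl⟩ := Ideal.Quotient.mk_surjective tbar
  rw [← map_pow, ← map_mul, Ideal.Quotient.eq, mP, Ideal.mem_map_C_iff] at ht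
  have hcoef : ∀ i, i < P.natDegree → P.coeff i ∈ IsLocalRing.maximalIdeal R := by
    intro i hi
    have := ht i
    rw [coeff_sub, coeff_mul_X_pow', if_neg (by omega), zero_sub, neg_mem_iff] at this
    exact this
  -- the cofactor is a unit
  have hPX : algebraMap R[X] B P - algebraMap R[X] B X ^ d ∈ mB R B := by
    rw [← map_pow, ← map_sub, ← hPd]
    exact Ideal.mem_map_of_mem _ (sub_X_pow_mem_mP hPm hcoef)
  have hwu : IsUnit w := by
    by_contra hnu
    have hwm : w ∈ IsLocalRing.maximalIdeal B := hnu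
    have h1 : IsUnit (1 - w * (v : B)) := by
      by_contra hnu'
      have h2 : 1 - w * (v : B) ∈ IsLocalRing.maximalIdeal B := hnu'
      have h3 := Ideal.add_mem _ h2 (Ideal.mul_mem_right (v : B) _ hwm)
      rw [sub_add_cancel] at h3
      exact (IsLocalRing.maximalIdeal.isMaximal B).ne_top ((Ideal.eq_top_iff_one _).mpr h3)
    -- `X^d (1 - w v) ∈ mB`
    have h4 : algebraMap R[X] B X ^ d * (1 - w * (v : B)) ∈ mB R B := by
      have h5 : algebraMap R[X] B X ^ d * (1 - w * (v : B)) =
          w * (f - algebraMap R[X] B X ^ d * v) - (algebraMap R[X] B P - algebraMap R[X] B X ^ d) := by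
        rw [← hw]; ring
      rw [h5]
      exact Ideal.sub_mem _ (Ideal.mul_mem_left _ _ hfv) hPX
    have h6 : algebraMap R[X] B X ^ d ∈ mB R B := by
      obtain ⟨z, hz⟩ := h1.exists_right_inv
      have := Ideal.mul_mem_right z _ h4
      rwa [mul_assoc, hz, mul_one] at this
    apply hf
    have h7 : f = (f - algebraMap R[X] B X ^ d * v) + algebraMap R[X] B X ^ d * v := by ring
    rw [h7]
    exact Ideal.add_mem _ hfv (Ideal.mul_mem_right _ _ h6)
  refine ⟨P, hwu.unit⁻¹, hPm, hcoef, ?_⟩
  rw [← hw, mul_comm w f, mul_assoc]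
  have : w * ((hwu.unit⁻¹ : Bˣ) : B) = 1 := hwu.mul_val_inv
  rw [this, mul_one]

end Exist

section Quot

theorem isPairHenselization_self {F : Type u} [CommRing F] (JF : Ideal F) (h : HenselianRing F JF) :
    Hens2.IsPairHenselization F JF F := by
  refine ⟨by rw [Algebra.algebraMap_self, Ideal.map_id]; exact h, fun T _ JT φ _ _ =>
    ⟨φ, by ext; simp, fun g hg => by rw [← hg]; ext; simp⟩⟩

variable {R : Type u} [CommRing R] {B : Type u} [CommRing B] [Algebra R B] [Algebra R[X] B]
  [IsScalarTower R R[X] B]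

variable [HenselianLocalRing R]
variable (hB : Hens2.IsPairHenselization R[X] (Ideal.span {(X : R[X])}) B)

include hB

theorem bijective_quot_of_distinguished {P : R[X]} (hP : P.Monic)
    (hc : ∀ i, i < P.natDegree → P.coeff i ∈ IsLocalRing.maximalIdeal R) :
    Function.Bijective (algebraMap (R[X] ⧸ Ideal.span {P})
      (B ⧸ (Ideal.span {P}).map (algebraMap R[X] B))) := by
  have h1 := isPairHenselization_quotient _ hB (Ideal.span {P})
  haveI : Module.Finite R (R[X] ⧸ Ideal.span {P}) := hP.finite_quotient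
  haveI : Algebra.IsIntegral R (R[X] ⧸ Ideal.span {P}) := Algebra.IsIntegral.of_finite R _
  haveI : HenselianRing R (IsLocalRing.maximalIdeal R) := inferInstance
  have hhm : HenselianRing (R[X] ⧸ Ideal.span {P})
      ((IsLocalRing.maximalIdeal R).map (algebraMap R (R[X] ⧸ Ideal.span {P}))) :=
    Groth.Agent.Lib.Helper37.henselianRing_map_of_isIntegral (IsLocalRing.maximalIdeal R) _
  have hrad := (Groth.Agent.S0525.result (R[X] ⧸ Ideal.span {P}) _ _
    (Ideal.radical_idem ((IsLocalRing.maximalIdeal R).map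
      (algebraMap R (R[X] ⧸ Ideal.span {P})))).symm).mp hhm
  have hle : (Ideal.span {(X : R[X])}).map (Ideal.Quotient.mk (Ideal.span {P})) ≤
      ((IsLocalRing.maximalIdeal R).map (algebraMap R (R[X] ⧸ Ideal.span {P}))).radical := by
    rw [Ideal.map_span, Set.image_singleton, Ideal.span_le, Set.singleton_subset_iff]
    refine ⟨P.natDegree, ?_⟩
    have h2 : Ideal.Quotient.mk (Ideal.span {P}) X ^ P.natDegree =
        -(Ideal.Quotient.mk (Ideal.span {P}) (P - X ^ P.natDegree)) := by
      rw [map_sub, Ideal.Quotient.eq_zero_iff_mem.mpr (Ideal.mem_span_singleton_self P), zero_sub,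
        neg_neg, map_pow]
    rw [h2, neg_mem_iff]
    have h3 : (IsLocalRing.maximalIdeal R).map (algebraMap R (R[X] ⧸ Ideal.span {P})) =
        (mP R).map (Ideal.Quotient.mk (Ideal.span {P})) := by
      rw [mP, Ideal.map_map]
      rfl
    rw [h3]
    exact Ideal.mem_map_of_mem _ (sub_X_pow_mem_mP hP hc)
  have hJF : HenselianRing (R[X] ⧸ Ideal.span {P})
      ((Ideal.span {(X : R[X])}).map (Ideal.Quotient.mk (Ideal.span {P}))) :=
    @Groth.Agent.Lib.Helper37.henselianRing_of_le _ _ _ _ hle hrad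
  have h2 := isPairHenselization_self _ hJF
  obtain ⟨e⟩ := nonempty_algEquiv_of_isPairHenselization _ h2 h1
  have : ⇑(algebraMap (R[X] ⧸ Ideal.span {P}) (B ⧸ (Ideal.span {P}).map (algebraMap R[X] B))) = e :=
    funext fun x => (e.commutes x).symm
  rw [this]
  exact e.bijective


/-- **Weierstrass preparation for the henselization of `R[X]` along `(X)`.** -/
theorem weierstrass (f : B) (hf : f ∉ (IsLocalRing.maximalIdeal R).map (algebraMap R B)) :
    (∃! Pu : R[X] × Bˣ, Pu.1.Monic ∧
        (∀ i : ℕ, i < Pu.1.natDegree → Pu.1.coeff i ∈ IsLocalRing.maximalIdeal R) ∧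
        f = algebraMap R[X] B Pu.1 * (Pu.2 : B)) ∧
    (∀ (P : R[X]) (u : Bˣ), P.Monic →
        (∀ i : ℕ, i < P.natDegree → P.coeff i ∈ IsLocalRing.maximalIdeal R) →
        f = algebraMap R[X] B P * (u : B) →
      (∀ b : B, ∃ q : R[X], algebraMap R[X] B q - b ∈ Ideal.span {f}) ∧
      (∀ q : R[X], algebraMap R[X] B q ∈ Ideal.span {f} → q ∈ Ideal.span {P})) := by
  haveI := isLocalRing hB
  have hf' : f ∉ mB R B := by rw [mB_eq]; exact hf
  have key : ∀ (P : R[X]) (u : Bˣ), P.Monic →
      (∀ i : ℕ, i < P.natDegree → P.coeff i ∈ IsLocalRing.maximalIdeal R) →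
      f = algebraMap R[X] B P * (u : B) →
      (∀ b : B, ∃ q : R[X], algebraMap R[X] B q - b ∈ Ideal.span {f}) ∧
      (∀ q : R[X], algebraMap R[X] B q ∈ Ideal.span {f} → q ∈ Ideal.span {P}) := by
    intro P u hPm hPc hfP
    have hbij := bijective_quot_of_distinguished hB hPm hPc
    have hspan : Ideal.span {f} = (Ideal.span {P}).map (algebraMap R[X] B) := by
      rw [Ideal.map_span, Set.image_singleton, hfP, Ideal.span_singleton_mul_right_unit u.isUnit]
    constructor
    · intro b
      obtain ⟨qbar, hq⟩ := hbij.2 (Ideal.Quotient.mk _ b)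
      obtain ⟨q, rfl⟩ := Ideal.Quotient.mk_surjective qbar
      refine ⟨q, ?_⟩
      rw [hspan, ← Ideal.Quotient.eq]
      exact hq
    · intro q hq
      rw [hspan, ← Ideal.Quotient.eq_zero_iff_mem] at hq
      have h0 : algebraMap (R[X] ⧸ Ideal.span {P}) (B ⧸ (Ideal.span {P}).map (algebraMap R[X] B))
          (Ideal.Quotient.mk _ q) = 0 := hq
      have h1 := hbij.1 (h0.trans (map_zero _).symm)
      exact Ideal.Quotient.eq_zero_iff_mem.mp h1
  refine ⟨?_, key⟩
  obtain ⟨P, u, hPm, hPc, hfP⟩ := exists_weierstrass hB hf'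
  refine ⟨(P, u), ⟨hPm, hPc, hfP⟩, ?_⟩
  rintro ⟨P', u'⟩ ⟨hPm', hPc', hfP'⟩
  have h1 : P' ∈ Ideal.span {P} := by
    apply (key P u hPm hPc hfP).2 P'
    rw [Ideal.mem_span_singleton']
    refine ⟨((u'⁻¹ : Bˣ) : B), ?_⟩
    rw [hfP', mul_comm, mul_assoc, Units.mul_inv, mul_one]
  have h2 : P ∈ Ideal.span {P'} := by
    apply (key P' u' hPm' hPc' hfP').2 P
    rw [Ideal.mem_span_singleton']
    refine ⟨((u⁻¹ : Bˣ) : B), ?_⟩
    rw [hfP, mul_comm, mul_assoc, Units.mul_inv, mul_one]
  obtain ⟨q, hq⟩ := Ideal.mem_span_singleton'.mp h1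
  obtain ⟨q', hq'⟩ := Ideal.mem_span_singleton'.mp h2
  have hPP' : P' = P := by
    have hq0 : q ≠ 0 := by
      rintro rfl
      rw [zero_mul] at hq
      exact hPm'.ne_zero hq.symm
    have hq'0 : q' ≠ 0 := by
      rintro rfl
      rw [zero_mul] at hq'
      exact hPm.ne_zero hq'.symm
    have d1 : P'.natDegree = P.natDegree + q.natDegree := by
      rw [← hq, mul_comm]
      exact hPm.natDegree_mul' hq0
    have d2 : P.natDegree = P'.natDegree + q'.natDegree := by
      rw [← hq', mul_comm]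
      exact hPm'.natDegree_mul' hq'0
    have hqd : q.natDegree = 0 := by omega
    rw [eq_C_of_natDegree_eq_zero hqd] at hq
    have hc1 : q.coeff 0 = 1 := by
      have h3 := hPm'.leadingCoeff
      rw [← hq, leadingCoeff_mul_monic hPm, leadingCoeff_C] at h3
      exact h3
    rw [← hq, hc1, C_1, one_mul]
  have huu' : u' = u := by
    haveI : Module.Flat R[X] B := flat_of_isPairHenselization _ hB
    have hreg : IsSMulRegular B P := Module.Flat.isSMulRegular_of_nonZeroDivisors hPm.mem_nonZeroDivisors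
    apply Units.ext
    apply hreg
    change P • (u' : B) = P • (u : B)
    rw [Algebra.smul_def, Algebra.smul_def, ← hfP, ← hPP', ← hfP']
  exact Prod.ext hPP' huu'

end Quot

end Groth.Agent.Lib.Helper90.HensWeier
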