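import Groth.Agent.Lib.Helper90.PairHzHensel
import Groth.Agent.Lib.Helper37.HenselEtale
import Groth.Prelude.Def_Hens2

set_option autoImplicit false
set_option linter.style.haveILetI false
universe u

open TensorProduct

namespace Groth.Agent.Lib.Helper90.PairHz

variable {A : Type u} [CommRing A] (I : Ideal A)

section Univ

variable (C : Type u) [CommRing C] [Algebra A C] (J : Ideal C) [hCJ : HenselianRing C J]
  (hIJ : I.map (algebraMap A C) ≤ J)

include hCJ hIJ in
theorem map_le_jacobson_of_henselian : I.map (algebraMap A C) ≤ Ideal.jacobson ⊥ :=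
  hIJ.trans hCJ.jac

include hCJ hIJ in
/-- A good neighbourhood maps to every henselian pair under `(A, I)`. -/
theorem nonempty_algHom_of_henselian (B : Type u) [CommRing B] [Algebra A B] (hB : IsGood I B) :
    Nonempty (B →ₐ[A] C) := by
  haveI := hB.1
  let e : (A ⧸ I) ≃+* (B ⧸ I.map (algebraMap A B)) := RingEquiv.ofBijective _ hB.2
  have hle : I ≤ J.comap (algebraMap A C) := Ideal.map_le_iff_le_comap.mp hIJ
  let γ : A ⧸ I →+* C ⧸ J := Ideal.quotientMap J (algebraMap A C) hle
  let σ₀ : B →ₐ[A] C ⧸ J :=
    { toRingHom := (γ.comp (e.symm : (B ⧸ I.map (algebraMap A B)) →+* (A ⧸ I))).comp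
        (Ideal.Quotient.mk (I.map (algebraMap A B)))
      commutes' := by
        intro a
        change γ (e.symm (Ideal.Quotient.mk _ (algebraMap A B a))) = _
        have : Ideal.Quotient.mk (I.map (algebraMap A B)) (algebraMap A B a) =
            e (Ideal.Quotient.mk I a) := by
          change _ = algebraMap (A ⧸ I) (B ⧸ I.map (algebraMap A B)) (Ideal.Quotient.mk I a)
          rw [Ideal.Quotient.algebraMap_quotient_map_quotient]
        rw [this, RingEquiv.symm_apply_apply]
        exact Ideal.quotientMap_mk }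
  let σ : C ⊗[A] B →ₐ[C] C ⧸ J :=
    Algebra.TensorProduct.lift (Algebra.ofId C (C ⧸ J)) σ₀ (fun _ _ => .all _ _)
  obtain ⟨τ, -⟩ := Groth.Agent.Lib.Helper37.exists_lift_of_etale J σ
  exact ⟨(τ.restrictScalars A).comp Algebra.TensorProduct.includeRight⟩

include hCJ hIJ in
/-- Existence of the map from the direct limit to a henselian pair under `(A, I)`. -/
theorem exists_algHom_Hz_of_henselian : Nonempty (Hz I →ₐ[A] C) := by
  have hC := map_le_jacobson_of_henselian I C J hIJ
  let lam : ∀ j : GIdx I, GIdx.L I j →ₐ[A] C := fun j =>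
    locLift I hC (nonempty_algHom_of_henselian I C J hIJ j.1.Ring j.2).some
  have hlam : ∀ (j j' : GIdx I) (h : j ≤ j') (x : GIdx.L I j),
      lam j' (tr I j j' h x) = lam j x := by
    intro j j' h x
    have : (lam j').comp (tr I j j' h) = lam j := locAlgHom_ext I (j.2.quotBij I) hC _ _
    exact congr($this x)
  let g : Hz I →+* C := Ring.DirectLimit.lift _ _ C (fun j => (lam j).toRingHom)
    (fun j j' h x => hlam j j' h x)
  refine ⟨{ g with commutes' := ?_ }⟩
  intro a
  let j₀ : GIdx I := Classical.arbitrary _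
  change g (algebraMap A (Hz I) a) = _
  rw [algebraMap_Hz I j₀ a]
  exact (Ring.DirectLimit.lift_of C (fun j => (lam j).toRingHom)
    (fun j j' h x => hlam j j' h x) j₀ _).trans ((lam j₀).commutes a)

include hCJ hIJ in
/-- Uniqueness of the map from the direct limit to a henselian pair under `(A, I)`. -/
theorem algHom_Hz_ext_of_henselian (g₁ g₂ : Hz I →ₐ[A] C) : g₁ = g₂ := by
  have hC := map_le_jacobson_of_henselian I C J hIJ
  apply AlgHom.coe_ringHom_injective
  apply Ring.DirectLimit.hom_ext
  intro j
  have : g₁.comp (ofLₐ I j) = g₂.comp (ofLₐ I j) := locAlgHom_ext I (j.2.quotBij I) hC _ _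
  ext x
  exact congr($this x)

end Univ

/-- **The henselization of a pair exists**: `Hz I` is a henselization of `(A, I)` in the sense of
the prelude. -/
theorem isPairHenselization_Hz : Hens2.IsPairHenselization A I (Hz I) := by
  refine ⟨henselianRing_Hz I, fun C _ J f hCJ hIJ => ?_⟩
  letI : Algebra A C := f.toAlgebra
  have hIJ' : I.map (algebraMap A C) ≤ J := hIJ
  obtain ⟨g⟩ := exists_algHom_Hz_of_henselian I C J hIJ'
  refine ⟨g.toRingHom, ?_, ?_⟩
  · ext a; exact g.commutes a
  · intro g' hg'
    let g'' : Hz I →ₐ[A] C := { g' with commutes' := fun a => congr($hg' a) }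
    have := algHom_Hz_ext_of_henselian I C J hIJ' g'' g
    exact congr(($this).toRingHom)

end Groth.Agent.Lib.Helper90.PairHz
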