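import Groth.Agent.Lib.Helper90.GenCover

set_option autoImplicit false
set_option linter.style.haveILetI false
universe u

open CategoryTheory CategoryTheory.Limits AlgebraicGeometry TopologicalSpace

/-!
# Affine boxes in fibre products and uniform affine covers (helper90)
-/

namespace Groth.Agent.Lib.Helper90.GenCover

/-- An "affine box" in a fibre product is affine. -/
lemma isAffineOpen_pullback_inf {X Y Z : Scheme.{u}} {f : X ⟶ Z} {g : Y ⟶ Z}
    {U : X.Opens} (hU : IsAffineOpen U) {V : Y.Opens} (hV : IsAffineOpen V)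
    {W : Z.Opens} (hW : IsAffineOpen W) (hUW : U ≤ f ⁻¹ᵁ W) (hVW : V ≤ g ⁻¹ᵁ W) :
    IsAffineOpen (pullback.fst f g ⁻¹ᵁ U ⊓ pullback.snd f g ⁻¹ᵁ V) := by
  have : IsAffine U.toScheme := hU
  have : IsAffine W.toScheme := hW
  have : IsAffine V.toScheme := hV
  let f' : U.toScheme ⟶ W := f.resLE _ _ hUW
  let q : V.toScheme ⟶ W := g.resLE _ _ hVW
  let p : pullback f' q ⟶ pullback f g :=
    pullback.map _ _ _ _ U.ι V.ι W.ι (by simp [f']) (by simp [q])
  have hp : p.opensRange = pullback.fst f g ⁻¹ᵁ U ⊓ pullback.snd f g ⁻¹ᵁ V := by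
    apply Opens.ext
    simp [p, Scheme.Pullback.range_map]
  rw [← hp]
  exact isAffineOpen_opensRange p

/-- A quasi-compact open of a scheme is a finite union of affine opens. -/
lemma exists_fin_affine_cover_of_isCompact {X : Scheme.{u}} (U : X.Opens)
    (hU : IsCompact (U : Set X)) :
    ∃ (n : ℕ) (A : Fin n → X.Opens), (∀ l, IsAffineOpen (A l)) ∧ ⨆ l, A l = U := by
  have h1 : ∀ x : U, ∃ A : X.Opens, IsAffineOpen A ∧ x.1 ∈ A ∧ A ≤ U := by
    intro x
    obtain ⟨_, ⟨A, hA, rfl⟩, hxA, hAU⟩ :=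
      X.isBasis_affineOpens.exists_subset_of_mem_open x.2 U.isOpen
    exact ⟨A, hA, hxA, hAU⟩
  choose A hA hxA hAU using h1
  obtain ⟨t, ht⟩ := hU.elim_finite_subcover (fun x : U => (A x : Set X))
    (fun x => (A x).isOpen) (fun x hx => Set.mem_iUnion.2 ⟨⟨x, hx⟩, hxA _⟩)
  refine ⟨t.card, fun l => A (t.equivFin.symm l).1, fun l => hA _, ?_⟩
  apply le_antisymm
  · exact iSup_le fun l => hAU _
  · intro x hx
    obtain ⟨y, hy, hxy⟩ := Set.mem_iUnion₂.1 (ht hx)
    exact Opens.mem_iSup.2 ⟨t.equivFin ⟨y, hy⟩, by simpa using hxy⟩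

/-- Uniform affine covers of the fibres of a quasi-compact morphism to a quasi-compact scheme. -/
theorem exists_uniform_affine_cover_pullback {W Y : Scheme.{u}} (j : W ⟶ Y) [CompactSpace Y]
    [QuasiCompact j] :
    ∃ m : ℕ, ∀ (B : CommRingCat.{u}) (g : Spec B ⟶ Y),
      ∃ U : Fin m → (Limits.pullback j g).Opens, (∀ k, IsAffineOpen (U k)) ∧ ⨆ k, U k = ⊤ := by
  obtain ⟨r, V, hV, hVtop⟩ := exists_fin_affine_cover_of_isCompact (⊤ : Y.Opens)
    (by simpa using isCompact_univ)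
  have h1 : ∀ k : Fin r, ∃ (n : ℕ) (A : Fin n → W.Opens),
      (∀ l, IsAffineOpen (A l)) ∧ ⨆ l, A l = j ⁻¹ᵁ V k := fun k =>
    exists_fin_affine_cover_of_isCompact _ (j.isCompact_preimage (hV k).isCompact)
  choose n A hA hAsup using h1
  refine ⟨∑ k, n k, fun B g => ?_⟩
  -- partition of unity on `Spec B`
  have hG : ⨆ k, g ⁻¹ᵁ V k = ⊤ := by
    rw [eq_top_iff]
    intro x _
    have : g x ∈ (⨆ k, V k : Y.Opens) := by rw [hVtop]; trivial
    obtain ⟨k, hk⟩ := Opens.mem_iSup.1 this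
    exact Opens.mem_iSup.2 ⟨k, hk⟩
  obtain ⟨a, ha, haG⟩ := exists_partition_of_cover (R := B) (fun k => g ⁻¹ᵁ V k) hG
  have hD : ∀ k, IsAffineOpen (X := Spec B) (PrimeSpectrum.basicOpen (a k)) :=
    fun k => IsAffineOpen.Spec_basicOpen (a k)
  suffices key : ∃ U' : (Σ k : Fin r, Fin (n k)) → (Limits.pullback j g).Opens,
      (∀ p, IsAffineOpen (U' p)) ∧ ⨆ p, U' p = ⊤ by
    obtain ⟨U', hU', hsup⟩ := key
    refine ⟨fun e => U' (finSigmaFinEquiv.symm e), fun e => hU' _, ?_⟩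
    rw [← hsup]
    exact Equiv.iSup_comp (g := U') finSigmaFinEquiv.symm
  refine ⟨fun p => pullback.fst j g ⁻¹ᵁ A p.1 p.2 ⊓
    pullback.snd j g ⁻¹ᵁ (PrimeSpectrum.basicOpen (a p.1)), fun p => ?_, ?_⟩
  · refine isAffineOpen_pullback_inf (hA _ _) (hD _) (hV p.1) ?_ (haG _)
    rw [← hAsup]
    exact le_iSup (A p.1) _
  · rw [eq_top_iff]
    intro x _
    have hx1 : pullback.snd j g x ∈ (⨆ k, PrimeSpectrum.basicOpen (a k) :
        Opens (PrimeSpectrum B)) := by
      rw [PrimeSpectrum.iSup_basicOpen_eq_top_iff.2 ha]; trivial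
    obtain ⟨k, hk⟩ := Opens.mem_iSup.1 hx1
    have hx2 : pullback.fst j g x ∈ j ⁻¹ᵁ V k := by
      change j (pullback.fst j g x) ∈ V k
      have : j (pullback.fst j g x) = g (pullback.snd j g x) := by
        rw [← Scheme.Hom.comp_apply, ← Scheme.Hom.comp_apply, pullback.condition]
      rw [this]
      exact haG k hk
    rw [← hAsup] at hx2
    obtain ⟨l, hl⟩ := Opens.mem_iSup.1 hx2
    exact Opens.mem_iSup.2 ⟨⟨k, l⟩, ⟨hl, hk⟩⟩

end Groth.Agent.Lib.Helper90.GenCover
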