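import Mathlib

set_option linter.style.haveILetI false
set_option linter.unusedSectionVars false

namespace Groth.Agent.Lib.Helper90.AlmostFree

open CategoryTheory CategoryTheory.Limits AlgebraicGeometry

universe u

variable {X : Scheme.{u}}

/-- the set of points through which some field-valued point fixed by `φ` passes. -/
def fixSet (φ : X ⟶ X) : Set X :=
  {x | ∃ (K : Type u) (_ : Field K) (y : Spec (CommRingCat.of K) ⟶ X), y ≫ φ = y ∧
    x ∈ Set.range y.base}

theorem fixSet_eq_range (φ : X ⟶ X) :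
    fixSet φ = Set.range (equalizer.ι φ (𝟙 X)).base := by
  ext x
  constructor
  · rintro ⟨K, _, y, hy, ⟨t, rfl⟩⟩
    refine ⟨(equalizer.lift y (by rw [hy, Category.comp_id])).base t, ?_⟩
    rw [← Scheme.Hom.comp_apply, equalizer.lift_ι]
  · rintro ⟨e, rfl⟩
    refine ⟨(equalizer φ (𝟙 X)).residueField e, inferInstance,
      (equalizer φ (𝟙 X)).fromSpecResidueField e ≫ equalizer.ι φ (𝟙 X), ?_, ?_⟩
    · rw [Category.assoc, equalizer.condition, Category.comp_id]
    · refine ⟨IsLocalRing.closedPoint _, ?_⟩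
      rw [Scheme.Hom.comp_apply, Scheme.fromSpecResidueField_apply]

theorem isClosed_fixSet [X.IsSeparated] (φ : X ⟶ X) : IsClosed (fixSet φ) := by
  rw [fixSet_eq_range]
  exact (equalizer.ι φ (𝟙 X)).isClosedEmbedding.isClosed_range

theorem eq_id_of_fixSet_eq_univ [X.IsSeparated] [IsReduced X] (φ : X ⟶ X)
    (h : fixSet φ = Set.univ) : φ = 𝟙 X := by
  rw [fixSet_eq_range] at h
  haveI : IsDominant (equalizer.ι φ (𝟙 X)) := by
    constructor
    rw [DenseRange, h]
    exact dense_univ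
  exact ext_of_isDominant (equalizer.ι φ (𝟙 X)) (equalizer.condition _ _)

theorem main (k : Type u) [Field k]
    (X : Scheme.{u}) (f : X ⟶ Spec (CommRingCat.of k)) [IsIntegral X] [IsSeparated f]
    (G : Type u) [Group G] [Finite G] (ρ : G →* Aut X)
    (hfaith : Function.Injective ρ) :
    ∃ U : X.Opens, (U : Set X).Nonempty ∧ (∀ g : G, (ρ g).hom ⁻¹ᵁ U = U) ∧
      ∀ (K : Type u) [Field K] (x : Spec (CommRingCat.of K) ⟶ X),
        Set.range x.base ⊆ (U : Set X) → ∀ g : G, x ≫ (ρ g).hom = x → g = 1 := by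
  haveI : X.IsSeparated := ⟨by rw [← terminal.comp_from f]; infer_instance⟩
  have hcl : ∀ g : G, IsClosed (fixSet (ρ g).hom) := fun g => isClosed_fixSet _
  have hne : ∀ g : G, g ≠ 1 → fixSet (ρ g).hom ≠ Set.univ := by
    intro g hg h
    apply hg
    apply hfaith
    rw [map_one]
    ext1
    exact eq_id_of_fixSet_eq_univ _ h
  let B : Set X := ⋃ g ∈ {g : G | g ≠ 1}, fixSet (ρ g).hom
  have hB : IsClosed B := (Set.toFinite _).isClosed_biUnion fun g _ => hcl g
  have hBne : B ≠ Set.univ := by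
    intro hBu
    classical
    haveI : Fintype G := Fintype.ofFinite G
    have hirr : IsIrreducible (Set.univ : Set X) := IrreducibleSpace.isIrreducible_univ X
    have := isIrreducible_iff_sUnion_isClosed.mp hirr
      ((Finset.univ.filter fun g : G => g ≠ 1).image fun g => fixSet (ρ g).hom)
      (by
        intro z hz
        obtain ⟨g, -, rfl⟩ := Finset.mem_image.mp hz
        exact hcl g)
      (by
        intro x _
        have hx : x ∈ B := by rw [hBu]; trivial
        obtain ⟨g, hg, hxg⟩ := Set.mem_iUnion₂.mp hx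
        exact Set.mem_sUnion.mpr ⟨fixSet (ρ g).hom,
          Finset.mem_coe.mpr (Finset.mem_image.mpr ⟨g, by simpa using hg, rfl⟩), hxg⟩)
    obtain ⟨z, hz, hzu⟩ := this
    obtain ⟨g, hg, rfl⟩ := Finset.mem_image.mp hz
    have hg1 : g ≠ 1 := by simpa using hg
    exact hne g hg1 (Set.eq_univ_of_univ_subset hzu)
  let U : X.Opens := ⟨Bᶜ, hB.isOpen_compl⟩
  have hsub : ∀ h : G, ∀ x : X, (ρ h).hom.base x ∈ U → x ∈ U := by
    intro h x hx hxB
    apply hx
    obtain ⟨g, hg, K, _, y, hy, hxy⟩ := Set.mem_iUnion₂.mp hxB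
    refine Set.mem_iUnion₂.mpr ⟨h * g * h⁻¹, ?_, K, inferInstance, y ≫ (ρ h).hom, ?_, ?_⟩
    · intro hc
      apply hg
      have : g = h⁻¹ * (h * g * h⁻¹) * h := by group
      rw [this, hc]
      group
    · have e1 : (ρ (h * g * h⁻¹)).hom = (ρ h⁻¹).hom ≫ (ρ g).hom ≫ (ρ h).hom := by
        rw [map_mul, map_mul]
        simp [Aut.Aut_mul_def]
      have e2 : (ρ h).hom ≫ (ρ h⁻¹).hom = 𝟙 X := by
        rw [map_inv]
        simp [Aut.Aut_inv_def]
      rw [e1, Category.assoc, ← Category.assoc (ρ h).hom, e2, Category.id_comp,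
        ← Category.assoc, hy]
    · obtain ⟨t, rfl⟩ := hxy
      exact ⟨t, by rw [Scheme.Hom.comp_apply]⟩
  refine ⟨U, ?_, ?_, ?_⟩
  · by_contra hemp
    apply hBne
    have : (Bᶜ : Set X) = ∅ := Set.not_nonempty_iff_eq_empty.mp hemp
    exact Set.compl_empty_iff.mp this
  · intro h
    ext x
    constructor
    · intro hx
      exact hsub h x hx
    · intro hx
      have e2 : (ρ h).hom ≫ (ρ h⁻¹).hom = 𝟙 X := by
        rw [map_inv]
        simp [Aut.Aut_inv_def]
      apply hsub h⁻¹ ((ρ h).hom.base x)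
      rw [← Scheme.Hom.comp_apply, e2]
      exact hx
  · intro K _ x hx g hxg
    by_contra hg
    have hpt : x.base (IsLocalRing.closedPoint K) ∈ (U : Set X) := hx ⟨_, rfl⟩
    apply hpt
    exact Set.mem_iUnion₂.mpr ⟨g, hg, K, inferInstance, x, hxg, ⟨_, rfl⟩⟩

end Groth.Agent.Lib.Helper90.AlmostFree
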