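import Mathlib
import Groth.Prelude.Def_DEt2

set_option linter.style.haveILetI false
set_option linter.unusedSectionVars false

namespace Groth.Agent.Lib.Helper90.Cpt

open CategoryTheory CategoryTheory.Limits AlgebraicGeometry

universe u

theorem dominate {X Y : Scheme.{u}} [CompactSpace ↥X] [QuasiSeparatedSpace ↥X]
    [CompactSpace ↥Y] [QuasiSeparatedSpace ↥Y] {f : X ⟶ Y} (c₁ c₂ : DEt.Compactification f) :
    ∃ (c : DEt.Compactification f) (p₁ : c.Xbar ⟶ c₁.Xbar) (p₂ : c.Xbar ⟶ c₂.Xbar),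
      IsProper p₁ ∧ IsProper p₂ ∧ c.j ≫ p₁ = c₁.j ∧ c.j ≫ p₂ = c₂.j ∧
        p₁ ≫ c₁.fbar = c.fbar ∧ p₂ ≫ c₂.fbar = c.fbar := by
  let h : X ⟶ pullback c₁.fbar c₂.fbar :=
    pullback.lift c₁.j c₂.j (c₁.fac.trans c₂.fac.symm)
  have hfst : h ≫ pullback.fst _ _ = c₁.j := pullback.lift_fst _ _ _
  have hsnd : h ≫ pullback.snd _ _ = c₂.j := pullback.lift_snd _ _ _
  haveI : IsImmersion (h ≫ pullback.fst c₁.fbar c₂.fbar) := by rw [hfst]; infer_instance
  haveI : IsImmersion h := IsImmersion.of_comp h (pullback.fst c₁.fbar c₂.fbar)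
  haveI : QuasiSeparatedSpace ↥(pullback c₁.fbar c₂.fbar) :=
    quasiSeparatedSpace_of_quasiSeparated (pullback.fst c₁.fbar c₂.fbar ≫ c₁.fbar)
  haveI : QuasiCompact h := inferInstance
  haveI : IsOpenImmersion h.toImage := inferInstance
  let p₁ : h.image ⟶ c₁.Xbar := h.imageι ≫ pullback.fst _ _
  let p₂ : h.image ⟶ c₂.Xbar := h.imageι ≫ pullback.snd _ _
  haveI : IsProper p₁ := inferInstance
  haveI : IsProper p₂ := inferInstance
  refine ⟨⟨h.image, h.toImage, p₁ ≫ c₁.fbar, inferInstance, inferInstance, ?_⟩, p₁, p₂,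
    inferInstance, inferInstance, ?_, ?_, rfl, ?_⟩
  · show h.toImage ≫ (h.imageι ≫ pullback.fst _ _) ≫ c₁.fbar = f
    rw [Category.assoc, ← Category.assoc, ← Category.assoc, h.toImage_imageι, hfst, c₁.fac]
  · show h.toImage ≫ h.imageι ≫ pullback.fst _ _ = c₁.j
    rw [← Category.assoc, h.toImage_imageι, hfst]
  · show h.toImage ≫ h.imageι ≫ pullback.snd _ _ = c₂.j
    rw [← Category.assoc, h.toImage_imageι, hsnd]
  · show (h.imageι ≫ pullback.snd _ _) ≫ c₂.fbar = (h.imageι ≫ pullback.fst _ _) ≫ c₁.fbar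
    rw [Category.assoc, Category.assoc, pullback.condition]

end Groth.Agent.Lib.Helper90.Cpt
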