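import Mathlib
import Groth.Prelude.Def_DEt2

set_option linter.style.haveILetI false
set_option linter.unusedSectionVars false

namespace Groth.Agent.Lib.Helper90.Cpt

open CategoryTheory CategoryTheory.Limits AlgebraicGeometry

universe u

/-- if `h ≫ i` is an open immersion and `i` is a monomorphism then `h` is an open immersion. -/
theorem isOpenImmersion_of_comp_mono {X E Z : Scheme.{u}} (h : X ⟶ E) (i : E ⟶ Z) [Mono i]
    [IsOpenImmersion (h ≫ i)] : IsOpenImmersion h := by
  have hs : pullback.snd (h ≫ i) i = pullback.fst (h ≫ i) i ≫ h := by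
    rw [← cancel_mono i, ← pullback.condition, Category.assoc]
  let l : X ⟶ pullback (h ≫ i) i := pullback.lift (𝟙 X) h (by rw [Category.id_comp])
  have hl : l ≫ pullback.snd (h ≫ i) i = h := pullback.lift_snd _ _ _
  haveI : IsIso l := by
    refine ⟨pullback.fst (h ≫ i) i, pullback.lift_fst _ _ _, ?_⟩
    apply pullback.hom_ext
    · rw [Category.assoc, pullback.lift_fst, Category.comp_id, Category.id_comp]
    · rw [Category.assoc, hl, Category.id_comp, hs]
  rw [← hl]
  infer_instance

theorem equalize {X Y : Scheme.{u}} {f : X ⟶ Y} (c₁ c₂ : DEt.Compactification f)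
    (r s : c₁.Xbar ⟶ c₂.Xbar) (hr : c₁.j ≫ r = c₂.j) (hs : c₁.j ≫ s = c₂.j)
    (hr' : r ≫ c₂.fbar = c₁.fbar) (hs' : s ≫ c₂.fbar = c₁.fbar) :
    ∃ (c : DEt.Compactification f) (t : c.Xbar ⟶ c₁.Xbar), IsProper t ∧ c.j ≫ t = c₁.j ∧
      t ≫ c₁.fbar = c.fbar ∧ t ≫ r = t ≫ s := by
  let A : Over Y := Over.mk c₁.fbar
  let B : Over Y := Over.mk c₂.fbar
  let r' : A ⟶ B := Over.homMk r hr'
  let s' : A ⟶ B := Over.homMk s hs'
  haveI : IsSeparated B.hom := (inferInstance : IsSeparated c₂.fbar)
  let ι : (equalizer r' s').left ⟶ c₁.Xbar := (equalizer.ι r' s').left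
  haveI : IsClosedImmersion ι := isClosedImmersion_equalizer_ι_left r' s'
  have hcond : ι ≫ r = ι ≫ s := by
    have := congrArg (fun m => m.left) (equalizer.condition r' s')
    exact this
  let j' : Over.mk f ⟶ A := Over.homMk c₁.j c₁.fac
  let h' : Over.mk f ⟶ equalizer r' s' := equalizer.lift j' (by
    ext
    simp only [Over.comp_left]
    exact hr.trans hs.symm)
  let h : X ⟶ (equalizer r' s').left := h'.left
  have hh : h ≫ ι = c₁.j := by
    have := congrArg (fun m => m.left) (equalizer.lift_ι j' (by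
      ext
      simp only [Over.comp_left]
      exact hr.trans hs.symm : j' ≫ r' = j' ≫ s'))
    exact this
  haveI : IsOpenImmersion (h ≫ ι) := by rw [hh]; infer_instance
  haveI : IsOpenImmersion h := isOpenImmersion_of_comp_mono h ι
  refine ⟨⟨(equalizer r' s').left, h, ι ≫ c₁.fbar, inferInstance, inferInstance, ?_⟩, ι,
    inferInstance, hh, rfl, hcond⟩
  rw [← Category.assoc, hh, c₁.fac]

end Groth.Agent.Lib.Helper90.Cpt
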