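import Mathlib

set_option linter.style.haveILetI false
set_option linter.unusedSectionVars false

namespace Groth.Agent.Lib.Helper90.Cpt

open CategoryTheory CategoryTheory.Limits AlgebraicGeometry

universe u

theorem compactify_over {S X Y Xb : Scheme.{u}}
    (g : Y ⟶ S) [IsSeparated g]
    (f : X ⟶ Y) (j : X ⟶ Xb) [IsOpenImmersion j] [QuasiCompact j] (b : Xb ⟶ S) [IsProper b]
    (hj : j ≫ b = f ≫ g) :
    ∃ (Xb' : Scheme.{u}) (j' : X ⟶ Xb') (b' : Xb' ⟶ Y), IsOpenImmersion j' ∧ QuasiCompact j' ∧
      IsProper b' ∧ j' ≫ b' = f := by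
  let h : X ⟶ pullback b g := pullback.lift j f hj
  have hfst : h ≫ pullback.fst b g = j := pullback.lift_fst _ _ _
  have hsnd : h ≫ pullback.snd b g = f := pullback.lift_snd _ _ _
  haveI : IsImmersion (h ≫ pullback.fst b g) := by rw [hfst]; infer_instance
  haveI : IsImmersion h := IsImmersion.of_comp h (pullback.fst b g)
  haveI : QuasiCompact (h ≫ pullback.fst b g) := by rw [hfst]; infer_instance
  haveI : QuasiCompact h := QuasiCompact.of_comp h (pullback.fst b g)
  haveI : IsOpenImmersion h.toImage := inferInstance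
  refine ⟨h.image, h.toImage, h.imageι ≫ pullback.snd b g, inferInstance, inferInstance,
    inferInstance, ?_⟩
  rw [← Category.assoc, h.toImage_imageι, hsnd]

end Groth.Agent.Lib.Helper90.Cpt
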