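import Mathlib

/-!
# Fixed fields of groups preserving a prime of the integral closure give henselian local rings

`henselian_of_fixedField`: `R` a domain with fraction field `K`, `Ks` a separable closure, `Ps` a prime
of the integral closure of `R` in `Ks`, `H` a set of automorphisms preserving `Ps`, `L` the fixed field
of the subgroup generated by `H`, `Q = Ps ∩ L`: the localization of the integral closure of `R` in `L`
at `Q` is henselian. (Decomposition and inertia fields.)
-/

set_option linter.style.haveILetI false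
set_option linter.unusedSectionVars false

universe u

namespace Groth.Agent.Lib.Helper90.DecompHensel

open Polynomial

section Basic

variable {R : Type*} {Ks : Type*} [CommRing R] [Field Ks] [Algebra R Ks]
  (Ps : Ideal (integralClosure R Ks))

/-- `x ∈ Ps`, as a predicate on `Ks`. -/
def InPs (x : Ks) : Prop :=
  ∃ h : x ∈ integralClosure R Ks, (⟨x, h⟩ : integralClosure R Ks) ∈ Ps

variable {Ps}

lemma InPs.isIntegral {x : Ks} (h : InPs Ps x) : IsIntegral R x := h.1

lemma inPs_zero : InPs Ps (0 : Ks) :=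
  ⟨(integralClosure R Ks).zero_mem, by
    have : (⟨0, (integralClosure R Ks).zero_mem⟩ : integralClosure R Ks) = 0 := rfl
    rw [this]; exact Ps.zero_mem⟩

lemma InPs.add {x y : Ks} (hx : InPs Ps x) (hy : InPs Ps y) : InPs Ps (x + y) := by
  obtain ⟨h1, h2⟩ := hx
  obtain ⟨h3, h4⟩ := hy
  exact ⟨(integralClosure R Ks).add_mem h1 h3, Ps.add_mem h2 h4⟩

lemma InPs.neg {x : Ks} (hx : InPs Ps x) : InPs Ps (-x) := by
  obtain ⟨h1, h2⟩ := hx
  exact ⟨(integralClosure R Ks).neg_mem h1, Ps.neg_mem h2⟩

lemma InPs.sub {x y : Ks} (hx : InPs Ps x) (hy : InPs Ps y) : InPs Ps (x - y) := by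
  rw [sub_eq_add_neg]; exact hx.add hy.neg

lemma InPs.mul_left {x y : Ks} (hx : IsIntegral R x) (hy : InPs Ps y) : InPs Ps (x * y) := by
  obtain ⟨h3, h4⟩ := hy
  exact ⟨(integralClosure R Ks).mul_mem hx h3,
    Ps.mul_mem_left (⟨x, hx⟩ : integralClosure R Ks) h4⟩

lemma InPs.mul_right {x y : Ks} (hx : InPs Ps x) (hy : IsIntegral R y) : InPs Ps (x * y) := by
  rw [mul_comm]; exact hx.mul_left hy

lemma not_inPs_one [hp : Ps.IsPrime] : ¬ InPs Ps (1 : Ks) := by
  rintro ⟨h1, h2⟩
  exact hp.ne_top ((Ideal.eq_top_iff_one _).mpr h2)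

lemma inPs_or_of_mul [hp : Ps.IsPrime] {x y : Ks} (hx : IsIntegral R x) (hy : IsIntegral R y)
    (h : InPs Ps (x * y)) : InPs Ps x ∨ InPs Ps y := by
  obtain ⟨h1, h2⟩ := h
  have : (⟨x * y, h1⟩ : integralClosure R Ks) = ⟨x, hx⟩ * ⟨y, hy⟩ := rfl
  rw [this] at h2
  rcases hp.mem_or_mem h2 with h | h
  · exact Or.inl ⟨hx, h⟩
  · exact Or.inr ⟨hy, h⟩

end Basic

section Ring

variable {R : Type*} {Ks : Type*} [CommRing R] [Field Ks] [Algebra R Ks]
  (Ps : Ideal (integralClosure R Ks)) (L : Subring Ks)

/-- Denominators: elements of `L`, integral over `R`, not in `Ps`. -/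
def Den (s : Ks) : Prop := s ∈ L ∧ IsIntegral R s ∧ ¬ InPs Ps s

variable {Ps L}

lemma den_one [Ps.IsPrime] : Den Ps L (1 : Ks) := ⟨L.one_mem, isIntegral_one, not_inPs_one⟩

lemma Den.mul [Ps.IsPrime] {s t : Ks} (hs : Den Ps L s) (ht : Den Ps L t) : Den Ps L (s * t) :=
  ⟨L.mul_mem hs.1 ht.1, hs.2.1.mul ht.2.1, fun h =>
    (inPs_or_of_mul hs.2.1 ht.2.1 h).elim hs.2.2 ht.2.2⟩

lemma Den.ne_zero {s : Ks} (hs : Den Ps L s) : s ≠ 0 := fun h => hs.2.2 (h ▸ inPs_zero)

variable (Ps L)

/-- The localization of the integral closure at the denominators, as a subring of `Ks`. -/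
def C [Ps.IsPrime] : Subring Ks where
  carrier := {x | ∃ s, Den Ps L s ∧ IsIntegral R (s * x)}
  mul_mem' := by
    rintro x y ⟨s, hs, hx⟩ ⟨t, ht, hy⟩
    refine ⟨s * t, hs.mul ht, ?_⟩
    have : s * t * (x * y) = (s * x) * (t * y) := by ring
    rw [this]; exact hx.mul hy
  one_mem' := ⟨1, den_one, by rw [mul_one]; exact isIntegral_one⟩
  add_mem' := by
    rintro x y ⟨s, hs, hx⟩ ⟨t, ht, hy⟩
    refine ⟨s * t, hs.mul ht, ?_⟩
    have : s * t * (x + y) = t * (s * x) + s * (t * y) := by ring
    rw [this]; exact (ht.2.1.mul hx).add (hs.2.1.mul hy)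
  zero_mem' := ⟨1, den_one, by rw [mul_zero]; exact isIntegral_zero⟩
  neg_mem' := by
    rintro x ⟨s, hs, hx⟩
    refine ⟨s, hs, ?_⟩
    rw [mul_neg]; exact hx.neg

lemma mem_C [Ps.IsPrime] {x : Ks} : x ∈ C Ps L ↔ ∃ s, Den Ps L s ∧ IsIntegral R (s * x) := Iff.rfl

/-- The prime ideal of `C` generated by `Ps`. -/
def PP [Ps.IsPrime] : Ideal (C Ps L) where
  carrier := {x | ∃ s, Den Ps L s ∧ InPs Ps (s * (x : Ks))}
  add_mem' := by
    rintro x y ⟨s, hs, hx⟩ ⟨t, ht, hy⟩
    refine ⟨s * t, hs.mul ht, ?_⟩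
    have : s * t * ((x + y : C Ps L) : Ks) = t * (s * (x : Ks)) + s * (t * (y : Ks)) := by
      push_cast; ring
    rw [this]; exact (hx.mul_left ht.2.1).add (hy.mul_left hs.2.1)
  zero_mem' := ⟨1, den_one, by simp [inPs_zero]⟩
  smul_mem' := by
    rintro c x ⟨s, hs, hx⟩
    obtain ⟨t, ht, hc⟩ := c.2
    refine ⟨s * t, hs.mul ht, ?_⟩
    have : s * t * ((c • x : C Ps L) : Ks) = (t * (c : Ks)) * (s * (x : Ks)) := by
      simp only [smul_eq_mul, Subring.coe_mul]; ring
    rw [this]; exact hx.mul_left hc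

lemma mem_PP [Ps.IsPrime] {x : C Ps L} :
    x ∈ PP Ps L ↔ ∃ s, Den Ps L s ∧ InPs Ps (s * (x : Ks)) := Iff.rfl

instance PP_isPrime [Ps.IsPrime] : (PP Ps L).IsPrime := by
  refine ⟨?_, ?_⟩
  · intro h
    have h1 : (1 : C Ps L) ∈ PP Ps L := h ▸ Submodule.mem_top
    obtain ⟨s, hs, h2⟩ := h1
    simp only [Subring.coe_one, mul_one] at h2
    exact hs.2.2 h2
  · rintro x y ⟨u, hu, hxy⟩
    obtain ⟨s, hs, hx⟩ := x.2
    obtain ⟨t, ht, hy⟩ := y.2
    have h1 : InPs Ps (u * ((s * (x : Ks)) * (t * (y : Ks)))) := by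
      have : u * ((s * (x : Ks)) * (t * (y : Ks))) = (s * t) * (u * ((x * y : C Ps L) : Ks)) := by
        push_cast; ring
      rw [this]; exact hxy.mul_left (hs.2.1.mul ht.2.1)
    rcases inPs_or_of_mul hu.2.1 (hx.mul hy) h1 with h | h
    · exact absurd h hu.2.2
    · rcases inPs_or_of_mul hx hy h with h | h
      · exact Or.inl ⟨s, hs, h⟩
      · exact Or.inr ⟨t, ht, h⟩

end Ring

section Sigma

variable {R : Type*} {Ks : Type*} [CommRing R] [Field Ks] [Algebra R Ks]
  (Ps : Ideal (integralClosure R Ks)) (L : Subring Ks)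

/-- Membership in `PP`, as a predicate on `Ks`. -/
def InPP (x : Ks) : Prop := ∃ s, Den Ps L s ∧ InPs Ps (s * x)

variable {Ps L}

lemma mem_PP_iff [Ps.IsPrime] {x : C Ps L} : x ∈ PP Ps L ↔ InPP Ps L (x : Ks) := Iff.rfl

lemma sigma_mem_C [Ps.IsPrime] (σ : Ks →ₐ[R] Ks) (hσL : ∀ s ∈ L, σ s = s) {x : Ks}
    (hx : x ∈ C Ps L) : σ x ∈ C Ps L := by
  obtain ⟨s, hs, h⟩ := hx
  refine ⟨s, hs, ?_⟩
  have : s * σ x = σ (s * x) := by rw [map_mul, hσL s hs.1]
  rw [this]; exact h.map σ

lemma sigma_inPP (σ : Ks →ₐ[R] Ks) (hσL : ∀ s ∈ L, σ s = s)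
    (hσP : ∀ x, InPs Ps x → InPs Ps (σ x)) {x : Ks}
    (hx : InPP Ps L x) : InPP Ps L (σ x) := by
  obtain ⟨s, hs, h⟩ := hx
  refine ⟨s, hs, ?_⟩
  have : s * σ x = σ (s * x) := by rw [map_mul, hσL s hs.1]
  rw [this]; exact hσP _ h

end Sigma


section Core

theorem exists_irreducible_factor {A : Type*} [CommRing A] [IsDomain A] [IsIntegrallyClosed A]
    (F : Type*) [Field F] [Algebra A F] [IsFractionRing A F] (m : Ideal A) [hm : m.IsPrime]
    (a₀ : A) : ∀ (n : ℕ) (f : A[X]), f.natDegree ≤ n → f.Monic → f.eval a₀ ∈ m →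
      ∃ g : A[X], g.Monic ∧ g ∣ f ∧ Irreducible (g.map (algebraMap A F)) ∧ g.eval a₀ ∈ m := by
  have hinj : Function.Injective (algebraMap A F) := IsFractionRing.injective A F
  intro n
  induction n with
  | zero =>
    intro f hn hf hev
    exfalso
    have : f = 1 := hf.natDegree_eq_zero.mp (Nat.le_zero.mp hn)
    rw [this, eval_one] at hev
    exact hm.ne_top ((Ideal.eq_top_iff_one _).mpr hev)
  | succ n ih =>
    intro f hn hf hev
    by_cases hirr : Irreducible (f.map (algebraMap A F))
    · exact ⟨f, hf, dvd_rfl, hirr, hev⟩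
    · have hfm : (f.map (algebraMap A F)).Monic := hf.map _
      rw [hfm.irreducible_iff_natDegree] at hirr
      push Not at hirr
      have hne : f.map (algebraMap A F) ≠ 1 := by
        intro h1
        have : f = 1 := by
          apply Polynomial.map_injective _ hinj
          rw [h1, Polynomial.map_one]
        rw [this, eval_one] at hev
        exact hm.ne_top ((Ideal.eq_top_iff_one _).mpr hev)
      obtain ⟨p, q, hp, hq, hpq, hp0, hq0⟩ := hirr hne
      obtain ⟨p', hp'⟩ := IsIntegrallyClosed.eq_map_mul_C_of_dvd F hf (Dvd.intro q hpq)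
      obtain ⟨q', hq'⟩ := IsIntegrallyClosed.eq_map_mul_C_of_dvd F hf (Dvd.intro_left p hpq)
      rw [hp.leadingCoeff, C_1, mul_one] at hp'
      rw [hq.leadingCoeff, C_1, mul_one] at hq'
      have hp'm : p'.Monic := monic_of_injective hinj (hp' ▸ hp)
      have hq'm : q'.Monic := monic_of_injective hinj (hq' ▸ hq)
      have hfpq : f = p' * q' := by
        apply Polynomial.map_injective _ hinj
        rw [Polynomial.map_mul, hp', hq', hpq]
      have hdeg : f.natDegree = p'.natDegree + q'.natDegree := by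
        rw [hfpq, hp'm.natDegree_mul hq'm]
      have hp'0 : p'.natDegree ≠ 0 := by
        rw [← hp'm.natDegree_map (algebraMap A F), hp']; exact hp0
      have hq'0 : q'.natDegree ≠ 0 := by
        rw [← hq'm.natDegree_map (algebraMap A F), hq']; exact hq0
      rw [hfpq, eval_mul] at hev
      rcases hm.mem_or_mem hev with h | h
      · obtain ⟨g, hg1, hg2, hg3, hg4⟩ := ih p' (by omega) hp'm h
        exact ⟨g, hg1, hg2.trans (hfpq ▸ Dvd.intro _ rfl), hg3, hg4⟩
      · obtain ⟨g, hg1, hg2, hg3, hg4⟩ := ih q' (by omega) hq'm h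
        exact ⟨g, hg1, hg2.trans (hfpq ▸ Dvd.intro_left _ rfl), hg3, hg4⟩


theorem core {R K Ks : Type u} [CommRing R] [Field K] [Field Ks] [Algebra R K] [Algebra K Ks]
    [Algebra R Ks] [IsScalarTower R K Ks] [IsSepClosed Ks]
    (Ps : Ideal (integralClosure R Ks)) [Ps.IsPrime] (L : IntermediateField K Ks)
    (H : Set (Ks ≃ₐ[K] Ks)) (hH : ∀ σ ∈ H, ∀ x : Ks, InPs Ps x → InPs Ps (σ x))
    (hL : L = IntermediateField.fixedField (Subgroup.closure H))
    (A : Type u) [CommRing A] [IsDomain A] [IsLocalRing A] [IsIntegrallyClosed A]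
    [Algebra A L] [IsFractionRing A L]
    (hA1 : ∀ a : A, ((algebraMap A L a : L) : Ks) ∈ C Ps L.toSubfield.toSubring)
    (hA2 : ∀ a : A, a ∈ IsLocalRing.maximalIdeal A ↔
      InPP Ps L.toSubfield.toSubring ((algebraMap A L a : L) : Ks))
    (hA3 : ∀ g : A[X], g.Monic → ∀ x : Ks,
      (g.map ((algebraMap L Ks).comp (algebraMap A L))).IsRoot x →
        x ∈ C Ps L.toSubfield.toSubring) :
    HenselianLocalRing A where
  is_henselian f hf a₀ h₁ h₂ := by
    classical
    have hinj : Function.Injective (algebraMap A L) := IsFractionRing.injective A L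
    -- facts about H
    have hσL : ∀ σ ∈ H, ∀ s ∈ L, σ s = s := by
      intro σ hσ s hs
      rw [hL, IntermediateField.mem_fixedField_iff] at hs
      exact hs σ (Subgroup.subset_closure hσ)
    have hLmem : ∀ x : Ks, (∀ σ ∈ H, σ x = x) → x ∈ L := by
      intro x hx
      rw [hL, IntermediateField.mem_fixedField_iff]
      intro τ hτ
      induction hτ using Subgroup.closure_induction with
      | mem σ hσ => exact hx σ hσ
      | one => rfl
      | mul σ τ _ _ h1 h2 => rw [AlgEquiv.mul_apply, h2, h1]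
      | inv σ _ h1 =>
        have : σ⁻¹ (σ x) = x := by
          rw [← AlgEquiv.mul_apply, inv_mul_cancel, AlgEquiv.one_apply]
        rw [h1] at this
        exact this
    -- Step 1
    obtain ⟨g, hgm, hgf, hgirr, hgev⟩ := exists_irreducible_factor L (IsLocalRing.maximalIdeal A) a₀
      f.natDegree f le_rfl hf h₁
    obtain ⟨h, rfl⟩ := hgf
    have hg' : g.derivative.eval a₀ ∉ IsLocalRing.maximalIdeal A := by
      intro hmem
      rw [derivative_mul, eval_add, eval_mul, eval_mul] at h₂
      have : g.derivative.eval a₀ * h.eval a₀ + g.eval a₀ * h.derivative.eval a₀ ∈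
          IsLocalRing.maximalIdeal A :=
        Ideal.add_mem _ (Ideal.mul_mem_right _ _ hmem) (Ideal.mul_mem_right _ _ hgev)
      exact (IsLocalRing.mem_maximalIdeal _).mp this h₂
    -- Step 2
    obtain ⟨φ, hφ⟩ : ∃ φ : A →+* Ks, φ = (algebraMap L Ks).comp (algebraMap A L) := ⟨_, rfl⟩
    have hφapp : ∀ a : A, φ a = ((algebraMap A L a : L) : Ks) := fun a => by rw [hφ]; rfl
    have hgL_sep : (g.map (algebraMap A L)).Separable := by
      rw [Polynomial.separable_iff_derivative_ne_zero hgirr]
      intro h0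
      rw [derivative_map] at h0
      have : g.derivative = 0 :=
        Polynomial.map_injective _ hinj (by rw [h0, Polynomial.map_zero])
      rw [this, eval_zero] at hg'
      exact hg' (Ideal.zero_mem _)
    obtain ⟨G, hGdef⟩ : ∃ G : Ks[X], G = g.map φ := ⟨_, rfl⟩
    have hGmap : G = (g.map (algebraMap A L)).map (algebraMap L Ks) := by
      rw [hGdef, hφ, Polynomial.map_map]
    have hGm : G.Monic := hGdef ▸ hgm.map φ
    have hG0 : G ≠ 0 := hGm.ne_zero
    have hGsep : G.Separable := hGmap ▸ hgL_sep.map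
    have hGsplit : G.Splits := IsSepClosed.splits_of_separable G hGsep
    obtain ⟨rts, hrts⟩ : ∃ rts : Multiset Ks, rts = G.roots := ⟨_, rfl⟩
    have hnodup : rts.Nodup := hrts ▸ nodup_roots hGsep
    have hcard : rts.card = g.natDegree := by
      rw [hrts, ← hGsplit.natDegree_eq_card_roots, hGdef, hgm.natDegree_map]
    obtain ⟨Cr, hCr⟩ : ∃ Cr : Subring Ks, Cr = C Ps L.toSubfield.toSubring := ⟨_, rfl⟩
    obtain ⟨x₀, hx₀⟩ : ∃ x₀ : Ks, x₀ = φ a₀ := ⟨_, rfl⟩
    have hx₀L : x₀ ∈ L := by rw [hx₀, hφapp]; exact (algebraMap A L a₀).2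
    have hx₀C : x₀ ∈ C Ps L.toSubfield.toSubring := by rw [hx₀, hφapp]; exact hA1 a₀
    have hrtC : ∀ β ∈ rts, β ∈ C Ps L.toSubfield.toSubring := by
      intro β hβ
      rw [hrts, mem_roots hG0, hGdef, hφ] at hβ
      exact hA3 g hgm β hβ
    let d : Ks → C Ps L.toSubfield.toSubring := fun β =>
      if h : x₀ - β ∈ C Ps L.toSubfield.toSubring then ⟨x₀ - β, h⟩ else 0
    have hd : ∀ β ∈ rts, (d β : Ks) = x₀ - β := by
      intro β hβ
      have h : x₀ - β ∈ C Ps L.toSubfield.toSubring := Subring.sub_mem _ hx₀C (hrtC β hβ)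
      simp only [d, dif_pos h]
    have hevG : ∀ p : A[X], (p.map φ).eval x₀ = φ (p.eval a₀) := by
      intro p; rw [hx₀, eval_map_apply]
    -- Step 3
    have hprodP : (rts.map d).prod ∈ PP Ps L.toSubfield.toSubring := by
      rw [mem_PP_iff]
      have h1 : (((rts.map d).prod : C Ps L.toSubfield.toSubring) : Ks)
          = (rts.map (x₀ - ·)).prod := by
        rw [← Subring.coe_subtype, map_multiset_prod, Multiset.map_map]
        congr 1
        exact Multiset.map_congr rfl (fun β hβ => hd β hβ)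
      rw [h1, hrts, ← hGsplit.eval_eq_prod_roots_of_monic hGm, hGdef, hevG, hφapp]
      exact (hA2 _).mp hgev
    obtain ⟨_, hmem, hαP⟩ :=
      ((PP_isPrime Ps L.toSubfield.toSubring).multiset_prod_mem_iff_exists_mem _).mp hprodP
    obtain ⟨α, hα, rfl⟩ := Multiset.mem_map.mp hmem
    rw [mem_PP_iff, hd α hα] at hαP
    -- Step 4
    have hall : ∀ β ∈ rts, InPP Ps L.toSubfield.toSubring (x₀ - β) := by
      obtain ⟨T, hT⟩ : ∃ T : Finset Ks, T = rts.toFinset := ⟨_, rfl⟩
      obtain ⟨S, hS⟩ : ∃ S : Finset Ks,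
        S = T.filter (fun β => InPP Ps L.toSubfield.toSubring (x₀ - β)) := ⟨_, rfl⟩
      have hST : S ⊆ T := hS ▸ Finset.filter_subset _ _
      have hαS : α ∈ S := by
        rw [hS, Finset.mem_filter, hT]
        exact ⟨Multiset.mem_toFinset.mpr hα, hαP⟩
      have hGT : G = ∏ β ∈ T, (X - Polynomial.C β) := by
        rw [Finset.prod_eq_multiset_prod, hT, Multiset.toFinset_val,
          Multiset.dedup_eq_self.mpr hnodup, hrts]
        exact hGsplit.eq_prod_roots_of_monic hGm
      obtain ⟨hp, hhp⟩ : ∃ hp : Ks[X], hp = ∏ β ∈ S, (X - Polynomial.C β) := ⟨_, rfl⟩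
      have hσG : ∀ σ ∈ H, ∀ y : Ks, G.eval (σ y) = σ (G.eval y) := by
        intro σ hσ y
        rw [hGmap, eval_map, eval_map]
        have h1 := Polynomial.hom_eval₂ (g.map (algebraMap A L)) (algebraMap L Ks)
          (σ : Ks →+* Ks) y
        have h2 : (σ : Ks →+* Ks).comp (algebraMap L Ks) = algebraMap L Ks := by
          ext s
          exact hσL σ hσ s.1 s.2
        rw [h2] at h1
        exact h1.symm
      have hσS : ∀ σ ∈ H, S.image σ = S := by
        intro σ hσ
        apply Finset.eq_of_subset_of_card_le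
        · intro γ hγ
          obtain ⟨β, hβ, rfl⟩ := Finset.mem_image.mp hγ
          rw [hS, Finset.mem_filter] at hβ ⊢
          obtain ⟨hβT, hβP⟩ := hβ
          refine ⟨?_, ?_⟩
          · rw [hT, Multiset.mem_toFinset, hrts, mem_roots hG0, IsRoot] at hβT ⊢
            rw [hσG σ hσ, hβT, map_zero]
          · have : x₀ - σ β = σ (x₀ - β) := by rw [map_sub, hσL σ hσ x₀ hx₀L]
            rw [this]
            exact sigma_inPP (σ.toAlgHom.restrictScalars R) (fun s hs => hσL σ hσ s hs)
              (fun x hx => hH σ hσ x hx) hβP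
        · rw [Finset.card_image_of_injective _ σ.injective]
      have hcoeff : ∀ σ ∈ H, ∀ i, σ (hp.coeff i) = hp.coeff i := by
        intro σ hσ i
        have : hp.map (σ : Ks →+* Ks) = hp := by
          rw [hhp, Polynomial.map_prod]
          conv_rhs => rw [← hσS σ hσ, Finset.prod_image (fun x _ y _ h => σ.injective h)]
          apply Finset.prod_congr rfl
          intro β _
          simp
        conv_rhs => rw [← this]
        rw [coeff_map]; rfl
      have hlift : hp ∈ Polynomial.lifts (algebraMap L Ks) := by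
        rw [lifts_iff_coeff_lifts]
        intro i
        exact ⟨⟨hp.coeff i, hLmem _ (fun σ hσ => hcoeff σ hσ i)⟩, rfl⟩
      obtain ⟨hpL, hhpL⟩ := (mem_lifts _).mp hlift
      have hdvd : hpL ∣ g.map (algebraMap A L) := by
        rw [← map_dvd_map' (algebraMap L Ks), hhpL, ← hGmap, hGT, hhp]
        exact Finset.prod_dvd_prod_of_subset _ _ _ hST
      have hdegp : hpL.natDegree = S.card := by
        rw [← natDegree_map (algebraMap L Ks), hhpL, hhp, natDegree_finsetProd_X_sub_C_eq_card]
      have hdegg : (g.map (algebraMap A L)).natDegree = T.card := by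
        rw [← natDegree_map (algebraMap L Ks), ← hGmap, hGT,
          natDegree_finsetProd_X_sub_C_eq_card]
      rcases hgirr.dvd_iff.mp hdvd with hu | hassoc
      · exfalso
        have := natDegree_eq_zero_of_isUnit hu
        rw [hdegp] at this
        exact Finset.card_ne_zero.mpr ⟨α, hαS⟩ this
      · have hdeq := natDegree_eq_of_degree_eq (degree_eq_degree_of_associated hassoc)
        rw [hdegp, hdegg] at hdeq
        have hSeq : S = T := Finset.eq_of_subset_of_card_le hST (le_of_eq hdeq)
        intro β hβ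
        have hβS : β ∈ S := by rw [hSeq, hT]; exact Multiset.mem_toFinset.mpr hβ
        rw [hS] at hβS
        exact (Finset.mem_filter.mp hβS).2
    -- Step 5
    have hle : g.natDegree ≤ 1 := by
      by_contra hgt
      push Not at hgt
      apply hg'
      rw [hA2, ← hφapp, ← hevG, ← derivative_map, ← hGdef]
      rw [hGsplit.eval_derivative, hGm.leadingCoeff, one_mul, ← hrts]
      have hsumP : (rts.map fun a => ((rts.erase a).map d).prod).sum ∈
          PP Ps L.toSubfield.toSubring := by
        apply multiset_sum_mem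
        intro y hy
        obtain ⟨a, ha, rfl⟩ := Multiset.mem_map.mp hy
        have hc : 0 < (rts.erase a).card := by
          rw [Multiset.card_erase_of_mem ha, hcard, Nat.pred_eq_sub_one]; omega
        obtain ⟨γ, hγ⟩ := Multiset.card_pos_iff_exists_mem.mp hc
        apply ((PP_isPrime Ps L.toSubfield.toSubring).multiset_prod_mem_iff_exists_mem _).mpr
        refine ⟨d γ, Multiset.mem_map_of_mem d hγ, ?_⟩
        rw [mem_PP_iff, hd γ (Multiset.mem_of_mem_erase hγ)]
        exact hall γ (Multiset.mem_of_mem_erase hγ)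
      rw [mem_PP_iff] at hsumP
      convert hsumP using 1
      rw [← Subring.coe_subtype, map_multiset_sum, Multiset.map_map]
      congr 1
      apply Multiset.map_congr rfl
      intro a ha
      simp only [Function.comp]
      rw [map_multiset_prod, Multiset.map_map]
      congr 1
      exact Multiset.map_congr rfl (fun γ hγ => (hd γ (Multiset.mem_of_mem_erase hγ)).symm)
    have hge : g.natDegree ≠ 0 := by
      intro h0
      have : g = 1 := hgm.natDegree_eq_zero.mp h0
      rw [this, Polynomial.map_one] at hgirr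
      exact hgirr.not_isUnit isUnit_one
    have hdeg1 : g.natDegree = 1 := by omega
    have hgeq : g = X + Polynomial.C (g.coeff 0) := by
      have := eq_X_add_C_of_degree_eq_one (p := g) (by rw [degree_eq_natDegree hgm.ne_zero, hdeg1]; rfl)
      rw [this]
      have hlc : g.leadingCoeff = 1 := hgm
      rw [hlc]
      simp
    refine ⟨- g.coeff 0, ?_, ?_⟩
    · rw [IsRoot, eval_mul]
      have : g.eval (- g.coeff 0) = 0 := by rw [hgeq]; simp
      rw [this, zero_mul]
    · have h3 : g.eval a₀ = a₀ + g.coeff 0 := by rw [hgeq]; simp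
      rw [h3] at hgev
      have : - g.coeff 0 - a₀ = - (a₀ + g.coeff 0) := by ring
      rw [this]
      exact Ideal.neg_mem_iff _ |>.mpr hgev

end Core


section Instantiate

set_option synthInstance.maxHeartbeats 400000 in
set_option maxHeartbeats 1600000 in
theorem henselian_of_fixedField {R K Ks : Type u} [CommRing R] [IsDomain R] [Field K]
    [Algebra R K] [IsFractionRing R K]
    [Field Ks] [Algebra K Ks] [IsSepClosure K Ks] [Algebra R Ks] [IsScalarTower R K Ks]
    (Ps : Ideal (integralClosure R Ks)) [Ps.IsPrime] (L : IntermediateField K Ks)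
    (H : Set (Ks ≃ₐ[K] Ks)) (hH : ∀ σ ∈ H, ∀ x : Ks, InPs Ps x → InPs Ps (σ x))
    (hL : L = IntermediateField.fixedField (Subgroup.closure H))
    (Q : Ideal (integralClosure R L)) [Q.IsPrime]
    (hQ : ∀ y : integralClosure R L, y ∈ Q ↔
      ∃ x : integralClosure R Ks, x ∈ Ps ∧ (x : Ks) = ((y : L) : Ks)) :
    HenselianLocalRing (Localization.AtPrime Q) := by
  have hsc : IsSepClosed Ks := IsSepClosure.sep_closed K
  have hsep : Algebra.IsSeparable K Ks := IsSepClosure.separable
  have halgKs : Algebra.IsAlgebraic K Ks := inferInstance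
  have halgL : Algebra.IsAlgebraic K L := Algebra.IsAlgebraic.of_injective (L.val) L.val.injective
  have halgRL : Algebra.IsAlgebraic R L := IsFractionRing.comap_isAlgebraic_iff.mpr halgL
  have hinjRL : ∀ x : R, algebraMap R L x = 0 → x = 0 := by
    intro x hx
    rw [IsScalarTower.algebraMap_apply R K L, map_eq_zero] at hx
    exact IsFractionRing.to_map_eq_zero_iff.mp hx
  have hfrac : IsFractionRing (integralClosure R L) L :=
    integralClosure.isFractionRing_of_algebraic hinjRL
  have hic : IsIntegrallyClosed (integralClosure R L) :=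
    (isIntegrallyClosed_iff_isIntegrallyClosedIn L).mpr inferInstance
  -- membership translation
  have hQmem : ∀ y : integralClosure R L, y ∈ Q ↔ InPs Ps (((y : L) : Ks)) := by
    intro y
    rw [hQ]
    constructor
    · rintro ⟨x, hx, hxy⟩
      exact ⟨hxy ▸ x.2, by
        have : (⟨((y : L) : Ks), hxy ▸ x.2⟩ : integralClosure R Ks) = x := Subtype.ext hxy.symm
        rw [this]; exact hx⟩
    · rintro ⟨h1, h2⟩
      exact ⟨⟨_, h1⟩, h2, rfl⟩
  have hst : IsScalarTower R L Ks := IsScalarTower.of_algebraMap_eq (fun x => rfl)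
  have hint : ∀ y : integralClosure R L, IsIntegral R (((y : L) : Ks)) := by
    intro y
    exact (y.2 : IsIntegral R (y : L)).map (IsScalarTower.toAlgHom R L Ks)
  have hden : ∀ y : integralClosure R L, y ∉ Q → Den Ps L.toSubfield.toSubring (((y : L) : Ks)) :=
    fun y hy => ⟨(y : L).2, hint y, fun h => hy ((hQmem y).mpr h)⟩
  have hunits : ∀ y : Q.primeCompl, IsUnit (algebraMap (integralClosure R L) L y) := by
    intro y
    apply IsUnit.mk0
    intro h0
    have : (y : integralClosure R L) = 0 :=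
      (IsFractionRing.injective (integralClosure R L) L) (by rw [h0, map_zero])
    exact y.2 (this ▸ Q.zero_mem)
  letI algAL : Algebra (Localization.AtPrime Q) L := (IsLocalization.lift hunits).toAlgebra
  haveI : IsScalarTower (integralClosure R L) (Localization.AtPrime Q) L :=
    IsScalarTower.of_algebraMap_eq' (show algebraMap (integralClosure R L) L =
      (algebraMap (Localization.AtPrime Q) L).comp
        (algebraMap (integralClosure R L) (Localization.AtPrime Q)) from
      (IsLocalization.lift_comp hunits).symm)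
  haveI : IsFractionRing (Localization.AtPrime Q) L :=
    IsFractionRing.isFractionRing_of_isDomain_of_isLocalization Q.primeCompl _ _
  haveI : IsIntegrallyClosed (Localization.AtPrime Q) :=
    isIntegrallyClosed_of_isLocalization _ Q.primeCompl Q.primeCompl_le_nonZeroDivisors
  have hmap : ∀ (b : integralClosure R L) (s : Q.primeCompl),
      ((s : integralClosure R L) : L) *
        algebraMap (Localization.AtPrime Q) L (IsLocalization.mk' _ b s) = (b : L) := by
    intro b s
    have := (IsLocalization.lift_mk'_spec (hg := hunits) b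
      (algebraMap (Localization.AtPrime Q) L (IsLocalization.mk' _ b s)) s).mp rfl
    exact this.symm
  have hmapKs : ∀ (b : integralClosure R L) (s : Q.primeCompl),
      ((((s : integralClosure R L) : L) : Ks)) *
        ((algebraMap (Localization.AtPrime Q) L (IsLocalization.mk' _ b s) : L) : Ks)
        = ((b : L) : Ks) := by
    intro b s
    rw [← hmap b s]
    rfl
  refine core Ps L H hH hL (Localization.AtPrime Q) ?_ ?_ ?_
  · intro a
    obtain ⟨b, s, rfl⟩ := IsLocalization.exists_mk'_eq Q.primeCompl a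
    refine ⟨(((s : integralClosure R L) : L) : Ks), hden _ s.2, ?_⟩
    rw [hmapKs]
    exact hint b
  · intro a
    obtain ⟨b, s, rfl⟩ := IsLocalization.exists_mk'_eq Q.primeCompl a
    rw [IsLocalization.AtPrime.mk'_mem_maximal_iff _ Q, hQmem]
    constructor
    · intro hb
      refine ⟨_, hden _ s.2, ?_⟩
      rw [hmapKs]; exact hb
    · rintro ⟨t, ht, hP⟩
      have h1 := hP.mul_left (hint s)
      rw [mul_left_comm, hmapKs] at h1
      exact (inPs_or_of_mul ht.2.1 (hint b) h1).resolve_left ht.2.2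
  · intro g hg x hx
    letI : Algebra (Localization.AtPrime Q) Ks :=
      ((algebraMap L Ks).comp (algebraMap (Localization.AtPrime Q) L)).toAlgebra
    haveI : IsScalarTower (integralClosure R L) (Localization.AtPrime Q) Ks :=
      IsScalarTower.of_algebraMap_eq (fun y => by
        show algebraMap _ Ks y = algebraMap L Ks (algebraMap _ L (algebraMap _ _ y))
        rw [← IsScalarTower.algebraMap_apply (integralClosure R L) (Localization.AtPrime Q) L]
        rfl)
    have hxint : IsIntegral (Localization.AtPrime Q) x := ⟨g, hg, by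
      rw [← eval_map]; exact hx⟩
    obtain ⟨m, hm⟩ := IsIntegral.exists_multiple_integral_of_isLocalization Q.primeCompl x hxint
    have hm' : IsIntegral R (m • x) := isIntegral_trans _ hm
    refine ⟨(((m : integralClosure R L) : L) : Ks), hden _ m.2, ?_⟩
    have : m • x = (((m : integralClosure R L) : L) : Ks) * x := by
      rw [Submonoid.smul_def, Algebra.smul_def]; rfl
    rw [← this]; exact hm'

end Instantiate

end Groth.Agent.Lib.Helper90.DecompHensel
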