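import Mathlib

set_option linter.style.haveILetI false
set_option linter.unusedSectionVars false

namespace Groth.Agent.Lib.Helper90.DiagIdem

open TensorProduct

universe u

variable {A C : Type u} [CommRing A] [CommRing C] [Algebra A C]

section
variable (A) (B : Type u) [CommRing B] [Algebra A B] [Algebra C B] [IsScalarTower A C B]

/-- the map `B ⊗[A] C → B ⊗[A] B` -/
noncomputable def iota : B ⊗[A] C →ₐ[B] B ⊗[A] B :=
  Algebra.TensorProduct.map (AlgHom.id B B) (IsScalarTower.toAlgHom A C B)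

/-- the multiplication map `B ⊗[A] C → B` -/
noncomputable def mu : B ⊗[A] C →ₐ[B] B :=
  (Algebra.TensorProduct.lmul'' A).comp (iota A B)

@[simp] lemma iota_tmul (b : B) (c : C) : iota A B (b ⊗ₜ[A] c) = b ⊗ₜ[A] algebraMap C B c := by
  simp [iota]

@[simp] lemma mu_tmul (b : B) (c : C) : mu A B (b ⊗ₜ[A] c) = b * algebraMap C B c := by
  simp [mu, Algebra.TensorProduct.lmul'']

/-- the "difference" element `c ⊗ 1 - 1 ⊗ c` -/
noncomputable def delta : C →ₗ[A] B ⊗[A] C :=
  ((Algebra.TensorProduct.includeLeft (R := A) (S := A) (A := B) (B := C)).comp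
    (IsScalarTower.toAlgHom A C B)).toLinearMap -
  (Algebra.TensorProduct.includeRight (R := A) (A := B) (B := C)).toLinearMap

lemma delta_apply (c : C) : delta A B c = algebraMap C B c ⊗ₜ[A] 1 - 1 ⊗ₜ[A] c := by
  simp [delta]

lemma iota_delta (c : C) : iota A B (delta A B c) =
    algebraMap C B c ⊗ₜ[A] 1 - 1 ⊗ₜ[A] algebraMap C B c := by
  simp [delta_apply]

end

/-- **Diagonal element.** For `A → C` finite, `h : C` with `C_h` unramified over `A`, there is an element `e` of
`C_h ⊗[A] C` mapping to `1` under multiplication, and killing all `c ⊗ 1 - 1 ⊗ c`. -/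
theorem exists_diag [Module.Finite A C] (h : C) (B : Type u) [CommRing B] [Algebra A B] [Algebra C B]
    [IsScalarTower A C B] [IsLocalization.Away h B] [Algebra.FormallyUnramified A B]
    [Algebra.EssFiniteType A B] :
    ∃ e : B ⊗[A] C, mu A B e = 1 ∧ ∀ c : C, e * delta A B c = 0 := by
  classical
  letI : Algebra (B ⊗[A] C) (B ⊗[A] B) := (iota A B).toRingHom.toAlgebra
  have halg : ∀ x : B ⊗[A] C, algebraMap (B ⊗[A] C) (B ⊗[A] B) x = iota A B x := fun _ => rfl
  haveI : IsScalarTower B (B ⊗[A] C) (B ⊗[A] B) := IsScalarTower.of_algebraMap_eq' (by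
    ext b
    simp [RingHom.algebraMap_toAlgebra, Algebra.TensorProduct.algebraMap_apply])
  haveI hloc : IsLocalization ((Submonoid.powers h).map
      (Algebra.TensorProduct.includeRight (R := A) (A := B))) (B ⊗[A] B) := by
    refine IsLocalization.tensorProduct_tensorProduct_right A B (Submonoid.powers h) B ?_
    ext c
    simp [RingHom.algebraMap_toAlgebra]
  set ε : B ⊗[A] B := Algebra.FormallyUnramified.elem A B with hε
  have hε1 : ∀ s : B, (1 ⊗ₜ[A] s) * ε = (s ⊗ₜ[A] 1) * ε :=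
    fun s => Algebra.FormallyUnramified.one_tmul_mul_elem (R := A) (S := B) s
  have hε2 : Algebra.TensorProduct.lmul'' A ε = 1 :=
    Algebra.FormallyUnramified.lmul_elem (R := A) (S := B)
  obtain ⟨hinv, hhinv⟩ := (IsLocalization.Away.algebraMap_isUnit (S := B) h).exists_right_inv
  set hb : B := algebraMap C B h with hhb
  set w : B ⊗[A] C := 1 ⊗ₜ[A] h with hw
  set v : B ⊗[A] C := hinv ⊗ₜ[A] 1 with hv
  -- `ι (v * w) * ε = ε`
  have huε : iota A B (v * w) * ε = ε := by
    rw [map_mul, hv, hw, iota_tmul, iota_tmul, map_one, mul_assoc, ← hhb, hε1 hb, ← mul_assoc,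
      Algebra.TensorProduct.tmul_mul_tmul, mul_one, mul_comm hinv hb, hhinv]
    exact one_mul ε
  have huεpow : ∀ m : ℕ, iota A B ((v * w) ^ m) * ε = ε := by
    intro m
    induction m with
    | zero => simp
    | succ m ih => rw [pow_succ, map_mul, mul_assoc, huε, ih]
  -- lift `ε`
  obtain ⟨⟨d₀, s⟩, hs⟩ := IsLocalization.surj ((Submonoid.powers h).map
      (Algebra.TensorProduct.includeRight (R := A) (A := B))) ε
  obtain ⟨s', ⟨k, rfl⟩, hs'⟩ := s.2
  have hs1 : ε * (1 ⊗ₜ[A] (hb ^ k)) = iota A B d₀ := by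
    have : algebraMap (B ⊗[A] C) (B ⊗[A] B) (s : B ⊗[A] C) = 1 ⊗ₜ[A] (hb ^ k) := by
      rw [← hs', halg]
      simp [hhb]
    rw [← this]
    exact hs
  set e₁ : B ⊗[A] C := ((hinv ^ k) ⊗ₜ[A] 1) * d₀ with he₁
  have hιe₁ : iota A B e₁ = ε := by
    rw [he₁, map_mul, ← hs1, iota_tmul, map_one, mul_comm ε, hε1 (hb ^ k), ← mul_assoc,
      Algebra.TensorProduct.tmul_mul_tmul, mul_one, ← mul_pow, mul_comm hinv hb, hhinv, one_pow]
    exact one_mul ε
  -- each `δ c` is killed after multiplying by a power of `w`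
  have hkill : ∀ c : C, ∃ j : ℕ, w ^ j * (e₁ * delta A B c) = 0 := by
    intro c
    have h0 : algebraMap (B ⊗[A] C) (B ⊗[A] B) (e₁ * delta A B c) = 0 := by
      rw [halg, map_mul, hιe₁, iota_delta, mul_comm, sub_mul, ← hε1 (algebraMap C B c), sub_self]
    obtain ⟨m, hm⟩ := (IsLocalization.map_eq_zero_iff ((Submonoid.powers h).map
      (Algebra.TensorProduct.includeRight (R := A) (A := B))) (B ⊗[A] B) _).mp h0
    obtain ⟨m', ⟨j, rfl⟩, hm'⟩ := m.2
    refine ⟨j, ?_⟩
    rw [← hm]
    congr 1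
    rw [← hm']
    simp [hw]
  obtain ⟨n, x, hx⟩ := Module.Finite.exists_fin (R := A) (M := C)
  choose j hj using fun i => hkill (x i)
  set M₀ : ℕ := ∑ i, j i with hM₀
  have hle : ∀ i, j i ≤ M₀ := fun i => Finset.single_le_sum (fun _ _ => Nat.zero_le _) (Finset.mem_univ i)
  have hkillx : ∀ i, w ^ M₀ * (e₁ * delta A B (x i)) = 0 := by
    intro i
    rw [← Nat.sub_add_cancel (hle i), pow_add, mul_assoc, hj i, mul_zero]
  have hL : (LinearMap.mulLeft A (w ^ M₀ * e₁)) ∘ₗ delta A B = 0 := by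
    apply LinearMap.ext_on_range hx
    intro i
    simp only [LinearMap.comp_apply, LinearMap.mulLeft_apply, LinearMap.zero_apply, mul_assoc]
    exact hkillx i
  have hkillall : ∀ c : C, w ^ M₀ * (e₁ * delta A B c) = 0 := by
    intro c
    have := LinearMap.congr_fun hL c
    simpa [mul_assoc] using this
  refine ⟨(v * w) ^ M₀ * e₁, ?_, ?_⟩
  · change Algebra.TensorProduct.lmul'' A (iota A B ((v * w) ^ M₀ * e₁)) = 1
    rw [map_mul, hιe₁, huεpow, hε2]
  · intro c
    rw [mul_pow, mul_assoc, mul_assoc, hkillall c, mul_zero]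

end Groth.Agent.Lib.Helper90.DiagIdem
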