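import Mathlib

set_option linter.style.haveILetI false
set_option linter.unusedSectionVars false

open CategoryTheory Limits AlgebraicGeometry TopologicalSpace TensorProduct

universe u

namespace Groth.Agent.Lib.Helper90.Dom1

/-- ring-level: a family of linear maps `ψ j : B → C j` over a Dedekind domain, jointly injective
with torsion-free cokernel (in the sense below), stays jointly injective after tensoring. -/
theorem tensor_family_inj {A : Type u} [CommRing A] [IsDomain A] [IsDedekindDomain A]
    {ι : Type u} [Fintype ι] [DecidableEq ι]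
    {B : Type u} [AddCommGroup B] [Module A B] {C : ι → Type u} [∀ j, AddCommGroup (C j)]
    [∀ j, Module A (C j)] (ψ : ∀ j, B →ₗ[A] C j)
    (hinj : ∀ b : B, (∀ j, ψ j b = 0) → b = 0)
    (htf : ∀ (a : A) (b : B) (c : ∀ j, C j), a ≠ 0 → (∀ j, a • c j = ψ j b) →
      ∃ b' : B, ∀ j, ψ j b' = c j)
    (K : Type u) [AddCommGroup K] [Module A K] (s : K ⊗[A] B)
    (hs : ∀ j, (ψ j).lTensor K s = 0) : s = 0 := by
  let Ψ : B →ₗ[A] (∀ j, C j) := LinearMap.pi ψ
  have hΨinj : Function.Injective Ψ := by
    rw [injective_iff_map_eq_zero]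
    intro b hb
    exact hinj b (fun j => congrFun hb j)
  let D := (∀ j, C j) ⧸ LinearMap.range Ψ
  have htfD : Module.IsTorsionFree A D := by
    refine .of_smul_eq_zero ?_
    intro a d had
    by_cases ha : a = 0
    · exact Or.inl ha
    right
    obtain ⟨c, rfl⟩ := Submodule.Quotient.mk_surjective _ d
    rw [← Submodule.Quotient.mk_smul, Submodule.Quotient.mk_eq_zero] at had
    obtain ⟨b, hb⟩ := had
    obtain ⟨b', hb'⟩ := htf a b c ha (fun j => (congrFun hb j).symm)
    rw [Submodule.Quotient.mk_eq_zero]
    exact ⟨b', funext hb'⟩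
  haveI : Module.Flat A D := inferInstance
  have hex : Function.Exact Ψ (LinearMap.range Ψ).mkQ := by
    intro c
    rw [Submodule.mkQ_apply, Submodule.Quotient.mk_eq_zero]
    rfl
  have key := LinearMap.lTensor_injective_of_exact_of_flat (LinearMap.range Ψ).mkQ
    (Submodule.mkQ_surjective _) Ψ hΨinj hex K
  apply key
  rw [map_zero]
  apply (TensorProduct.piRight A A K C).injective
  rw [map_zero]
  funext j
  have : ∀ t : K ⊗[A] B, (TensorProduct.piRight A A K C) (Ψ.lTensor K t) j = (ψ j).lTensor K t := by
    intro t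
    induction t using TensorProduct.induction_on with
    | zero => simp
    | tmul k b => simp [Ψ]
    | add x y hx hy => simp only [map_add, Pi.add_apply, hx, hy]
  rw [this]
  exact hs j

theorem tensor_family_inj' {A : Type u} [CommRing A] [IsDomain A] [IsDedekindDomain A]
    {ι : Type u} [Fintype ι] [DecidableEq ι]
    {B : Type u} [AddCommGroup B] [Module A B] {C : ι → Type u} [∀ j, AddCommGroup (C j)]
    [∀ j, Module A (C j)] (ψ : ∀ j, B →ₗ[A] C j)
    (hinj : ∀ b : B, (∀ j, ψ j b = 0) → b = 0)
    (htf : ∀ (a : A) (b : B) (c : ∀ j, C j), a ≠ 0 → (∀ j, a • c j = ψ j b) →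
      ∃ b' : B, ∀ j, ψ j b' = c j)
    (K : Type u) [AddCommGroup K] [Module A K] (s : B ⊗[A] K)
    (hs : ∀ j, (ψ j).rTensor K s = 0) : s = 0 := by
  apply (TensorProduct.comm A B K).injective
  rw [map_zero]
  apply tensor_family_inj ψ hinj htf K
  intro j
  have : ∀ t : B ⊗[A] K, (ψ j).lTensor K (TensorProduct.comm A B K t) =
      TensorProduct.comm A (C j) K ((ψ j).rTensor K t) := by
    intro t
    induction t using TensorProduct.induction_on with
    | zero => simp
    | tmul b k => simp
    | add x y hx hy => simp only [map_add, hx, hy]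
  rw [this, hs j, map_zero]

section SpecSide

open CommRingCat

variable (R S S' T : Type u) [CommRing R] [CommRing S] [CommRing S'] [CommRing T] [Algebra R S]
  [Algebra R S'] [Algebra R T] (ψ : S →ₐ[R] S')

/-- the identification of global sections of the fibre product with the tensor product. -/
noncomputable def E : Γ(pullback (Spec.map (ofHom (algebraMap R S)))
    (Spec.map (ofHom (algebraMap R T))), ⊤) ⟶ CommRingCat.of (S ⊗[R] T) :=
  (pullbackSpecIso R S T).inv.appTop ≫ (Scheme.ΓSpecIso _).hom

instance : IsIso (E R S T) := by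
  unfold E
  haveI : IsIso (pullbackSpecIso R S T).inv.appTop :=
    inferInstanceAs (IsIso ((pullbackSpecIso R S T).inv.app ⊤))
  infer_instance

theorem n_eq (e₁) (e₂) :
    pullback.map (Spec.map (ofHom (algebraMap R S'))) (Spec.map (ofHom (algebraMap R T)))
      (Spec.map (ofHom (algebraMap R S))) (Spec.map (ofHom (algebraMap R T)))
      (Spec.map (ofHom ψ.toRingHom)) (𝟙 _) (𝟙 _) e₁ e₂ =
    (pullbackSpecIso R S' T).hom ≫
      Spec.map (ofHom (Algebra.TensorProduct.map ψ (AlgHom.id R T)).toRingHom) ≫
      (pullbackSpecIso R S T).inv := by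
  rw [← Iso.inv_comp_eq]
  apply pullback.hom_ext
  · simp only [Category.assoc, pullback.lift_fst, pullbackSpecIso_inv_fst,
      pullbackSpecIso_inv_fst_assoc, ← Spec.map_comp]
    congr 1
  · simp only [Category.assoc, pullback.lift_snd, pullbackSpecIso_inv_snd,
      pullbackSpecIso_inv_snd_assoc, ← Spec.map_comp, Category.comp_id]
    congr 1
    ext x
    simp

theorem n_appTop_eq_zero (e₁) (e₂)
    (s : Γ(pullback (Spec.map (ofHom (algebraMap R S))) (Spec.map (ofHom (algebraMap R T))), ⊤))
    (hs : (pullback.map (Spec.map (ofHom (algebraMap R S'))) (Spec.map (ofHom (algebraMap R T)))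
      (Spec.map (ofHom (algebraMap R S))) (Spec.map (ofHom (algebraMap R T)))
      (Spec.map (ofHom ψ.toRingHom)) (𝟙 _) (𝟙 _) e₁ e₂).appTop.hom s = 0) :
    (Algebra.TensorProduct.map ψ (AlgHom.id R T)) ((E R S T).hom s) = 0 := by
  rw [n_eq] at hs
  simp only [Scheme.Hom.comp_appTop, CommRingCat.hom_comp, RingHom.comp_apply] at hs
  have hinj : Function.Injective (pullbackSpecIso R S' T).hom.appTop.hom := by
    haveI : IsIso (pullbackSpecIso R S' T).hom.appTop :=
      inferInstanceAs (IsIso ((pullbackSpecIso R S' T).hom.app ⊤))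
    exact (ConcreteCategory.bijective_of_isIso (pullbackSpecIso R S' T).hom.appTop).injective
  have h1 := hinj (hs.trans (map_zero _).symm)
  have hnat := Scheme.ΓSpecIso_naturality
    (ofHom (Algebra.TensorProduct.map ψ (AlgHom.id R T)).toRingHom)
  have h2 := congrArg (fun m => m.hom ((pullbackSpecIso R S T).inv.appTop.hom s)) hnat
  simp only [CommRingCat.hom_comp, RingHom.comp_apply, CommRingCat.hom_ofHom] at h2
  rw [h1, map_zero] at h2
  simp only [E, CommRingCat.hom_comp, RingHom.comp_apply]
  exact h2.symm

theorem map_eq_rTensor (x : S ⊗[R] T) :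
    (Algebra.TensorProduct.map ψ (AlgHom.id R T)) x = ψ.toLinearMap.rTensor T x := by
  induction x using TensorProduct.induction_on with
  | zero => simp
  | tmul a b => simp
  | add x y hx hy => simp only [map_add, hx, hy]

end SpecSide

end Groth.Agent.Lib.Helper90.Dom1
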