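import Mathlib

set_option linter.style.haveILetI false
set_option linter.unusedSectionVars false

open CategoryTheory Limits AlgebraicGeometry TopologicalSpace Opposite

universe u

namespace Groth.Agent.Lib.Helper90.Dom2

variable {X : Scheme.{u}} {R₀ : Type u} [CommRing R₀] (γ₀ : R₀ →+* Γ(X, ⊤))

/-- scalar action on sections over an open. -/
noncomputable def sc (V : X.Opens) (a : R₀) : Γ(X, V) :=
  (X.presheaf.map (homOfLE (le_top : V ≤ ⊤)).op).hom (γ₀ a)

theorem sc_res {V W : X.Opens} (h : W ≤ V) (a : R₀) :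
    (X.presheaf.map (homOfLE h).op).hom (sc γ₀ V a) = sc γ₀ W a := by
  have e : X.presheaf.map (homOfLE (le_top : V ≤ ⊤)).op ≫ X.presheaf.map (homOfLE h).op =
      X.presheaf.map (homOfLE (le_top : W ≤ ⊤)).op := by
    rw [← Functor.map_comp]; rfl
  have := congrArg (fun m => m.hom (γ₀ a)) e
  simpa [sc] using this

variable (hW : ∀ (W : X.Opens), IsAffineOpen W → ∀ a : R₀, a ≠ 0 → ∀ t : Γ(X, W),
  sc γ₀ W a * t = 0 → t = 0)
include hW

theorem torsionFree (V : X.Opens) (a : R₀) (ha : a ≠ 0) (t : Γ(X, V)) (h : sc γ₀ V a * t = 0) :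
    t = 0 := by
  -- cover V by affine opens
  let ι := {W : X.affineOpens // W.1 ≤ V}
  let U : ι → X.Opens := fun W => W.1.1
  have hcover : V ≤ iSup U := by
    intro x hx
    obtain ⟨W, hWaff, hxW, hWV⟩ := Opens.isBasis_iff_nbhd.mp X.isBasis_affineOpens hx
    exact Opens.mem_iSup.mpr ⟨⟨⟨W, hWaff⟩, hWV⟩, hxW⟩
  refine X.sheaf.eq_of_locally_eq' U V (fun W => homOfLE W.2) hcover t 0 ?_
  intro W
  rw [map_zero]
  apply hW W.1.1 W.1.2 a ha
  have := congrArg (X.presheaf.map (homOfLE W.2).op).hom h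
  rw [map_mul, map_zero, sc_res] at this
  exact this

theorem glue {ι : Type u} (U : ι → X.Opens) (hU : iSup U = ⊤) (a : R₀) (ha : a ≠ 0)
    (b : Γ(X, ⊤)) (c : ∀ j, Γ(X, U j))
    (hc : ∀ j, sc γ₀ (U j) a * c j = (X.presheaf.map (homOfLE (le_top : U j ≤ ⊤)).op).hom b) :
    ∃ b' : Γ(X, ⊤), ∀ j, (X.presheaf.map (homOfLE (le_top : U j ≤ ⊤)).op).hom b' = c j := by
  have hcompat : TopCat.Presheaf.IsCompatible X.presheaf U c := by
    intro j k
    have h0 : ∀ t : Γ(X, U j ⊓ U k), sc γ₀ (U j ⊓ U k) a * t = 0 → t = 0 :=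
      torsionFree γ₀ hW (U j ⊓ U k) a ha
    rw [← sub_eq_zero]
    apply h0
    rw [mul_sub, sub_eq_zero]
    have e1 := congrArg (X.presheaf.map (Opens.infLELeft (U j) (U k)).op).hom (hc j)
    have e2 := congrArg (X.presheaf.map (Opens.infLERight (U j) (U k)).op).hom (hc k)
    rw [map_mul] at e1 e2
    have r1 : (X.presheaf.map (Opens.infLELeft (U j) (U k)).op).hom (sc γ₀ (U j) a) =
        sc γ₀ (U j ⊓ U k) a := sc_res γ₀ inf_le_left a
    have r2 : (X.presheaf.map (Opens.infLERight (U j) (U k)).op).hom (sc γ₀ (U k) a) =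
        sc γ₀ (U j ⊓ U k) a := sc_res γ₀ inf_le_right a
    rw [r1] at e1
    rw [r2] at e2
    erw [e1, e2]
    simp only [← RingHom.comp_apply, ← CommRingCat.hom_comp, ← Functor.map_comp]
    rfl
  obtain ⟨b', hb', -⟩ := X.sheaf.existsUnique_gluing' U ⊤ (fun j => homOfLE le_top)
    (by rw [hU]) c hcompat
  exact ⟨b', hb'⟩

omit hW in
theorem inj {ι : Type u} (U : ι → X.Opens) (hU : iSup U = ⊤) (b : Γ(X, ⊤))
    (hb : ∀ j, (X.presheaf.map (homOfLE (le_top : U j ≤ ⊤)).op).hom b = 0) : b = 0 := by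
  refine X.sheaf.eq_of_locally_eq' U ⊤ (fun j => homOfLE le_top) (by rw [hU]) b 0 ?_
  intro j
  rw [map_zero]
  exact hb j

end Groth.Agent.Lib.Helper90.Dom2
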