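import Mathlib
import Groth.Agent.Lib.Helper90.Dom1
import Groth.Agent.Lib.Helper90.Dom2

set_option linter.style.haveILetI false
set_option linter.unusedSectionVars false

open CategoryTheory Limits AlgebraicGeometry TopologicalSpace Opposite TensorProduct

universe u

namespace Groth.Agent.Lib.Helper90.Dom3

open Groth.Agent.Lib.Helper90.Dom1 Groth.Agent.Lib.Helper90.Dom2

theorem core (A : Type u) [CommRing A] [IsDomain A] [IsDedekindDomain A]
    (X : Scheme.{u}) (γ : CommRingCat.of A ⟶ Γ(X, ⊤)) (K : CommRingCat.{u})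
    (φ : CommRingCat.of A ⟶ K)
    (hW : ∀ (W : X.Opens), IsAffineOpen W → ∀ a : A, a ≠ 0 → ∀ t : Γ(X, W),
      sc γ.hom W a * t = 0 → t = 0)
    {ι : Type u} [Fintype ι] [DecidableEq ι] (U : ι → X.Opens) (hU : iSup U = ⊤)
    (s : Γ(pullback (Spec.map γ) (Spec.map φ), ⊤))
    (hs : ∀ j, ∀ e₁ e₂, (pullback.map
      (Spec.map (γ ≫ X.presheaf.map (homOfLE (le_top : U j ≤ ⊤)).op)) (Spec.map φ)
      (Spec.map γ) (Spec.map φ)
      (Spec.map (X.presheaf.map (homOfLE (le_top : U j ≤ ⊤)).op)) (𝟙 _) (𝟙 _)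
      e₁ e₂).appTop.hom s = 0) : s = 0 := by
  letI algB : Algebra A Γ(X, ⊤) := γ.hom.toAlgebra
  letI algK : Algebra A K := φ.hom.toAlgebra
  letI alg : ∀ j, Algebra A Γ(X, U j) := fun j =>
    (γ ≫ X.presheaf.map (homOfLE (le_top : U j ≤ ⊤)).op).hom.toAlgebra
  let ψ : ∀ j, Γ(X, ⊤) →ₐ[A] Γ(X, U j) := fun j =>
    { (X.presheaf.map (homOfLE (le_top : U j ≤ ⊤)).op).hom with commutes' := fun a => rfl }
  have key : ∀ j, (ψ j).toLinearMap.rTensor K ((E A Γ(X, ⊤) K).hom s) = 0 := by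
    intro j
    rw [← map_eq_rTensor]
    have e₁ : Spec.map (γ ≫ X.presheaf.map (homOfLE (le_top : U j ≤ ⊤)).op) ≫ 𝟙 _ =
        Spec.map (X.presheaf.map (homOfLE (le_top : U j ≤ ⊤)).op) ≫ Spec.map γ := by
      rw [Category.comp_id, Spec.map_comp]
    have e₂ : Spec.map φ ≫ 𝟙 (Spec (CommRingCat.of A)) = 𝟙 (Spec K) ≫ Spec.map φ := by
      rw [Category.comp_id, Category.id_comp]
    exact n_appTop_eq_zero A Γ(X, ⊤) Γ(X, U j) K (ψ j) e₁ e₂ s (hs j e₁ e₂)
  have hinj : ∀ b : Γ(X, ⊤), (∀ j, (ψ j).toLinearMap b = 0) → b = 0 := by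
    intro b hb
    exact Dom2.inj U hU b hb
  have htf : ∀ (a : A) (b : Γ(X, ⊤)) (c : ∀ j, Γ(X, U j)), a ≠ 0 →
      (∀ j, a • c j = (ψ j).toLinearMap b) → ∃ b' : Γ(X, ⊤), ∀ j, (ψ j).toLinearMap b' = c j := by
    intro a b c ha hc
    refine Dom2.glue γ.hom hW U hU a ha b c ?_
    intro j
    have := hc j
    rw [Algebra.smul_def] at this
    exact this
  have := tensor_family_inj' (fun j => (ψ j).toLinearMap) hinj htf K _ key
  exact (ConcreteCategory.bijective_of_isIso (E A Γ(X, ⊤) K)).injective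
    (this.trans (map_zero _).symm)


theorem hW_of_flat (A : Type u) [CommRing A] [IsDomain A]
    (X : Scheme.{u}) (γ : CommRingCat.of A ⟶ Γ(X, ⊤)) [Flat (X.toSpecΓ ≫ Spec.map γ)]
    (W : X.Opens) (hWaff : IsAffineOpen W) (a : A) (ha : a ≠ 0) (t : Γ(X, W))
    (h : sc γ.hom W a * t = 0) : t = 0 := by
  have hflat : ((X.toSpecΓ ≫ Spec.map γ).appLE ⊤ W le_top).hom.Flat :=
    HasRingHomProperty.appLE @Flat (X.toSpecΓ ≫ Spec.map γ) inferInstance
      ⟨⊤, isAffineOpen_top _⟩ ⟨W, hWaff⟩ _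
  have e : (Scheme.ΓSpecIso (CommRingCat.of A)).inv ≫
      (X.toSpecΓ ≫ Spec.map γ).appLE ⊤ W le_top =
      γ ≫ X.presheaf.map (homOfLE (le_top : W ≤ ⊤)).op := by
    rw [Scheme.Hom.appLE]
    have e0 : (Scheme.ΓSpecIso (CommRingCat.of A)).inv ≫ (X.toSpecΓ ≫ Spec.map γ).appTop = γ := by
      rw [Scheme.Hom.comp_appTop, Scheme.toSpecΓ_appTop, ← Scheme.ΓSpecIso_inv_naturality_assoc,
        Iso.inv_hom_id, Category.comp_id]
    rw [← Category.assoc]
    exact congrArg (· ≫ X.presheaf.map (homOfLE (le_top : W ≤ ⊤)).op) e0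
  have hflat' : (γ ≫ X.presheaf.map (homOfLE (le_top : W ≤ ⊤)).op).hom.Flat := by
    rw [← e, CommRingCat.hom_comp]
    exact RingHom.Flat.comp
      (RingHom.Flat.of_bijective (ConcreteCategory.bijective_of_isIso
        (Scheme.ΓSpecIso (CommRingCat.of A)).inv)) hflat
  letI := (γ ≫ X.presheaf.map (homOfLE (le_top : W ≤ ⊤)).op).hom.toAlgebra
  haveI : Module.Flat A Γ(X, W) := hflat'
  have hreg := Module.Flat.isSMulRegular_of_nonZeroDivisors (M := Γ(X, W))
    (mem_nonZeroDivisors_of_ne_zero ha)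
  apply hreg
  change a • t = a • 0
  rw [smul_zero, Algebra.smul_def]
  exact h

theorem main (A : Type u) [CommRing A] [IsDomain A] [IsDedekindDomain A]
    (X : Scheme.{u}) (f : X ⟶ Spec (CommRingCat.of A)) [Flat f] [QuasiCompact f]
    (g : Spec Γ(X, ⊤) ⟶ Spec (CommRingCat.of A)) (hg : X.toSpecΓ ≫ g = f)
    (K : CommRingCat.{u}) (σ : Spec K ⟶ Spec (CommRingCat.of A)) :
    (pullback.map f σ g σ X.toSpecΓ (𝟙 _) (𝟙 _) ((Category.comp_id f).trans hg.symm)
        ((Category.comp_id _).trans (Category.id_comp _).symm)).ker = ⊥ := by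
  obtain ⟨γ, rfl⟩ : ∃ γ, Spec.map γ = g := ⟨Spec.preimage g, Spec.map_preimage g⟩
  obtain ⟨φ, rfl⟩ : ∃ φ, Spec.map φ = σ := ⟨Spec.preimage σ, Spec.map_preimage σ⟩
  subst hg
  haveI : CompactSpace X := QuasiCompact.compactSpace_of_compactSpace (X.toSpecΓ ≫ Spec.map γ)
  obtain ⟨t, ht⟩ := isCompact_univ.elim_finite_subcover
    (fun W : X.affineOpens => (W.1 : Set X)) (fun W => W.1.2) (by
      intro x _
      obtain ⟨W, hWaff, hxW, -⟩ := Opens.isBasis_iff_nbhd.mp X.isBasis_affineOpens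
        (Opens.mem_top x)
      exact Set.mem_iUnion.mpr ⟨⟨W, hWaff⟩, hxW⟩)
  let U : ↥t → X.Opens := fun j => j.1.1
  have hU : iSup U = ⊤ := by
    rw [eq_top_iff]
    intro x _
    have := ht (Set.mem_univ x)
    simp only [Set.mem_iUnion] at this
    obtain ⟨W, hWt, hx⟩ := this
    exact Opens.mem_iSup.mpr ⟨⟨W, hWt⟩, hx⟩
  haveI : DecidableEq ↥t := Classical.decEq _
  rw [Scheme.ker_of_isAffine]
  have hinj : Function.Injective (pullback.map (X.toSpecΓ ≫ Spec.map γ) (Spec.map φ) (Spec.map γ)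
      (Spec.map φ) X.toSpecΓ (𝟙 _) (𝟙 _) ((Category.comp_id _).trans rfl)
        ((Category.comp_id _).trans (Category.id_comp _).symm)).appTop.hom := by
    rw [injective_iff_map_eq_zero]
    intro s hs
    refine core A X γ K φ (hW_of_flat A X γ) U hU s ?_
    intro j e₁ e₂
    have hUj : IsAffineOpen (U j) := j.1.2
    have e₃ : Spec.map (γ ≫ X.presheaf.map (homOfLE (le_top : U j ≤ ⊤)).op) ≫ 𝟙 _ =
        hUj.fromSpec ≫ (X.toSpecΓ ≫ Spec.map γ) := by
      rw [Category.comp_id, Spec.map_comp, IsAffineOpen.fromSpec_toSpecΓ_assoc]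
    have hn : pullback.map
        (Spec.map (γ ≫ X.presheaf.map (homOfLE (le_top : U j ≤ ⊤)).op)) (Spec.map φ)
        (Spec.map γ) (Spec.map φ)
        (Spec.map (X.presheaf.map (homOfLE (le_top : U j ≤ ⊤)).op)) (𝟙 _) (𝟙 _) e₁ e₂ =
        pullback.map (Spec.map (γ ≫ X.presheaf.map (homOfLE (le_top : U j ≤ ⊤)).op)) (Spec.map φ)
          (X.toSpecΓ ≫ Spec.map γ) (Spec.map φ) hUj.fromSpec (𝟙 _) (𝟙 _) e₃ e₂ ≫
        pullback.map (X.toSpecΓ ≫ Spec.map γ) (Spec.map φ) (Spec.map γ)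
          (Spec.map φ) X.toSpecΓ (𝟙 _) (𝟙 _) ((Category.comp_id _).trans rfl)
          ((Category.comp_id _).trans (Category.id_comp _).symm) := by
      apply pullback.hom_ext
      · simp only [pullback.map, pullback.lift_fst, Category.assoc, pullback.lift_fst_assoc,
          IsAffineOpen.fromSpec_toSpecΓ]
      · simp only [pullback.map, pullback.lift_snd, Category.assoc, pullback.lift_snd_assoc,
          Category.comp_id]
    rw [hn, Scheme.Hom.comp_appTop, CommRingCat.hom_comp, RingHom.comp_apply, hs, map_zero]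
  rw [(RingHom.injective_iff_ker_eq_bot _).mp hinj]
  exact Scheme.IdealSheafData.ext_of_isAffine (by simp)

end Groth.Agent.Lib.Helper90.Dom3
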