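import Groth.Prelude.Def_EssEt
import Mathlib.RingTheory.Unramified.LocalRing
import Mathlib.RingTheory.Etale.Basic

/-!
Helper lemmas on localisations of etale algebras over a local ring at a prime over the
maximal ideal (helper90).
-/

set_option autoImplicit false
universe u

namespace Groth.Agent.Lib.Helper90

open IsLocalRing

variable {A : Type u} [CommRing A] [IsLocalRing A] {C : Type u} [CommRing C] [Algebra A C]
  (q : Ideal C) [q.IsPrime]

theorem isLocalHom_algebraMap_atPrime
    (hq : q.comap (algebraMap A C) = maximalIdeal A) :
    IsLocalHom (algebraMap A (Localization.AtPrime q)) := by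
  constructor
  intro a ha
  rw [IsScalarTower.algebraMap_apply A C (Localization.AtPrime q),
    IsLocalization.AtPrime.isUnit_to_map_iff (Localization.AtPrime q) q] at ha
  by_contra hna
  have : a ∈ maximalIdeal A := hna
  rw [← hq] at this
  exact ha this

theorem formallyUnramified_atPrime [Algebra.FormallyUnramified A C] :
    Algebra.FormallyUnramified A (Localization.AtPrime q) :=
  have : Algebra.FormallyUnramified C (Localization.AtPrime q) :=
    Algebra.FormallyUnramified.of_isLocalization q.primeCompl
  Algebra.FormallyUnramified.comp A C (Localization.AtPrime q)

theorem essFiniteType_atPrime [Algebra.EssFiniteType A C] :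
    Algebra.EssFiniteType A (Localization.AtPrime q) :=
  have : Algebra.EssFiniteType C (Localization.AtPrime q) :=
    Algebra.EssFiniteType.of_isLocalization _ q.primeCompl
  Algebra.EssFiniteType.comp A C (Localization.AtPrime q)

theorem map_maximalIdeal_atPrime [Algebra.FormallyUnramified A C] [Algebra.EssFiniteType A C]
    (hq : q.comap (algebraMap A C) = maximalIdeal A) :
    (maximalIdeal A).map (algebraMap A (Localization.AtPrime q)) =
      maximalIdeal (Localization.AtPrime q) := by
  have := isLocalHom_algebraMap_atPrime q hq
  have := formallyUnramified_atPrime (A := A) q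
  have := essFiniteType_atPrime (A := A) q
  exact Algebra.FormallyUnramified.map_maximalIdeal

end Groth.Agent.Lib.Helper90
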