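import Mathlib

set_option autoImplicit false
set_option linter.style.haveILetI false
universe u

namespace Groth.Agent.Lib.Helper90.FlatKer

/-- If `B = H/K` is flat over `A`, then `K ∩ IH ⊆ IH · K`. -/
theorem mem_mul_ker_of_flat {A H B : Type*} [CommRing A] [CommRing H] [CommRing B] [Algebra A H]
    [Algebra A B] [Module.Flat A B] (I : Ideal A) (φ : H →ₐ[A] B) (hφ : Function.Surjective φ)
    (x : H) (hx : φ x = 0) (hxI : x ∈ I.map (algebraMap A H)) :
    x ∈ I.map (algebraMap A H) * RingHom.ker φ.toRingHom := by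
  classical
  obtain ⟨t, htI, c, hc⟩ := (Submodule.mem_span_image_iff_exists_fun (R := H)
    (v := algebraMap A H) (s := (I : Set A))).mp hxI
  let f : t → A := fun i => (i : A)
  let xs : t → B := fun i => φ (c i)
  have hrel : ∑ i, f i • xs i = 0 := by
    have : φ x = ∑ i : t, f i • xs i := by
      rw [← hc, map_sum]
      refine Finset.sum_congr rfl fun i _ => ?_
      rw [smul_eq_mul, map_mul, AlgHom.commutes, Algebra.smul_def, mul_comm]
    rw [← this, hx]
  obtain ⟨k, am, y, hy, ham⟩ := Module.Flat.isTrivialRelation_of_sum_smul_eq_zero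
    (R := A) (M := B) (f := f) (x := xs) hrel
  choose η hη using fun j => hφ (y j)
  have hκ : ∀ i : t, c i - ∑ j, am i j • η j ∈ RingHom.ker φ.toRingHom := by
    intro i
    change φ (c i - ∑ j, am i j • η j) = 0
    rw [map_sub, map_sum, sub_eq_zero]
    have := hy i
    change φ (c i) = _ at this
    rw [this]
    refine Finset.sum_congr rfl fun j _ => ?_
    rw [map_smul, hη]
  have hxeq : x = ∑ i : t, algebraMap A H (f i) * (c i - ∑ j, am i j • η j) := by
    have h1 : ∑ i : t, algebraMap A H (f i) * (∑ j, am i j • η j) = 0 := by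
      have : ∑ i : t, algebraMap A H (f i) * (∑ j, am i j • η j) =
          ∑ j, (∑ i : t, f i * am i j) • η j := by
        simp_rw [Finset.mul_sum, Finset.sum_smul]
        rw [Finset.sum_comm]
        refine Finset.sum_congr rfl fun j _ => Finset.sum_congr rfl fun i _ => ?_
        rw [Algebra.smul_def, Algebra.smul_def, map_mul, mul_assoc]
      rw [this]
      refine Finset.sum_eq_zero fun j _ => ?_
      rw [ham j, zero_smul]
    simp_rw [mul_sub]
    rw [Finset.sum_sub_distrib, h1, sub_zero, ← hc]
    refine Finset.sum_congr rfl fun i _ => ?_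
    rw [smul_eq_mul, mul_comm]
  rw [hxeq]
  refine Ideal.sum_mem _ fun i _ => Ideal.mul_mem_mul (Ideal.mem_map_of_mem _ (htI i.2)) (hκ i)

/-- If `B = H/K` is flat over `A`, `K` is finitely generated, contained in `IH`, and `IH` is in the
Jacobson radical, then `K = 0`. -/
theorem ker_eq_bot_of_flat {A H B : Type*} [CommRing A] [CommRing H] [CommRing B] [Algebra A H]
    [Algebra A B] [Module.Flat A B] (I : Ideal A) (φ : H →ₐ[A] B) (hφ : Function.Surjective φ)
    (hfg : (RingHom.ker φ.toRingHom).FG) (hle : RingHom.ker φ.toRingHom ≤ I.map (algebraMap A H))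
    (hjac : I.map (algebraMap A H) ≤ Ideal.jacobson ⊥) : RingHom.ker φ.toRingHom = ⊥ := by
  refine Submodule.eq_bot_of_le_smul_of_le_jacobson_bot (I.map (algebraMap A H)) _ hfg ?_ hjac
  intro x hx
  rw [smul_eq_mul]
  exact mem_mul_ker_of_flat I φ hφ x hx (hle hx)

end Groth.Agent.Lib.Helper90.FlatKer
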