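import Mathlib
import Groth.Prelude.Def_EssEt
import Groth.Agent.S16430
import Groth.Agent.Lib.Helper35.EssEtaleLift
import Groth.Agent.Lib.Helper90.EssEt
import Groth.Agent.Lib.Helper90.FlatKer
import Groth.Agent.Lib.Helper37.HenselFinite

set_option autoImplicit false
set_option linter.style.haveILetI false
set_option linter.unusedSectionVars false
universe u

namespace Groth.Agent.Lib.Helper90.EssEtTensor

open IsLocalRing TensorProduct

section

variable (R A E : Type u) [CommRing R] [IsLocalRing R] [IsNoetherianRing R]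
    [CommRing A] [IsLocalRing A]
    [Algebra R A] [IsLocalHom (algebraMap R A)]
    [CommRing E] [IsLocalRing E] [Algebra A E] [IsLocalHom (algebraMap A E)]
    [Algebra R E] [IsScalarTower R A E] [IsLocalHom (algebraMap R E)]

theorem finite_residue [Algebra.FormallyUnramified A E] [Algebra.EssFiniteType A E]
    (hres : Function.Bijective (ResidueField.map (algebraMap R A))) :
    Module.Finite (ResidueField R) (ResidueField E) ∧
      Algebra.IsSeparable (ResidueField R) (ResidueField E) := by
  haveI : IsScalarTower (ResidueField R) (ResidueField A) (ResidueField E) := by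
    refine IsScalarTower.of_algebraMap_eq (fun x => ?_)
    obtain ⟨r, rfl⟩ := residue_surjective x
    change residue E (algebraMap R E r) = residue E (algebraMap A E (algebraMap R A r))
    rw [← IsScalarTower.algebraMap_apply]
  haveI : Module.Finite (ResidueField R) (ResidueField A) :=
    Module.Finite.of_surjective (Algebra.linearMap (ResidueField R) (ResidueField A)) hres.2
  haveI : Algebra.IsSeparable (ResidueField R) (ResidueField A) :=
    ⟨fun x => by obtain ⟨y, rfl⟩ := hres.2 x; exact isSeparable_algebraMap y⟩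
  exact ⟨Module.Finite.trans (ResidueField A) (ResidueField E),
    Algebra.IsSeparable.trans (ResidueField R) (ResidueField A) (ResidueField E)⟩

end

section TLocal

variable {R A S L : Type u} [CommRing R] [IsLocalRing R]
    [CommRing A] [IsLocalRing A] [Algebra R A] [IsLocalHom (algebraMap R A)]
    [CommRing S] [IsLocalRing S] [Algebra R S] [IsLocalHom (algebraMap R S)]
    [Module.Finite R S] [Algebra.FormallyUnramified R S]
    [Field L] [Algebra A L] [Algebra R L] [IsScalarTower R A L]

/-- every element of `A ⊗[R] S` is congruent to some `1 ⊗ s` modulo `m_A`. -/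
theorem exists_sub_one_tmul_mem
    (hres : Function.Surjective (ResidueField.map (algebraMap R A))) (t : A ⊗[R] S) :
    ∃ s : S, t - (1 : A) ⊗ₜ[R] s ∈ (maximalIdeal A).map (algebraMap A (A ⊗[R] S)) := by
  induction t using TensorProduct.induction_on with
  | zero => exact ⟨0, by simp⟩
  | tmul a s =>
    obtain ⟨x, hx⟩ := hres (residue A a)
    obtain ⟨r, rfl⟩ := residue_surjective x
    have h1 : a - algebraMap R A r ∈ maximalIdeal A := by
      rw [← Ideal.Quotient.eq_zero_iff_mem]
      change residue A (a - algebraMap R A r) = 0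
      rw [map_sub, ← hx, ResidueField.map_residue, sub_self]
    refine ⟨r • s, ?_⟩
    have h2 : a ⊗ₜ[R] s - (1 : A) ⊗ₜ[R] (r • s) =
        algebraMap A (A ⊗[R] S) (a - algebraMap R A r) * ((1 : A) ⊗ₜ[R] s) := by
      rw [Algebra.TensorProduct.algebraMap_apply, Algebra.TensorProduct.tmul_mul_tmul, one_mul,
        Algebra.algebraMap_self, RingHom.id_apply, mul_one, TensorProduct.sub_tmul,
        TensorProduct.tmul_smul, Algebra.algebraMap_eq_smul_one, TensorProduct.smul_tmul']
    rw [h2]
    exact Ideal.mul_mem_right _ _ (Ideal.mem_map_of_mem _ h1)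
  | add x y hx hy =>
    obtain ⟨s₁, h₁⟩ := hx
    obtain ⟨s₂, h₂⟩ := hy
    refine ⟨s₁ + s₂, ?_⟩
    have : x + y - (1 : A) ⊗ₜ[R] (s₁ + s₂) = (x - (1 : A) ⊗ₜ[R] s₁) + (y - (1 : A) ⊗ₜ[R] s₂) := by
      rw [TensorProduct.tmul_add]; ring
    rw [this]
    exact Ideal.add_mem _ h₁ h₂

/-- `1 ⊗ s ∈ m_A T` for `s ∈ m_S` (using `m_R S = m_S`). -/
theorem one_tmul_mem_of_mem_maximalIdeal (s : S) (hs : s ∈ maximalIdeal S) :
    (1 : A) ⊗ₜ[R] s ∈ (maximalIdeal A).map (algebraMap A (A ⊗[R] S)) := by
  have hmS : (maximalIdeal R).map (algebraMap R S) = maximalIdeal S :=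
    Algebra.FormallyUnramified.map_maximalIdeal
  rw [← hmS] at hs
  have hle : (maximalIdeal R).map (algebraMap R S) ≤
      ((maximalIdeal A).map (algebraMap A (A ⊗[R] S))).comap
        (Algebra.TensorProduct.includeRight : S →ₐ[R] A ⊗[R] S).toRingHom := by
    rw [Ideal.map_le_iff_le_comap]
    intro r hr
    rw [Ideal.mem_comap, Ideal.mem_comap]
    have h1 : (Algebra.TensorProduct.includeRight : S →ₐ[R] A ⊗[R] S).toRingHom (algebraMap R S r) =
        algebraMap A (A ⊗[R] S) (algebraMap R A r) := by
      change (1 : A) ⊗ₜ[R] (algebraMap R S r) = _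
      rw [Algebra.TensorProduct.algebraMap_apply, Algebra.algebraMap_self, RingHom.id_apply,
        Algebra.algebraMap_eq_smul_one, Algebra.algebraMap_eq_smul_one, TensorProduct.smul_tmul]
    rw [h1]
    refine Ideal.mem_map_of_mem _ ?_
    exact ((local_hom_TFAE (algebraMap R A)).out 0 2 rfl rfl).mp inferInstance
      (Ideal.mem_map_of_mem _ hr)
  exact hle hs

variable (g : S →ₐ[R] L)

/-- the map `ρ : A ⊗[R] S → L`. -/
noncomputable def rho : A ⊗[R] S →ₐ[A] L :=
  Algebra.TensorProduct.lift (Algebra.ofId A L) g (fun _ _ => Commute.all _ _)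

theorem rho_tmul (a : A) (s : S) : rho g (a ⊗ₜ[R] s) = algebraMap A L a * g s := by
  simp [rho]

theorem rho_surjective (hg : Function.Surjective g) : Function.Surjective (rho (A := A) g) := by
  intro x
  obtain ⟨s, rfl⟩ := hg x
  exact ⟨(1 : A) ⊗ₜ[R] s, by rw [rho_tmul, map_one, one_mul]⟩

theorem ker_rho (hres : Function.Surjective (ResidueField.map (algebraMap R A)))
    (hAL : ∀ a ∈ maximalIdeal A, algebraMap A L a = 0)
    (hgker : ∀ s, g s = 0 → s ∈ maximalIdeal S) :
    RingHom.ker (rho (A := A) g).toRingHom = (maximalIdeal A).map (algebraMap A (A ⊗[R] S)) := by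
  apply le_antisymm
  · intro t ht
    obtain ⟨s, hs⟩ := exists_sub_one_tmul_mem hres t
    have h1 : rho (A := A) g ((1 : A) ⊗ₜ[R] s) = 0 := by
      have h2 : rho (A := A) g (t - (1 : A) ⊗ₜ[R] s) = 0 := by
        have hle : (maximalIdeal A).map (algebraMap A (A ⊗[R] S)) ≤
            RingHom.ker (rho (A := A) g).toRingHom := by
          rw [Ideal.map_le_iff_le_comap]
          intro a ha
          rw [Ideal.mem_comap, RingHom.mem_ker]
          change rho g (algebraMap A (A ⊗[R] S) a) = 0
          rw [AlgHom.commutes, hAL a ha]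
        exact hle hs
      have h3 : rho (A := A) g t = 0 := ht
      rw [map_sub, h3, zero_sub, neg_eq_zero] at h2
      exact h2
    rw [rho_tmul, map_one, one_mul] at h1
    have h4 := one_tmul_mem_of_mem_maximalIdeal (R := R) (A := A) s (hgker s h1)
    have : t = (t - (1 : A) ⊗ₜ[R] s) + (1 : A) ⊗ₜ[R] s := by ring
    rw [this]
    exact Ideal.add_mem _ hs h4
  · rw [Ideal.map_le_iff_le_comap]
    intro a ha
    rw [Ideal.mem_comap, RingHom.mem_ker]
    change rho g (algebraMap A (A ⊗[R] S) a) = 0
    rw [AlgHom.commutes, hAL a ha]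


theorem isUnit_iff_rho_ne_zero (hres : Function.Surjective (ResidueField.map (algebraMap R A)))
    (hAL : ∀ a ∈ maximalIdeal A, algebraMap A L a = 0)
    (hg : Function.Surjective g)
    (hgker : ∀ s, g s = 0 → s ∈ maximalIdeal S) (x : A ⊗[R] S) :
    IsUnit x ↔ rho (A := A) g x ≠ 0 := by
  constructor
  · intro hx h0
    have := hx.map (rho (A := A) g)
    rw [h0] at this
    exact not_isUnit_zero this
  · intro hx
    by_contra hnu
    obtain ⟨𝔐, h𝔐, hx𝔐⟩ := exists_max_ideal_of_mem_nonunits hnu
    haveI : Algebra.IsIntegral A (A ⊗[R] S) := Algebra.IsIntegral.of_finite A (A ⊗[R] S)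
    have hcomap : 𝔐.comap (algebraMap A (A ⊗[R] S)) = maximalIdeal A :=
      eq_maximalIdeal (Ideal.isMaximal_comap_of_isIntegral_of_isMaximal 𝔐)
    have hle : (maximalIdeal A).map (algebraMap A (A ⊗[R] S)) ≤ 𝔐 := by
      rw [Ideal.map_le_iff_le_comap, hcomap]
    rw [← ker_rho g hres hAL hgker] at hle
    have hmax : (RingHom.ker (rho (A := A) g).toRingHom).IsMaximal :=
      RingHom.ker_isMaximal_of_surjective _ (rho_surjective g hg)
    have heq := hmax.eq_of_le h𝔐.ne_top hle
    rw [← heq] at hx𝔐
    exact hx hx𝔐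

theorem isLocalRing_tensor (hres : Function.Surjective (ResidueField.map (algebraMap R A)))
    (hAL : ∀ a ∈ maximalIdeal A, algebraMap A L a = 0)
    (hg : Function.Surjective g)
    (hgker : ∀ s, g s = 0 → s ∈ maximalIdeal S) : IsLocalRing (A ⊗[R] S) := by
  haveI : Nontrivial (A ⊗[R] S) := (rho (A := A) g).toRingHom.domain_nontrivial
  refine IsLocalRing.of_nonunits_add ?_
  intro a b ha hb
  have ha' : rho (A := A) g a = 0 := by
    by_contra h
    exact ha ((isUnit_iff_rho_ne_zero g hres hAL hg hgker a).mpr h)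
  have hb' : rho (A := A) g b = 0 := by
    by_contra h
    exact hb ((isUnit_iff_rho_ne_zero g hres hAL hg hgker b).mpr h)
  intro hab
  have := (isUnit_iff_rho_ne_zero g hres hAL hg hgker (a + b)).mp hab
  rw [map_add, ha', hb', add_zero] at this
  exact this rfl


end TLocal


section Main

theorem exists_finite_etale_tensor (R A E : Type u) [CommRing R] [HenselianLocalRing R]
    [IsNoetherianRing R] [CommRing A] [HenselianLocalRing A] [IsNoetherianRing A]
    [Algebra R A] [IsLocalHom (algebraMap R A)]
    (hres : Function.Bijective (ResidueField.map (algebraMap R A)))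
    [CommRing E] [IsLocalRing E] [Algebra A E] [IsLocalHom (algebraMap A E)]
    (hE : EGA4loc.IsEssentiallyEtale A E) :
    ∃ (S : Type u) (_ : CommRing S) (_ : IsLocalRing S) (_ : Algebra R S),
      Module.Finite R S ∧ Algebra.Etale R S ∧ Nonempty (E ≃ₐ[A] A ⊗[R] S) := by
  classical
  obtain ⟨hunr, hess⟩ := Groth.Agent.Lib.Helper14.formallyUnramified_of_isEssentiallyEtale hE
  have hnoethE : IsNoetherianRing E := by
    obtain ⟨C, _, _, q, _, hC, -, ⟨e⟩⟩ := hE
    haveI := hC
    haveI : IsNoetherianRing C := Algebra.FiniteType.isNoetherianRing A C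
    haveI : IsNoetherianRing (Localization.AtPrime q) :=
      IsLocalization.isNoetherianRing q.primeCompl (Localization.AtPrime q) inferInstance
    exact isNoetherianRing_of_ringEquiv (Localization.AtPrime q) e.symm.toRingEquiv
  letI algRE : Algebra R E := ((algebraMap A E).comp (algebraMap R A)).toAlgebra
  haveI : IsScalarTower R A E := IsScalarTower.of_algebraMap_eq (fun _ => rfl)
  haveI : IsLocalHom (algebraMap R E) := by
    change IsLocalHom ((algebraMap A E).comp (algebraMap R A))
    exact RingHom.isLocalHom_comp _ _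
  obtain ⟨hfin, hsep⟩ := finite_residue R A E hres
  obtain ⟨S, _, _, _, hlocRS, hSfin, hSet, ⟨eS⟩⟩ := Groth.Agent.S16430.result R (ResidueField E)
  let g : S →ₐ[R] ResidueField E :=
    { toRingHom := (eS : ResidueField S →+* ResidueField E).comp (residue S)
      commutes' := fun r => by
        change eS (residue S (algebraMap R S r)) = residue E (algebraMap R E r)
        have h1 : residue S (algebraMap R S r) =
            algebraMap (ResidueField R) (ResidueField S) (residue R r) := rfl
        rw [h1, eS.commutes]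
        rfl }
  have hg : Function.Surjective g := eS.surjective.comp residue_surjective
  have hgker : ∀ s, g s = 0 → s ∈ maximalIdeal S := by
    intro s hs
    have h1 : eS (residue S s) = 0 := hs
    rw [EmbeddingLike.map_eq_zero_iff] at h1
    exact (residue_eq_zero_iff s).mp h1
  have hAL : ∀ a ∈ maximalIdeal A, algebraMap A (ResidueField E) a = 0 := by
    intro a ha
    change residue E (algebraMap A E a) = 0
    rw [residue_eq_zero_iff]
    exact ((local_hom_TFAE (algebraMap A E)).out 0 2 rfl rfl).mp inferInstance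
      (Ideal.mem_map_of_mem _ ha)
  haveI hTloc : IsLocalRing (A ⊗[R] S) := isLocalRing_tensor g hres.2 hAL hg hgker
  haveI hThens : HenselianLocalRing (A ⊗[R] S) :=
    Groth.Agent.Lib.Helper37.henselianLocalRing_of_finite A (A ⊗[R] S)
  have hunit := isUnit_iff_rho_ne_zero (A := A) g hres.2 hAL hg hgker
  haveI hlocAT : IsLocalHom (algebraMap A (A ⊗[R] S)) := by
    constructor
    intro a ha
    by_contra hna
    have h1 : a ∈ maximalIdeal A := hna
    have h2 := (hunit _).mp ha
    rw [AlgHom.commutes, hAL a h1] at h2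
    exact h2 rfl
  -- the residue field isomorphism
  have hρm : ∀ x ∈ maximalIdeal (A ⊗[R] S), rho (A := A) g x = 0 := by
    intro x hx
    by_contra h
    exact hx ((hunit x).mpr h)
  let ρb : ResidueField (A ⊗[R] S) →+* ResidueField E :=
    Ideal.Quotient.lift (maximalIdeal (A ⊗[R] S)) (rho (A := A) g).toRingHom hρm
  have hρb : ∀ x, ρb (residue _ x) = rho (A := A) g x := fun x => rfl
  have hρbbij : Function.Bijective ρb := by
    refine ⟨ρb.injective, fun y => ?_⟩
    obtain ⟨t, rfl⟩ := rho_surjective (A := A) g hg y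
    exact ⟨residue _ t, hρb t⟩
  let eρ : ResidueField (A ⊗[R] S) ≃+* ResidueField E := RingEquiv.ofBijective ρb hρbbij
  let α : ResidueField E →+* ResidueField (A ⊗[R] S) := eρ.symm.toRingHom
  have hαρ : ∀ y, ρb (α y) = y := fun y => eρ.apply_symm_apply y
  have hα : α.comp (ResidueField.map (algebraMap A E)) =
      ResidueField.map (algebraMap A (A ⊗[R] S)) := by
    ext x
    obtain ⟨a, rfl⟩ := residue_surjective x
    apply hρbbij.1
    rw [RingHom.comp_apply, hαρ, ResidueField.map_residue, ResidueField.map_residue, hρb,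
      AlgHom.commutes]
    rfl
  obtain ⟨ψ', ⟨hψloc, hψcomp, hψres⟩, -⟩ :=
    Groth.Agent.Lib.Helper35.EssEtaleLift.existsUnique_lift A E hE (A ⊗[R] S)
      (algebraMap A (A ⊗[R] S)) α hα
  let ψA : E →ₐ[A] A ⊗[R] S :=
    { ψ' with commutes' := fun a => congr($hψcomp a) }
  have hψA : ∀ x, ψA x = ψ' x := fun _ => rfl
  have hρψ : ∀ x : E, rho (A := A) g (ψA x) = residue E x := by
    intro x
    rw [← hρb, hψA, hψres, hαρ]
  have hkerρ := ker_rho (A := A) g hres.2 hAL hgker
  -- surjectivity
  have hsurj : Function.Surjective ψA := by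
    have hle : (⊤ : Submodule A (A ⊗[R] S)) ≤ LinearMap.range ψA.toLinearMap := by
      refine Submodule.le_of_le_smul_of_le_jacobson_bot (I := maximalIdeal A)
        (Module.finite_def.mp inferInstance) (maximalIdeal_le_jacobson ⊥) ?_
      intro t _
      obtain ⟨x, hx⟩ := residue_surjective (rho (A := A) g t)
      have h1 : t - ψA x ∈ (maximalIdeal A).map (algebraMap A (A ⊗[R] S)) := by
        rw [← hkerρ, RingHom.mem_ker]
        change rho (A := A) g (t - ψA x) = 0
        rw [map_sub, hρψ, hx, sub_self]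
      have h2 : t - ψA x ∈ maximalIdeal A • (⊤ : Submodule A (A ⊗[R] S)) := by
        rw [Ideal.smul_top_eq_map]
        exact h1
      have : t = ψA x + (t - ψA x) := by ring
      rw [this]
      exact Submodule.add_mem_sup ⟨x, rfl⟩ h2
    intro t
    obtain ⟨x, hx⟩ := hle (Submodule.mem_top : t ∈ ⊤)
    exact ⟨x, hx⟩
  -- injectivity
  have hmE : (maximalIdeal A).map (algebraMap A E) = maximalIdeal E :=
    Algebra.FormallyUnramified.map_maximalIdeal
  have hker : RingHom.ker ψA.toRingHom = ⊥ := by
    refine Groth.Agent.Lib.Helper90.FlatKer.ker_eq_bot_of_flat (maximalIdeal A) ψA hsurj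
      (IsNoetherian.noetherian _) ?_ ?_
    · intro x hx
      rw [hmE]
      intro hxu
      have : IsUnit (ψA x) := hxu.map ψA
      rw [show ψA x = 0 from hx] at this
      exact not_isUnit_zero this
    · rw [hmE, jacobson_eq_maximalIdeal ⊥ bot_ne_top]
  have hinj : Function.Injective ψA := (RingHom.injective_iff_ker_eq_bot ψA.toRingHom).mpr hker
  exact ⟨S, inferInstance, inferInstance, inferInstance, hSfin, hSet,
    ⟨AlgEquiv.ofBijective ψA ⟨hinj, hsurj⟩⟩⟩

end Main

end Groth.Agent.Lib.Helper90.EssEtTensor
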