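import Groth.Agent.Lib.Helper90.FPDescent
import Groth.Agent.Lib.Helper90.EssEt

set_option autoImplicit false
set_option linter.style.haveILetI false
universe u

/-!
# Transitivity of essentially etale local algebras (helper90)
-/

namespace Groth.Agent.Lib.Helper90.FPDescent

set_option maxHeartbeats 800000 in
/-- Spreading out: an etale algebra over the localization of an etale `A`-algebra, localized at
a prime, is the localization of an etale `A`-algebra at a prime. -/
theorem exists_etale_model {A : Type u} [CommRing A]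
    {C₁ : Type u} [CommRing C₁] [Algebra A C₁] [Algebra.Etale A C₁] (q₁ : Ideal C₁) [q₁.IsPrime]
    {B : Type u} [CommRing B] [Algebra A B] [Algebra C₁ B] [IsScalarTower A C₁ B]
    [IsLocalization.AtPrime B q₁]
    {C₂ : Type u} [CommRing C₂] [Algebra B C₂] [Algebra A C₂] [IsScalarTower A B C₂]
    [Algebra.Etale B C₂] (q₂ : Ideal C₂) [q₂.IsPrime] :
    ∃ (C₃ : Type u) (_ : CommRing C₃) (_ : Algebra A C₃) (q₃ : Ideal C₃) (_ : q₃.IsPrime),
      Algebra.Etale A C₃ ∧ q₃.comap (algebraMap A C₃) = q₂.comap (algebraMap A C₂) ∧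
      Nonempty (Localization.AtPrime q₂ ≃ₐ[A] Localization.AtPrime q₃) := by
  -- `C₂` as a `C₁`-algebra
  letI : Algebra C₁ C₂ := ((algebraMap B C₂).comp (algebraMap C₁ B)).toAlgebra
  haveI : IsScalarTower C₁ B C₂ := IsScalarTower.of_algebraMap_eq' rfl
  haveI : IsScalarTower A C₁ C₂ := IsScalarTower.of_algebraMap_eq fun a => by
    rw [IsScalarTower.algebraMap_apply A B C₂, IsScalarTower.algebraMap_apply A C₁ B,
      ← IsScalarTower.algebraMap_apply C₁ B C₂]
  obtain ⟨D, _, _, _, _, hfp, hloc⟩ := exists_model q₁.primeCompl B C₂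
  letI : Algebra A D := ((algebraMap C₁ D).comp (algebraMap A C₁)).toAlgebra
  haveI : IsScalarTower A C₁ D := IsScalarTower.of_algebraMap_eq' rfl
  haveI : IsScalarTower A D C₂ := IsScalarTower.of_algebraMap_eq fun a => by
    rw [IsScalarTower.algebraMap_apply A C₁ C₂, IsScalarTower.algebraMap_apply A C₁ D,
      ← IsScalarTower.algebraMap_apply C₁ D C₂]
  haveI : Algebra.FinitePresentation A D := Algebra.FinitePresentation.trans A C₁ D
  -- the prime of `D`
  let q : Ideal D := q₂.comap (algebraMap D C₂)
  haveI : q.IsPrime := Ideal.comap_isPrime _ _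
  let L := Localization.AtPrime q₂
  haveI : IsScalarTower D C₂ L := inferInstance
  haveI : IsScalarTower A D L := inferInstance
  haveI hLq : IsLocalization.AtPrime L q :=
    IsLocalization.isLocalization_isLocalization_atPrime_isLocalization
      (Algebra.algebraMapSubmonoid D q₁.primeCompl) L q₂
  -- `L` is formally etale over `A`
  haveI : Algebra.FormallyEtale C₁ B := Algebra.FormallyEtale.of_isLocalization q₁.primeCompl
  haveI : Algebra.FormallyEtale A B := Algebra.FormallyEtale.comp A C₁ B
  haveI : Algebra.FormallyEtale A C₂ := Algebra.FormallyEtale.comp A B C₂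
  haveI : Algebra.FormallyEtale C₂ L := Algebra.FormallyEtale.of_isLocalization q₂.primeCompl
  haveI : Algebra.FormallyEtale A L := Algebra.FormallyEtale.comp A C₂ L
  let e₀ : L ≃ₐ[D] Localization.AtPrime q := IsLocalization.algEquiv q.primeCompl _ _
  haveI : Algebra.IsEtaleAt A q :=
    Algebra.FormallyEtale.of_equiv (e₀.restrictScalars A)
  obtain ⟨f, hf, het⟩ := Algebra.exists_etale_of_isEtaleAt (R := A) q
  have hdisj : Disjoint (Submonoid.powers f : Set D) ↑q :=
    (Ideal.disjoint_powers_iff_notMem_of_isPrime f).2 hf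
  let q₃ : Ideal (Localization.Away f) := q.map (algebraMap D (Localization.Away f))
  haveI hq₃ : q₃.IsPrime :=
    IsLocalization.isPrime_of_isPrime_disjoint (Submonoid.powers f) _ q inferInstance hdisj
  have hq₃c : q₃.comap (algebraMap D (Localization.Away f)) = q :=
    IsLocalization.under_map_of_isPrime_disjoint (Submonoid.powers f) _ inferInstance hdisj
  haveI h3 : IsLocalization.AtPrime (Localization.AtPrime q₃) q := by
    have := IsLocalization.isLocalization_isLocalization_atPrime_isLocalization
      (Submonoid.powers f) (Localization.AtPrime q₃) q₃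
    have heq : (q₃.comap (algebraMap D (Localization.Away f))).primeCompl = q.primeCompl :=
      Submonoid.ext fun x => by
        rw [Ideal.mem_primeCompl_iff, Ideal.mem_primeCompl_iff, hq₃c]
    change IsLocalization _ _ at this ⊢
    rwa [heq] at this
  let e₁ : L ≃ₐ[D] Localization.AtPrime q₃ := IsLocalization.algEquiv q.primeCompl _ _
  refine ⟨Localization.Away f, inferInstance, inferInstance, q₃, hq₃, het, ?_,
    ⟨e₁.restrictScalars A⟩⟩
  rw [IsScalarTower.algebraMap_eq A D (Localization.Away f), ← Ideal.comap_comap, hq₃c,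
    IsScalarTower.algebraMap_eq A D C₂, ← Ideal.comap_comap]

open IsLocalRing in
/-- Transitivity of essentially etale local algebras. -/
theorem isEssentiallyEtale_trans (A : Type u) [CommRing A] [IsLocalRing A]
    (B : Type u) [CommRing B] [IsLocalRing B] [Algebra A B]
    (C : Type u) [CommRing C] [Algebra B C] [Algebra A C] [IsScalarTower A B C]
    (hB : EGA4loc.IsEssentiallyEtale A B) (hC : EGA4loc.IsEssentiallyEtale B C) :
    EGA4loc.IsEssentiallyEtale A C := by
  obtain ⟨C₁, _, _, q₁, _, het₁, hq₁, ⟨e₁⟩⟩ := hB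
  obtain ⟨C₂, _, _, q₂, _, het₂, hq₂, ⟨e₂⟩⟩ := hC
  -- `B` as a localization of `C₁`
  letI : Algebra C₁ B :=
    (e₁.symm.toRingEquiv.toRingHom.comp (algebraMap C₁ (Localization.AtPrime q₁))).toAlgebra
  haveI : IsScalarTower A C₁ B := IsScalarTower.of_algebraMap_eq fun a => by
    change algebraMap A B a = e₁.symm (algebraMap C₁ (Localization.AtPrime q₁) (algebraMap A C₁ a))
    rw [← IsScalarTower.algebraMap_apply A C₁ (Localization.AtPrime q₁), e₁.symm.commutes]
  let e₁' : Localization.AtPrime q₁ ≃ₐ[C₁] B :=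
    AlgEquiv.ofRingEquiv (f := e₁.symm.toRingEquiv) (fun x => rfl)
  haveI : IsLocalization.AtPrime B q₁ :=
    IsLocalization.isLocalization_of_algEquiv q₁.primeCompl e₁'
  letI : Algebra A C₂ := ((algebraMap B C₂).comp (algebraMap A B)).toAlgebra
  haveI : IsScalarTower A B C₂ := IsScalarTower.of_algebraMap_eq' rfl
  obtain ⟨C₃, _, _, q₃, _, het₃, hq₃, ⟨e₃⟩⟩ := exists_etale_model (A := A) q₁ (B := B) q₂
  refine ⟨C₃, inferInstance, inferInstance, q₃, inferInstance, het₃, ?_,
    ⟨(e₂.restrictScalars A).trans e₃⟩⟩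
  rw [hq₃, IsScalarTower.algebraMap_eq A B C₂, ← Ideal.comap_comap, hq₂]
  -- `A → B` is local
  haveI := isLocalHom_algebraMap_atPrime q₁ hq₁
  have hloc : IsLocalHom (algebraMap A B) := by
    have : algebraMap A B = (e₁.symm.toRingEquiv.toRingHom).comp
        (algebraMap A (Localization.AtPrime q₁)) := by
      ext a; exact (e₁.symm.commutes a).symm
    rw [this]
    haveI : IsLocalHom e₁.symm.toRingEquiv.toRingHom :=
      ⟨fun a ha => (isUnit_map_iff e₁.symm.toRingEquiv a).1 ha⟩
    exact RingHom.isLocalHom_comp _ _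
  exact ((IsLocalRing.local_hom_TFAE (algebraMap A B)).out 0 4).mp hloc

end Groth.Agent.Lib.Helper90.FPDescent
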