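import Mathlib

set_option autoImplicit false
set_option linter.style.haveILetI false
universe u

open TensorProduct KaehlerDifferential IsLocalRing

namespace Groth.Agent.Lib.Helper90.EtChart


/-- **Jacobian criterion, differential form.** In a tower `R → S → T` with `T` formally smooth over
`R`, if `T ⊗_S Ω_{S/R} → Ω_{T/R}` is bijective then `T` is formally etale over `S`. -/
theorem formallyEtale_of_bijective_mapBaseChange (R S T : Type u) [CommRing R] [CommRing S]
    [CommRing T] [Algebra R S] [Algebra R T] [Algebra S T] [IsScalarTower R S T]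
    [Algebra.FormallySmooth R T]
    (h : Function.Bijective (KaehlerDifferential.mapBaseChange R S T)) :
    Algebra.FormallyEtale S T := by
  constructor
  · -- `Ω[T⁄S] = 0`
    have hex := KaehlerDifferential.exact_mapBaseChange_map R S T
    have hsurj := KaehlerDifferential.map_surjective R S T
    refine ⟨fun x y => ?_⟩
    have hx : ∀ z : Ω[T⁄S], z = 0 := by
      intro z
      obtain ⟨w, rfl⟩ := hsurj z
      obtain ⟨w', rfl⟩ := h.2 w
      exact (hex _).mpr ⟨w', rfl⟩
    rw [hx x, hx y]
  · -- `H¹(L_{T/S}) = 0`
    have hex1 := Algebra.H1Cotangent.exact_map_δ R S T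
    have hex2 := Algebra.H1Cotangent.exact_δ_mapBaseChange R S T
    refine ⟨fun x y => ?_⟩
    have hx : ∀ z : Algebra.H1Cotangent S T, z = 0 := by
      intro z
      have h1 : Algebra.H1Cotangent.δ R S T z = 0 := by
        apply h.1
        rw [map_zero]
        exact (hex2 _).mpr ⟨z, rfl⟩
      obtain ⟨w, rfl⟩ := (hex1 z).mp h1
      rw [Subsingleton.elim w 0, map_zero]
    rw [hx x, hx y]


section Dim


variable (k R : Type u) [CommRing k] [CommRing R] [Algebra k R] (m : Ideal R) [m.IsMaximal]

/-- The fibre of the differentials at `m` has the same dimension whether computed over `R/m`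
or over the residue field of the localization. -/
theorem finrank_residueField_tensor_kaehler :
    Module.finrank m.ResidueField
      (m.ResidueField ⊗[Localization.AtPrime m] Ω[Localization.AtPrime m⁄k]) =
    Module.finrank (R ⧸ m) ((R ⧸ m) ⊗[R] Ω[R⁄k]) := by
  letI : Field (R ⧸ m) := Ideal.Quotient.field m
  haveI : Algebra.FormallyEtale R (Localization.AtPrime m) :=
    Algebra.FormallyEtale.of_isLocalization m.primeCompl
  let e1 : m.ResidueField ⊗[Localization.AtPrime m] (Localization.AtPrime m ⊗[R] Ω[R⁄k]) ≃ₗ[m.ResidueField]
      m.ResidueField ⊗[Localization.AtPrime m] Ω[Localization.AtPrime m⁄k] :=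
    TensorProduct.AlgebraTensorModule.congr (LinearEquiv.refl m.ResidueField m.ResidueField)
      (tensorKaehlerEquivOfFormallyEtale k R (Localization.AtPrime m))
  let e2 := TensorProduct.AlgebraTensorModule.cancelBaseChange R (Localization.AtPrime m)
    m.ResidueField m.ResidueField Ω[R⁄k]
  let e3 := TensorProduct.AlgebraTensorModule.cancelBaseChange R (R ⧸ m)
    m.ResidueField m.ResidueField Ω[R⁄k]
  rw [← (e1.symm ≪≫ₗ e2 ≪≫ₗ e3.symm).finrank_eq.symm]
  exact Module.finrank_baseChange


end Dim


section Perturb

variable {T : Type u} [CommRing T] [IsLocalRing T] {M : Type u} [AddCommGroup M] [Module T M]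
  [Module.FinitePresentation T M] [Module.Flat T M]

omit [Module.FinitePresentation T M] [Module.Flat T M] in
theorem mk_one_eq_zero_of_mem_smul {x : M} (hx : x ∈ (maximalIdeal T) • (⊤ : Submodule T M)) :
    TensorProduct.mk T (ResidueField T) M 1 x = 0 := by
  refine Submodule.smul_induction_on hx ?_ ?_
  · intro a ha y _
    change (1 : ResidueField T) ⊗ₜ[T] (a • y) = 0
    rw [← TensorProduct.smul_tmul, Algebra.smul_def, mul_one]
    have : algebraMap T (ResidueField T) a = 0 := (residue_eq_zero_iff a).mpr ha
    rw [this, TensorProduct.zero_tmul]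
  · intro x y hx hy
    rw [map_add, hx, hy, add_zero]

/-- Perturbing a basis by elements of `𝔪 M` gives a basis (finitely presented flat module over a
local ring). -/
theorem exists_basis_of_sub_mem {ι : Type*} [Finite ι] (b : Module.Basis ι T M) (v : ι → M)
    (hv : ∀ j, v j - b j ∈ (maximalIdeal T) • (⊤ : Submodule T M)) :
    ∃ b' : Module.Basis ι T M, ∀ j, b' j = v j := by
  have heq : TensorProduct.mk T (ResidueField T) M 1 ∘ v =
      TensorProduct.mk T (ResidueField T) M 1 ∘ b := by
    funext j
    have := mk_one_eq_zero_of_mem_smul (hv j)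
    rw [map_sub, sub_eq_zero] at this
    exact this
  have hbc : ∀ j, (b.baseChange (ResidueField T)) j =
      TensorProduct.mk T (ResidueField T) M 1 (b j) := fun j => by
    simp [Module.Basis.baseChange_apply]
  have hfun : TensorProduct.mk T (ResidueField T) M 1 ∘ b = ⇑(b.baseChange (ResidueField T)) := by
    funext j; exact (hbc j).symm
  apply Module.exists_basis_of_basis_baseChange v
  · rw [heq, hfun]
    exact (b.baseChange (ResidueField T)).linearIndependent
  · rw [heq, hfun]
    exact (b.baseChange (ResidueField T)).span_eq
  · exact Module.Flat.rTensor_preserves_injective_linearMap _ Subtype.val_injective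

end Perturb


section BasisAtPrime

variable (k R : Type u) [CommRing k] [CommRing R] [Algebra k R] [Algebra.FinitePresentation k R]
  (m : Ideal R) [m.IsMaximal] [Algebra.IsSmoothAt k m]

/-- At a smooth point, the differentials of the local ring have a basis of the form `d r_j` with
`r_j ∈ R`, of cardinality the fibre dimension. -/
theorem exists_basis_D_algebraMap (d : ℕ)
    (hdim : Module.finrank (R ⧸ m) ((R ⧸ m) ⊗[R] Ω[R⁄k]) = d) :
    ∃ (r : Fin d → R) (b : Module.Basis (Fin d) (Localization.AtPrime m) Ω[Localization.AtPrime m⁄k]),
      ∀ j, b j = D k (Localization.AtPrime m) (algebraMap R (Localization.AtPrime m) (r j)) := by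
  haveI : Algebra.FormallySmooth k (Localization.AtPrime m) := ‹Algebra.IsSmoothAt k m›
  haveI : Module.FinitePresentation (Localization.AtPrime m) Ω[Localization.AtPrime m⁄k] :=
    inferInstance
  have hv : Submodule.span (Localization.AtPrime m) (Set.range (fun r : R =>
      D k (Localization.AtPrime m) (algebraMap R (Localization.AtPrime m) r))) = ⊤ := by
    have := KaehlerDifferential.span_range_map_derivation_of_isLocalization k R
      (Localization.AtPrime m) m.primeCompl
    have hfun : (fun r : R => D k (Localization.AtPrime m)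
        (algebraMap R (Localization.AtPrime m) r)) =
        ⇑(KaehlerDifferential.map k k R (Localization.AtPrime m)) ∘ ⇑(D k R) := by
      funext r
      simp
    rw [hfun]
    exact this
  obtain ⟨κ', a, b, hb⟩ := Module.exists_basis_of_span_of_flat _ hv
  haveI : Finite κ' := Module.Finite.finite_basis b
  have h1 : Module.finrank (Localization.AtPrime m) Ω[Localization.AtPrime m⁄k] = Nat.card κ' :=
    Module.finrank_eq_nat_card_basis b
  haveI : Module.Free (Localization.AtPrime m) Ω[Localization.AtPrime m⁄k] :=
    Module.Free.of_basis b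
  have h2 : Module.finrank m.ResidueField
      (m.ResidueField ⊗[Localization.AtPrime m] Ω[Localization.AtPrime m⁄k]) =
      Module.finrank (Localization.AtPrime m) Ω[Localization.AtPrime m⁄k] :=
    Module.finrank_baseChange
  have h3 : Nat.card κ' = d := by
    rw [← h1, ← h2, finrank_residueField_tensor_kaehler, hdim]
  let e : κ' ≃ Fin d := Finite.equivFinOfCardEq h3
  refine ⟨fun j => a (e.symm j), b.reindex e, fun j => ?_⟩
  rw [Module.Basis.reindex_apply, hb]

end BasisAtPrime


/-- The residue field at a maximal ideal over the closed point of a local ring with finite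
residue field is finite. -/
theorem finite_quotient_of_finite_residueField (k : Type u) [CommRing k] [IsLocalRing k]
    [Finite (ResidueField k)] (R : Type u) [CommRing R] [Algebra k R] [Algebra.FiniteType k R]
    (m : Ideal R) [m.IsMaximal] (hm : m.comap (algebraMap k R) = maximalIdeal k) :
    Finite (R ⧸ m) := by
  letI : Field (R ⧸ m) := Ideal.Quotient.field m
  letI : Algebra (ResidueField k) (R ⧸ m) := Ideal.Quotient.algebraQuotientOfLEComap hm.ge
  haveI : IsScalarTower k (ResidueField k) (R ⧸ m) := IsScalarTower.of_algebraMap_eq (fun _ => rfl)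
  haveI : Algebra.FiniteType k (R ⧸ m) :=
    Algebra.FiniteType.of_surjective (Ideal.Quotient.mkₐ k m) Ideal.Quotient.mk_surjective
  haveI : Algebra.FiniteType (ResidueField k) (R ⧸ m) :=
    Algebra.FiniteType.of_restrictScalars_finiteType k (ResidueField k) (R ⧸ m)
  haveI : Module.Finite (ResidueField k) (R ⧸ m) :=
    finite_of_finite_type_of_isJacobsonRing (ResidueField k) (R ⧸ m)
  exact Module.finite_of_finite (ResidueField k)

/-- In a finite field, there is an element whose powers exhaust the nonzero elements. -/
theorem exists_pow_eq_of_finite_field (K : Type*) [Field K] [Finite K] :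
    ∃ θ : K, ∀ x : K, x = 0 ∨ ∃ n : ℕ, x = θ ^ n := by
  obtain ⟨g, hg⟩ := IsCyclic.exists_monoid_generator (α := Kˣ)
  refine ⟨g, fun x => ?_⟩
  by_cases hx : x = 0
  · exact Or.inl hx
  · obtain ⟨n, hn⟩ := hg (Units.mk0 x hx)
    refine Or.inr ⟨n, ?_⟩
    have := congrArg Units.val hn
    simpa using this.symm


end Groth.Agent.Lib.Helper90.EtChart
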