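import Groth.Agent.Lib.Helper90.EtChart

set_option autoImplicit false
set_option linter.style.haveILetI false
universe u

open TensorProduct KaehlerDifferential IsLocalRing

namespace Groth.Agent.Lib.Helper90.EtChart

set_option maxHeartbeats 1000000 in
theorem exists_etale_chart
    (k : Type u) [CommRing k] [IsLocalRing k] [Finite (IsLocalRing.ResidueField k)]
    (R : Type u) [CommRing R] [Algebra k R] [Algebra.FinitePresentation k R]
    (m : Ideal R) [m.IsMaximal] (hm : m.comap (algebraMap k R) = IsLocalRing.maximalIdeal k)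
    [Algebra.IsSmoothAt k m] (d : ℕ) (hd : 0 < d)
    (hdim : Module.finrank (R ⧸ m) ((R ⧸ m) ⊗[R] KaehlerDifferential k R) = d) :
    ∃ g : R, g ∉ m ∧ ∃ φ : MvPolynomial (Fin d) k →ₐ[k] Localization.Away g,
      φ.toRingHom.Etale ∧
      Function.Surjective
        ((Ideal.Quotient.mk (m.map (algebraMap R (Localization.Away g)))).comp φ.toRingHom) := by
  classical
  letI : Field (R ⧸ m) := Ideal.Quotient.field m
  haveI : Finite (R ⧸ m) := finite_quotient_of_finite_residueField k R m hm
  letI : Fintype (R ⧸ m) := Fintype.ofFinite _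
  set q := Fintype.card (R ⧸ m) with hq
  have hqpow : ∀ x : R ⧸ m, x ^ q = x := FiniteField.pow_card
  have hq0 : (q : R ⧸ m) = 0 := FiniteField.cast_card_eq_zero (R ⧸ m)
  have hqm : (q : R) ∈ m := by
    rw [← Ideal.Quotient.eq_zero_iff_mem, map_natCast]; exact hq0
  obtain ⟨θ, hθ⟩ := exists_pow_eq_of_finite_field (R ⧸ m)
  obtain ⟨u, rfl⟩ := Ideal.Quotient.mk_surjective θ
  obtain ⟨r, b, hb⟩ := exists_basis_D_algebraMap k R m d hdim
  let j₀ : Fin d := ⟨0, hd⟩
  let r' : Fin d → R := Function.update r j₀ (r j₀ + (u - r j₀) ^ q)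
  have hr'θ : Ideal.Quotient.mk m (r' j₀) = Ideal.Quotient.mk m u := by
    simp only [r', Function.update_self, map_add, map_pow, map_sub]
    rw [hqpow]; ring
  haveI : Algebra.FormallySmooth k (Localization.AtPrime m) := ‹Algebra.IsSmoothAt k m›
  haveI : Module.FinitePresentation (Localization.AtPrime m) Ω[Localization.AtPrime m⁄k] :=
    inferInstance
  -- perturbed basis
  have hv : ∀ j, D k (Localization.AtPrime m) (algebraMap R (Localization.AtPrime m) (r' j)) - b j ∈
      (maximalIdeal (Localization.AtPrime m)) • (⊤ : Submodule (Localization.AtPrime m)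
        Ω[Localization.AtPrime m⁄k]) := by
    intro j
    by_cases hj : j = j₀
    · subst hj
      simp only [r', Function.update_self]
      rw [hb, map_add, map_add, add_sub_cancel_left, map_pow, Derivation.leibniz_pow]
      have h1 : ((q : ℕ) : Localization.AtPrime m) ∈ maximalIdeal (Localization.AtPrime m) := by
        have : ((q : ℕ) : Localization.AtPrime m) = algebraMap R (Localization.AtPrime m) (q : R) := by
          rw [map_natCast]
        rw [this]
        exact (IsLocalization.AtPrime.to_map_mem_maximal_iff (Localization.AtPrime m) m _).mpr hqm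
      rw [← Nat.cast_smul_eq_nsmul (Localization.AtPrime m)]
      exact Submodule.smul_mem_smul h1 Submodule.mem_top
    · simp only [r', Function.update_of_ne hj]
      rw [hb, sub_self]
      exact zero_mem _
  obtain ⟨b', hb'⟩ := exists_basis_of_sub_mem b _ hv
  -- the chart
  let φ₀ : MvPolynomial (Fin d) k →ₐ[k] R := MvPolynomial.aeval r'
  letI : Algebra (MvPolynomial (Fin d) k) R := φ₀.toRingHom.toAlgebra
  haveI : IsScalarTower k (MvPolynomial (Fin d) k) R :=
    IsScalarTower.of_algebraMap_eq (fun c => (φ₀.commutes c).symm)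
  haveI : IsScalarTower k (MvPolynomial (Fin d) k) (Localization.AtPrime m) :=
    IsScalarTower.to₁₂₄ _ _ R _
  haveI : Algebra.FinitePresentation (MvPolynomial (Fin d) k) R :=
    Algebra.FinitePresentation.of_restrict_scalars_finitePresentation k _ R
  let b₁ : Module.Basis (Fin d) (Localization.AtPrime m)
      (Localization.AtPrime m ⊗[MvPolynomial (Fin d) k] Ω[MvPolynomial (Fin d) k⁄k]) :=
    (KaehlerDifferential.mvPolynomialBasis k (Fin d)).baseChange (Localization.AtPrime m)
  have hmap : ∀ j, KaehlerDifferential.mapBaseChange k (MvPolynomial (Fin d) k)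
      (Localization.AtPrime m) (b₁ j) = b' j := by
    intro j
    rw [Module.Basis.baseChange_apply, KaehlerDifferential.mvPolynomialBasis_apply,
      KaehlerDifferential.mapBaseChange_tmul, one_smul, KaehlerDifferential.map_D, hb' j]
    congr 1
    rw [IsScalarTower.algebraMap_apply (MvPolynomial (Fin d) k) R (Localization.AtPrime m)]
    congr 1
    exact MvPolynomial.aeval_X r' j
  have hbij : Function.Bijective (KaehlerDifferential.mapBaseChange k (MvPolynomial (Fin d) k)
      (Localization.AtPrime m)) := by
    have : KaehlerDifferential.mapBaseChange k (MvPolynomial (Fin d) k) (Localization.AtPrime m) =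
        (b₁.equiv b' (Equiv.refl _)).toLinearMap := by
      apply b₁.ext
      intro j
      rw [hmap]
      simp
    rw [this]
    exact (b₁.equiv b' (Equiv.refl _)).bijective
  have hEt : Algebra.FormallyEtale (MvPolynomial (Fin d) k) (Localization.AtPrime m) :=
    formallyEtale_of_bijective_mapBaseChange k (MvPolynomial (Fin d) k) (Localization.AtPrime m) hbij
  haveI : Algebra.IsEtaleAt (MvPolynomial (Fin d) k) m := hEt
  obtain ⟨g, hg, hgEt⟩ := Algebra.exists_etale_of_isEtaleAt (R := MvPolynomial (Fin d) k) m
  refine ⟨g, hg, (IsScalarTower.toAlgHom k R (Localization.Away g)).comp φ₀, ?_, ?_⟩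
  · have h1 : (algebraMap (MvPolynomial (Fin d) k) (Localization.Away g)).Etale :=
      RingHom.etale_algebraMap.mpr hgEt
    have h2 : ((IsScalarTower.toAlgHom k R (Localization.Away g)).comp φ₀).toRingHom =
        algebraMap (MvPolynomial (Fin d) k) (Localization.Away g) := by
      rw [IsScalarTower.algebraMap_eq (MvPolynomial (Fin d) k) R (Localization.Away g)]
      rfl
    rw [h2]
    exact h1
  · -- surjectivity on the residue field
    have hmk : ∀ c c' : R, c - c' ∈ m →
        Ideal.Quotient.mk (m.map (algebraMap R (Localization.Away g)))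
          (algebraMap R (Localization.Away g) c) =
        Ideal.Quotient.mk (m.map (algebraMap R (Localization.Away g)))
          (algebraMap R (Localization.Away g) c') := by
      intro c c' h
      rw [Ideal.Quotient.eq, ← map_sub]
      exact Ideal.mem_map_of_mem _ h
    obtain ⟨g', hg'⟩ : ∃ g' : R, g * g' - 1 ∈ m := by
      have hgne : Ideal.Quotient.mk m g ≠ 0 := by
        rwa [Ne, Ideal.Quotient.eq_zero_iff_mem]
      obtain ⟨w, hw⟩ := Ideal.Quotient.mk_surjective (Ideal.Quotient.mk m g)⁻¹
      refine ⟨w, ?_⟩
      rw [← Ideal.Quotient.eq_zero_iff_mem, map_sub, map_mul, hw, map_one,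
        mul_inv_cancel₀ hgne, sub_self]
    intro y
    obtain ⟨z, rfl⟩ := Ideal.Quotient.mk_surjective y
    obtain ⟨n, a, ha⟩ := IsLocalization.Away.surj g z
    have hgg' : Ideal.Quotient.mk (m.map (algebraMap R (Localization.Away g)))
          (algebraMap R (Localization.Away g) g) *
        Ideal.Quotient.mk (m.map (algebraMap R (Localization.Away g)))
          (algebraMap R (Localization.Away g) g') = 1 := by
      rw [← map_mul, ← map_mul, hmk (g * g') 1 hg', map_one, map_one]
    have hz : Ideal.Quotient.mk (m.map (algebraMap R (Localization.Away g))) z =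
        Ideal.Quotient.mk (m.map (algebraMap R (Localization.Away g)))
          (algebraMap R (Localization.Away g) (a * g' ^ n)) := by
      rw [map_mul (algebraMap R (Localization.Away g)), ← ha, map_pow, map_mul, map_mul, map_pow,
        map_pow, mul_assoc, ← mul_pow, hgg', one_pow, mul_one]
    rw [hz]
    rcases hθ (Ideal.Quotient.mk m (a * g' ^ n)) with h0 | ⟨N, hN⟩
    · refine ⟨0, ?_⟩
      rw [map_zero]
      have := hmk (a * g' ^ n) 0 (by rw [sub_zero]; exact Ideal.Quotient.eq_zero_iff_mem.mp h0)
      rw [this, map_zero, map_zero]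
    · refine ⟨MvPolynomial.X j₀ ^ N, ?_⟩
      have h3 : a * g' ^ n - (r' j₀) ^ N ∈ m := by
        rw [← Ideal.Quotient.eq_zero_iff_mem, map_sub, hN, map_pow, hr'θ, sub_self]
      rw [hmk _ _ h3]
      change Ideal.Quotient.mk _ (algebraMap R (Localization.Away g)
        (MvPolynomial.aeval r' (MvPolynomial.X j₀ ^ N))) = _
      rw [map_pow, MvPolynomial.aeval_X]

end Groth.Agent.Lib.Helper90.EtChart
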