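import Mathlib

set_option linter.style.haveILetI false
set_option linter.unusedSectionVars false

namespace Groth.Agent.Lib.Helper90.EtSlice

open TensorProduct KaehlerDifferential IsLocalRing

universe v w

variable {C : Type v} {B : Type w} [CommRing C] [CommRing B] [Algebra C B]
variable (J : Ideal B) (q : Ideal B) [q.IsPrime]

/-- Step 1: the differentials of elements of `J` span the fibre of `Ω` at `q`. -/
theorem span_D_eq_top (hsurj : ∀ b : B, ∃ c : C, b - algebraMap C B c ∈ J) :
    Submodule.span (ResidueField (Localization.AtPrime q))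
      (Set.range (fun j : J => (1 : ResidueField (Localization.AtPrime q)) ⊗ₜ[Localization.AtPrime q]
        D C (Localization.AtPrime q) (algebraMap B (Localization.AtPrime q) j))) = ⊤ := by
  set P := Localization.AtPrime q with hP
  set K := ResidueField P with hK
  set W := Submodule.span K (Set.range (fun j : J => (1 : K) ⊗ₜ[P] D C P (algebraMap B P j))) with hW
  have e1 : ∀ (r : P) (m : Ω[P⁄C]), (1 : K) ⊗ₜ[P] (r • m) = (residue P r) • ((1 : K) ⊗ₜ[P] m) := by
    intro r m
    rw [TensorProduct.smul_tmul', smul_eq_mul, mul_one, ← TensorProduct.smul_tmul,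
      Algebra.smul_def, mul_one]
    rfl
  -- Claim A
  have hA : ∀ b : B, (1 : K) ⊗ₜ[P] D C P (algebraMap B P b) ∈ W := by
    intro b
    obtain ⟨c, hc⟩ := hsurj b
    have e : algebraMap B P b = algebraMap B P (b - algebraMap C B c) + algebraMap C P c := by
      rw [IsScalarTower.algebraMap_apply C B P, ← map_add]
      congr 1
      ring
    rw [e, map_add, Derivation.map_algebraMap, add_zero]
    exact Submodule.subset_span ⟨⟨_, hc⟩, rfl⟩
  -- Claim B
  have hB : ∀ p : P, (1 : K) ⊗ₜ[P] D C P p ∈ W := by
    intro p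
    obtain ⟨b, s, rfl⟩ := IsLocalization.exists_mk'_eq q.primeCompl p
    set p := IsLocalization.mk' P b s with hp
    have hspec : p * algebraMap B P s = algebraMap B P b := IsLocalization.mk'_spec P b s
    have hu : IsUnit (algebraMap B P (s : B)) := IsLocalization.map_units P s
    have hl := (D C P).leibniz p (algebraMap B P s)
    rw [hspec] at hl
    have h1 : (algebraMap B P (s : B)) • D C P p = D C P (algebraMap B P b) -
        p • D C P (algebraMap B P s) := by
      rw [hl]; abel
    have h2 : (residue P (algebraMap B P (s : B))) • ((1 : K) ⊗ₜ[P] D C P p) =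
        (1 : K) ⊗ₜ[P] D C P (algebraMap B P b) -
          (residue P p) • ((1 : K) ⊗ₜ[P] D C P (algebraMap B P s)) := by
      rw [← e1, h1, TensorProduct.tmul_sub, e1]
    have hne : residue P (algebraMap B P (s : B)) ≠ 0 := by
      intro h0
      rw [residue_eq_zero_iff] at h0
      exact (IsLocalRing.mem_maximalIdeal _).mp h0 hu
    have h3 : (1 : K) ⊗ₜ[P] D C P p = (residue P (algebraMap B P (s : B)))⁻¹ •
        ((1 : K) ⊗ₜ[P] D C P (algebraMap B P b) -
          (residue P p) • ((1 : K) ⊗ₜ[P] D C P (algebraMap B P s))) := by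
      rw [← h2, smul_smul, inv_mul_cancel₀ hne, one_smul]
    rw [h3]
    exact W.smul_mem _ (W.sub_mem (hA b) (W.smul_mem _ (hA s)))
  -- Claim C
  have hΩ : ∀ ω : Ω[P⁄C], (1 : K) ⊗ₜ[P] ω ∈ W := by
    intro ω
    have hω : ω ∈ Submodule.span P (Set.range (D C P)) := by
      rw [KaehlerDifferential.span_range_derivation]; trivial
    induction hω using Submodule.span_induction with
    | mem x hx => obtain ⟨p, rfl⟩ := hx; exact hB p
    | zero => rw [TensorProduct.tmul_zero]; exact W.zero_mem
    | add x y _ _ hx hy => rw [TensorProduct.tmul_add]; exact W.add_mem hx hy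
    | smul r x _ hx => rw [e1]; exact W.smul_mem _ hx
  rw [eq_top_iff]
  rintro t -
  induction t using TensorProduct.induction_on with
  | zero => exact W.zero_mem
  | add x y hx hy => exact W.add_mem hx hy
  | tmul a ω =>
    have e : a ⊗ₜ[P] ω = a • ((1 : K) ⊗ₜ[P] ω) := by
      rw [TensorProduct.smul_tmul', smul_eq_mul, mul_one]
    rw [e]
    exact W.smul_mem _ (hΩ ω)

theorem formallyEtale_quot_of_basis [Algebra.FormallySmooth C B] [Algebra.FiniteType C B]
    {ι : Type*} [Finite ι] (j : ι → B) (hjq : ∀ i, j i ∈ q)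
    (b0 : Module.Basis ι (ResidueField (Localization.AtPrime q))
      (ResidueField (Localization.AtPrime q) ⊗[Localization.AtPrime q] Ω[Localization.AtPrime q⁄C]))
    (hj : ∀ i, (1 : ResidueField (Localization.AtPrime q)) ⊗ₜ[Localization.AtPrime q]
      D C (Localization.AtPrime q) (algebraMap B (Localization.AtPrime q) (j i)) = b0 i) :
    Algebra.FormallyEtale C (Localization.AtPrime q ⧸
      (Ideal.span (Set.range j)).map (algebraMap B (Localization.AtPrime q))) := by
  set P := Localization.AtPrime q with hP
  set K := ResidueField P with hK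
  haveI : Algebra.FormallyEtale B P := Algebra.FormallyEtale.of_isLocalization q.primeCompl
  haveI : Algebra.FormallySmooth C P := Algebra.FormallySmooth.comp C B P
  haveI : Algebra.EssFiniteType B P := Algebra.EssFiniteType.of_isLocalization P q.primeCompl
  haveI : Algebra.EssFiniteType C P := Algebra.EssFiniteType.comp C B P
  haveI : Module.Finite P Ω[P⁄C] := inferInstance
  haveI : Module.Free P Ω[P⁄C] := Module.free_of_flat_of_isLocalRing
  cases nonempty_fintype ι
  set I : Ideal P := (Ideal.span (Set.range j)).map (algebraMap B P) with hI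
  have hIspan : I = Ideal.span (Set.range (fun i => algebraMap B P (j i))) := by
    rw [hI, Ideal.map_span, ← Set.range_comp]; rfl
  have hIm : I ≤ maximalIdeal P := by
    rw [hIspan, Ideal.span_le]
    rintro _ ⟨i, rfl⟩
    exact (IsLocalization.AtPrime.to_map_mem_maximal_iff P q (j i)).mpr (hjq i)
  haveI : Nontrivial (P ⧸ I) :=
    Ideal.Quotient.nontrivial_iff.mpr (fun h => (maximalIdeal.isMaximal P).ne_top (top_le_iff.mp (h ▸ hIm)))
  haveI : IsLocalRing (P ⧸ I) :=
    IsLocalRing.of_surjective' (Ideal.Quotient.mk I) Ideal.Quotient.mk_surjective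
  letI algSK : Algebra (P ⧸ I) K := (Ideal.Quotient.lift I (residue P)
    (fun a ha => (residue_eq_zero_iff a).mpr (hIm ha))).toAlgebra
  haveI : IsScalarTower P (P ⧸ I) K := by
    refine ⟨fun x y z => ?_⟩
    obtain ⟨p, rfl⟩ := Ideal.Quotient.mk_surjective y
    change (Ideal.Quotient.mk I (x * p)) • z = x • ((Ideal.Quotient.mk I p) • z)
    rw [Algebra.smul_def, Algebra.smul_def x, Algebra.smul_def (Ideal.Quotient.mk I p)]
    change residue P (x * p) * z = residue P x * (residue P p * z)
    rw [map_mul, mul_assoc]
  have h₁ : Function.Surjective (algebraMap P (P ⧸ I)) := Ideal.Quotient.mk_surjective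
  have hker : RingHom.ker (algebraMap P (P ⧸ I)) = I := by
    rw [Ideal.Quotient.algebraMap_eq, Ideal.mk_ker]
  have h₂ : (RingHom.ker (algebraMap P (P ⧸ I))).FG := by
    rw [hker, hIspan]
    exact Submodule.fg_span (Set.finite_range _)
  have h₃ : maximalIdeal (P ⧸ I) ≤ RingHom.ker (algebraMap (P ⧸ I) K) := by
    intro s hs
    obtain ⟨p, rfl⟩ := Ideal.Quotient.mk_surjective s
    rw [RingHom.mem_ker]
    change residue P p = 0
    rw [residue_eq_zero_iff, IsLocalRing.mem_maximalIdeal]
    intro hu
    exact (IsLocalRing.mem_maximalIdeal _).mp hs (hu.map (Ideal.Quotient.mk I))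
  -- formally smooth
  haveI hsm : Algebra.FormallySmooth C (P ⧸ I) := by
    rw [Algebra.FormallySmooth.iff_injective_cotangentComplexBaseChange (R := C) (S := P ⧸ I) P K
      h₁ h₂ h₃]
    set φ := cotangentComplexBaseChange C (P ⧸ I) P K with hφ
    have hmem : ∀ i, algebraMap B P (j i) ∈ RingHom.ker (algebraMap P (P ⧸ I)) := by
      intro i
      rw [hker, hIspan]
      exact Ideal.subset_span ⟨i, rfl⟩
    let g : ι → RingHom.ker (algebraMap P (P ⧸ I)) := fun i => ⟨algebraMap B P (j i), hmem i⟩
    have hφg : ∀ i, φ ((1 : K) ⊗ₜ[P] g i) = b0 i := by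
      intro i
      rw [hφ, cotangentComplexBaseChange_tmul, one_smul, ← hj i]
      rfl
    let h : (ι →₀ K) →ₗ[K] K ⊗[P] RingHom.ker (algebraMap P (P ⧸ I)) :=
      Finsupp.linearCombination K (fun i => (1 : K) ⊗ₜ[P] g i)
    have hcomp : φ ∘ₗ h = Finsupp.linearCombination K b0 := by
      apply Finsupp.lhom_ext'
      intro i
      apply LinearMap.ext_ring
      simp [h, hφg]
    have hsurj : Function.Surjective h := by
      rw [← LinearMap.range_eq_top, eq_top_iff]
      rintro t -
      induction t using TensorProduct.induction_on with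
      | zero => exact Submodule.zero_mem _
      | add x y hx hy => exact Submodule.add_mem _ hx hy
      | tmul a y =>
        have hy : (y : P) ∈ Ideal.span (Set.range (fun i => algebraMap B P (j i))) :=
          hIspan.le (hker.le y.2)
        obtain ⟨c, hc⟩ := (Submodule.mem_span_range_iff_exists_fun P).mp hy
        have hy' : y = ∑ i, c i • g i := by
          apply Subtype.ext
          rw [← hc]
          simp [g]
        rw [hy', TensorProduct.tmul_sum]
        refine Submodule.sum_mem _ (fun i _ => ?_)
        have : a ⊗ₜ[P] (c i • g i) = (a * residue P (c i)) • ((1 : K) ⊗ₜ[P] g i) := by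
          rw [TensorProduct.smul_tmul', smul_eq_mul, mul_one, ← TensorProduct.smul_tmul,
            Algebra.smul_def, mul_comm]
          rfl
        rw [this]
        exact Submodule.smul_mem _ _ ⟨Finsupp.single i 1, by simp [h]⟩
    have hinj : Function.Injective (Finsupp.linearCombination K b0) := b0.linearIndependent
    intro n₁ n₂ hn
    obtain ⟨v₁, rfl⟩ := hsurj n₁
    obtain ⟨v₂, rfl⟩ := hsurj n₂
    have : (φ ∘ₗ h) v₁ = (φ ∘ₗ h) v₂ := hn
    rw [hcomp] at this
    rw [hinj this]
  -- formally unramified
  haveI hunr : Algebra.FormallyUnramified C (P ⧸ I) := by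
    constructor
    have hspanΩ : Submodule.span P (Set.range (fun i => D C P (algebraMap B P (j i)))) = ⊤ :=
      IsLocalRing.span_eq_top_of_tmul_eq_basis (fun i => D C P (algebraMap B P (j i))) b0 hj
    have hmap : ∀ ω : Ω[P⁄C], KaehlerDifferential.map C C P (P ⧸ I) ω = 0 := by
      intro ω
      have hω : ω ∈ Submodule.span P (Set.range (fun i => D C P (algebraMap B P (j i)))) := by
        rw [hspanΩ]; trivial
      induction hω using Submodule.span_induction with
      | mem x hx =>
        obtain ⟨i, rfl⟩ := hx
        rw [KaehlerDifferential.map_D]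
        have : algebraMap P (P ⧸ I) (algebraMap B P (j i)) = 0 := by
          rw [Ideal.Quotient.algebraMap_eq, Ideal.Quotient.eq_zero_iff_mem, hIspan]
          exact Ideal.subset_span ⟨i, rfl⟩
        rw [this, map_zero]
      | zero => rw [map_zero]
      | add x y _ _ hx hy => rw [map_add, hx, hy, add_zero]
      | smul r x _ hx => rw [map_smul, hx, smul_zero]
    have hD : ∀ s : P ⧸ I, D C (P ⧸ I) s = 0 := by
      intro s
      obtain ⟨p, rfl⟩ := Ideal.Quotient.mk_surjective s
      have := hmap (D C P p)
      rwa [KaehlerDifferential.map_D] at this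
    rw [← Submodule.subsingleton_iff (P ⧸ I), ← subsingleton_iff_bot_eq_top,
      ← KaehlerDifferential.span_range_derivation C (P ⧸ I), eq_comm, Submodule.span_eq_bot]
    rintro _ ⟨s, rfl⟩
    exact hD s
  exact Algebra.FormallyEtale.of_formallyUnramified_and_formallySmooth

/-- Steps 2-3: local etale slice. -/
theorem exists_formallyEtale_quot [Algebra.FormallySmooth C B] [Algebra.FiniteType C B]
    (hJq : J ≤ q) (hsurj : ∀ b : B, ∃ c : C, b - algebraMap C B c ∈ J) :
    ∃ (ι : Type w) (_ : Finite ι) (j : ι → B), (∀ i, j i ∈ J) ∧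
      Algebra.FormallyEtale C (Localization.AtPrime q ⧸
        (Ideal.span (Set.range j)).map (algebraMap B (Localization.AtPrime q))) := by
  set P := Localization.AtPrime q with hP
  set K := ResidueField P with hK
  haveI : Algebra.FormallyEtale B P := Algebra.FormallyEtale.of_isLocalization q.primeCompl
  haveI : Algebra.FormallySmooth C P := Algebra.FormallySmooth.comp C B P
  haveI : Algebra.EssFiniteType B P := Algebra.EssFiniteType.of_isLocalization P q.primeCompl
  haveI : Algebra.EssFiniteType C P := Algebra.EssFiniteType.comp C B P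
  haveI : Module.Finite P Ω[P⁄C] := inferInstance
  haveI : Module.Free P Ω[P⁄C] := Module.free_of_flat_of_isLocalRing
  -- basis
  have hspan := span_D_eq_top (C := C) J q hsurj
  let b0 := Module.Basis.ofSpan hspan.ge
  have hsub := Module.Basis.ofSpan_subset hspan.ge
  haveI : Finite ((linearIndepOn_empty K id).extend (Set.empty_subset (Set.range
      (fun j : J => (1 : K) ⊗ₜ[P] D C P (algebraMap B P j))))) := Module.Finite.finite_basis b0
  have hch : ∀ i, ∃ j : J, (1 : K) ⊗ₜ[P] D C P (algebraMap B P j) = b0 i := fun i => hsub ⟨i, rfl⟩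
  choose j hj using hch
  exact ⟨_, inferInstance, fun i => (j i : B), fun i => (j i).2,
    formallyEtale_quot_of_basis q (fun i => (j i : B)) (fun i => hJq (j i).2) b0 hj⟩

/-- Step 4: the global statement. -/
theorem main (C : Type v) (B : Type w) [CommRing C] [CommRing B] [Algebra C B]
    [Algebra.Smooth C B] (J : Ideal B)
    (hsurj : Function.Surjective ((Ideal.Quotient.mk J).comp (algebraMap C B)))
    (x : PrimeSpectrum (B ⧸ J)) :
    ∃ f : B, Ideal.Quotient.mk J f ∉ x.asIdeal ∧
      ∃ J₀ : Ideal (Localization.Away f), J₀ ≤ J.map (algebraMap B (Localization.Away f)) ∧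
        ((Ideal.Quotient.mk J₀).comp
          ((algebraMap B (Localization.Away f)).comp (algebraMap C B))).Etale := by
  set q : Ideal B := x.asIdeal.comap (Ideal.Quotient.mk J) with hq
  haveI : q.IsPrime := Ideal.comap_isPrime _ _
  have hJq : J ≤ q := by
    intro a ha
    rw [hq, Ideal.mem_comap, Ideal.Quotient.eq_zero_iff_mem.mpr ha]
    exact Ideal.zero_mem _
  have hsurj' : ∀ b : B, ∃ c : C, b - algebraMap C B c ∈ J := by
    intro b
    obtain ⟨c, hc⟩ := hsurj (Ideal.Quotient.mk J b)
    refine ⟨c, ?_⟩
    rw [← Ideal.Quotient.eq]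
    exact hc.symm
  obtain ⟨ι, hfin, j, hjJ, het⟩ := exists_formallyEtale_quot (C := C) J q hJq hsurj'
  set J₀' : Ideal B := Ideal.span (Set.range j) with hJ₀'
  have hle : J₀' ≤ J := by
    rw [hJ₀', Ideal.span_le]
    rintro _ ⟨i, rfl⟩
    exact hjJ i
  have hfg : J₀'.FG := Submodule.fg_span (Set.finite_range j)
  haveI : Algebra.FinitePresentation C (B ⧸ J₀') := Algebra.FinitePresentation.quotient hfg
  set qb : Ideal (B ⧸ J₀') := x.asIdeal.comap (Ideal.Quotient.factor hle) with hqb
  haveI : qb.IsPrime := Ideal.comap_isPrime _ _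
  have hmemqb : ∀ b : B, Ideal.Quotient.mk J₀' b ∈ qb ↔ b ∈ q := by
    intro b
    rw [hqb, hq, Ideal.mem_comap, Ideal.mem_comap, Ideal.Quotient.factor_mk]
  -- scalar towers
  have tower : ∀ (T : Type w) [CommRing T] [Algebra B T] [Algebra C T] [IsScalarTower C B T],
      IsScalarTower C (B ⧸ J₀') (T ⧸ J₀'.map (algebraMap B T)) := by
    intro T _ _ _ _
    refine IsScalarTower.of_algebraMap_eq (fun c => ?_)
    rw [IsScalarTower.algebraMap_apply C B (B ⧸ J₀'), Ideal.Quotient.algebraMap_eq,
      Ideal.Quotient.algebraMap_quotient_map_quotient,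
      IsScalarTower.algebraMap_apply C T (T ⧸ J₀'.map (algebraMap B T)),
      IsScalarTower.algebraMap_apply C B T]
    rfl
  -- etale at qb
  haveI hEtAt : Algebra.IsEtaleAt C qb := by
    set P := Localization.AtPrime q with hP
    haveI := tower P
    have hsub : Algebra.algebraMapSubmonoid (B ⧸ J₀') q.primeCompl = qb.primeCompl := by
      ext s
      constructor
      · rintro ⟨b, hb, rfl⟩
        change ¬ (algebraMap B (B ⧸ J₀') b ∈ qb)
        rw [Ideal.Quotient.algebraMap_eq, hmemqb]
        exact hb
      · intro hs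
        obtain ⟨b, rfl⟩ := Ideal.Quotient.mk_surjective s
        refine ⟨b, ?_, rfl⟩
        change ¬ (b ∈ q)
        rw [← hmemqb]
        exact hs
    haveI hloc : IsLocalization qb.primeCompl (P ⧸ J₀'.map (algebraMap B P)) := by
      rw [← hsub]; infer_instance
    let e : Localization.AtPrime qb ≃ₐ[B ⧸ J₀'] (P ⧸ J₀'.map (algebraMap B P)) :=
      IsLocalization.algEquiv qb.primeCompl _ _
    exact Algebra.FormallyEtale.of_equiv (e.symm.restrictScalars C)
  obtain ⟨fb, hfb, hEt⟩ := Algebra.exists_etale_of_isEtaleAt (R := C) qb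
  obtain ⟨f, rfl⟩ := Ideal.Quotient.mk_surjective fb
  refine ⟨f, ?_, J₀'.map (algebraMap B (Localization.Away f)), Ideal.map_mono hle, ?_⟩
  · rw [hmemqb] at hfb
    exact hfb
  · haveI := tower (Localization.Away f)
    have hsub : Algebra.algebraMapSubmonoid (B ⧸ J₀') (Submonoid.powers f) =
        Submonoid.powers (Ideal.Quotient.mk J₀' f) := by
      rw [Algebra.algebraMapSubmonoid, Submonoid.map_powers]
      rfl
    haveI hloc : IsLocalization.Away (Ideal.Quotient.mk J₀' f)
        (Localization.Away f ⧸ J₀'.map (algebraMap B (Localization.Away f))) := by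
      change IsLocalization (Submonoid.powers (Ideal.Quotient.mk J₀' f)) _
      rw [← hsub]; infer_instance
    let e : Localization.Away (Ideal.Quotient.mk J₀' f) ≃ₐ[B ⧸ J₀']
        (Localization.Away f ⧸ J₀'.map (algebraMap B (Localization.Away f))) :=
      IsLocalization.algEquiv (Submonoid.powers (Ideal.Quotient.mk J₀' f)) _ _
    haveI : Algebra.Etale C
        (Localization.Away f ⧸ J₀'.map (algebraMap B (Localization.Away f))) :=
      Algebra.Etale.of_equiv (e.restrictScalars C)
    have hcomp : (Ideal.Quotient.mk (J₀'.map (algebraMap B (Localization.Away f)))).comp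
        ((algebraMap B (Localization.Away f)).comp (algebraMap C B)) =
        algebraMap C (Localization.Away f ⧸ J₀'.map (algebraMap B (Localization.Away f))) := by
      ext c
      rw [IsScalarTower.algebraMap_apply C (Localization.Away f)
        (Localization.Away f ⧸ J₀'.map (algebraMap B (Localization.Away f))),
        IsScalarTower.algebraMap_apply C B (Localization.Away f)]
      rfl
    rw [hcomp]
    exact RingHom.etale_algebraMap.mpr inferInstance

end Groth.Agent.Lib.Helper90.EtSlice
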