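import Mathlib

set_option autoImplicit false
set_option linter.style.haveILetI false
universe u

open TensorProduct

namespace Groth.Agent.Lib.Helper90.EtaleNbhd

/-- The kernel of a retraction of an etale algebra is generated by an idempotent. -/
theorem exists_idempotent_ker_eq_span {Rb Db : Type*} [CommRing Rb] [CommRing Db] [Algebra Rb Db]
    [Algebra.Etale Rb Db] (π : Db →ₐ[Rb] Rb) :
    ∃ e : Db, IsIdempotentElem e ∧ RingHom.ker π.toRingHom = Ideal.span {e} := by
  letI : Algebra Db Rb := π.toRingHom.toAlgebra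
  haveI : IsScalarTower Rb Db Rb := .of_algebraMap_eq (fun x => (π.commutes x).symm)
  have hs : Function.Surjective (algebraMap Db Rb) := fun x => ⟨algebraMap Rb Db x, π.commutes x⟩
  haveI : Algebra.FormallyEtale Db Rb := Algebra.FormallyEtale.of_restrictScalars (R := Rb)
  have hid : IsIdempotentElem (RingHom.ker (algebraMap Db Rb)) :=
    (Algebra.FormallyEtale.iff_of_surjective hs).mp inferInstance
  have hfg : (RingHom.ker π.toRingHom).FG :=
    Algebra.FinitePresentation.ker_fG_of_surjective π hs
  exact (Ideal.isIdempotentElem_iff_of_fg _ hfg).mp hid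

/-- Core lemma: an etale `A`-algebra `D` with an `A`-algebra map `φ` to `A/I` has an element `a`
with `φ a = 1` such that `a • ker φ ⊆ I D`. -/
theorem exists_mul_mem_map_of_algHom_quotient {A : Type u} [CommRing A] (I : Ideal A)
    (D : Type u) [CommRing D] [Algebra A D] [Algebra.Etale A D] (φ : D →ₐ[A] A ⧸ I) :
    ∃ a : D, φ a = 1 ∧ ∀ d : D, φ d = 0 → a * d ∈ I.map (algebraMap A D) := by
  haveI : Algebra.Etale (A ⧸ I) (D ⧸ I.map (algebraMap A D)) :=
    Algebra.Etale.of_equiv (Algebra.TensorProduct.quotIdealMapEquivQuotTensor D I).symm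
  have hφI : ∀ x ∈ I.map (algebraMap A D), φ.toRingHom x = 0 := by
    intro x hx
    have : I.map (algebraMap A D) ≤ RingHom.ker φ.toRingHom := by
      rw [Ideal.map_le_iff_le_comap]
      intro y hy
      change φ (algebraMap A D y) = 0
      rw [φ.commutes]
      exact Ideal.Quotient.eq_zero_iff_mem.2 hy
    exact this hx
  let π : (D ⧸ I.map (algebraMap A D)) →ₐ[A ⧸ I] A ⧸ I :=
    { toRingHom := Ideal.Quotient.lift _ φ.toRingHom hφI
      commutes' := by
        intro x
        obtain ⟨x, rfl⟩ := Ideal.Quotient.mk_surjective x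
        change Ideal.Quotient.lift _ φ.toRingHom hφI (Ideal.Quotient.mk _ (algebraMap A D x)) = _
        rw [Ideal.Quotient.lift_mk]
        exact φ.commutes x }
  have hπ : ∀ d : D, π (Ideal.Quotient.mk _ d) = φ d := fun d => Ideal.Quotient.lift_mk _ _ _
  obtain ⟨e, he, hker⟩ := exists_idempotent_ker_eq_span π
  obtain ⟨a, ha⟩ := Ideal.Quotient.mk_surjective (1 - e)
  have heker : π e = 0 := by
    have : e ∈ RingHom.ker π.toRingHom := by rw [hker]; exact Ideal.subset_span rfl
    exact this
  refine ⟨a, ?_, fun d hd => ?_⟩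
  · rw [← hπ, ha, map_sub, map_one, heker, sub_zero]
  · have hd' : Ideal.Quotient.mk (I.map (algebraMap A D)) d ∈ RingHom.ker π.toRingHom := by
      change π _ = 0
      rw [hπ, hd]
    rw [hker, Ideal.mem_span_singleton'] at hd'
    obtain ⟨c, hc⟩ := hd'
    rw [← Ideal.Quotient.eq_zero_iff_mem, map_mul, ha, ← hc]
    have := he.eq
    linear_combination (-c) * this

/-- Consequences for the localization `D_a`. -/
theorem exists_algHom_away_ker_eq_map {A : Type u} [CommRing A] (I : Ideal A)
    (D : Type u) [CommRing D] [Algebra A D] (φ : D →ₐ[A] A ⧸ I)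
    (a : D) (ha : φ a = 1) (hker : ∀ d : D, φ d = 0 → a * d ∈ I.map (algebraMap A D)) :
    ∃ χ : Localization.Away a →ₐ[A] A ⧸ I,
      (∀ d, χ (algebraMap D (Localization.Away a) d) = φ d) ∧
      RingHom.ker χ.toRingHom = I.map (algebraMap A (Localization.Away a)) := by
  have hu : IsUnit (φ a) := by rw [ha]; exact isUnit_one
  let χ : Localization.Away a →ₐ[A] A ⧸ I := IsLocalization.Away.liftAlgHom a (f := φ) hu
  have hχ : ∀ d, χ (algebraMap D (Localization.Away a) d) = φ d := fun d =>
    IsLocalization.Away.lift_eq a hu d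
  refine ⟨χ, hχ, le_antisymm ?_ ?_⟩
  · intro z hz
    obtain ⟨⟨d, ⟨_, n, rfl⟩⟩, hd⟩ := IsLocalization.surj (Submonoid.powers a) z
    -- `z * a^n = d`
    have h1 : χ z * χ (algebraMap D _ (a ^ n)) = χ (algebraMap D _ d) := by
      rw [← map_mul]; exact congrArg χ hd
    have hz' : χ z = 0 := hz
    rw [hz', zero_mul, hχ] at h1
    have h2 := hker d h1.symm
    have h3 : algebraMap D (Localization.Away a) (a * d) ∈
        I.map (algebraMap A (Localization.Away a)) := by
      rw [IsScalarTower.algebraMap_eq A D (Localization.Away a), ← Ideal.map_map]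
      exact Ideal.mem_map_of_mem _ h2
    have hau : IsUnit (algebraMap D (Localization.Away a) a) :=
      IsLocalization.Away.algebraMap_isUnit a
    have haun : IsUnit (algebraMap D (Localization.Away a) (a ^ n)) := by
      rw [map_pow]; exact hau.pow n
    -- `z = d / a^n` and `a * d ∈ I A'`
    have h4 : z * algebraMap D _ (a ^ n) * algebraMap D _ a ∈
        I.map (algebraMap A (Localization.Away a)) := by
      have : z * algebraMap D (Localization.Away a) (a ^ n) * algebraMap D _ a =
          algebraMap D (Localization.Away a) (a * d) := by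
        change z * algebraMap D (Localization.Away a) (a ^ n) = _ at hd
        rw [hd, map_mul, mul_comm]
      rw [this]; exact h3
    have h5 : z * (algebraMap D (Localization.Away a) (a ^ n) * algebraMap D _ a) ∈
        I.map (algebraMap A (Localization.Away a)) := by rwa [← mul_assoc]
    exact (Ideal.mul_unit_mem_iff_mem _ (haun.mul hau)).1 h5
  · rw [Ideal.map_le_iff_le_comap]
    intro x hx
    change χ (algebraMap A _ x) = 0
    rw [χ.commutes]
    exact Ideal.Quotient.eq_zero_iff_mem.2 hx


/-- **Etale neighbourhood**: an etale `A`-algebra `D` with a section `φ : D → A/I` over `A/I`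
admits a localization `A'` which is etale over `A`, with `A/I ≃ A'/IA'` compatibly with `φ`. -/
theorem exists_etale_nbhd_of_algHom_quotient {A : Type u} [CommRing A] (I : Ideal A)
    (D : Type u) [CommRing D] [Algebra A D] [Algebra.Etale A D] (φ : D →ₐ[A] A ⧸ I) :
    ∃ (A' : Type u) (_ : CommRing A') (_ : Algebra A A') (_ : Algebra.Etale A A')
      (ι : D →ₐ[A] A'),
      Function.Bijective (algebraMap (A ⧸ I) (A' ⧸ I.map (algebraMap A A'))) ∧
      ∀ d, Ideal.Quotient.mk (I.map (algebraMap A A')) (ι d) =
        algebraMap (A ⧸ I) (A' ⧸ I.map (algebraMap A A')) (φ d) := by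
  obtain ⟨a, ha, hker⟩ := exists_mul_mem_map_of_algHom_quotient I D φ
  obtain ⟨χ, hχ, hχker⟩ := exists_algHom_away_ker_eq_map I D φ a ha hker
  haveI : Algebra.Etale D (Localization.Away a) := Algebra.Etale.of_isLocalizationAway a
  haveI : Algebra.Etale A (Localization.Away a) := Algebra.Etale.comp A D (Localization.Away a)
  have hmem : ∀ (y : Localization.Away a) (x : A), χ y = Ideal.Quotient.mk I x →
      Ideal.Quotient.mk (I.map (algebraMap A (Localization.Away a))) y =
        algebraMap (A ⧸ I) _ (Ideal.Quotient.mk I x) := by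
    intro y x hyx
    rw [Ideal.Quotient.algebraMap_quotient_map_quotient, Ideal.Quotient.eq, ← hχker]
    change χ (y - algebraMap A _ x) = 0
    rw [map_sub, χ.commutes, hyx]
    exact sub_self _
  refine ⟨Localization.Away a, inferInstance, inferInstance, inferInstance,
    IsScalarTower.toAlgHom A D (Localization.Away a), ⟨?_, ?_⟩, ?_⟩
  · rw [injective_iff_map_eq_zero]
    intro x hx
    obtain ⟨x, rfl⟩ := Ideal.Quotient.mk_surjective x
    rw [Ideal.Quotient.algebraMap_quotient_map_quotient, Ideal.Quotient.eq_zero_iff_mem,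
      ← hχker] at hx
    have : χ (algebraMap A _ x) = 0 := hx
    rwa [χ.commutes] at this
  · intro y
    obtain ⟨y, rfl⟩ := Ideal.Quotient.mk_surjective y
    obtain ⟨x, hx⟩ := Ideal.Quotient.mk_surjective (χ y)
    exact ⟨Ideal.Quotient.mk I x, (hmem y x hx.symm).symm⟩
  · intro d
    obtain ⟨x, hx⟩ := Ideal.Quotient.mk_surjective (φ d)
    rw [← hx]
    apply hmem
    rw [hx]
    exact hχ d

end Groth.Agent.Lib.Helper90.EtaleNbhd
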