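import Groth.Agent.Lib.Helper90.EtaleNbhd

set_option autoImplicit false
set_option linter.style.haveILetI false
universe u

open Polynomial

namespace Groth.Agent.Lib.Helper90.EtaleNbhd

/-- Strengthening of the etale-local lifting of coprime monic factorizations: the lifted factors
are again coprime. -/
theorem exists_etale_lift_coprime_monic_factorization {A : Type u} [CommRing A] (I : Ideal A)
    (f : A[X]) (hf : f.Monic) (g h : (A ⧸ I)[X]) (hg : g.Monic) (hh : h.Monic)
    (hcop : IsCoprime g h) (hfgh : f.map (Ideal.Quotient.mk I) = g * h) :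
    ∃ (A' : Type u) (_ : CommRing A') (_ : Algebra A A'), Algebra.Etale A A' ∧
      Function.Bijective (algebraMap (A ⧸ I) (A' ⧸ I.map (algebraMap A A'))) ∧
      ∃ g' h' : A'[X], g'.Monic ∧ h'.Monic ∧ IsCoprime g' h' ∧
        f.map (algebraMap A A') = g' * h' ∧
        g'.map (Ideal.Quotient.mk (I.map (algebraMap A A'))) =
          g.map (algebraMap (A ⧸ I) (A' ⧸ I.map (algebraMap A A'))) ∧
        h'.map (Ideal.Quotient.mk (I.map (algebraMap A A'))) =
          h.map (algebraMap (A ⧸ I) (A' ⧸ I.map (algebraMap A A'))) := by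
  classical
  rcases subsingleton_or_nontrivial (A ⧸ I) with hsub | hnt
  · -- trivial case
    have hI : I = ⊤ := Ideal.Quotient.subsingleton_iff.mp hsub
    have hI' : I.map (algebraMap A A) = ⊤ := by rw [Algebra.algebraMap_self, Ideal.map_id, hI]
    haveI : Subsingleton (A ⧸ I.map (algebraMap A A)) := Ideal.Quotient.subsingleton_iff.mpr hI'
    refine ⟨A, inferInstance, inferInstance, inferInstance, ⟨fun _ _ _ => Subsingleton.elim _ _,
      fun y => ⟨0, Subsingleton.elim _ _⟩⟩, f, 1, hf, Polynomial.monic_one, isCoprime_one_right,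
      ?_, ?_, ?_⟩
    · rw [Algebra.algebraMap_self, Polynomial.map_id, mul_one]
    · exact Subsingleton.elim _ _
    · exact Subsingleton.elim _ _
  · -- main case
    have hn : f.natDegree = g.natDegree + h.natDegree := by
      rw [← hg.natDegree_mul hh, ← hfgh, hf.natDegree_map]
    let p : Polynomial.MonicDegreeEq A f.natDegree := Polynomial.MonicDegreeEq.mk f hf rfl
    let qg : Polynomial.MonicDegreeEq (A ⧸ I) g.natDegree := Polynomial.MonicDegreeEq.mk g hg rfl
    let qh : Polynomial.MonicDegreeEq (A ⧸ I) h.natDegree := Polynomial.MonicDegreeEq.mk h hh rfl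
    let D := Polynomial.UniversalCoprimeFactorizationRing g.natDegree h.natDegree hn p
    let E := Polynomial.UniversalCoprimeFactorizationRing.homEquiv (A ⧸ I)
      g.natDegree h.natDegree hn p
    let φ : D →ₐ[A] A ⧸ I := E.symm ⟨(qg, qh), ⟨hfgh.symm, hcop⟩⟩
    obtain ⟨A', _, _, hA', ι, hbij, hι⟩ :=
      Groth.Agent.Lib.Helper90.EtaleNbhd.exists_etale_nbhd_of_algHom_quotient I D φ
    let E' := Polynomial.UniversalCoprimeFactorizationRing.homEquiv A' g.natDegree h.natDegree hn p
    refine ⟨A', inferInstance, inferInstance, hA', hbij, (E' ι).1.1.1, (E' ι).1.2.1,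
      (E' ι).1.1.monic, (E' ι).1.2.monic, (E' ι).2.2, (E' ι).2.1.symm, ?_, ?_⟩
    · have hcomp : (Ideal.Quotient.mkₐ A (I.map (algebraMap A A'))).comp ι =
          (IsScalarTower.toAlgHom A (A ⧸ I) (A' ⧸ I.map (algebraMap A A'))).comp φ :=
        AlgHom.ext hι
      have h1 := Polynomial.UniversalCoprimeFactorizationRing.homEquiv_comp_fst A'
        g.natDegree h.natDegree hn p ι (Ideal.Quotient.mkₐ A (I.map (algebraMap A A')))
      have h2 := Polynomial.UniversalCoprimeFactorizationRing.homEquiv_comp_fst (A ⧸ I)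
        g.natDegree h.natDegree hn p φ
        (IsScalarTower.toAlgHom A (A ⧸ I) (A' ⧸ I.map (algebraMap A A')))
      rw [hcomp, h2] at h1
      have h3 : (E φ).1.1 = qg := by
        simp only [φ, E, Equiv.apply_symm_apply]
      have := congrArg Subtype.val h1
      rw [h3] at this
      exact this.symm
    · have hcomp : (Ideal.Quotient.mkₐ A (I.map (algebraMap A A'))).comp ι =
          (IsScalarTower.toAlgHom A (A ⧸ I) (A' ⧸ I.map (algebraMap A A'))).comp φ :=
        AlgHom.ext hι
      have h1 := Polynomial.UniversalCoprimeFactorizationRing.homEquiv_comp_snd A'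
        g.natDegree h.natDegree hn p ι (Ideal.Quotient.mkₐ A (I.map (algebraMap A A')))
      have h2 := Polynomial.UniversalCoprimeFactorizationRing.homEquiv_comp_snd (A ⧸ I)
        g.natDegree h.natDegree hn p φ
        (IsScalarTower.toAlgHom A (A ⧸ I) (A' ⧸ I.map (algebraMap A A')))
      rw [hcomp, h2] at h1
      have h3 : (E φ).1.2 = qh := by
        simp only [φ, E, Equiv.apply_symm_apply]
      have := congrArg Subtype.val h1
      rw [h3] at this
      exact this.symm

end Groth.Agent.Lib.Helper90.EtaleNbhd
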