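import Groth.Agent.Lib.Helper90.EtaleNbhd

set_option autoImplicit false
set_option linter.style.haveILetI false
universe u

namespace Groth.Agent.Lib.Helper90.EtaleNbhd

/-- The algebra map `A^n → R` associated to a complete system of orthogonal idempotents. -/
noncomputable def algHomOfCOI {A : Type*} [CommRing A] {R : Type*} [CommRing R] [Algebra A R]
    {n : ℕ} (e : Fin n → R) (he : CompleteOrthogonalIdempotents e) : (Fin n → A) →ₐ[A] R where
  toFun x := ∑ j, e j * algebraMap A R (x j)
  map_one' := by simp [he.complete]
  map_zero' := by simp
  map_add' x y := by simp [mul_add, Finset.sum_add_distrib]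
  map_mul' x y := by
    rw [Finset.sum_mul_sum]
    refine Finset.sum_congr rfl fun j _ => ?_
    rw [Finset.sum_eq_single j]
    · simp only [Pi.mul_apply, map_mul]
      have := (he.idem j).eq
      linear_combination (-(algebraMap A R (x j) * algebraMap A R (y j))) * this
    · intro k _ hk
      have := he.ortho (Ne.symm hk)
      change e j * e k = 0 at this
      linear_combination (algebraMap A R (x j) * algebraMap A R (y k)) * this
    · intro h; exact absurd (Finset.mem_univ j) h
  commutes' a := by
    change ∑ j, e j * algebraMap A R a = algebraMap A R a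
    rw [← Finset.sum_mul, he.complete, one_mul]

theorem algHomOfCOI_single {A : Type*} [CommRing A] {R : Type*} [CommRing R] [Algebra A R]
    {n : ℕ} (e : Fin n → R) (he : CompleteOrthogonalIdempotents e) (j : Fin n) :
    algHomOfCOI (A := A) e he (Pi.single j 1) = e j := by
  change ∑ k, e k * algebraMap A R ((Pi.single j 1 : Fin n → A) k) = e j
  rw [Finset.sum_eq_single j]
  · simp
  · intro k _ hk
    rw [Pi.single_eq_of_ne hk, map_zero, mul_zero]
  · intro h; exact absurd (Finset.mem_univ j) h

end Groth.Agent.Lib.Helper90.EtaleNbhd
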