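import Groth.Agent.Lib.Helper90.EtaleNbhdMatrix
import Mathlib.RingTheory.TensorProduct.Free
import Mathlib.RingTheory.Finiteness.Projective

set_option autoImplicit false
set_option linter.style.haveILetI false
universe u

open TensorProduct

namespace Groth.Agent.Lib.Helper90.EtaleNbhd

/-- Two splittings of "the same" idempotent are isomorphic. -/
theorem nonempty_linearEquiv_of_splittings {K : Type*} [CommRing K] {V₁ V₂ X Y : Type*}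
    [AddCommGroup V₁] [Module K V₁] [AddCommGroup V₂] [Module K V₂]
    [AddCommGroup X] [Module K X] [AddCommGroup Y] [Module K Y]
    (θ : V₁ ≃ₗ[K] V₂) (i₁ : X →ₗ[K] V₁) (s₁ : V₁ →ₗ[K] X) (h₁ : s₁ ∘ₗ i₁ = LinearMap.id)
    (i₂ : Y →ₗ[K] V₂) (s₂ : V₂ →ₗ[K] Y) (h₂ : s₂ ∘ₗ i₂ = LinearMap.id)
    (hθ : θ.toLinearMap ∘ₗ (i₁ ∘ₗ s₁) = (i₂ ∘ₗ s₂) ∘ₗ θ.toLinearMap) :
    Nonempty (X ≃ₗ[K] Y) := by
  have e1 : ∀ v, θ (i₁ (s₁ v)) = i₂ (s₂ (θ v)) := fun v => congr($hθ v)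
  have a1 : ∀ x, s₁ (i₁ x) = x := fun x => congr($h₁ x)
  have a2 : ∀ y, s₂ (i₂ y) = y := fun y => congr($h₂ y)
  refine ⟨LinearEquiv.ofLinear (s₂ ∘ₗ θ.toLinearMap ∘ₗ i₁) (s₁ ∘ₗ θ.symm.toLinearMap ∘ₗ i₂) ?_ ?_⟩
  · ext y
    simp only [LinearMap.comp_apply, LinearEquiv.coe_coe, LinearMap.id_apply]
    -- s₂ θ i₁ s₁ θ⁻¹ i₂ y = s₂ i₂ s₂ θ θ⁻¹ i₂ y
    rw [e1, LinearEquiv.apply_symm_apply, a2, a2]
  · ext x
    simp only [LinearMap.comp_apply, LinearEquiv.coe_coe, LinearMap.id_apply]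
    have : i₂ (s₂ (θ (i₁ x))) = θ (i₁ x) := by rw [← e1, a1]
    rw [this, LinearEquiv.symm_apply_apply, a1]


/-- Endomorphisms with the same matrix in two bases are intertwined by the basis change. -/
theorem equiv_comp_eq_of_toMatrix_eq {K : Type*} [CommRing K] {V₁ V₂ ι : Type*}
    [Fintype ι] [DecidableEq ι]
    [AddCommGroup V₁] [Module K V₁] [AddCommGroup V₂] [Module K V₂]
    (b₁ : Module.Basis ι K V₁) (b₂ : Module.Basis ι K V₂) (E₁ : V₁ →ₗ[K] V₁) (E₂ : V₂ →ₗ[K] V₂)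
    (h : LinearMap.toMatrix b₁ b₁ E₁ = LinearMap.toMatrix b₂ b₂ E₂) :
    (b₁.equiv b₂ (Equiv.refl ι)).toLinearMap ∘ₗ E₁ =
      E₂ ∘ₗ (b₁.equiv b₂ (Equiv.refl ι)).toLinearMap := by
  set M := LinearMap.toMatrix b₁ b₁ E₁ with hM
  have h1 : E₁ = Matrix.toLin b₁ b₁ M := by rw [hM, Matrix.toLin_toMatrix]
  have h2 : E₂ = Matrix.toLin b₂ b₂ M := by rw [h, Matrix.toLin_toMatrix]
  rw [h1, h2]
  apply b₁.ext
  intro i
  simp only [LinearMap.comp_apply, LinearEquiv.coe_coe, Module.Basis.equiv_apply,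
    Equiv.refl_apply, Matrix.toLin_self, map_sum, map_smul]


/-- Base changes (to a common ring `K`) of two retracts of `R₁^n`, `R₂^n` whose idempotents have the
same matrix over `K` are isomorphic. -/
theorem nonempty_baseChange_linearEquiv_of_matrix_eq {R₁ R₂ K : Type*} [CommRing R₁] [CommRing R₂]
    [CommRing K] [Algebra R₁ K] [Algebra R₂ K] (n : ℕ)
    {X₁ : Type*} [AddCommGroup X₁] [Module R₁ X₁] {X₂ : Type*} [AddCommGroup X₂] [Module R₂ X₂]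
    (i₁ : X₁ →ₗ[R₁] (Fin n → R₁)) (s₁ : (Fin n → R₁) →ₗ[R₁] X₁) (h₁ : s₁ ∘ₗ i₁ = LinearMap.id)
    (i₂ : X₂ →ₗ[R₂] (Fin n → R₂)) (s₂ : (Fin n → R₂) →ₗ[R₂] X₂) (h₂ : s₂ ∘ₗ i₂ = LinearMap.id)
    (hM : (LinearMap.toMatrix' (i₁ ∘ₗ s₁)).map (algebraMap R₁ K) =
      (LinearMap.toMatrix' (i₂ ∘ₗ s₂)).map (algebraMap R₂ K)) :
    Nonempty ((K ⊗[R₁] X₁) ≃ₗ[K] (K ⊗[R₂] X₂)) := by
  classical
  let b₁ := Algebra.TensorProduct.basis K (Pi.basisFun R₁ (Fin n))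
  let b₂ := Algebra.TensorProduct.basis K (Pi.basisFun R₂ (Fin n))
  refine nonempty_linearEquiv_of_splittings (b₁.equiv b₂ (Equiv.refl _))
    (i₁.baseChange K) (s₁.baseChange K) ?_ (i₂.baseChange K) (s₂.baseChange K) ?_ ?_
  · rw [← LinearMap.baseChange_comp, h₁, LinearMap.baseChange_id]
  · rw [← LinearMap.baseChange_comp, h₂, LinearMap.baseChange_id]
  · rw [← LinearMap.baseChange_comp, ← LinearMap.baseChange_comp]
    apply equiv_comp_eq_of_toMatrix_eq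
    rw [LinearMap.toMatrix_baseChange, LinearMap.toMatrix_baseChange,
      LinearMap.toMatrix_eq_toMatrix', LinearMap.toMatrix_eq_toMatrix']
    exact hM

end Groth.Agent.Lib.Helper90.EtaleNbhd
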