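import Groth.Agent.Lib.Helper90.EtaleNbhd

set_option autoImplicit false
set_option linter.style.haveILetI false
universe u

namespace Groth.Agent.Lib.Helper90.EtaleNbhd

/-- Etale neighbourhood in which a given element (invertible along the section) becomes a unit. -/
theorem exists_etale_nbhd_of_algHom_quotient_of_isUnit {A : Type u} [CommRing A] (I : Ideal A)
    (D : Type u) [CommRing D] [Algebra A D] [Algebra.Etale A D] (φ : D →ₐ[A] A ⧸ I)
    (a : D) (ha : IsUnit (φ a)) :
    ∃ (A' : Type u) (_ : CommRing A') (_ : Algebra A A') (_ : Algebra.Etale A A')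
      (ι : D →ₐ[A] A'),
      Function.Bijective (algebraMap (A ⧸ I) (A' ⧸ I.map (algebraMap A A'))) ∧
      (∀ d, Ideal.Quotient.mk (I.map (algebraMap A A')) (ι d) =
        algebraMap (A ⧸ I) (A' ⧸ I.map (algebraMap A A')) (φ d)) ∧ IsUnit (ι a) := by
  haveI : Algebra.Etale D (Localization.Away a) := Algebra.Etale.of_isLocalizationAway a
  haveI : Algebra.Etale A (Localization.Away a) := Algebra.Etale.comp A D (Localization.Away a)
  let χ : Localization.Away a →ₐ[A] A ⧸ I := IsLocalization.Away.liftAlgHom a (f := φ) ha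
  have hχ : ∀ d, χ (algebraMap D (Localization.Away a) d) = φ d := fun d =>
    IsLocalization.Away.lift_eq a ha d
  obtain ⟨A', _, _, hA', ι, hbij, hι⟩ :=
    exists_etale_nbhd_of_algHom_quotient I (Localization.Away a) χ
  refine ⟨A', inferInstance, inferInstance, hA',
    ι.comp (IsScalarTower.toAlgHom A D (Localization.Away a)), hbij, fun d => ?_, ?_⟩
  · rw [← hχ d]
    exact hι _
  · exact (IsLocalization.Away.algebraMap_isUnit (S := Localization.Away a) a).map ι

end Groth.Agent.Lib.Helper90.EtaleNbhd
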