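import Mathlib

set_option linter.style.haveILetI false
set_option linter.unusedSectionVars false

namespace Groth.Agent.Lib.Helper90.FLCount

open Function

universe u v w

section Count

variable {W : Type u} [CommRing W]

/-- the submodule `ϖ^n Z` -/
def pn (ϖ : W) (n : ℕ) (Z : Type*) [AddCommGroup Z] [Module W Z] : Submodule W Z :=
  LinearMap.range (ϖ ^ n • (LinearMap.id : Z →ₗ[W] Z))

theorem mem_pn {ϖ : W} {n : ℕ} {Z : Type*} [AddCommGroup Z] [Module W Z] {z : Z} :
    z ∈ pn ϖ n Z ↔ ∃ z', ϖ ^ n • z' = z := by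
  simp [pn, LinearMap.mem_range]

/-- semilinear bijections preserve length -/
theorem length_eq_of_semilinear_bijective {σ : W →+* W} [RingHomSurjective σ]
    {M M' : Type*} [AddCommGroup M] [Module W M] [AddCommGroup M'] [Module W M']
    (f : M →ₛₗ[σ] M') (hf : Bijective f) : Module.length W M = Module.length W M' := by
  apply WithBot.coe_injective
  rw [Module.coe_length, Module.coe_length,
    Order.krullDim_eq_of_orderIso (Submodule.orderIsoMapComapOfBijective f hf)]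

/-- if `S₁ ≤ S₂` and the quotient by `S₂` is at least as long, then `S₂ ≤ S₁`. -/
theorem le_of_length_quotient_le {Y : Type*} [AddCommGroup Y] [Module W Y]
    (hY : IsFiniteLength W Y) (S₁ S₂ : Submodule W Y) (h12 : S₁ ≤ S₂)
    (hlen : Module.length W (Y ⧸ S₁) ≤ Module.length W (Y ⧸ S₂)) : S₂ ≤ S₁ := by
  haveI : IsNoetherian W Y := (isFiniteLength_iff_isNoetherian_isArtinian.mp hY).1
  haveI : IsArtinian W Y := (isFiniteLength_iff_isNoetherian_isArtinian.mp hY).2
  by_contra hne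
  have hp : S₂.map S₁.mkQ ≠ ⊥ := by
    intro h0
    apply hne
    intro a ha
    have : S₁.mkQ a ∈ S₂.map S₁.mkQ := Submodule.mem_map_of_mem ha
    rw [h0, Submodule.mem_bot, Submodule.mkQ_apply, Submodule.Quotient.mk_eq_zero] at this
    exact this
  have hlt := Submodule.length_quotient_lt (S₂.map S₁.mkQ) hp
  have e := (Submodule.quotientQuotientEquivQuotientSup S₁ S₂).length_eq
  rw [sup_eq_right.mpr h12] at e
  rw [e] at hlt
  exact absurd hlen (not_le.mpr hlt)

theorem length_quot_prod (ϖ : W) (n : ℕ) (M₀ Y : Type*) [AddCommGroup M₀] [Module W M₀]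
    [AddCommGroup Y] [Module W Y] :
    Module.length W ((M₀ × Y) ⧸ pn ϖ n (M₀ × Y)) =
      Module.length W (Y ⧸ pn ϖ n Y) + Module.length W (M₀ ⧸ pn ϖ n M₀) := by
  have h1 : pn ϖ n Y ≤ (pn ϖ n (M₀ × Y)).comap (LinearMap.inr W M₀ Y) := by
    intro y hy
    obtain ⟨y', rfl⟩ := mem_pn.mp hy
    exact mem_pn.mpr ⟨(0, y'), by simp⟩
  have h2 : pn ϖ n (M₀ × Y) ≤ (pn ϖ n M₀).comap (LinearMap.fst W M₀ Y) := by
    intro x hx
    obtain ⟨x', rfl⟩ := mem_pn.mp hx
    exact mem_pn.mpr ⟨x'.1, by simp⟩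
  refine Module.length_eq_add_of_exact (Submodule.mapQ _ _ (LinearMap.inr W M₀ Y) h1)
    (Submodule.mapQ _ _ (LinearMap.fst W M₀ Y) h2) ?_ ?_ ?_
  · rw [← LinearMap.ker_eq_bot, LinearMap.ker_eq_bot']
    intro y hy
    obtain ⟨y, rfl⟩ := Submodule.Quotient.mk_surjective _ y
    rw [Submodule.mapQ_apply, Submodule.Quotient.mk_eq_zero] at hy
    obtain ⟨x', hx'⟩ := mem_pn.mp hy
    rw [Submodule.Quotient.mk_eq_zero]
    exact mem_pn.mpr ⟨x'.2, by simpa using congrArg Prod.snd hx'⟩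
  · intro m
    obtain ⟨m, rfl⟩ := Submodule.Quotient.mk_surjective _ m
    exact ⟨Submodule.Quotient.mk (m, 0), rfl⟩
  · intro x
    obtain ⟨⟨m, y⟩, rfl⟩ := Submodule.Quotient.mk_surjective _ x
    constructor
    · intro hx
      rw [Submodule.mapQ_apply, Submodule.Quotient.mk_eq_zero] at hx
      obtain ⟨m', hm'⟩ := mem_pn.mp hx
      refine ⟨Submodule.Quotient.mk y, ?_⟩
      rw [Submodule.mapQ_apply, eq_comm, ← sub_eq_zero, ← Submodule.Quotient.mk_sub,
        Submodule.Quotient.mk_eq_zero]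
      refine mem_pn.mpr ⟨(m', 0), ?_⟩
      simp only [LinearMap.fst_apply] at hm'
      simp [hm']
    · rintro ⟨y', hy'⟩
      obtain ⟨y', rfl⟩ := Submodule.Quotient.mk_surjective _ y'
      rw [← hy', Submodule.mapQ_apply, Submodule.mapQ_apply]
      simp

theorem count {σ : W →+* W} [RingHomSurjective σ] (ϖ : W) (hσϖ : σ ϖ = ϖ)
    {M₀ Y : Type*} [AddCommGroup M₀] [Module W M₀] [AddCommGroup Y] [Module W Y]
    (hM : IsFiniteLength W M₀) (hY : IsFiniteLength W Y)
    (ι : Y →ₗ[W] M₀ × Y) (Φ : M₀ × Y →ₛₗ[σ] M₀) (hΦ : Surjective Φ)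
    (hker : ∀ x, Φ x = 0 → x ∈ LinearMap.range ι) (n : ℕ) (z : Y)
    (hz : ι z ∈ pn ϖ n (M₀ × Y)) : z ∈ pn ϖ n Y := by
  set PX := pn ϖ n (M₀ × Y) with hPX
  set PY := pn ϖ n Y with hPY
  set PM := pn ϖ n M₀ with hPM
  set S := LinearMap.ker Φ ⊔ PX with hS
  set S' := LinearMap.range ι ⊔ PX with hS'
  have hSS' : S ≤ S' := sup_le_sup_right (fun x hx => hker x (LinearMap.mem_ker.mp hx)) _
  have hσn : σ (ϖ ^ n) = ϖ ^ n := by rw [map_pow, hσϖ]
  -- (a)
  have hScomap : S ≤ PM.comap Φ := by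
    refine sup_le ?_ ?_
    · intro x hx
      rw [Submodule.mem_comap, LinearMap.mem_ker.mp hx]
      exact PM.zero_mem
    · intro x hx
      obtain ⟨x', rfl⟩ := mem_pn.mp hx
      rw [Submodule.mem_comap, map_smulₛₗ, hσn]
      exact mem_pn.mpr ⟨_, rfl⟩
  have hbij : Bijective (Submodule.mapQ S PM Φ hScomap) := by
    constructor
    · rw [← LinearMap.ker_eq_bot, LinearMap.ker_eq_bot']
      intro x hx
      obtain ⟨x, rfl⟩ := Submodule.Quotient.mk_surjective _ x
      rw [Submodule.mapQ_apply, Submodule.Quotient.mk_eq_zero] at hx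
      obtain ⟨m, hm⟩ := mem_pn.mp hx
      obtain ⟨x', rfl⟩ := hΦ m
      rw [Submodule.Quotient.mk_eq_zero]
      have h1 : x - ϖ ^ n • x' ∈ LinearMap.ker Φ := by
        rw [LinearMap.mem_ker, map_sub, map_smulₛₗ, hσn, hm, sub_self]
      have : x = (x - ϖ ^ n • x') + ϖ ^ n • x' := by abel
      rw [this]
      exact Submodule.add_mem_sup h1 (mem_pn.mpr ⟨_, rfl⟩)
    · intro m
      obtain ⟨m, rfl⟩ := Submodule.Quotient.mk_surjective _ m
      obtain ⟨x, rfl⟩ := hΦ m
      exact ⟨Submodule.Quotient.mk x, rfl⟩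
  have ha : Module.length W ((M₀ × Y) ⧸ S) = Module.length W (M₀ ⧸ PM) :=
    length_eq_of_semilinear_bijective _ hbij
  -- (b)
  have hb : Module.length W ((M₀ × Y) ⧸ S') ≤ Module.length W ((M₀ × Y) ⧸ S) := by
    refine Module.length_le_of_surjective (Submodule.mapQ S S' LinearMap.id hSS') ?_
    intro x
    obtain ⟨x, rfl⟩ := Submodule.Quotient.mk_surjective _ x
    exact ⟨Submodule.Quotient.mk x, rfl⟩
  -- (c)
  set ψ : Y →ₗ[W] (M₀ × Y) ⧸ PX := PX.mkQ ∘ₗ ι with hψ
  have hkerψ : LinearMap.ker ψ = PX.comap ι := by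
    rw [hψ, LinearMap.ker_comp, Submodule.ker_mkQ]
  have hrangeψ : LinearMap.range ψ = (LinearMap.range ι).map PX.mkQ := by
    rw [hψ, LinearMap.range_comp]
  have hc1 : Module.length W ((M₀ × Y) ⧸ PX) = Module.length W (LinearMap.range ψ) +
      Module.length W (((M₀ × Y) ⧸ PX) ⧸ LinearMap.range ψ) :=
    Module.length_eq_add_of_exact (LinearMap.range ψ).subtype (LinearMap.range ψ).mkQ
      (Submodule.subtype_injective _) (Submodule.mkQ_surjective _)
      (LinearMap.exact_subtype_mkQ _)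
  have hc2 : Module.length W (LinearMap.range ψ) = Module.length W (Y ⧸ PX.comap ι) := by
    rw [← hkerψ]
    exact (LinearMap.quotKerEquivRange ψ).length_eq.symm
  have hc3 : Module.length W (((M₀ × Y) ⧸ PX) ⧸ LinearMap.range ψ) =
      Module.length W ((M₀ × Y) ⧸ S') := by
    rw [hrangeψ, hS', sup_comm]
    exact (Submodule.quotientQuotientEquivQuotientSup PX (LinearMap.range ι)).length_eq
  -- (d)
  have hd := length_quot_prod ϖ n M₀ Y
  have hfin : Module.length W (M₀ ⧸ PM) ≠ ⊤ := by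
    rw [Module.length_ne_top_iff]
    exact hM.of_surjective (f := PM.mkQ) (Submodule.mkQ_surjective _)
  have hle : Module.length W (Y ⧸ PY) ≤ Module.length W (Y ⧸ PX.comap ι) := by
    have h1 : Module.length W (Y ⧸ PY) + Module.length W (M₀ ⧸ PM) ≤
        Module.length W (Y ⧸ PX.comap ι) + Module.length W (M₀ ⧸ PM) := by
      rw [← hd, hc1, hc2, hc3]
      exact add_le_add_right (hb.trans ha.le) _
    exact (ENat.add_le_add_iff_right hfin).mp h1
  have h12 : PY ≤ PX.comap ι := by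
    intro y hy
    obtain ⟨y', rfl⟩ := mem_pn.mp hy
    rw [Submodule.mem_comap, map_smul]
    exact mem_pn.mpr ⟨_, rfl⟩
  exact le_of_length_quotient_le hY PY (PX.comap ι) h12 hle hz

end Count

end Groth.Agent.Lib.Helper90.FLCount
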