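import Mathlib

set_option linter.style.haveILetI false
set_option linter.unusedSectionVars false

namespace Groth.Agent.Lib.Helper90.FLPure

open DirectSum

universe u v

variable {R : Type u} [CommRing R] [IsDomain R] [IsDiscreteValuationRing R]
variable {N : Type v} [AddCommGroup N] [Module R N]

theorem exists_pow_smul_eq_zero (ϖ : R) (hϖ : Irreducible ϖ) (hN : IsFiniteLength R N) :
    ∃ n : ℕ, ∀ x : N, ϖ ^ n • x = 0 := by
  haveI : IsNoetherian R N := (isFiniteLength_iff_isNoetherian_isArtinian.mp hN).1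
  haveI : IsArtinian R N := (isFiniteLength_iff_isNoetherian_isArtinian.mp hN).2
  obtain ⟨n, hn⟩ := IsArtinian.monotone_stabilizes (R := R) (M := N)
    ⟨fun n => OrderDual.toDual ((Ideal.span {ϖ} ^ n) • (⊤ : Submodule R N)), by
      intro a b hab
      change (Ideal.span {ϖ} ^ b) • (⊤ : Submodule R N) ≤ (Ideal.span {ϖ} ^ a) • ⊤
      exact Submodule.smul_mono_left (Ideal.pow_le_pow_right hab)⟩
  have h2 : (Ideal.span {ϖ} ^ n) • (⊤ : Submodule R N) =
        (Ideal.span {ϖ} ^ (n + 1)) • (⊤ : Submodule R N) :=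
    congrArg OrderDual.ofDual (hn (n + 1) (Nat.le_succ n))
  have h1 : (Ideal.span {ϖ} ^ n) • (⊤ : Submodule R N) ≤
      Ideal.span {ϖ} • ((Ideal.span {ϖ} ^ n) • (⊤ : Submodule R N)) := by
    calc (Ideal.span {ϖ} ^ n) • (⊤ : Submodule R N)
        = (Ideal.span {ϖ} ^ (n + 1)) • (⊤ : Submodule R N) := h2
      _ ≤ Ideal.span {ϖ} • ((Ideal.span {ϖ} ^ n) • (⊤ : Submodule R N)) := by
          rw [pow_succ', Submodule.mul_smul]
  have hjac : Ideal.span {ϖ} ≤ Ideal.jacobson (⊥ : Ideal R) := by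
    rw [IsLocalRing.jacobson_eq_maximalIdeal ⊥ bot_ne_top,
      (IsDiscreteValuationRing.irreducible_iff_uniformizer ϖ).mp hϖ]
  have h3 : (Ideal.span {ϖ} ^ n) • (⊤ : Submodule R N) = ⊥ :=
    Submodule.eq_bot_of_le_smul_of_le_jacobson_bot _ _ (IsNoetherian.noetherian _) h1 hjac
  refine ⟨n, fun x => ?_⟩
  have hx : ϖ ^ n • x ∈ (Ideal.span {ϖ} ^ n) • (⊤ : Submodule R N) :=
    Submodule.smul_mem_smul (Ideal.pow_mem_pow (Ideal.mem_span_singleton_self ϖ) n) Submodule.mem_top
  rw [h3] at hx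
  exact (Submodule.mem_bot R).mp hx

/-- Kaplansky: a pure submodule of a finite length module over a DVR is a direct summand. -/
theorem exists_isCompl_of_pure (ϖ : R) (hϖ : Irreducible ϖ) (hN : IsFiniteLength R N)
    (N' : Submodule R N)
    (hpure : ∀ (n : ℕ) (x : N), ϖ ^ n • x ∈ N' → ∃ y ∈ N', ϖ ^ n • x = ϖ ^ n • y) :
    ∃ Q : Submodule R N, IsCompl N' Q := by
  haveI : IsNoetherian R N := (isFiniteLength_iff_isNoetherian_isArtinian.mp hN).1
  obtain ⟨n₀, hn₀⟩ := exists_pow_smul_eq_zero ϖ hϖ hN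
  have hϖ0 : ϖ ≠ 0 := hϖ.ne_zero
  have hT : Module.IsTorsion R (N ⧸ N') := by
    intro x
    obtain ⟨x, rfl⟩ := Submodule.Quotient.mk_surjective _ x
    refine ⟨⟨ϖ ^ n₀, mem_nonZeroDivisors_of_ne_zero (pow_ne_zero _ hϖ0)⟩, ?_⟩
    change ϖ ^ n₀ • (Submodule.Quotient.mk x : N ⧸ N') = 0
    rw [← Submodule.Quotient.mk_smul, hn₀ x, Submodule.Quotient.mk_zero]
  obtain ⟨ι, _, p, hp, e, ⟨E⟩⟩ := Module.equiv_directSum_of_isTorsion hT
  classical
  -- generators
  let g : ι → N ⧸ N' := fun i => E.symm (DirectSum.lof R ι (fun i => R ⧸ R ∙ p i ^ e i) i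
    (Submodule.Quotient.mk 1))
  have hlift : ∀ i, ∃ q : N, N'.mkQ q = g i ∧ (p i ^ e i) • q = 0 := by
    intro i
    obtain ⟨q, hq⟩ := Submodule.mkQ_surjective N' (g i)
    have h0 : (p i ^ e i) • g i = 0 := by
      change (p i ^ e i) • E.symm _ = 0
      rw [← map_smul, ← map_smul, ← Submodule.Quotient.mk_smul, smul_eq_mul, mul_one]
      have : (Submodule.Quotient.mk (p i ^ e i) : R ⧸ R ∙ p i ^ e i) = 0 :=
        (Submodule.Quotient.mk_eq_zero _).mpr (Submodule.mem_span_singleton_self _)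
      rw [this, map_zero, map_zero]
    have h1 : (p i ^ e i) • q ∈ N' := by
      rw [← Submodule.Quotient.mk_eq_zero, Submodule.Quotient.mk_smul]
      change (p i ^ e i) • N'.mkQ q = 0
      rw [hq, h0]
    obtain ⟨u, hu⟩ := IsDiscreteValuationRing.associated_of_irreducible R (hp i) hϖ
    have h2 : ϖ ^ e i • q ∈ N' := by
      rw [← hu, mul_pow, mul_comm, mul_smul]
      exact N'.smul_mem _ h1
    obtain ⟨y, hy, hy'⟩ := hpure (e i) q h2
    refine ⟨q - y, ?_, ?_⟩
    · rw [map_sub, hq, (Submodule.mkQ_apply N' y), (Submodule.Quotient.mk_eq_zero N').mpr hy, sub_zero]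
    · have h3 : ϖ ^ e i • (q - y) = 0 := by rw [smul_sub, hy', sub_self]
      have h4 : p i ^ e i = ϖ ^ e i * ((u⁻¹ : Rˣ) : R) ^ e i := by
        rw [← hu, mul_pow, mul_assoc, ← mul_pow, Units.mul_inv, one_pow, mul_one]
      rw [h4, mul_comm, mul_smul, h3, smul_zero]
  choose q hq hq0 using hlift
  let si : ∀ i, (R ⧸ R ∙ p i ^ e i) →ₗ[R] N := fun i =>
    (R ∙ p i ^ e i).liftQ (LinearMap.toSpanSingleton R N (q i)) (by
      rw [Submodule.span_le]
      rintro _ rfl
      change LinearMap.toSpanSingleton R N (q i) (p i ^ e i) = 0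
      rw [LinearMap.toSpanSingleton_apply]
      exact hq0 i)
  let s : (N ⧸ N') →ₗ[R] N := (DirectSum.toModule R ι N si) ∘ₗ E.toLinearMap
  have hπs : ∀ t, N'.mkQ (s t) = t := by
    have : N'.mkQ ∘ₗ (DirectSum.toModule R ι N si) = E.symm.toLinearMap := by
      apply DirectSum.linearMap_ext
      intro i
      apply Submodule.linearMap_qext
      apply LinearMap.ext_ring
      simp only [LinearMap.coe_comp, Function.comp_apply, Submodule.mkQ_apply,
        DirectSum.toModule_lof, LinearEquiv.coe_coe]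
      change N'.mkQ (si i (Submodule.Quotient.mk 1)) = g i
      change N'.mkQ ((R ∙ p i ^ e i).liftQ (LinearMap.toSpanSingleton R N (q i)) _
        (Submodule.Quotient.mk 1)) = g i
      rw [Submodule.liftQ_apply, LinearMap.toSpanSingleton_apply, one_smul, hq i]
    intro t
    have h5 := congrArg (fun f => f (E t)) this
    simp only [LinearMap.coe_comp, Function.comp_apply, LinearEquiv.coe_coe,
      LinearEquiv.symm_apply_apply] at h5
    exact h5
  refine ⟨LinearMap.range s, ?_⟩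
  constructor
  · rw [Submodule.disjoint_def]
    rintro x hx ⟨t, rfl⟩
    have : t = 0 := by
      rw [← hπs t, Submodule.mkQ_apply, (Submodule.Quotient.mk_eq_zero N').mpr hx]
    rw [this, map_zero]
  · rw [codisjoint_iff, eq_top_iff]
    rintro x -
    have hx : x - s (N'.mkQ x) ∈ N' := by
      rw [← Submodule.Quotient.mk_eq_zero, ← Submodule.mkQ_apply, map_sub, hπs, sub_self]
    have : x = (x - s (N'.mkQ x)) + s (N'.mkQ x) := by abel
    rw [this]
    exact Submodule.add_mem_sup hx ⟨_, rfl⟩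

end Groth.Agent.Lib.Helper90.FLPure
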