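import Mathlib
import Groth.Agent.Lib.Helper90.FLPure
import Groth.Agent.Lib.Helper90.FLCount

set_option linter.style.haveILetI false
set_option linter.unusedSectionVars false

namespace Groth.Agent.Lib.Helper90.FLMain

open Function FLCount

universe u v

section Setup

variable {W : Type u} [CommRing W] (r : ℕ)
  (N : ℕ → Type v) [∀ i, AddCommGroup (N i)] [∀ i, Module W (N i)]

/-- `N_1 × ⋯ × N_r` -/
abbrev Yt : Type v := (i : Fin r) → N (i.val + 1)

/-- extension by zero of a family indexed by `Fin r` -/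
def extL (i : ℕ) : Yt r N →ₗ[W] N (i + 1) :=
  if h : i < r then (LinearMap.proj (⟨i, h⟩ : Fin r) : Yt r N →ₗ[W] N (i + 1)) else 0

theorem extL_of_lt {i : ℕ} (h : i < r) (z : Yt r N) : extL (W := W) r N i z = z ⟨i, h⟩ := by
  simp [extL, h]

theorem extL_of_not_lt {i : ℕ} (h : ¬ i < r) (z : Yt r N) : extL (W := W) r N i z = 0 := by
  simp [extL, h]

variable {N} (α : ∀ i, N (i + 1) →ₗ[W] N i) (ϖ : W)

/-- the map `ι` -/
def iota : Yt r N →ₗ[W] N 0 × Yt r N :=
  LinearMap.prod ((α 0) ∘ₗ extL r N 0)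
    (LinearMap.pi (fun j : Fin r => (α (j.val + 1)) ∘ₗ extL r N (j.val + 1) - ϖ • LinearMap.proj j))

theorem iota_fst (z : Yt r N) : (iota r α ϖ z).1 = α 0 (extL (W := W) r N 0 z) := rfl

theorem iota_snd (z : Yt r N) (j : Fin r) :
    (iota r α ϖ z).2 j = α (j.val + 1) (extL (W := W) r N (j.val + 1) z) - ϖ • z j := rfl

variable {σ : W →+* W} (φ : ∀ i, N i →ₛₗ[σ] N 0)

/-- the map `Φ` -/
def Phi : N 0 × Yt r N →ₛₗ[σ] N 0 :=
  (φ 0).comp (LinearMap.fst W (N 0) (Yt r N)) +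
    ∑ j : Fin r, (φ (j.val + 1)).comp ((LinearMap.proj j : Yt r N →ₗ[W] N (j.val + 1)).comp
      (LinearMap.snd W (N 0) (Yt r N)))

theorem Phi_apply (x : N 0 × Yt r N) :
    Phi r φ x = φ 0 x.1 + ∑ j : Fin r, φ (j.val + 1) (x.2 j) := by
  simp [Phi, LinearMap.sum_apply]

/-- a family to an element of `X` -/
def toX (y : (i : ℕ) → N i) : N 0 × Yt r N := (y 0, fun j => y (j.val + 1))

/-- an element of `X` to a family -/
def ofX (x : N 0 × Yt r N) : (i : ℕ) → N i
  | 0 => x.1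
  | (j + 1) => extL (W := W) r N j x.2

theorem toX_ofX (x : N 0 × Yt r N) : toX r (ofX (W := W) r x) = x := by
  refine Prod.ext rfl ?_
  funext j
  change extL (W := W) r N j.val x.2 = x.2 j
  rw [extL_of_lt r N j.2]

theorem ofX_eq_zero (x : N 0 × Yt r N) (i : ℕ) (hi : r < i) : ofX (W := W) r x i = 0 := by
  cases i with
  | zero => omega
  | succ j =>
    change extL (W := W) r N j x.2 = 0
    exact extL_of_not_lt r N (by omega) _

theorem Phi_toX (y : (i : ℕ) → N i) :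
    Phi r φ (toX r y) = (Finset.range (r + 1)).sum (fun i => φ i (y i)) := by
  rw [Phi_apply, Finset.sum_range_succ', add_comm, Finset.sum_range]
  rfl

end Setup

section PnLemmas

variable {W : Type u} [CommRing W]

theorem mem_pn_prod {ϖ : W} {n : ℕ} {M Y : Type*} [AddCommGroup M] [Module W M]
    [AddCommGroup Y] [Module W Y] {x : M × Y}
    (h1 : x.1 ∈ pn ϖ n M) (h2 : x.2 ∈ pn ϖ n Y) : x ∈ pn ϖ n (M × Y) := by
  obtain ⟨a, ha⟩ := mem_pn.mp h1
  obtain ⟨b, hb⟩ := mem_pn.mp h2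
  exact mem_pn.mpr ⟨(a, b), Prod.ext ha hb⟩

theorem mem_pn_pi {ϖ : W} {n : ℕ} {ι : Type*} {Z : ι → Type*} [∀ i, AddCommGroup (Z i)]
    [∀ i, Module W (Z i)] {y : ∀ i, Z i} (h : ∀ i, y i ∈ pn ϖ n (Z i)) :
    y ∈ pn ϖ n (∀ i, Z i) := by
  choose a ha using fun i => mem_pn.mp (h i)
  exact mem_pn.mpr ⟨a, funext ha⟩

theorem pn_pi_apply {ϖ : W} {n : ℕ} {ι : Type*} {Z : ι → Type*} [∀ i, AddCommGroup (Z i)]
    [∀ i, Module W (Z i)] {y : ∀ i, Z i} (h : y ∈ pn ϖ n (∀ i, Z i)) (i : ι) :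
    y i ∈ pn ϖ n (Z i) := by
  obtain ⟨a, rfl⟩ := mem_pn.mp h
  exact mem_pn.mpr ⟨a i, rfl⟩

end PnLemmas

section Main

variable {W : Type u} [CommRing W] [IsDomain W] [IsDiscreteValuationRing W]
  {σ : W →+* W} [RingHomSurjective σ] (ϖ : W) (hϖ : Irreducible ϖ) (hσϖ : σ ϖ = ϖ)
  (r : ℕ) {N : ℕ → Type v} [∀ i, AddCommGroup (N i)] [∀ i, Module W (N i)]
  (hfl : ∀ i, IsFiniteLength W (N i))
  (α : ∀ i, N (i + 1) →ₗ[W] N i)
  (φ : ∀ i, N i →ₛₗ[σ] N 0)
  (hsurj : ∀ m : N 0, ∃ y : (i : ℕ) → N i, (∀ i, r < i → y i = 0) ∧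
      (Finset.range (r + 1)).sum (fun i => φ i (y i)) = m)
  (hker : ∀ y : (i : ℕ) → N i, (∀ i, r < i → y i = 0) →
      (Finset.range (r + 1)).sum (fun i => φ i (y i)) = 0 →
        ∃ z : (i : ℕ) → N (i + 1), (∀ i, r ≤ i → z i = 0) ∧
          y 0 = α 0 (z 0) ∧ ∀ i, y (i + 1) = α (i + 1) (z (i + 1)) - ϖ • z i)

include hsurj in
theorem Phi_surjective : Surjective (Phi r φ) := by
  intro m
  obtain ⟨y, -, hy⟩ := hsurj m
  exact ⟨toX r y, by rw [Phi_toX, hy]⟩

include hker in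
theorem ker_Phi_le (x : N 0 × Yt r N) (hx : Phi r φ x = 0) :
    x ∈ LinearMap.range (iota r α ϖ) := by
  obtain ⟨z, hz0, hz1, hz2⟩ := hker (ofX (W := W) r x) (ofX_eq_zero r x)
    (by rw [← Phi_toX, toX_ofX, hx])
  have hext : ∀ i, extL (W := W) r N i (fun j : Fin r => z j.val) = z i := by
    intro i
    by_cases h : i < r
    · rw [extL_of_lt r N h]
    · rw [extL_of_not_lt r N h, hz0 i (not_lt.mp h)]
  refine ⟨fun j => z j.val, ?_⟩
  refine Prod.ext ?_ ?_
  · rw [iota_fst, hext]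
    exact hz1.symm
  · funext j
    rw [iota_snd, hext]
    have := hz2 j.val
    change extL (W := W) r N j.val x.2 = _ at this
    rw [extL_of_lt r N j.2] at this
    exact this.symm

theorem isFiniteLength_Yt (hfl : ∀ i, IsFiniteLength W (N i)) : IsFiniteLength W (Yt r N) := by
  haveI : ∀ j : Fin r, IsNoetherian W (N (j.val + 1)) := fun j =>
    (isFiniteLength_iff_isNoetherian_isArtinian.mp (hfl _)).1
  haveI : ∀ j : Fin r, IsArtinian W (N (j.val + 1)) := fun j =>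
    (isFiniteLength_iff_isNoetherian_isArtinian.mp (hfl _)).2
  exact isFiniteLength_iff_isNoetherian_isArtinian.mpr ⟨inferInstance, inferInstance⟩

include hσϖ hfl hsurj hker in
theorem count_Yt (n : ℕ) (z : Yt r N) (hz : iota r α ϖ z ∈ pn ϖ n (N 0 × Yt r N)) :
    z ∈ pn ϖ n (Yt r N) :=
  count ϖ hσϖ (hfl 0) (isFiniteLength_Yt r hfl) (iota r α ϖ) (Phi r φ)
    (Phi_surjective r φ hsurj) (ker_Phi_le ϖ r α φ hker) n z hz

include hσϖ hfl hsurj hker in
theorem base (n i : ℕ) (hi : i < r) (u : N (i + 1)) (h1 : α i u ∈ pn ϖ n (N i))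
    (h2 : ϖ • u ∈ pn ϖ n (N (i + 1))) : u ∈ pn ϖ n (N (i + 1)) := by
  have key := count_Yt ϖ hσϖ r hfl α φ hsurj hker n (Pi.single (⟨i, hi⟩ : Fin r) u) ?_
  · have := pn_pi_apply key ⟨i, hi⟩
    rwa [Pi.single_eq_same] at this
  · refine mem_pn_prod ?_ (mem_pn_pi fun j => ?_)
    · rw [iota_fst]
      by_cases h0 : i = 0
      · subst h0
        rw [extL_of_lt r N hi, Pi.single_eq_same]
        exact h1
      · rw [extL_of_lt r N (by omega : 0 < r), Pi.single_eq_of_ne, map_zero]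
        · exact zero_mem _
        · intro e
          exact h0 (Fin.ext_iff.mp e).symm
    · rw [iota_snd]
      refine Submodule.sub_mem _ ?_ ?_
      · by_cases h : j.val + 1 = i
        · subst h
          rw [extL_of_lt r N hi, Pi.single_eq_same]
          exact h1
        · have h0 : extL (W := W) r N (j.val + 1) (Pi.single (⟨i, hi⟩ : Fin r) u) = 0 := by
            by_cases h' : j.val + 1 < r
            · rw [extL_of_lt r N h', Pi.single_eq_of_ne]
              intro e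
              exact h (Fin.ext_iff.mp e)
            · exact extL_of_not_lt r N h' _
          rw [h0, map_zero]
          exact zero_mem _
      · by_cases h : j = ⟨i, hi⟩
        · subst h
          rw [Pi.single_eq_same]
          exact h2
        · rw [Pi.single_eq_of_ne h, smul_zero]
          exact zero_mem _

include hϖ hσϖ hfl hsurj hker in
theorem key (n i : ℕ) (hi : i < r) (u : N (i + 1)) (h1 : α i u ∈ pn ϖ n (N i)) :
    u ∈ pn ϖ n (N (i + 1)) := by
  obtain ⟨e, he⟩ := FLPure.exists_pow_smul_eq_zero ϖ hϖ (hfl (i + 1))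
  have step : ∀ e : ℕ, ∀ u : N (i + 1), α i u ∈ pn ϖ n (N i) →
      ϖ ^ e • u ∈ pn ϖ n (N (i + 1)) → u ∈ pn ϖ n (N (i + 1)) := by
    intro e
    induction e with
    | zero =>
      intro u _ h
      simpa using h
    | succ e ih =>
      intro u hu h
      apply ih u hu
      apply base ϖ hσϖ r hfl α φ hsurj hker n i hi (ϖ ^ e • u)
      · rw [map_smul]
        exact Submodule.smul_mem _ _ hu
      · rw [smul_smul, ← pow_succ']
        exact h
  exact step e u h1 (by rw [he]; exact zero_mem _)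

include hϖ hσϖ hfl hsurj hker in
theorem main (i : ℕ) (hi : i < r) :
    Injective (α i) ∧ ∃ Q : Submodule W (N i), IsCompl (LinearMap.range (α i)) Q := by
  have hkey := key ϖ hϖ hσϖ r hfl α φ hsurj hker
  constructor
  · rw [← LinearMap.ker_eq_bot, LinearMap.ker_eq_bot']
    intro u hu
    obtain ⟨e, he⟩ := FLPure.exists_pow_smul_eq_zero ϖ hϖ (hfl (i + 1))
    have : u ∈ pn ϖ e (N (i + 1)) := hkey e i hi u (by rw [hu]; exact zero_mem _)
    obtain ⟨u', rfl⟩ := mem_pn.mp this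
    exact he u'
  · apply FLPure.exists_isCompl_of_pure ϖ hϖ (hfl i)
    intro n x hx
    obtain ⟨u, hu⟩ := hx
    have : u ∈ pn ϖ n (N (i + 1)) := hkey n i hi u (by rw [hu]; exact mem_pn.mpr ⟨x, rfl⟩)
    obtain ⟨u', rfl⟩ := mem_pn.mp this
    exact ⟨α i u', ⟨u', rfl⟩, by rw [← hu, map_smul]⟩

end Main

end Groth.Agent.Lib.Helper90.FLMain
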