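import Mathlib.RingTheory.Extension.Presentation.Core
import Mathlib.RingTheory.Localization.BaseChange
import Mathlib.RingTheory.Etale.Locus
import Mathlib.RingTheory.Localization.LocalizationLocalization

/-!
# Finitely presented algebras over a localization descend (helper90)
-/

set_option autoImplicit false
set_option linter.style.haveILetI false
universe u

open TensorProduct

namespace Groth.Agent.Lib.Helper90.FPDescent

section
variable {R₀ : Type*} [CommRing R₀] (M : Submonoid R₀) {R : Type*} [CommRing R] [Algebra R₀ R]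
  [IsLocalization M R] {S : Type*} [CommRing S] [Algebra R S]
  {ι σ : Type*}

/-- Rescale the relations of a presentation by a unit. -/
noncomputable def rescale (P : Algebra.Presentation R S ι σ) (u : R) (hu : IsUnit u) :
    Algebra.Presentation R S ι σ where
  __ := P.toGenerators
  relation i := MvPolynomial.C u * P.relation i
  span_range_relation_eq_ker := by
    rw [← P.span_range_relation_eq_ker]
    apply le_antisymm
    · rw [Ideal.span_le]
      rintro _ ⟨i, rfl⟩
      exact Ideal.mul_mem_left _ _ (Ideal.subset_span ⟨i, rfl⟩)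
    · rw [Ideal.span_le]
      rintro _ ⟨i, rfl⟩
      obtain ⟨v, rfl⟩ := hu
      have : P.relation i = MvPolynomial.C (↑v⁻¹ : R) * (MvPolynomial.C (v : R) * P.relation i) := by
        rw [← mul_assoc, ← MvPolynomial.C_mul]; simp
      rw [this]
      exact Ideal.mul_mem_left _ _ (Ideal.subset_span ⟨i, rfl⟩)

include M in
/-- Over a localization, every finite presentation can be rescaled to have coefficients in the
base ring. -/
theorem exists_hasCoeffs [Algebra R₀ S] [IsScalarTower R₀ R S] [Finite σ]
    (P : Algebra.Presentation R S ι σ) :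
    ∃ P' : Algebra.Presentation R S ι σ, P'.HasCoeffs R₀ := by
  classical
  obtain ⟨b, hb⟩ := IsLocalization.exist_integer_multiples_of_finset M P.finite_coeffs.toFinset
  refine ⟨rescale P (algebraMap R₀ R b) (IsLocalization.map_units R b), ⟨?_⟩⟩
  intro c hc
  simp only [Algebra.Presentation.coeffs, Set.mem_iUnion] at hc
  obtain ⟨i, hi⟩ := hc
  rw [Finset.mem_coe, MvPolynomial.mem_coeffs_iff] at hi
  obtain ⟨n, hn, rfl⟩ := hi
  change ((MvPolynomial.C (algebraMap R₀ R b) * P.relation i).coeff n) ∈ _
  rw [MvPolynomial.coeff_C_mul]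
  by_cases h0 : (P.relation i).coeff n = 0
  · rw [h0, mul_zero]; exact ⟨0, map_zero _⟩
  · have hmem : (P.relation i).coeff n ∈ P.finite_coeffs.toFinset := by
      rw [Set.Finite.mem_toFinset]
      refine P.coeffs_relation_subset_coeffs i ?_
      rw [Finset.mem_coe, MvPolynomial.mem_coeffs_iff]
      exact ⟨n, by rwa [MvPolynomial.mem_support_iff], rfl⟩
    obtain ⟨r, hr⟩ := hb _ hmem
    exact ⟨r, by rw [hr, Algebra.smul_def]⟩

end

section
variable {R₀ : Type u} [CommRing R₀] (M : Submonoid R₀) (R : Type*) [CommRing R] [Algebra R₀ R]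
  [IsLocalization M R] (S : Type*) [CommRing S] [Algebra R S]

include M in
/-- A finitely presented algebra over a localization `R = M⁻¹R₀` is the localization of a
finitely presented `R₀`-algebra. -/
theorem exists_model [Algebra R₀ S] [IsScalarTower R₀ R S] [Algebra.FinitePresentation R S] :
    ∃ (S₀ : Type u) (_ : CommRing S₀) (_ : Algebra R₀ S₀) (_ : Algebra S₀ S)
      (_ : IsScalarTower R₀ S₀ S), Algebra.FinitePresentation R₀ S₀ ∧
        IsLocalization (Algebra.algebraMapSubmonoid S₀ M) S := by
  obtain ⟨P, hP⟩ := exists_hasCoeffs M (Algebra.Presentation.ofFinitePresentation R S)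
  let φ : P.ModelOfHasCoeffs R₀ →ₐ[R₀] S :=
    Ideal.Quotient.liftₐ _ (MvPolynomial.aeval P.val) (by
      simp_rw [← RingHom.mem_ker, ← SetLike.le_def, Ideal.span_le]
      rintro a ⟨i, rfl⟩
      simp)
  letI : Algebra (P.ModelOfHasCoeffs R₀) S := φ.toRingHom.toAlgebra
  haveI : IsScalarTower R₀ (P.ModelOfHasCoeffs R₀) S :=
    IsScalarTower.of_algebraMap_eq' φ.comp_algebraMap.symm
  refine ⟨P.ModelOfHasCoeffs R₀, inferInstance, inferInstance, inferInstance, inferInstance,
    inferInstance, ?_⟩
  rw [Algebra.isLocalization_iff_isPushout M R, Algebra.IsPushout.comm, Algebra.isPushout_iff]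
  refine IsBaseChange.of_equiv (P.tensorModelOfHasCoeffsEquiv R₀).toLinearEquiv ?_
  intro x
  obtain ⟨x, rfl⟩ := Ideal.Quotient.mk_surjective x
  have h1 : (IsScalarTower.toAlgHom R₀ (P.ModelOfHasCoeffs R₀) S).toLinearMap
      (Ideal.Quotient.mk _ x) = MvPolynomial.aeval P.val x := by
    change φ (Ideal.Quotient.mk _ x) = _
    exact Ideal.Quotient.lift_mk _ _ _
  rw [h1]
  change (P.tensorModelOfHasCoeffsEquiv R₀) (1 ⊗ₜ _) = _
  rw [Algebra.Presentation.tensorModelOfHasCoeffsEquiv_tmul]
  simp

end

end Groth.Agent.Lib.Helper90.FPDescent
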