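import Mathlib
import Groth.Agent.Lib.Helper24.ZMTFinite

set_option linter.style.haveILetI false
set_option linter.unusedSectionVars false

namespace Groth.Agent.Lib.Helper90.FinExt

open CategoryTheory CategoryTheory.Limits AlgebraicGeometry

universe u

/-- a finite scheme over a quasi-compact open `U` of an affine scheme `S` embeds as the preimage
of `U` in a scheme finite over `S`. -/
theorem geom {S U' : Scheme.{u}} [IsAffine S] (U : S.Opens) (hU : IsCompact (U : Set S))
    (g : U' ⟶ (U : Scheme.{u})) [IsFinite g] :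
    ∃ (T' : Scheme.{u}) (j' : U' ⟶ T') (π' : T' ⟶ S), IsOpenImmersion j' ∧ IsFinite π' ∧
      j' ≫ π' = g ≫ U.ι ∧ ((π' ⁻¹ᵁ U : T'.Opens) : Set T') = Set.range j'.base := by
  haveI : CompactSpace (U : Scheme.{u}) := isCompact_iff_compactSpace.mp hU
  haveI : CompactSpace U' := QuasiCompact.compactSpace_of_compactSpace g
  let h : U' ⟶ S := g ≫ U.ι
  haveI : QuasiCompact h := inferInstance
  obtain ⟨T, j, π, hj, hπ, hfac⟩ :=
    Groth.Agent.Lib.Helper24.ZMTFinite.exists_finite_factorization h
  haveI := hj
  haveI := hπ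
  haveI : IsAffine T := isAffine_of_isAffineHom π
  haveI : QuasiCompact j := inferInstance
  let T' := j.image
  let j' : U' ⟶ T' := j.toImage
  let ι' : T' ⟶ T := j.imageι
  haveI : IsOpenImmersion j' := inferInstance
  let π' : T' ⟶ S := ι' ≫ π
  haveI : IsFinite π' := inferInstance
  have hfac' : j' ≫ π' = g ≫ U.ι := by
    show j.toImage ≫ j.imageι ≫ π = _
    rw [← Category.assoc, j.toImage_imageι, hfac]
  refine ⟨T', j', π', inferInstance, inferInstance, hfac', ?_⟩
  apply Set.Subset.antisymm
  · intro t ht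
    let V : T'.Opens := π' ⁻¹ᵁ U
    have hr : Set.range j'.base ⊆ Set.range V.ι.base := by
      rintro _ ⟨u', rfl⟩
      rw [Scheme.Opens.range_ι]
      show π' (j' u') ∈ U
      rw [← Scheme.Hom.comp_apply, hfac', Scheme.Hom.comp_apply]
      exact (g u').2
    let j'' : U' ⟶ (V : Scheme.{u}) := IsOpenImmersion.lift V.ι j' hr
    have hj'' : j'' ≫ V.ι = j' := IsOpenImmersion.lift_fac _ _ _
    have hg : j'' ≫ (π' ∣_ U) = g := by
      rw [← cancel_mono U.ι, Category.assoc, morphismRestrict_ι, ← Category.assoc, hj'', hfac']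
    haveI : IsProper (j'' ≫ (π' ∣_ U)) := by rw [hg]; infer_instance
    haveI : IsProper j'' := IsProper.of_comp j'' (π' ∣_ U)
    have hclosed : IsClosed (Set.range j''.base) := j''.isClosedMap.isClosed_range
    have hdense : Dense (Set.range j''.base) := by
      have h1 : Dense (Set.range j'.base) := j'.denseRange
      have h2 : Dense (V.ι.base ⁻¹' Set.range j'.base) := h1.preimage V.ι.isOpenMap
      have h3 : V.ι.base ⁻¹' Set.range j'.base = Set.range j''.base := by
        ext v
        constructor
        · rintro ⟨u', hu'⟩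
          refine ⟨u', V.ι.injective ?_⟩
          rw [← Scheme.Hom.comp_apply, hj'']
          exact hu'
        · rintro ⟨u', rfl⟩
          refine ⟨u', ?_⟩
          rw [← Scheme.Hom.comp_apply, hj'']
      rwa [h3] at h2
    have huniv : Set.range j''.base = Set.univ := hclosed.closure_eq ▸ hdense.closure_eq
    have : (⟨t, ht⟩ : V) ∈ Set.range j''.base := huniv ▸ Set.mem_univ _
    obtain ⟨u', hu'⟩ := this
    refine ⟨u', ?_⟩
    rw [← hj'', Scheme.Hom.comp_apply]
    show V.ι (j'' u') = t
    rw [hu']
    rfl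
  · rintro _ ⟨u', rfl⟩
    show π' (j' u') ∈ U
    rw [← Scheme.Hom.comp_apply, hfac', Scheme.Hom.comp_apply]
    exact (g u').2

end Groth.Agent.Lib.Helper90.FinExt
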