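import Mathlib
import Groth.Agent.Lib.Helper90.FinExt

set_option linter.style.haveILetI false
set_option linter.unusedSectionVars false

namespace Groth.Agent.Lib.Helper90.FinExt

open CategoryTheory CategoryTheory.Limits AlgebraicGeometry

universe u

theorem main (A : Type u) [CommRing A] (U : (Spec (CommRingCat.of A)).Opens)
    (hU : IsCompact (U : Set (Spec (CommRingCat.of A))))
    (U' : Scheme.{u}) (g : U' ⟶ (U : Scheme.{u})) [IsFinite g] :
    ∃ (B : Type u) (_ : CommRing B) (_ : Algebra A B) (i : U' ⟶ Spec (CommRingCat.of B)),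
      Module.Finite A B ∧ IsPullback i g (Spec.map (CommRingCat.ofHom (algebraMap A B))) U.ι := by
  obtain ⟨T', j', π', hj', hπ', hfac, hrange⟩ := geom U hU g
  haveI := hj'
  haveI := hπ'
  haveI : IsAffine T' := isAffine_of_isAffineHom π'
  let R : CommRingCat.{u} := CommRingCat.of A
  let B : CommRingCat.{u} := Γ(T', ⊤)
  let φ : R ⟶ B := (Scheme.ΓSpecIso R).inv ≫ π'.appTop
  letI algB : Algebra A B := φ.hom.toAlgebra
  let e : T' ⟶ Spec B := T'.isoSpec.hom
  let i : U' ⟶ Spec B := j' ≫ e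
  have hπe : e ≫ Spec.map φ = π' := by
    show T'.isoSpec.hom ≫ Spec.map ((Scheme.ΓSpecIso R).inv ≫ π'.appTop) = π'
    rw [Spec.map_comp, ← Category.assoc, Scheme.isoSpec_hom_naturality, Category.assoc,
      Scheme.isoSpec_Spec_hom, ← Spec.map_comp, Iso.inv_hom_id, Spec.map_id, Category.comp_id]
  have hfin : φ.hom.Finite := by
    have h1 : π'.appTop.hom.Finite :=
      ((HasAffineProperty.iff_of_isAffine (P := @IsFinite)).mp hπ').2
    have h2 : ((Scheme.ΓSpecIso R).inv).hom.Finite :=
      RingHom.Finite.of_surjective _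
        (fun x => ⟨(Scheme.ΓSpecIso R).hom.hom x, by
          rw [← RingHom.comp_apply, ← CommRingCat.hom_comp, Iso.hom_inv_id]; rfl⟩)
    exact h1.comp h2
  refine ⟨B, inferInstance, algB, i, hfin, ?_⟩
  have H : i ≫ Spec.map φ = g ≫ U.ι := by
    show (j' ≫ e) ≫ Spec.map φ = _
    rw [Category.assoc, hπe, hfac]
  refine (IsOpenImmersion.isPullback g i U.ι (Spec.map φ) H ?_).flip
  ext x
  constructor
  · intro hx
    obtain ⟨t, rfl⟩ := e.homeomorph.surjective x
    have hx' : (Spec.map φ) (e t) ∈ U := by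
      have := hx
      rw [Scheme.Opens.opensRange_ι] at this
      exact this
    have ht : t ∈ ((π' ⁻¹ᵁ U : T'.Opens) : Set T') := by
      show π' t ∈ U
      rw [← hπe, Scheme.Hom.comp_apply]
      exact hx'
    rw [hrange] at ht
    obtain ⟨u', rfl⟩ := ht
    exact ⟨u', rfl⟩
  · rintro ⟨u', rfl⟩
    show (Spec.map φ) (i u') ∈ U.ι.opensRange
    rw [← Scheme.Hom.comp_apply, H, Scheme.Hom.comp_apply]
    exact ⟨g u', rfl⟩

end Groth.Agent.Lib.Helper90.FinExt
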