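import Mathlib
import Groth.Agent.Lib.Helper90.FinExt

set_option linter.style.haveILetI false
set_option linter.unusedSectionVars false

open CategoryTheory Limits AlgebraicGeometry TopologicalSpace

universe u

namespace Groth.Agent.Lib.Helper90.FinGlue1

/-- open-immersion form of `FinExt.geom`. -/
theorem geom' {W P VP : Scheme.{u}} [IsAffine W] (p : P ⟶ W) [IsOpenImmersion p] [QuasiCompact p]
    (g : VP ⟶ P) [IsFinite g] :
    ∃ (T : Scheme.{u}) (k : VP ⟶ T) (h : T ⟶ W), IsOpenImmersion k ∧ IsFinite h ∧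
      IsPullback k g h p := by
  haveI : CompactSpace P := QuasiCompact.compactSpace_of_compactSpace p
  have hc : IsCompact (p.opensRange : Set W) := by
    simpa using isCompact_range p.continuous
  obtain ⟨T, k, h, hk, hh, hcomm, hrange⟩ :=
    Groth.Agent.Lib.Helper90.FinExt.geom p.opensRange hc (g ≫ p.isoOpensRange.hom)
  refine ⟨T, k, h, hk, hh, ?_⟩
  have H : k ≫ h = g ≫ p := by
    rw [hcomm, Category.assoc, Scheme.Hom.isoOpensRange_hom_ι]
  refine (IsOpenImmersion.isPullback g k p h H ?_).flip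
  ext x
  have := congrArg (fun s : Set T => x ∈ s) hrange
  simpa using this

/-- points of a pushout of open immersions. -/
theorem pushout_cases {A X Y : Scheme.{u}} (f : A ⟶ X) (g : A ⟶ Y) [IsOpenImmersion f]
    [IsOpenImmersion g] (x : (pushout f g : Scheme.{u})) :
    (∃ a : X, (pushout.inl f g).base a = x) ∨ (∃ b : Y, (pushout.inr f g).base b = x) := by
  obtain ⟨i, xi, hx⟩ := Scheme.IsLocallyDirected.ι_jointly_surjective (span f g) x
  rcases i with _ | i | i
  · left
    refine ⟨f.base xi, ?_⟩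
    rw [← hx, ← Scheme.Hom.comp_apply]
    have := colimit.w (span f g) (WidePushoutShape.Hom.init WalkingPair.left)
    rw [← this]
    rfl
  · left; exact ⟨xi, hx⟩
  · right; exact ⟨xi, hx⟩

instance inl_openImm {A X Y : Scheme.{u}} (f : A ⟶ X) (g : A ⟶ Y) [IsOpenImmersion f]
    [IsOpenImmersion g] : IsOpenImmersion (pushout.inl f g) :=
  inferInstanceAs (IsOpenImmersion (colimit.ι (span f g) WalkingSpan.left))

instance inr_openImm {A X Y : Scheme.{u}} (f : A ⟶ X) (g : A ⟶ Y) [IsOpenImmersion f]
    [IsOpenImmersion g] : IsOpenImmersion (pushout.inr f g) :=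
  inferInstanceAs (IsOpenImmersion (colimit.ι (span f g) WalkingSpan.right))

theorem step {S U W V : Scheme.{u}} [IsAffine W] (j : U ⟶ S) (w : W ⟶ S) [IsOpenImmersion j]
    [IsOpenImmersion w] [QuasiCompact j]
    (hjw : ∀ x : S, x ∈ Set.range j.base ∨ x ∈ Set.range w.base) (v : V ⟶ U) [IsFinite v] :
    ∃ (V' : Scheme.{u}) (π : V' ⟶ S) (i : V ⟶ V'), IsFinite π ∧ IsPullback i v π j := by
  let p1 : pullback j w ⟶ U := pullback.fst j w
  let p2 : pullback j w ⟶ W := pullback.snd j w
  let q1 : pullback v p1 ⟶ V := pullback.fst v p1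
  let q2 : pullback v p1 ⟶ pullback j w := pullback.snd v p1
  haveI : IsOpenImmersion p1 := inferInstanceAs (IsOpenImmersion (pullback.fst j w))
  haveI : IsOpenImmersion p2 := inferInstanceAs (IsOpenImmersion (pullback.snd j w))
  haveI : QuasiCompact p2 := inferInstanceAs (QuasiCompact (pullback.snd j w))
  haveI : IsOpenImmersion q1 := inferInstanceAs (IsOpenImmersion (pullback.fst v p1))
  haveI : IsFinite q2 := inferInstanceAs (IsFinite (pullback.snd v p1))
  obtain ⟨T, k, h, hk, hh, hpb⟩ := geom' p2 q2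
  have hcond : q1 ≫ v ≫ j = k ≫ h ≫ w := by
    have e1 : q1 ≫ v = q2 ≫ p1 := pullback.condition
    have e2 : p1 ≫ j = p2 ≫ w := pullback.condition
    have e3 : k ≫ h = q2 ≫ p2 := hpb.w
    rw [← Category.assoc, e1, Category.assoc, e2, ← Category.assoc, ← e3, Category.assoc]
  let π : pushout q1 k ⟶ S := pushout.desc (v ≫ j) (h ≫ w) hcond
  have hinl : pushout.inl q1 k ≫ π = v ≫ j := pushout.inl_desc _ _ _
  have hinr : pushout.inr q1 k ≫ π = h ≫ w := pushout.inr_desc _ _ _
  have hglue : ∀ y : (pullback v p1 : Scheme.{u}),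
      (pushout.inl q1 k).base (q1.base y) = (pushout.inr q1 k).base (k.base y) := by
    intro y
    rw [← Scheme.Hom.comp_apply, ← Scheme.Hom.comp_apply, pushout.condition]
  -- square A
  have hA : IsPullback (pushout.inl q1 k) v π j := by
    refine (IsOpenImmersion.isPullback v (pushout.inl q1 k) j π hinl ?_).flip
    ext x
    simp only [Scheme.Hom.coe_preimage, Scheme.Hom.coe_opensRange, Set.mem_preimage]
    constructor
    · rintro ⟨u, hu⟩
      rcases pushout_cases q1 k x with ⟨a, rfl⟩ | ⟨t, rfl⟩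
      · exact ⟨a, rfl⟩
      · have h1 : π.base ((pushout.inr q1 k).base t) = w.base (h.base t) := by
          rw [← Scheme.Hom.comp_apply, hinr, Scheme.Hom.comp_apply]
        rw [h1] at hu
        obtain ⟨p, hp1, hp2⟩ := Scheme.Pullback.exists_preimage_pullback (f := j) (g := w) u
          (h.base t) hu
        obtain ⟨y, hy1, hy2⟩ := Scheme.exists_preimage_of_isPullback hpb t p hp2.symm
        exact ⟨q1.base y, by rw [hglue, hy1]⟩
    · rintro ⟨a, rfl⟩
      refine ⟨v.base a, ?_⟩
      rw [← Scheme.Hom.comp_apply, ← Scheme.Hom.comp_apply, hinl]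
  -- square B
  have hB : IsPullback (pushout.inr q1 k) h π w := by
    refine (IsOpenImmersion.isPullback h (pushout.inr q1 k) w π hinr ?_).flip
    ext x
    simp only [Scheme.Hom.coe_preimage, Scheme.Hom.coe_opensRange, Set.mem_preimage]
    constructor
    · rintro ⟨c, hc⟩
      rcases pushout_cases q1 k x with ⟨a, rfl⟩ | ⟨t, rfl⟩
      · have h1 : π.base ((pushout.inl q1 k).base a) = j.base (v.base a) := by
          rw [← Scheme.Hom.comp_apply, hinl, Scheme.Hom.comp_apply]
        rw [h1] at hc
        obtain ⟨p, hp1, hp2⟩ := Scheme.Pullback.exists_preimage_pullback (f := j) (g := w)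
          (v.base a) c hc.symm
        obtain ⟨y, hy1, hy2⟩ := Scheme.Pullback.exists_preimage_pullback (f := v) (g := p1)
          a p hp1.symm
        exact ⟨k.base y, by rw [← hglue]; exact congrArg _ hy1⟩
      · exact ⟨t, rfl⟩
    · rintro ⟨t, rfl⟩
      refine ⟨h.base t, ?_⟩
      rw [← Scheme.Hom.comp_apply, ← Scheme.Hom.comp_apply, hinr]
  refine ⟨pushout q1 k, π, pushout.inl q1 k, ?_, hA⟩
  let 𝒰 : S.OpenCover := Scheme.Cover.mkOfCovers Bool (fun b => Bool.rec W U b)
    (fun b => Bool.rec (motive := fun b => (Bool.rec W U b : Scheme.{u}) ⟶ S) w j b)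
    (by
      intro x
      rcases hjw x with ⟨y, hy⟩ | ⟨y, hy⟩
      · exact ⟨true, y, hy⟩
      · exact ⟨false, y, hy⟩)
    (by
      rintro (_ | _)
      · exact inferInstanceAs (IsOpenImmersion w)
      · exact inferInstanceAs (IsOpenImmersion j))
  refine IsZariskiLocalAtTarget.of_openCover (P := @IsFinite) 𝒰 ?_
  rintro (_ | _)
  · change IsFinite (pullback.snd π w)
    have : pullback.snd π w = hB.isoPullback.inv ≫ h := by
      rw [Iso.eq_inv_comp, IsPullback.isoPullback_hom_snd]
    rw [this]
    infer_instance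
  · change IsFinite (pullback.snd π j)
    have : pullback.snd π j = hA.isoPullback.inv ≫ v := by
      rw [Iso.eq_inv_comp, IsPullback.isoPullback_hom_snd]
    rw [this]
    infer_instance

end Groth.Agent.Lib.Helper90.FinGlue1
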