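import Mathlib
import Groth.Agent.Lib.Helper90.FinGlue1

set_option linter.style.haveILetI false
set_option linter.unusedSectionVars false

open CategoryTheory Limits AlgebraicGeometry TopologicalSpace

universe u

namespace Groth.Agent.Lib.Helper90.FinGlue2

open Groth.Agent.Lib.Helper90.FinGlue1

theorem isIso_homOfLE {S : Scheme.{u}} {U V : S.Opens} (e : U ≤ V) (e' : V ≤ U) :
    IsIso (S.homOfLE e) :=
  ⟨S.homOfLE e', by simp [Scheme.homOfLE_homOfLE, Scheme.homOfLE_rfl],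
    by simp [Scheme.homOfLE_homOfLE, Scheme.homOfLE_rfl]⟩

/-- extension of a finite morphism over a compact open to `U ⊔ W`, `W` compact open. -/
theorem extend_sup {S V : Scheme.{u}} [QuasiSeparatedSpace ↑S] (U : S.Opens)
    (hU : IsCompact (U : Set ↑S)) (v : V ⟶ (U : Scheme.{u})) [IsFinite v]
    (W : S.Opens) (hW : IsCompact (W : Set S)) :
    ∃ (V' : Scheme.{u}) (π : V' ⟶ ((U ⊔ W : S.Opens) : Scheme.{u})) (i : V ⟶ V'),
      IsFinite π ∧ IsPullback i v π (S.homOfLE le_sup_left) := by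
  refine compact_open_induction_on (P := fun W : S.Opens =>
    ∃ (V' : Scheme.{u}) (π : V' ⟶ ((U ⊔ W : S.Opens) : Scheme.{u})) (i : V ⟶ V'),
      IsFinite π ∧ IsPullback i v π (S.homOfLE le_sup_left)) W hW ?_ ?_
  · haveI : IsIso (S.homOfLE (le_sup_left : U ≤ U ⊔ ⊥)) := isIso_homOfLE _ (by simp)
    refine ⟨V, v ≫ S.homOfLE le_sup_left, 𝟙 V, inferInstance, ?_⟩
    exact IsPullback.of_horiz_isIso ⟨by simp⟩
  · rintro W hW A ⟨V', π, i, hπ, hpb⟩
    have hUW : IsCompact ((U ⊔ W : S.Opens) : Set S) := by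
      simpa using hU.union hW
    haveI c1 : CompactSpace ↥((U ⊔ W : S.Opens) : Scheme.{u}) :=
      isCompact_iff_compactSpace.mp hUW
    haveI c2 : QuasiSeparatedSpace ↥((U ⊔ (W ⊔ A.1) : S.Opens) : Scheme.{u}) :=
      (U ⊔ (W ⊔ A.1) : S.Opens).isOpenEmbedding'.quasiSeparatedSpace
    haveI : IsAffine (A.1 : Scheme.{u}) := A.2
    have e1 : U ⊔ W ≤ U ⊔ (W ⊔ A.1) := by
      rw [← sup_assoc]; exact le_sup_left
    have e2 : A.1 ≤ U ⊔ (W ⊔ A.1) := le_sup_of_le_right le_sup_right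
    haveI : QuasiCompact (S.homOfLE e1) := @quasiCompact_of_compactSpace _ _ (S.homOfLE e1) c1 c2
    obtain ⟨V'', π', i', hπ', hpb'⟩ := step (S.homOfLE e1) (S.homOfLE e2) (by
      rintro ⟨x, hx⟩
      rcases hx with hx | hx | hx
      · left; exact ⟨⟨x, Or.inl hx⟩, Subtype.ext (by simp [Scheme.homOfLE_apply])⟩
      · left; exact ⟨⟨x, Or.inr hx⟩, Subtype.ext (by simp [Scheme.homOfLE_apply])⟩
      · right; exact ⟨⟨x, hx⟩, Subtype.ext (by simp [Scheme.homOfLE_apply])⟩) π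
    refine ⟨V'', π', i ≫ i', hπ', ?_⟩
    have := hpb.paste_horiz hpb'
    rwa [Scheme.homOfLE_homOfLE] at this

end Groth.Agent.Lib.Helper90.FinGlue2
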