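import Mathlib
import Groth.Agent.Lib.Helper90.FinGlue2

set_option linter.style.haveILetI false
set_option linter.unusedSectionVars false

open CategoryTheory Limits AlgebraicGeometry TopologicalSpace

universe u

namespace Groth.Agent.Lib.Helper90.FinGlue3

open Groth.Agent.Lib.Helper90.FinGlue1 Groth.Agent.Lib.Helper90.FinGlue2

theorem isIso_ι_of_eq_top {S : Scheme.{u}} (T : S.Opens) (hT : T = ⊤) : IsIso T.ι := by
  subst hT; exact inferInstanceAs (IsIso S.topIso.hom)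

/-- extension without surjectivity. -/
theorem extend {S V : Scheme.{u}} [CompactSpace ↑S] [QuasiSeparatedSpace ↑S] (U : S.Opens)
    (hU : IsCompact (U : Set ↑S)) (v : V ⟶ (U : Scheme.{u})) [IsFinite v] :
    ∃ (V' : Scheme.{u}) (π : V' ⟶ S) (i : V ⟶ V'), IsFinite π ∧ IsPullback i v π U.ι := by
  obtain ⟨V1, π1, i1, hπ1, hpb1⟩ := extend_sup U hU v ⊤ (by simpa using isCompact_univ)
  haveI : IsIso (U ⊔ ⊤ : S.Opens).ι := isIso_ι_of_eq_top _ (by simp)
  refine ⟨V1, π1 ≫ (U ⊔ ⊤ : S.Opens).ι, i1, inferInstance, ?_⟩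
  have h2 : IsPullback (𝟙 V1) π1 (π1 ≫ (U ⊔ ⊤ : S.Opens).ι) (U ⊔ ⊤ : S.Opens).ι :=
    IsPullback.of_horiz_isIso ⟨by simp⟩
  have := hpb1.paste_horiz h2
  rwa [Category.comp_id, Scheme.homOfLE_ι] at this

theorem main {S V : Scheme.{u}} [CompactSpace ↑S] [QuasiSeparatedSpace ↑S] (U : S.Opens)
    (hU : IsCompact (U : Set ↑S)) (v : V ⟶ (U : Scheme.{u})) [IsFinite v] [Surjective v] :
    ∃ (V' : Scheme.{u}) (π : V' ⟶ S) (i : V ⟶ V'), Surjective π ∧ IsFinite π ∧
      IsPullback i v π U.ι := by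
  obtain ⟨V1, π1, i1, hπ1, hpb1⟩ := extend U hU v
  let Zc : Closeds S := ⟨(U : Set S)ᶜ, U.isOpen.isClosed_compl⟩
  let I := Scheme.IdealSheafData.vanishingIdeal Zc
  let z : I.subscheme ⟶ S := I.subschemeι
  have hz : Set.range z.base = (U : Set S)ᶜ := by
    have := I.range_subschemeι
    rw [this]
    simp [I, Zc]
  haveI : IsOpenImmersion i1 := MorphismProperty.of_isPullback hpb1.flip inferInstance
  let π : V1 ⨿ I.subscheme ⟶ S := coprod.desc π1 z
  have hinl : (coprod.inl : V1 ⟶ V1 ⨿ I.subscheme) ≫ π = π1 := coprod.inl_desc _ _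
  have hinr : (coprod.inr : I.subscheme ⟶ V1 ⨿ I.subscheme) ≫ π = z := coprod.inr_desc _ _
  refine ⟨V1 ⨿ I.subscheme, π, i1 ≫ coprod.inl, ?_, inferInstance, ?_⟩
  · constructor
    intro s
    by_cases hs : s ∈ U
    · obtain ⟨a, ha⟩ := ‹Surjective v›.surj ⟨s, hs⟩
      refine ⟨(coprod.inl : V1 ⟶ V1 ⨿ I.subscheme).base (i1.base a), ?_⟩
      rw [← Scheme.Hom.comp_apply, hinl, ← Scheme.Hom.comp_apply, hpb1.w, Scheme.Hom.comp_apply,
        ha]
      rfl
    · have : s ∈ Set.range z.base := by rw [hz]; exact hs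
      obtain ⟨b, hb⟩ := this
      refine ⟨(coprod.inr : I.subscheme ⟶ V1 ⨿ I.subscheme).base b, ?_⟩
      rw [← Scheme.Hom.comp_apply, hinr, hb]
  · have H : (i1 ≫ coprod.inl) ≫ π = v ≫ U.ι := by
      rw [Category.assoc, hinl, hpb1.w]
    refine (IsOpenImmersion.isPullback v (i1 ≫ coprod.inl) U.ι π H ?_).flip
    ext x
    simp only [Scheme.Hom.coe_preimage, Scheme.Hom.coe_opensRange, Set.mem_preimage]
    constructor
    · rintro ⟨u, hu⟩
      obtain ⟨(a | b), rfl⟩ := (coprodMk V1 I.subscheme).surjective x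
      · rw [coprodMk_inl] at hu ⊢
        rw [← Scheme.Hom.comp_apply, hinl] at hu
        obtain ⟨y, hy1, hy2⟩ := Scheme.exists_preimage_of_isPullback hpb1 a u hu.symm
        exact ⟨y, by rw [Scheme.Hom.comp_apply, hy1]⟩
      · exfalso
        rw [coprodMk_inr, ← Scheme.Hom.comp_apply, hinr] at hu
        have h1 : z.base b ∈ (U : Set S)ᶜ := by rw [← hz]; exact ⟨b, rfl⟩
        apply h1
        rw [← hu]
        exact u.2
    · rintro ⟨a, rfl⟩
      refine ⟨v.base a, ?_⟩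
      rw [← Scheme.Hom.comp_apply, ← Scheme.Hom.comp_apply, H]

end Groth.Agent.Lib.Helper90.FinGlue3
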