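import Mathlib
import Groth.Prelude.Def_FlatCA
import Groth.Agent.Lib.Helper45.FittingProd

set_option linter.style.haveILetI false
set_option linter.unusedSectionVars false

namespace Groth.Agent.Lib.Helper90.FittAux

open Groth.Agent.Lib.Helper45.Fitting

universe u v

variable {R : Type u} [CommRing R]

/-- the prelude's `FlatCA.fittingZero` is `Fitt.ideal _ _ 0` -/
theorem fittingZero_eq (M : Type u) [AddCommGroup M] [Module R M] :
    FlatCA.fittingZero R M = Fitt.ideal R M 0 := by
  unfold FlatCA.fittingZero Fitt.ideal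
  congr 1
  ext d
  constructor
  · rintro ⟨n, x, a, hx, ha, rfl⟩
    exact ⟨n, x, a, hx, fun i _ => ha i, rfl⟩
  · rintro ⟨n, x, a, hx, ha, rfl⟩
    exact ⟨n, x, a, hx, fun i => ha i (by simp), rfl⟩

/-- `Fitt₀ (R ⧸ K) = K` -/
theorem fitt_zero_quotient (K : Ideal R) : Fitt.ideal R (R ⧸ K) 0 = K := by
  have hx : Submodule.span R (Set.range (fun _ : Fin 1 => (1 : R ⧸ K))) = ⊤ := by
    rw [eq_top_iff]
    rintro y -
    obtain ⟨r, rfl⟩ := Ideal.Quotient.mk_surjective y
    have : Ideal.Quotient.mk K r = r • (1 : R ⧸ K) := by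
      rw [Algebra.smul_def, mul_one]; rfl
    rw [this]
    exact Submodule.smul_mem _ _ (Submodule.subset_span ⟨0, rfl⟩)
  rw [fitt_eq_Min _ hx 0]
  have hrel : ∀ v : Fin 1 → R, v ∈ Rel R (fun _ : Fin 1 => (1 : R ⧸ K)) ↔ v 0 ∈ K := by
    intro v
    rw [mem_Rel, Fin.sum_univ_one, Algebra.smul_def, mul_one]
    exact Ideal.Quotient.eq_zero_iff_mem
  apply le_antisymm
  · rw [Groth.Agent.Lib.Helper45.Fitting.Min, Ideal.span_le]
    rintro d ⟨z, e, hz, rfl⟩
    have h0 : e 0 = 0 := Subsingleton.elim _ _
    have : minor z e = z 0 0 := by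
      simp [minor, Matrix.det_fin_one, h0]
    rw [this]
    exact (hrel _).mp (hz 0)
  · intro r hr
    have : r = minor (fun _ : Fin 1 => fun _ : Fin 1 => r) (fun _ => 0) := by
      simp [minor]
    rw [this]
    exact minor_mem_Min _ _ (fun b => (hrel _).mpr hr)

/-- Fitting ideals of finitely presented modules are finitely generated. -/
theorem fitt_fg (M : Type v) [AddCommGroup M] [Module R M] [Module.FinitePresentation R M] (k : ℕ) :
    (Fitt.ideal R M k).FG := by
  classical
  obtain ⟨n, x, hx⟩ := Module.Finite.exists_fin (R := R) (M := M)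
  rw [fitt_eq_Min x hx k]
  have hsurj : Function.Surjective (Fintype.linearCombination R x) := by
    rw [← LinearMap.range_eq_top, Fintype.range_linearCombination, hx]
  obtain ⟨G, hG⟩ : (Rel R x).FG := Module.FinitePresentation.fg_ker _ hsurj
  rw [← hG, Min_span]
  have hfin : {d | ∃ (z : Fin (n - k) → (Fin n → R)) (e : Fin (n - k) → Fin n),
      (∀ b, z b ∈ (G : Set (Fin n → R))) ∧ d = minor z e}.Finite := by
    have h1 : (Set.pi Set.univ (fun _ : Fin (n - k) => (G : Set (Fin n → R)))).Finite :=
      Set.Finite.pi (fun _ => G.finite_toSet)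
    have h2 : (Set.univ : Set (Fin (n - k) → Fin n)).Finite := Set.finite_univ
    refine ((h1.prod h2).image (fun p => minor p.1 p.2)).subset ?_
    rintro d ⟨z, e, hz, rfl⟩
    exact ⟨(z, e), ⟨fun b _ => hz b, Set.mem_univ _⟩, rfl⟩
  exact ⟨hfin.toFinset, by rw [Set.Finite.coe_toFinset]; rfl⟩

section Split

variable {N P : Type v} [AddCommGroup N] [Module R N] [AddCommGroup P] [Module R P]

/-- a split surjection decomposes the source -/
noncomputable def splitEquiv (π : N →ₗ[R] P) (σ : P →ₗ[R] N) (h : π ∘ₗ σ = LinearMap.id) :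
    N ≃ₗ[R] P × LinearMap.ker π :=
  LinearEquiv.ofLinearMap
    (π.prod ((LinearMap.id - σ ∘ₗ π).codRestrict (LinearMap.ker π) (fun x => by
      have := LinearMap.congr_fun h (π x)
      simp only [LinearMap.comp_apply, LinearMap.id_apply] at this
      simp [this])))
    (σ.coprod (LinearMap.ker π).subtype)
    (by
      apply LinearMap.ext
      rintro ⟨p, ⟨y, hy⟩⟩
      have hp := LinearMap.congr_fun h p
      simp only [LinearMap.comp_apply, LinearMap.id_apply] at hp
      have hy' : π y = 0 := hy
      apply Prod.ext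
      · simp [hp, hy']
      · apply Subtype.ext
        simp [hp, hy'])
    (by
      apply LinearMap.ext
      intro x
      simp)

lemma ker_surj (π : N →ₗ[R] P) (σ : P →ₗ[R] N) (h : π ∘ₗ σ = LinearMap.id) :
    Function.Surjective ((LinearMap.id - σ ∘ₗ π).codRestrict (LinearMap.ker π) (fun x => by
      have := LinearMap.congr_fun h (π x)
      simp only [LinearMap.comp_apply, LinearMap.id_apply] at this
      simp [this])) := by
  rintro ⟨y, hy⟩
  have hy' : π y = 0 := hy
  refine ⟨y, Subtype.ext ?_⟩
  simp [hy']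

lemma ker_finite [Module.Finite R N] (π : N →ₗ[R] P) (σ : P →ₗ[R] N) (h : π ∘ₗ σ = LinearMap.id) :
    Module.Finite R (LinearMap.ker π) :=
  Module.Finite.of_surjective _ (ker_surj π σ h)

lemma ker_finitePresentation [Module.FinitePresentation R N] [Module.Finite R P]
    (π : N →ₗ[R] P) (σ : P →ₗ[R] N) (h : π ∘ₗ σ = LinearMap.id) :
    Module.FinitePresentation R (LinearMap.ker π) := by
  refine Module.finitePresentation_of_surjective _ (ker_surj π σ h) ?_
  have : LinearMap.ker ((LinearMap.id - σ ∘ₗ π).codRestrict (LinearMap.ker π) (fun x => by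
      have := LinearMap.congr_fun h (π x)
      simp only [LinearMap.comp_apply, LinearMap.id_apply] at this
      simp [this])) = LinearMap.range σ := by
    ext x
    simp only [LinearMap.mem_ker, LinearMap.mem_range]
    constructor
    · intro hx
      have := congrArg Subtype.val hx
      simp only [LinearMap.codRestrict_apply, LinearMap.sub_apply, LinearMap.id_apply,
        LinearMap.comp_apply, ZeroMemClass.coe_zero, sub_eq_zero] at this
      exact ⟨π x, this.symm⟩
    · rintro ⟨p, rfl⟩
      have hp := LinearMap.congr_fun h p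
      simp only [LinearMap.comp_apply, LinearMap.id_apply] at hp
      apply Subtype.ext
      simp [hp]
  rw [this, LinearMap.range_eq_map]
  exact Submodule.FG.map _ Module.Finite.fg_top

end Split

end Groth.Agent.Lib.Helper90.FittAux
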