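import Mathlib
import Groth.Prelude.Def_FlatCA
import Groth.Agent.Lib.Helper45.FittingProd
import Groth.Agent.Lib.Helper90.FittAux
import Groth.Agent.Lib.Helper90.DiagIdem

set_option linter.style.haveILetI false
set_option linter.unusedSectionVars false

namespace Groth.Agent.Lib.Helper90.FittEtale

open Groth.Agent.Lib.Helper45.Fitting Groth.Agent.Lib.Helper90.FittAux Groth.Agent.Lib.Helper90.DiagIdem
open TensorProduct

universe u

theorem main {A C : Type u} [CommRing A] [CommRing C] [Algebra A C] [Module.Finite A C] [Module.Projective A C]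
    (h : C) [Algebra.Etale A (Localization.Away h)] (J : Ideal C) :
    ∃ J' : Ideal (Localization.Away h),
      (FlatCA.fittingZero A (C ⧸ J)).map (algebraMap A (Localization.Away h)) =
        J.map (algebraMap C (Localization.Away h)) * J' ∧
      (J.FG → (FlatCA.fittingZero A (C ⧸ J)).FG ∧ J'.FG) := by
  classical
  set B := Localization.Away h with hB
  obtain ⟨e, he1, he2⟩ := exists_diag (A := A) h B
  set K : Ideal (B ⊗[A] C) := J.map (Algebra.TensorProduct.includeRight (R := A) (A := B) (B := C)) with hK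
  set JB : Ideal B := J.map (algebraMap C B) with hJB
  -- finiteness
  haveI : Module.Finite A (C ⧸ J) :=
    Module.Finite.of_surjective (Ideal.Quotient.mkₐ A J).toLinearMap Ideal.Quotient.mk_surjective
  haveI : Module.Finite B ((B ⊗[A] C) ⧸ K) :=
    Module.Finite.of_surjective (Ideal.Quotient.mkₐ B K).toLinearMap Ideal.Quotient.mk_surjective
  haveI : Module.Finite B (B ⧸ JB) :=
    Module.Finite.of_surjective (Ideal.Quotient.mkₐ B JB).toLinearMap Ideal.Quotient.mk_surjective
  -- the projection
  have hle : K ≤ JB.comap (mu A B) := by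
    rw [hK, Ideal.map_le_iff_le_comap]
    intro j hj
    simp only [Ideal.mem_comap, Algebra.TensorProduct.includeRight_apply, mu_tmul, one_mul]
    exact Ideal.mem_map_of_mem _ hj
  set π : ((B ⊗[A] C) ⧸ K) →ₗ[B] (B ⧸ JB) := (Ideal.quotientMapₐ JB (mu A B) hle).toLinearMap with hπ
  -- the section
  have hσ0 : (JB : Submodule B B) ≤ LinearMap.ker
      (LinearMap.toSpanSingleton B ((B ⊗[A] C) ⧸ K) (Ideal.Quotient.mk K e)) := by
    rw [hJB, Ideal.map, Ideal.span_le]
    rintro _ ⟨j, hj, rfl⟩
    simp only [SetLike.mem_coe, LinearMap.mem_ker, LinearMap.toSpanSingleton_apply]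
    have hsm : ∀ (b : B) (x : B ⊗[A] C), b • x = (b ⊗ₜ[A] (1 : C)) * x := by
      intro b x
      induction x using TensorProduct.induction_on with
      | zero => simp
      | tmul p q => simp [TensorProduct.smul_tmul', Algebra.TensorProduct.tmul_mul_tmul]
      | add p q hp hq => simp [hp, hq, mul_add]
    rw [← Ideal.Quotient.mkₐ_eq_mk B K, ← map_smul, Ideal.Quotient.mkₐ_eq_mk,
      Ideal.Quotient.eq_zero_iff_mem, hsm]
    have h1 : (algebraMap C B j ⊗ₜ[A] (1 : C)) * e = e * delta A B j + e * (1 ⊗ₜ[A] j) := by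
      rw [delta_apply]; ring
    rw [h1, he2 j, zero_add]
    exact Ideal.mul_mem_left _ _ (Ideal.mem_map_of_mem _ hj)
  set σ : (B ⧸ JB) →ₗ[B] ((B ⊗[A] C) ⧸ K) := Submodule.liftQ JB _ hσ0 with hσ
  have hπσ : π ∘ₗ σ = LinearMap.id := by
    apply LinearMap.ext
    intro y
    obtain ⟨b, rfl⟩ := Ideal.Quotient.mk_surjective y
    have h1 : σ (Ideal.Quotient.mk JB b) = b • Ideal.Quotient.mk K e := by
      rw [hσ]
      exact Submodule.liftQ_apply _ _ _
    simp only [LinearMap.comp_apply, LinearMap.id_apply, h1, map_smul]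
    have h2 : π (Ideal.Quotient.mk K e) = 1 := by
      rw [hπ]
      change Ideal.quotientMapₐ JB (mu A B) hle (Ideal.Quotient.mk K e) = 1
      rw [Ideal.quotient_map_mkₐ, he1, map_one]
    rw [h2, ← map_one (Ideal.Quotient.mkₐ B JB), ← map_smul, smul_eq_mul, mul_one]
    rfl
  haveI := ker_finite π σ hπσ
  -- Fitting ideal computation
  have hF1 : Fitt.ideal B ((B ⊗[A] C) ⧸ K) 0 = (Fitt.ideal A (C ⧸ J) 0).map (algebraMap A B) := by
    rw [← fitt_baseChange B (M := C ⧸ J) 0]
    exact (fitt_congr (Algebra.TensorProduct.tensorQuotientEquiv (R := A) B C B J).toLinearEquiv 0).symm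
  have hF2 : Fitt.ideal B ((B ⊗[A] C) ⧸ K) 0 = JB * Fitt.ideal B (LinearMap.ker π) 0 := by
    rw [fitt_congr (splitEquiv π σ hπσ) 0, fitt_prod, Finset.sum_range_one, fitt_zero_quotient]
  refine ⟨Fitt.ideal B (LinearMap.ker π) 0, ?_, ?_⟩
  · rw [fittingZero_eq, ← hF1, hF2]
  · intro hJ
    haveI : Module.FinitePresentation A C := Module.finitePresentation_of_projective A C
    haveI : Module.FinitePresentation A (C ⧸ J) := by
      refine Module.finitePresentation_of_surjective (Ideal.Quotient.mkₐ A J).toLinearMap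
        Ideal.Quotient.mk_surjective ?_
      have hk : LinearMap.ker (Ideal.Quotient.mkₐ A J).toLinearMap = J.restrictScalars A := by
        ext x
        simp [Ideal.Quotient.eq_zero_iff_mem]
      rw [hk, ← Module.Finite.iff_fg]
      haveI : Module.Finite C (J.restrictScalars A) := Module.Finite.of_fg hJ
      exact Module.Finite.trans C _
    haveI : Module.FinitePresentation B ((B ⊗[A] C) ⧸ K) :=
      Module.FinitePresentation.of_equiv
        (Algebra.TensorProduct.tensorQuotientEquiv (R := A) B C B J).toLinearEquiv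
    haveI := ker_finitePresentation π σ hπσ
    exact ⟨by rw [fittingZero_eq]; exact fitt_fg _ 0, fitt_fg _ 0⟩

end Groth.Agent.Lib.Helper90.FittEtale
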