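import Mathlib
import Groth.Agent.S0387

/-!
# Finite presentation from flatness + local finite presentation (Stacks 05IH-type)

`R ↪ ∏ R_{p_j}` (finitely many primes), `P` a finitely presented `R`-algebra, `M` a finite
`P`-module, flat over `R`, with `M_p` finitely presented over `P_p` for all primes `p` of `R`.
Then `M` is finitely presented over `P`.  Uses openness of the flat locus (S0387).
-/

open TensorProduct

set_option linter.style.haveILetI false
set_option linter.unusedSectionVars false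

universe u

namespace Groth.Agent.Lib.Helper90.FlatFP


/-- Lemma A -/
theorem eq_zero_of_flat {R : Type*} [CommRing R] (s : Finset (PrimeSpectrum R))
    (hs : Function.Injective fun r : R => fun p : s => algebraMap R (Localization.AtPrime p.1.asIdeal) r)
    {F : Type*} [AddCommGroup F] [Module R F] [Module.Flat R F] (x : F)
    (hx : ∀ p ∈ s, ∃ a : R, a ∉ p.asIdeal ∧ a • x = 0) : x = 0 := by
  classical
  let ι : R →ₗ[R] (∀ p : s, Localization.AtPrime p.1.asIdeal) :=
    LinearMap.pi fun p => Algebra.linearMap R (Localization.AtPrime p.1.asIdeal)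
  have hι : Function.Injective ι := fun a b hab => hs (by
    funext p
    have := congrFun hab p
    simpa [ι] using this)
  have h1 := Module.Flat.lTensor_preserves_injective_linearMap (M := F) ι hι
  have h2 : (ι.lTensor F) (x ⊗ₜ 1) = 0 := by
    rw [LinearMap.lTensor_tmul]
    have h3 : ι 1 = ∑ p : s, Pi.single p 1 := by
      ext p
      simp [ι, Finset.sum_apply]
    rw [h3, tmul_sum]
    apply Finset.sum_eq_zero
    intro p _
    obtain ⟨a, ha, hax⟩ := hx p.1 p.2
    have hunit : IsUnit (algebraMap R (Localization.AtPrime p.1.asIdeal) a) :=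
      IsLocalization.map_units _ (⟨a, ha⟩ : p.1.asIdeal.primeCompl)
    obtain ⟨u, hu⟩ := hunit
    have h4 : (Pi.single p 1 : ∀ p : s, Localization.AtPrime p.1.asIdeal)
        = a • Pi.single p (↑u⁻¹ : Localization.AtPrime p.1.asIdeal) := by
      ext q
      by_cases hq : q = p
      · subst hq
        simp [Algebra.smul_def, ← hu]
      · simp [hq]
    rw [h4, tmul_smul, smul_tmul', hax, zero_tmul]
  have h3 : x ⊗ₜ[R] (1 : R) = 0 := h1 (by rw [h2, map_zero])
  have := congrArg (TensorProduct.rid R F) h3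
  simpa using this



/-- Lemma C -/
theorem exists_fg_le_ker {P : Type*} [CommRing P] (T : Submonoid P) {F M : Type*}
    [AddCommGroup F] [Module P F] [Module.Finite P F] [AddCommGroup M] [Module P M]
    (f : F →ₗ[P] M) (hf : Function.Surjective f)
    [Module.FinitePresentation (Localization T) (LocalizedModule T M)] :
    ∃ K' : Submodule P F, K'.FG ∧ K' ≤ LinearMap.ker f ∧
      ∀ k ∈ LinearMap.ker f, ∃ t ∈ T, t • k ∈ K' := by
  classical
  obtain ⟨mkF, hmkF⟩ : ∃ g : F →ₗ[P] LocalizedModule T F, g = LocalizedModule.mkLinearMap T F := ⟨_, rfl⟩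
  obtain ⟨mkM, hmkM⟩ : ∃ g : M →ₗ[P] LocalizedModule T M, g = LocalizedModule.mkLinearMap T M := ⟨_, rfl⟩
  have i1 : IsLocalizedModule T mkF := hmkF ▸ inferInstance
  have i2 : IsLocalizedModule T mkM := hmkM ▸ inferInstance
  obtain ⟨f', hf'⟩ : ∃ g : LocalizedModule T F →ₗ[Localization T] LocalizedModule T M,
    g = (IsLocalizedModule.map T mkF mkM f).extendScalarsOfIsLocalization T (Localization T) := ⟨_, rfl⟩
  have hker : Submodule.localized' (Localization T) T mkF (LinearMap.ker f) = LinearMap.ker f' := by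
    rw [hf']
    exact LinearMap.localized'_ker_eq_ker_localizedMap (Localization T) T mkF mkM f
  have hsurj : Function.Surjective f' := by
    rw [← LinearMap.range_eq_top] at hf ⊢
    rw [hf', ← LinearMap.localized'_range_eq_range_localizedMap (Localization T) T mkF mkM f, hf]
    exact Submodule.localized'_top ..
  have hfg : (LinearMap.ker f').FG := Module.FinitePresentation.fg_ker f' hsurj
  rw [← hker, Submodule.localized'_eq_span] at hfg
  obtain ⟨t, htsub, hspan⟩ := (Submodule.fg_span_iff_fg_span_finset_subset _).mp hfg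
  obtain ⟨t₀, ht₀sub, ht₀⟩ := Finset.subset_set_image_iff.mp htsub
  refine ⟨Submodule.span P (t₀ : Set F), Submodule.fg_span t₀.finite_toSet,
    Submodule.span_le.mpr ht₀sub, ?_⟩
  intro k hk
  have h1 : mkF k ∈ Submodule.span (Localization T) ((t : Set (LocalizedModule T F))) := by
    rw [← hspan]; exact Submodule.subset_span ⟨k, hk, rfl⟩
  obtain ⟨u, hu⟩ := multiple_mem_span_of_mem_localization_span T (Localization T) _ _ h1
  rw [← ht₀, Finset.coe_image, ← Submodule.map_span] at hu
  obtain ⟨y, hy, hyeq⟩ := hu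
  have h2 : mkF y = mkF ((u : P) • k) := by rw [hyeq, Submonoid.smul_def, map_smul]
  obtain ⟨v, hv⟩ := (IsLocalizedModule.eq_iff_exists T mkF).mp h2
  refine ⟨v * u, mul_mem v.2 u.2, ?_⟩
  have h3 : ((v : P) * (u : P)) • k = (v : P) • y := by
    rw [mul_smul]
    exact hv.symm
  rw [h3]
  exact Submodule.smul_mem _ _ hy



/-- Lemma D -/
theorem flat_localizedModule {R P : Type*} [CommRing R] [CommRing P] [Algebra R P] (S : Submonoid P)
    (M : Type*) [AddCommGroup M] [Module R M] [Module P M] [IsScalarTower R P M]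
    [Module.Flat R M] : Module.Flat R (LocalizedModule S M) := by
  rw [Module.Flat.iff_lTensor_injectiveₛ]
  intro N _ _ N'
  have h := Module.Flat.lTensor_preserves_injective_linearMap (M := M) N'.subtype
    Subtype.val_injective
  rw [← AlgebraTensorModule.coe_lTensor (A := P)] at h ⊢
  rw [← IsLocalizedModule.map_lTensor (S := S) (g := LocalizedModule.mkLinearMap S M)]
  exact IsLocalizedModule.map_injective S _ _ _ h

/-- Lemma E -/
theorem flat_localizedModule_of_surjective {R P : Type*} [CommRing R] [CommRing P] [Algebra R P]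
    (S : Submonoid P)
    {M' M : Type*} [AddCommGroup M] [Module R M] [Module P M] [IsScalarTower R P M]
    [AddCommGroup M'] [Module R M'] [Module P M'] [IsScalarTower R P M']
    [Module.Flat R M] (φ : M' →ₗ[P] M) (hφ : Function.Surjective φ)
    (hker : ∀ x : M', φ x = 0 → ∃ c ∈ S, c • x = 0) :
    Module.Flat R (LocalizedModule S M') := by
  obtain ⟨ψ, hψ⟩ : ∃ ψ : M' →ₗ[P] LocalizedModule S M,
    ψ = (LocalizedModule.mkLinearMap S M) ∘ₗ φ := ⟨_, rfl⟩
  have i0 : IsLocalizedModule S (LocalizedModule.mkLinearMap S M) := inferInstance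
  have i1 : IsLocalizedModule S ψ := by
    refine ⟨i0.map_units, fun y => ?_, fun {x₁ x₂} h => ?_⟩
    · obtain ⟨⟨m, t⟩, hmt⟩ := IsLocalizedModule.surj S (LocalizedModule.mkLinearMap S M) y
      obtain ⟨m', rfl⟩ := hφ m
      exact ⟨⟨m', t⟩, by rw [hmt, hψ]; rfl⟩
    · rw [hψ, LinearMap.comp_apply, LinearMap.comp_apply] at h
      obtain ⟨u, hu⟩ := (IsLocalizedModule.eq_iff_exists S (LocalizedModule.mkLinearMap S M)).mp h
      have h1 : φ ((u : P) • (x₁ - x₂)) = 0 := by
        rw [map_smul, map_sub, smul_sub]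
        exact sub_eq_zero.mpr hu
      obtain ⟨c, hc, hcx⟩ := hker _ h1
      refine ⟨⟨c, hc⟩ * u, ?_⟩
      rw [← sub_eq_zero, ← smul_sub, Submonoid.smul_def, Submonoid.coe_mul, mul_smul]
      exact hcx
  have i2 : Module.Flat R (LocalizedModule S M) := flat_localizedModule S M
  exact Module.Flat.of_linearEquiv ((IsLocalizedModule.iso S ψ).restrictScalars R)


/-- Main theorem. -/
theorem finitePresentation_of_flat {R P M : Type u} [CommRing R] [CommRing P] [Algebra R P]
    [Algebra.FinitePresentation R P] [AddCommGroup M] [Module P M] [Module R M]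
    [IsScalarTower R P M] [Module.Finite P M] [Module.Flat R M]
    (s : Finset (PrimeSpectrum R))
    (hs : Function.Injective fun r : R => fun p : s =>
      algebraMap R (Localization.AtPrime p.1.asIdeal) r)
    (hloc : ∀ (p : Ideal R) [p.IsPrime],
      Module.FinitePresentation
        (Localization (Algebra.algebraMapSubmonoid P p.primeCompl))
        (LocalizedModule (Algebra.algebraMapSubmonoid P p.primeCompl) M)) :
    Module.FinitePresentation P M := by
  classical
  obtain ⟨r, f, fsurj⟩ := Module.Finite.exists_fin' P M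
  rw [← Module.FinitePresentation.fg_ker_iff f fsurj]
  have hC : ∀ p : PrimeSpectrum R, ∃ K' : Submodule P (Fin r → P), K'.FG ∧
      K' ≤ LinearMap.ker f ∧ ∀ k ∈ LinearMap.ker f, ∃ a : R, a ∉ p.asIdeal ∧ a • k ∈ K' := by
    intro p
    have := hloc p.asIdeal
    obtain ⟨K', h1, h2, h3⟩ :=
      exists_fg_le_ker (Algebra.algebraMapSubmonoid P p.asIdeal.primeCompl) f fsurj
    refine ⟨K', h1, h2, fun k hk => ?_⟩
    obtain ⟨t, ⟨a, ha, rfl⟩, htk⟩ := h3 k hk
    exact ⟨a, ha, by rwa [← algebraMap_smul P a k]⟩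
  choose KC hKCfg hKCle hKC using hC
  have claimB : ∀ q : PrimeSpectrum P, ∃ g : P, g ∉ q.asIdeal ∧
      ∃ K' : Submodule P (Fin r → P), K'.FG ∧ K' ≤ LinearMap.ker f ∧
        ∀ k ∈ LinearMap.ker f, ∃ m : ℕ, g ^ m • k ∈ K' := by
    intro q
    obtain ⟨p, hp⟩ : ∃ p : PrimeSpectrum R, p = PrimeSpectrum.comap (algebraMap R P) q := ⟨_, rfl⟩
    obtain ⟨s', hs'⟩ : ∃ s' : Finset (PrimeSpectrum R), s' = insert p s := ⟨_, rfl⟩
    obtain ⟨K', hK'def⟩ : ∃ K' : Submodule P (Fin r → P), K' = ⨆ p' ∈ s', KC p' := ⟨_, rfl⟩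
    have hK'fg : K'.FG := by
      rw [hK'def]; exact Submodule.fg_biSup s' _ (fun p' _ => hKCfg p')
    have hK'le : K' ≤ LinearMap.ker f := by
      rw [hK'def]; exact iSup₂_le fun p' _ => hKCle p'
    have hK' : ∀ k ∈ LinearMap.ker f, ∀ p' ∈ s', ∃ a : R, a ∉ p'.asIdeal ∧ a • k ∈ K' := by
      intro k hk p' hp'
      obtain ⟨a, ha, hak⟩ := hKC p' k hk
      refine ⟨a, ha, ?_⟩
      rw [hK'def]
      exact Submodule.mem_iSup_of_mem p' (Submodule.mem_iSup_of_mem hp' hak)
    obtain ⟨φ, hφdef⟩ : ∃ φ : ((Fin r → P) ⧸ K') →ₗ[P] M, φ = K'.liftQ f hK'le := ⟨_, rfl⟩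
    have hφmk : ∀ k : Fin r → P, φ (K'.mkQ k) = f k := by
      intro k; rw [hφdef]; rfl
    have hφsurj : Function.Surjective φ := by
      intro m
      obtain ⟨k, rfl⟩ := fsurj m
      exact ⟨K'.mkQ k, hφmk k⟩
    have hφker : ∀ x : (Fin r → P) ⧸ K', φ x = 0 →
        ∀ p' ∈ s', ∃ a : R, a ∉ p'.asIdeal ∧ a • x = 0 := by
      intro x hx p' hp'
      obtain ⟨k, rfl⟩ := Submodule.mkQ_surjective K' x
      have hk : k ∈ LinearMap.ker f := by
        rw [LinearMap.mem_ker, ← hφmk k]; exact hx
      obtain ⟨a, ha, hak⟩ := hK' k hk p' hp'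
      refine ⟨a, ha, ?_⟩
      rw [← algebraMap_smul P a, ← map_smul, algebraMap_smul, Submodule.mkQ_apply,
        Submodule.Quotient.mk_eq_zero]
      exact hak
    have hM'fp : Module.FinitePresentation P ((Fin r → P) ⧸ K') :=
      Module.finitePresentation_of_surjective K'.mkQ (Submodule.mkQ_surjective _)
        (by rw [Submodule.ker_mkQ]; exact hK'fg)
    have hflatq : Module.Flat R (LocalizedModule q.asIdeal.primeCompl ((Fin r → P) ⧸ K')) := by
      refine flat_localizedModule_of_surjective q.asIdeal.primeCompl φ hφsurj ?_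
      intro x hx
      obtain ⟨a, ha, hax⟩ := hφker x hx p (by rw [hs']; exact Finset.mem_insert_self _ _)
      refine ⟨algebraMap R P a, ?_, by rw [algebraMap_smul]; exact hax⟩
      rw [hp] at ha
      exact ha
    have hopen := Groth.Agent.S0387.result (R := R) (S := P) (M := (Fin r → P) ⧸ K')
    obtain ⟨g, hgq, hgU⟩ : ∃ g : P, g ∉ q.asIdeal ∧ ∀ q' : PrimeSpectrum P, g ∉ q'.asIdeal →
        Module.Flat R (LocalizedModule q'.asIdeal.primeCompl ((Fin r → P) ⧸ K')) := by
      obtain ⟨_, ⟨g, rfl⟩, hq, hsub⟩ :=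
        PrimeSpectrum.isTopologicalBasis_basic_opens.exists_subset_of_mem_open
          (show q ∈ {q : PrimeSpectrum P | Module.Flat R
            (LocalizedModule q.asIdeal.primeCompl ((Fin r → P) ⧸ K'))} from hflatq) hopen
      exact ⟨g, hq, fun q' hq' => hsub hq'⟩
    refine ⟨g, hgq, K', hK'fg, hK'le, fun k hk => ?_⟩
    have hx : φ (K'.mkQ k) = 0 := by rw [hφmk]; exact hk
    have hrad : g ∈ (Ideal.torsionOf P ((Fin r → P) ⧸ K') (K'.mkQ k)).radical := by
      rw [Ideal.radical_eq_sInf, Ideal.mem_sInf]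
      rintro J ⟨hJ, hJprime⟩
      by_contra hgJ
      have hfl := hgU ⟨J, hJprime⟩ hgJ
      have hzero : LocalizedModule.mkLinearMap J.primeCompl ((Fin r → P) ⧸ K') (K'.mkQ k) = 0 := by
        apply eq_zero_of_flat s hs
        intro p' hp'
        obtain ⟨a, ha, hax⟩ := hφker _ hx p' (by rw [hs']; exact Finset.mem_insert_of_mem hp')
        refine ⟨a, ha, ?_⟩
        rw [← algebraMap_smul P a, ← map_smul, algebraMap_smul, hax, map_zero]
      obtain ⟨u, hu⟩ := (IsLocalizedModule.eq_zero_iff J.primeCompl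
        (LocalizedModule.mkLinearMap J.primeCompl ((Fin r → P) ⧸ K'))).mp hzero
      exact u.2 (hJ ((Ideal.mem_torsionOf_iff _ _).mpr hu))
    obtain ⟨m, hm⟩ := hrad
    refine ⟨m, ?_⟩
    rw [Ideal.mem_torsionOf_iff, ← map_smul, Submodule.mkQ_apply,
      Submodule.Quotient.mk_eq_zero] at hm
    exact hm
  choose g hg K' hK'fg hK'le hK' using claimB
  have hspan : Ideal.span (Set.range g) = ⊤ := by
    by_contra h
    obtain ⟨m, hm, hle⟩ := Ideal.exists_le_maximal _ h
    exact hg ⟨m, hm.isPrime⟩ (hle (Ideal.subset_span ⟨_, rfl⟩))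
  obtain ⟨t, ht⟩ : ∃ t : Finset (PrimeSpectrum P), Ideal.span (g '' (t : Set (PrimeSpectrum P))) = ⊤ := by
    have h1 : (1 : P) ∈ Ideal.span (Set.range g) := by rw [hspan]; trivial
    obtain ⟨t', ht'sub, ht'⟩ := Submodule.mem_span_finite_of_mem_span h1
    rw [← Set.image_univ] at ht'sub
    obtain ⟨t, -, rfl⟩ := Finset.subset_set_image_iff.mp ht'sub
    refine ⟨t, (Ideal.eq_top_iff_one _).mpr ?_⟩
    rwa [Finset.coe_image] at ht'
  have hK : LinearMap.ker f = ⨆ q ∈ t, K' q := by
    refine le_antisymm (fun k hk => ?_) (iSup₂_le fun q _ => hK'le q)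
    refine Submodule.mem_of_span_eq_top_of_smul_pow_mem _ (g '' (t : Set (PrimeSpectrum P))) ht k ?_
    rintro ⟨_, q, hq, rfl⟩
    obtain ⟨m, hm⟩ := hK' q k hk
    exact ⟨m, Submodule.mem_iSup_of_mem q (Submodule.mem_iSup_of_mem hq hm)⟩
  rw [hK]
  exact Submodule.fg_biSup t _ (fun q _ => hK'fg q)

end Groth.Agent.Lib.Helper90.FlatFP
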