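import Mathlib
import Groth.Agent.Lib.Helper90.FlatFP

/-!
# Core form of `FlatFP.finitePresentation_of_flat`, and the algebra version (Stacks 05GD-type).
-/

open TensorProduct

set_option linter.style.haveILetI false
set_option linter.unusedSectionVars false

universe u

namespace Groth.Agent.Lib.Helper90.FlatFP

/-- Core version: `F` finitely presented, `f : F → M` surjective, `M` flat over `R`, and for every
prime `p` of `R` the kernel is "finitely generated at `p`".  Then the kernel is finitely generated. -/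
theorem fg_ker_of_flat {R P M F : Type u} [CommRing R] [CommRing P] [Algebra R P]
    [Algebra.FinitePresentation R P] [AddCommGroup M] [Module P M] [Module R M]
    [IsScalarTower R P M] [Module.Flat R M]
    [AddCommGroup F] [Module P F] [Module R F] [IsScalarTower R P F]
    [Module.FinitePresentation P F]
    (s : Finset (PrimeSpectrum R))
    (hs : Function.Injective fun r : R => fun p : s =>
      algebraMap R (Localization.AtPrime p.1.asIdeal) r)
    (f : F →ₗ[P] M) (fsurj : Function.Surjective f)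
    (hC : ∀ p : PrimeSpectrum R, ∃ K' : Submodule P F, K'.FG ∧
      K' ≤ LinearMap.ker f ∧ ∀ k ∈ LinearMap.ker f, ∃ a : R, a ∉ p.asIdeal ∧ a • k ∈ K') :
    (LinearMap.ker f).FG := by
  classical
  choose KC hKCfg hKCle hKC using hC
  have claimB : ∀ q : PrimeSpectrum P, ∃ g : P, g ∉ q.asIdeal ∧
      ∃ K' : Submodule P F, K'.FG ∧ K' ≤ LinearMap.ker f ∧
        ∀ k ∈ LinearMap.ker f, ∃ m : ℕ, g ^ m • k ∈ K' := by
    intro q
    obtain ⟨p, hp⟩ : ∃ p : PrimeSpectrum R, p = PrimeSpectrum.comap (algebraMap R P) q := ⟨_, rfl⟩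
    obtain ⟨s', hs'⟩ : ∃ s' : Finset (PrimeSpectrum R), s' = insert p s := ⟨_, rfl⟩
    obtain ⟨K', hK'def⟩ : ∃ K' : Submodule P F, K' = ⨆ p' ∈ s', KC p' := ⟨_, rfl⟩
    have hK'fg : K'.FG := by
      rw [hK'def]; exact Submodule.fg_biSup s' _ (fun p' _ => hKCfg p')
    have hK'le : K' ≤ LinearMap.ker f := by
      rw [hK'def]; exact iSup₂_le fun p' _ => hKCle p'
    have hK' : ∀ k ∈ LinearMap.ker f, ∀ p' ∈ s', ∃ a : R, a ∉ p'.asIdeal ∧ a • k ∈ K' := by
      intro k hk p' hp'
      obtain ⟨a, ha, hak⟩ := hKC p' k hk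
      refine ⟨a, ha, ?_⟩
      rw [hK'def]
      exact Submodule.mem_iSup_of_mem p' (Submodule.mem_iSup_of_mem hp' hak)
    obtain ⟨φ, hφdef⟩ : ∃ φ : (F ⧸ K') →ₗ[P] M, φ = K'.liftQ f hK'le := ⟨_, rfl⟩
    have hφmk : ∀ k : F, φ (K'.mkQ k) = f k := by
      intro k; rw [hφdef]; rfl
    have hφsurj : Function.Surjective φ := by
      intro m
      obtain ⟨k, rfl⟩ := fsurj m
      exact ⟨K'.mkQ k, hφmk k⟩
    have hφker : ∀ x : F ⧸ K', φ x = 0 →
        ∀ p' ∈ s', ∃ a : R, a ∉ p'.asIdeal ∧ a • x = 0 := by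
      intro x hx p' hp'
      obtain ⟨k, rfl⟩ := Submodule.mkQ_surjective K' x
      have hk : k ∈ LinearMap.ker f := by
        rw [LinearMap.mem_ker, ← hφmk k]; exact hx
      obtain ⟨a, ha, hak⟩ := hK' k hk p' hp'
      refine ⟨a, ha, ?_⟩
      rw [← algebraMap_smul P a, ← map_smul, algebraMap_smul, Submodule.mkQ_apply,
        Submodule.Quotient.mk_eq_zero]
      exact hak
    have hM'fp : Module.FinitePresentation P (F ⧸ K') :=
      Module.finitePresentation_of_surjective K'.mkQ (Submodule.mkQ_surjective _)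
        (by rw [Submodule.ker_mkQ]; exact hK'fg)
    have hflatq : Module.Flat R (LocalizedModule q.asIdeal.primeCompl (F ⧸ K')) := by
      refine flat_localizedModule_of_surjective q.asIdeal.primeCompl φ hφsurj ?_
      intro x hx
      obtain ⟨a, ha, hax⟩ := hφker x hx p (by rw [hs']; exact Finset.mem_insert_self _ _)
      refine ⟨algebraMap R P a, ?_, by rw [algebraMap_smul]; exact hax⟩
      rw [hp] at ha
      exact ha
    have hopen := Groth.Agent.S0387.result (R := R) (S := P) (M := F ⧸ K')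
    obtain ⟨g, hgq, hgU⟩ : ∃ g : P, g ∉ q.asIdeal ∧ ∀ q' : PrimeSpectrum P, g ∉ q'.asIdeal →
        Module.Flat R (LocalizedModule q'.asIdeal.primeCompl (F ⧸ K')) := by
      obtain ⟨_, ⟨g, rfl⟩, hq, hsub⟩ :=
        PrimeSpectrum.isTopologicalBasis_basic_opens.exists_subset_of_mem_open
          (show q ∈ {q : PrimeSpectrum P | Module.Flat R
            (LocalizedModule q.asIdeal.primeCompl (F ⧸ K'))} from hflatq) hopen
      exact ⟨g, hq, fun q' hq' => hsub hq'⟩
    refine ⟨g, hgq, K', hK'fg, hK'le, fun k hk => ?_⟩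
    have hx : φ (K'.mkQ k) = 0 := by rw [hφmk]; exact hk
    have hrad : g ∈ (Ideal.torsionOf P (F ⧸ K') (K'.mkQ k)).radical := by
      rw [Ideal.radical_eq_sInf, Ideal.mem_sInf]
      rintro J ⟨hJ, hJprime⟩
      by_contra hgJ
      have hfl := hgU ⟨J, hJprime⟩ hgJ
      have hzero : LocalizedModule.mkLinearMap J.primeCompl (F ⧸ K') (K'.mkQ k) = 0 := by
        apply eq_zero_of_flat s hs
        intro p' hp'
        obtain ⟨a, ha, hax⟩ := hφker _ hx p' (by rw [hs']; exact Finset.mem_insert_of_mem hp')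
        refine ⟨a, ha, ?_⟩
        rw [← algebraMap_smul P a, ← map_smul, algebraMap_smul, hax, map_zero]
      obtain ⟨u, hu⟩ := (IsLocalizedModule.eq_zero_iff J.primeCompl
        (LocalizedModule.mkLinearMap J.primeCompl (F ⧸ K'))).mp hzero
      exact u.2 (hJ ((Ideal.mem_torsionOf_iff _ _).mpr hu))
    obtain ⟨m, hm⟩ := hrad
    refine ⟨m, ?_⟩
    rw [Ideal.mem_torsionOf_iff, ← map_smul, Submodule.mkQ_apply,
      Submodule.Quotient.mk_eq_zero] at hm
    exact hm
  choose g hg K' hK'fg hK'le hK' using claimB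
  have hspan : Ideal.span (Set.range g) = ⊤ := by
    by_contra h
    obtain ⟨m, hm, hle⟩ := Ideal.exists_le_maximal _ h
    exact hg ⟨m, hm.isPrime⟩ (hle (Ideal.subset_span ⟨_, rfl⟩))
  obtain ⟨t, ht⟩ : ∃ t : Finset (PrimeSpectrum P), Ideal.span (g '' (t : Set (PrimeSpectrum P))) = ⊤ := by
    have h1 : (1 : P) ∈ Ideal.span (Set.range g) := by rw [hspan]; trivial
    obtain ⟨t', ht'sub, ht'⟩ := Submodule.mem_span_finite_of_mem_span h1
    rw [← Set.image_univ] at ht'sub
    obtain ⟨t, -, rfl⟩ := Finset.subset_set_image_iff.mp ht'sub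
    refine ⟨t, (Ideal.eq_top_iff_one _).mpr ?_⟩
    rwa [Finset.coe_image] at ht'
  have hK : LinearMap.ker f = ⨆ q ∈ t, K' q := by
    refine le_antisymm (fun k hk => ?_) (iSup₂_le fun q _ => hK'le q)
    refine Submodule.mem_of_span_eq_top_of_smul_pow_mem _ (g '' (t : Set (PrimeSpectrum P))) ht k ?_
    rintro ⟨_, q, hq, rfl⟩
    obtain ⟨m, hm⟩ := hK' q k hk
    exact ⟨m, Submodule.mem_iSup_of_mem q (Submodule.mem_iSup_of_mem hq hm)⟩
  rw [hK]
  exact Submodule.fg_biSup t _ (fun q _ => hK'fg q)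


end Groth.Agent.Lib.Helper90.FlatFP
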