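import Mathlib
import Groth.Agent.Lib.Helper90.FlatFP2

/-!
# Algebra version: flat finite type + locally f.p. + `R ↪ ∏ R_{p_j}` implies f.p.
-/

open TensorProduct

set_option linter.style.haveILetI false
set_option linter.unusedSectionVars false

universe u

namespace Groth.Agent.Lib.Helper90.FlatFP

attribute [local instance] MvPolynomial.algebraMvPolynomial

theorem exists_fg_le_ker_alg {R S : Type u} [CommRing R] [CommRing S] [Algebra R S] (n : ℕ)
    (π : MvPolynomial (Fin n) R →ₐ[R] S) (hπ : Function.Surjective π) (p : Ideal R) [p.IsPrime]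
    [Algebra.FinitePresentation (Localization.AtPrime p)
      (Localization (Algebra.algebraMapSubmonoid S p.primeCompl))] :
    ∃ I' : Ideal (MvPolynomial (Fin n) R), I'.FG ∧ I' ≤ RingHom.ker π ∧
      ∀ k ∈ RingHom.ker π, ∃ a : R, a ∉ p ∧ a • k ∈ I' := by
  classical
  obtain ⟨π', hπ'⟩ : ∃ π' : MvPolynomial (Fin n) (Localization.AtPrime p) →ₐ[Localization.AtPrime p]
      (Localization (Algebra.algebraMapSubmonoid S p.primeCompl)),
      π' = MvPolynomial.aeval (fun i => algebraMap S _ (π (MvPolynomial.X i))) := ⟨_, rfl⟩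
  have hcomm : ∀ x : MvPolynomial (Fin n) R,
      π' (algebraMap _ (MvPolynomial (Fin n) (Localization.AtPrime p)) x) =
        algebraMap S (Localization (Algebra.algebraMapSubmonoid S p.primeCompl)) (π x) := by
    intro x
    induction x using MvPolynomial.induction_on with
    | C r =>
      rw [MvPolynomial.algebraMap_def, MvPolynomial.map_C, hπ', MvPolynomial.aeval_C]
      rw [← IsScalarTower.algebraMap_apply R (Localization.AtPrime p), ← MvPolynomial.algebraMap_eq,
        π.commutes, ← IsScalarTower.algebraMap_apply R S]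
    | add x y hx hy => rw [map_add, map_add, hx, hy, map_add, map_add]
    | mul_X x i hx =>
      rw [map_mul, map_mul, hx, map_mul, map_mul]
      congr 1
      rw [MvPolynomial.algebraMap_def, MvPolynomial.map_X, hπ', MvPolynomial.aeval_X]
  have hπ'surj : Function.Surjective π' := by
    intro y
    obtain ⟨⟨s0, t⟩, hst⟩ := IsLocalization.surj (Algebra.algebraMapSubmonoid S p.primeCompl) y
    obtain ⟨a, ha, hat⟩ := t.2
    obtain ⟨x, hx⟩ := hπ s0
    have hunit : IsUnit (algebraMap R (Localization.AtPrime p) a) :=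
      IsLocalization.map_units _ (⟨a, ha⟩ : p.primeCompl)
    obtain ⟨u, hu⟩ := hunit
    refine ⟨MvPolynomial.C (↑u⁻¹ : Localization.AtPrime p) * algebraMap _ _ x, ?_⟩
    rw [map_mul, hcomm, hx, ← hst, ← MvPolynomial.algebraMap_eq, π'.commutes]
    simp only [] at hst ⊢
    rw [← hat, ← IsScalarTower.algebraMap_apply R S, IsScalarTower.algebraMap_apply R (Localization.AtPrime p), ← hu]
    rw [mul_comm y, ← mul_assoc, ← map_mul, Units.inv_mul, map_one, one_mul]
  have hfg := Algebra.FinitePresentation.ker_fG_of_surjective π' hπ'surj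
  have iT : IsLocalization (p.primeCompl.map (MvPolynomial.C (σ := Fin n)))
      (MvPolynomial (Fin n) (Localization.AtPrime p)) :=
    MvPolynomial.isLocalization p.primeCompl (Localization.AtPrime p)
  have hJ : RingHom.ker π'.toRingHom = Ideal.span
      ((algebraMap (MvPolynomial (Fin n) R) (MvPolynomial (Fin n) (Localization.AtPrime p))) ''
        (RingHom.ker π : Set (MvPolynomial (Fin n) R))) := by
    apply le_antisymm
    · intro y hy
      obtain ⟨x, t, rfl⟩ := IsLocalization.exists_mk'_eq
        (p.primeCompl.map (MvPolynomial.C (σ := Fin n))) y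
      rw [← Ideal.map]
      rw [IsLocalization.mk'_mem_map_algebraMap_iff (p.primeCompl.map (MvPolynomial.C (σ := Fin n)))]
      have h1 : π' (algebraMap _ _ x) = 0 := by
        have h2 : algebraMap _ (MvPolynomial (Fin n) (Localization.AtPrime p)) x =
            IsLocalization.mk' _ x t * algebraMap _ _ (t : MvPolynomial (Fin n) R) :=
          (IsLocalization.mk'_spec _ x t).symm
        rw [h2, map_mul]
        have h3 : π' (IsLocalization.mk' _ x t) = 0 := hy
        rw [h3, zero_mul]
      rw [hcomm, IsLocalization.map_eq_zero_iff (Algebra.algebraMapSubmonoid S p.primeCompl)] at h1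
      obtain ⟨⟨c, b, hb, rfl⟩, hc⟩ := h1
      refine ⟨MvPolynomial.C b, Submonoid.mem_map_of_mem _ hb, ?_⟩
      rw [RingHom.mem_ker, map_mul, ← MvPolynomial.algebraMap_eq, π.commutes]
      exact hc
    · rw [Ideal.span_le]
      rintro _ ⟨k, hk, rfl⟩
      show π' _ = 0
      rw [hcomm, (RingHom.mem_ker).mp hk, map_zero]
  rw [hJ] at hfg
  obtain ⟨t, htsub, hspan⟩ := (Submodule.fg_span_iff_fg_span_finset_subset _).mp hfg
  obtain ⟨t₀, ht₀sub, ht₀⟩ := Finset.subset_set_image_iff.mp htsub
  refine ⟨Ideal.span (t₀ : Set (MvPolynomial (Fin n) R)), Submodule.fg_span t₀.finite_toSet,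
    Ideal.span_le.mpr ht₀sub, ?_⟩
  intro k hk
  have h1 : algebraMap _ (MvPolynomial (Fin n) (Localization.AtPrime p)) k ∈
      Submodule.span (MvPolynomial (Fin n) (Localization.AtPrime p))
        ((t : Set (MvPolynomial (Fin n) (Localization.AtPrime p)))) := by
    rw [← hspan]; exact Submodule.subset_span ⟨k, hk, rfl⟩
  obtain ⟨u, hu⟩ := multiple_mem_span_of_mem_localization_span
    (p.primeCompl.map (MvPolynomial.C (σ := Fin n)))
    (MvPolynomial (Fin n) (Localization.AtPrime p)) _ _ h1
  rw [← ht₀, Finset.coe_image] at hu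
  have h4 : Submodule.span (MvPolynomial (Fin n) R)
      ((algebraMap (MvPolynomial (Fin n) R) (MvPolynomial (Fin n) (Localization.AtPrime p))) ''
        (t₀ : Set (MvPolynomial (Fin n) R))) =
      (Submodule.span (MvPolynomial (Fin n) R) (t₀ : Set (MvPolynomial (Fin n) R))).map
        (Algebra.linearMap (MvPolynomial (Fin n) R)
          (MvPolynomial (Fin n) (Localization.AtPrime p))) := by
    rw [Submodule.map_span]; rfl
  rw [h4] at hu
  obtain ⟨z, hz, hzeq⟩ := hu
  have h2 : algebraMap _ (MvPolynomial (Fin n) (Localization.AtPrime p)) z =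
      algebraMap _ _ ((u : MvPolynomial (Fin n) R) * k) := by
    rw [map_mul, ← Algebra.smul_def, ← Submonoid.smul_def]
    exact hzeq
  obtain ⟨v, hv⟩ := (IsLocalization.eq_iff_exists
    (p.primeCompl.map (MvPolynomial.C (σ := Fin n))) _).mp h2
  obtain ⟨a, ha, hau⟩ := u.2
  obtain ⟨b, hb, hbv⟩ := v.2
  refine ⟨b * a, (p.primeCompl.mul_mem hb ha), ?_⟩
  have h3 : (b * a) • k = (v : MvPolynomial (Fin n) R) * z := by
    rw [hv, ← hau, ← hbv, MvPolynomial.smul_eq_C_mul, map_mul, mul_assoc]
  rw [h3]
  exact Ideal.mul_mem_left _ _ hz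


/-- Algebra version (Stacks 05GD-type). -/
theorem algebra_finitePresentation_of_flat {R S : Type u} [CommRing R] [CommRing S]
    [Algebra R S] [Algebra.FiniteType R S] [Module.Flat R S] (s : Finset (PrimeSpectrum R))
    (hs : Function.Injective fun r : R => fun p : s =>
      algebraMap R (Localization.AtPrime p.1.asIdeal) r)
    (hloc : ∀ (p : Ideal R) [p.IsPrime],
      Algebra.FinitePresentation (Localization.AtPrime p)
        (Localization (Algebra.algebraMapSubmonoid S p.primeCompl))) :
    Algebra.FinitePresentation R S := by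
  classical
  obtain ⟨n, π, hπ⟩ := Algebra.FiniteType.iff_quotient_mvPolynomial''.mp
    (inferInstance : Algebra.FiniteType R S)
  letI : Algebra (MvPolynomial (Fin n) R) S := π.toRingHom.toAlgebra
  haveI : IsScalarTower R (MvPolynomial (Fin n) R) S :=
    IsScalarTower.of_algebraMap_eq' π.comp_algebraMap.symm
  have hlin : ∀ x, Algebra.linearMap (MvPolynomial (Fin n) R) S x = π x := fun x => rfl
  have hfg : (LinearMap.ker (Algebra.linearMap (MvPolynomial (Fin n) R) S)).FG := by
    refine fg_ker_of_flat s hs (Algebra.linearMap (MvPolynomial (Fin n) R) S) hπ ?_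
    intro p
    have := hloc p.asIdeal
    obtain ⟨I', h1, h2, h3⟩ := exists_fg_le_ker_alg n π hπ p.asIdeal
    refine ⟨I', h1, fun k hk => ?_, fun k hk => ?_⟩
    · rw [LinearMap.mem_ker, hlin]; exact h2 hk
    · exact h3 k (by rw [RingHom.mem_ker, ← hlin]; exact hk)
  refine Algebra.FinitePresentation.of_surjective hπ ?_
  have heq : RingHom.ker π.toRingHom =
      LinearMap.ker (Algebra.linearMap (MvPolynomial (Fin n) R) S) := by
    ext x
    rw [RingHom.mem_ker, LinearMap.mem_ker, hlin]
    rfl
  rw [heq]
  exact hfg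

end Groth.Agent.Lib.Helper90.FlatFP
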