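import Mathlib
import Groth.Agent.Lib.Helper90.FlatKer

set_option autoImplicit false
set_option linter.style.haveILetI false
universe u

namespace Groth.Agent.Lib.Helper90.FlatKer

/-- If `B = H/N` is flat over `A`, `N ⊆ JH` and `JH` is nilpotent, then `N = 0`. -/
theorem ker_eq_bot_of_flat_of_nilpotent {A H B : Type*} [CommRing A] [CommRing H] [CommRing B]
    [Algebra A H] [Algebra A B] [Module.Flat A B] (J : Ideal A) (p : H →ₐ[A] B)
    (hp : Function.Surjective p)
    (hle : RingHom.ker p.toRingHom ≤ J.map (algebraMap A H)) (k : ℕ)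
    (hnil : (J.map (algebraMap A H)) ^ k = ⊥) : RingHom.ker p.toRingHom = ⊥ := by
  have hstep : RingHom.ker p.toRingHom ≤ J.map (algebraMap A H) * RingHom.ker p.toRingHom := by
    intro z hz
    exact mem_mul_ker_of_flat J p hp z hz (hle hz)
  have hpow : ∀ k : ℕ, RingHom.ker p.toRingHom ≤
      (J.map (algebraMap A H)) ^ k * RingHom.ker p.toRingHom := by
    intro k
    induction k with
    | zero => rw [pow_zero, Ideal.one_eq_top, Ideal.top_mul]
    | succ k ih =>
      refine hstep.trans ?_
      rw [pow_succ', mul_assoc]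
      exact Ideal.mul_mono_right ih
  have := hpow k
  rw [hnil, Ideal.bot_mul] at this
  exact le_bot_iff.mp this

end Groth.Agent.Lib.Helper90.FlatKer
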