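import Groth.Agent.Lib.Helper90.PairHzExt
import Mathlib.Algebra.Colimit.DirectLimit

set_option autoImplicit false
set_option linter.style.haveILetI false
universe u

namespace Groth.Agent.Lib.Helper90.HensColim

open Groth.Agent.Lib.Helper90.PairHz

section Basic

variable {κ : Type u} [Preorder κ] [IsDirectedOrder κ] [Nonempty κ]
  (Ra : κ → Type u) [∀ a, CommRing (Ra a)]
  (t : ∀ a b : κ, a ≤ b → (Ra a →+* Ra b)) [DirectedSystem Ra (fun a b h => t a b h)]

omit [IsDirectedOrder κ] [Nonempty κ] in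
theorem t_t {a b c : κ} (hab : a ≤ b) (hbc : b ≤ c) (x : Ra a) :
    t b c hbc (t a b hab x) = t a c (hab.trans hbc) x :=
  DirectedSystem.map_map (f := fun a b h => t a b h) hab hbc x

theorem of_t {a b : κ} (hab : a ≤ b) (x : Ra a) :
    DirectLimit.Ring.of Ra t b (t a b hab x) = DirectLimit.Ring.of Ra t a x :=
  DirectLimit.Ring.of_f hab x

/-- finitely many elements of the limit come from a common stage. -/
theorem exists_common {ι : Type*} [Finite ι] (z : ι → DirectLimit Ra t) :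
    ∃ (a : κ) (r : ι → Ra a), ∀ i, DirectLimit.Ring.of Ra t a (r i) = z i := by
  choose a' r' hr' using fun i => DirectLimit.exists_eq_mk t (z i)
  obtain ⟨M, hM⟩ := Finite.exists_le a'
  refine ⟨M, fun i => t (a' i) M (hM i) (r' i), fun i => ?_⟩
  rw [of_t, hr' i]
  rfl

theorem exists_of_eq {a : κ} {x y : Ra a}
    (h : DirectLimit.Ring.of Ra t a x = DirectLimit.Ring.of Ra t a y) :
    ∃ (b : κ) (hab : a ≤ b), t a b hab x = t a b hab y := by
  obtain ⟨k, hx, hy, hk⟩ := Quotient.exact h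
  exact ⟨k, hx, hk⟩

theorem exists_of_eq_finite {ι : Type*} [Finite ι] {a : κ} (x y : ι → Ra a)
    (h : ∀ i, DirectLimit.Ring.of Ra t a (x i) = DirectLimit.Ring.of Ra t a (y i)) :
    ∃ (b : κ) (hab : a ≤ b), ∀ i, t a b hab (x i) = t a b hab (y i) := by
  choose b' hab' hb' using fun i => exists_of_eq Ra t (h i)
  obtain ⟨M, hM⟩ := Finite.exists_le b'
  obtain ⟨M', hMM', haM'⟩ := exists_ge_ge M a
  refine ⟨M', haM', fun i => ?_⟩
  have h1 : (hab' i).trans ((hM i).trans hMM') = haM' := rfl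
  rw [← h1, ← t_t Ra t (hab' i) ((hM i).trans hMM'), ← t_t Ra t (hab' i) ((hM i).trans hMM'),
    hb' i]

end Basic

section Alg

variable {A : Type u} [CommRing A] (I : Ideal A)
  {κ : Type u} [Preorder κ] [IsDirectedOrder κ] [Nonempty κ]
  (Ra : κ → Type u) [∀ a, CommRing (Ra a)] [∀ a, Algebra A (Ra a)]
  (t : ∀ a b : κ, a ≤ b → (Ra a →+* Ra b)) [DirectedSystem Ra (fun a b h => t a b h)]
  (ht : ∀ (a b : κ) (h : a ≤ b), (t a b h).comp (algebraMap A (Ra a)) = algebraMap A (Ra b))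
  [Algebra A (DirectLimit Ra t)]
  (halg : ∀ (a : κ) (x : A), algebraMap A (DirectLimit Ra t) x =
    DirectLimit.Ring.of Ra t a (algebraMap A (Ra a) x))

include ht in
omit [IsDirectedOrder κ] [Nonempty κ] [DirectedSystem Ra (fun a b h => t a b h)] in
theorem t_mem_map {a b : κ} (hab : a ≤ b) {x : Ra a} (hx : x ∈ I.map (algebraMap A (Ra a))) :
    t a b hab x ∈ I.map (algebraMap A (Ra b)) := by
  have := Ideal.mem_map_of_mem (t a b hab) hx
  rwa [Ideal.map_map, ht] at this

include ht halg in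
/-- Elements of `I L` come from `I R_a`. -/
theorem exists_of_mem_map {x : DirectLimit Ra t} (hx : x ∈ I.map (algebraMap A (DirectLimit Ra t))) :
    ∃ (b : κ) (x_b : Ra b), x_b ∈ I.map (algebraMap A (Ra b)) ∧
      DirectLimit.Ring.of Ra t b x_b = x := by
  refine Submodule.span_induction (p := fun x _ => ∃ (b : κ) (x_b : Ra b),
    x_b ∈ I.map (algebraMap A (Ra b)) ∧ DirectLimit.Ring.of Ra t b x_b = x) ?_ ?_ ?_ ?_ hx
  · rintro _ ⟨i, hi, rfl⟩
    let a : κ := Classical.arbitrary κ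
    exact ⟨a, algebraMap A (Ra a) i, Ideal.mem_map_of_mem _ hi, (halg a i).symm⟩
  · let a : κ := Classical.arbitrary κ
    exact ⟨a, 0, zero_mem _, map_zero _⟩
  · rintro x y _ _ ⟨b, xb, hxb, rfl⟩ ⟨c, yc, hyc, rfl⟩
    obtain ⟨d, hbd, hcd⟩ := exists_ge_ge b c
    refine ⟨d, t b d hbd xb + t c d hcd yc,
      add_mem (t_mem_map I Ra t ht hbd hxb) (t_mem_map I Ra t ht hcd hyc), ?_⟩
    rw [map_add, of_t, of_t]
  · rintro l x _ ⟨b, xb, hxb, rfl⟩
    obtain ⟨c, lc, rfl⟩ := DirectLimit.exists_eq_mk t l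
    obtain ⟨d, hbd, hcd⟩ := exists_ge_ge b c
    refine ⟨d, t c d hcd lc * t b d hbd xb,
      Ideal.mul_mem_left _ _ (t_mem_map I Ra t ht hbd hxb), ?_⟩
    rw [map_mul, of_t, of_t]
    rfl

include ht halg in
/-- If `I R_a` is in the Jacobson radical of every `R_a`, the same holds in the limit. -/
theorem map_le_jacobson_directLimit
    (hjac : ∀ a, I.map (algebraMap A (Ra a)) ≤ Ideal.jacobson ⊥) :
    I.map (algebraMap A (DirectLimit Ra t)) ≤ Ideal.jacobson ⊥ := by
  intro x hx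
  rw [Ideal.mem_jacobson_bot]
  intro y
  obtain ⟨b, xb, hxb, rfl⟩ := exists_of_mem_map I Ra t ht halg hx
  obtain ⟨c, yc, rfl⟩ := DirectLimit.exists_eq_mk t y
  obtain ⟨d, hbd, hcd⟩ := exists_ge_ge b c
  have h1 := Ideal.mem_jacobson_bot.mp (hjac d (t_mem_map I Ra t ht hbd hxb)) (t c d hcd yc)
  have h2 : DirectLimit.Ring.of Ra t b xb * (⟦⟨c, yc⟩⟧ : DirectLimit Ra t) + 1 =
      DirectLimit.Ring.of Ra t d (t b d hbd xb * t c d hcd yc + 1) := by
    rw [map_add, map_mul, map_one, of_t, of_t]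
    rfl
  rw [h2]
  exact h1.map _

include ht halg in
/-- A map from a finitely presented algebra into the limit factors through a stage. -/
theorem exists_factor_of_finitePresentation (R₀ : Type u) [CommRing R₀] [Algebra A R₀]
    [Algebra.FinitePresentation A R₀] (χ₀ : R₀ →ₐ[A] DirectLimit Ra t) :
    ∃ (a : κ) (φ₀ : R₀ →ₐ[A] Ra a), ∀ x, DirectLimit.Ring.of Ra t a (φ₀ x) = χ₀ x := by
  classical
  obtain ⟨n, π, hπ, s, hs⟩ := Algebra.FinitePresentation.out (R := A) (A := R₀)
  obtain ⟨a₁, r, hr⟩ := exists_common Ra t (fun i : Fin n => χ₀ (π (MvPolynomial.X i)))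
  let θ₁ : MvPolynomial (Fin n) A →ₐ[A] Ra a₁ := MvPolynomial.aeval r
  -- `of a₁ ∘ θ₁ = χ₀ ∘ π`
  let ofA : Ra a₁ →ₐ[A] DirectLimit Ra t :=
    { DirectLimit.Ring.of Ra t a₁ with commutes' := fun x => (halg a₁ x).symm }
  have hθ₁ : ofA.comp θ₁ = χ₀.comp π := by
    apply MvPolynomial.algHom_ext
    intro i
    change DirectLimit.Ring.of Ra t a₁ (MvPolynomial.aeval r (MvPolynomial.X i)) = _
    rw [MvPolynomial.aeval_X]
    exact hr i
  have hzero : ∀ p : s, DirectLimit.Ring.of Ra t a₁ (θ₁ p.1) =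
      DirectLimit.Ring.of Ra t a₁ 0 := by
    intro p
    have h1 : DirectLimit.Ring.of Ra t a₁ (θ₁ p.1) = χ₀ (π p.1) := congr($hθ₁ p.1)
    have h2 : π p.1 = 0 := by
      have : p.1 ∈ RingHom.ker π.toRingHom := by
        rw [← hs]; exact Ideal.subset_span p.2
      exact this
    rw [h1, h2, map_zero, map_zero]
  obtain ⟨a₂, h12, hkill⟩ := exists_of_eq_finite Ra t (fun p : s => θ₁ p.1) (fun _ => 0) hzero
  let tA : Ra a₁ →ₐ[A] Ra a₂ :=
    { t a₁ a₂ h12 with commutes' := fun x => congr($(ht a₁ a₂ h12) x) }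
  let θ₂ : MvPolynomial (Fin n) A →ₐ[A] Ra a₂ := tA.comp θ₁
  have hker : RingHom.ker π.toRingHom ≤ RingHom.ker θ₂.toRingHom := by
    rw [← hs, Ideal.span_le]
    intro p hp
    have := hkill ⟨p, hp⟩
    simp only [map_zero] at this
    exact this
  let φ₀ : R₀ →ₐ[A] Ra a₂ := AlgHom.liftOfSurjective π hπ θ₂ hker
  refine ⟨a₂, φ₀, fun x => ?_⟩
  obtain ⟨p, rfl⟩ := hπ x
  rw [AlgHom.liftOfSurjective_apply]
  change DirectLimit.Ring.of Ra t a₂ (t a₁ a₂ h12 (θ₁ p)) = _
  rw [of_t]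
  exact congr($hθ₁ p)

include ht halg in
theorem algHom_directLimit_bijective
    [∀ a, HenselianRing (Ra a) (I.map (algebraMap A (Ra a)))]
    (R₀ : Type u) [CommRing R₀] [Algebra A R₀] [Algebra.FinitePresentation A R₀]
    (B : Type u) [CommRing B] [Algebra R₀ B] [Algebra A B] [IsScalarTower A R₀ B]
    (hB : Hens2.IsPairHenselization R₀ (I.map (algebraMap A R₀)) B) :
    (∀ χ : B →ₐ[A] DirectLimit Ra t, ∃ (a : κ) (φ : B →ₐ[A] Ra a),
        ∀ x : B, DirectLimit.Ring.of Ra t a (φ x) = χ x) ∧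
    ∀ (a : κ) (φ ψ : B →ₐ[A] Ra a),
      (∀ x : B, DirectLimit.Ring.of Ra t a (φ x) = DirectLimit.Ring.of Ra t a (ψ x)) →
      ∃ (b : κ) (h : a ≤ b), ∀ x : B, t a b h (φ x) = t a b h (ψ x) := by
  classical
  have hhens : ∀ a, HenselianRing (Ra a) (I.map (algebraMap A (Ra a))) := fun a => inferInstance
  -- any `A`-algebra map `R₀ → R_a` sends `I R₀` into `I R_a`
  have hle : ∀ (a : κ) (τ : R₀ →ₐ[A] Ra a), (I.map (algebraMap A R₀)).map τ.toRingHom ≤
      I.map (algebraMap A (Ra a)) := by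
    intro a τ
    rw [Ideal.map_map]
    have : τ.toRingHom.comp (algebraMap A R₀) = algebraMap A (Ra a) := τ.comp_algebraMap
    rw [this]
  constructor
  · intro χ
    obtain ⟨a, φ₀, hφ₀⟩ := exists_factor_of_finitePresentation Ra t ht halg R₀
      (χ.comp (IsScalarTower.toAlgHom A R₀ B))
    obtain ⟨g, hg, -⟩ := hB.2 (Ra a) (I.map (algebraMap A (Ra a))) φ₀.toRingHom (hhens a)
      (hle a φ₀)
    have hgr : ∀ r : R₀, g (algebraMap R₀ B r) = φ₀ r := fun r => congr($hg r)
    let φ : B →ₐ[A] Ra a :=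
      { g with
        commutes' := fun x => by
          change g (algebraMap A B x) = algebraMap A (Ra a) x
          rw [IsScalarTower.algebraMap_apply A R₀ B, hgr, φ₀.commutes] }
    refine ⟨a, φ, ?_⟩
    -- compare the two maps `B → L` as `R₀`-algebra maps
    letI : Algebra R₀ (DirectLimit Ra t) := (χ.toRingHom.comp (algebraMap R₀ B)).toAlgebra
    have hjacL : (I.map (algebraMap A R₀)).map (algebraMap R₀ (DirectLimit Ra t)) ≤
        Ideal.jacobson ⊥ := by
      rw [Ideal.map_map]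
      have : (algebraMap R₀ (DirectLimit Ra t)).comp (algebraMap A R₀) =
          algebraMap A (DirectLimit Ra t) := by
        ext x
        change χ (algebraMap R₀ B (algebraMap A R₀ x)) = _
        rw [← IsScalarTower.algebraMap_apply, χ.commutes]
      rw [this]
      exact map_le_jacobson_directLimit I Ra t ht halg (fun a => (hhens a).jac)
    let u : B →ₐ[R₀] DirectLimit Ra t :=
      { (DirectLimit.Ring.of Ra t a).comp g with
        commutes' := fun r => by
          change DirectLimit.Ring.of Ra t a (g (algebraMap R₀ B r)) = χ (algebraMap R₀ B r)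
          rw [hgr]
          exact hφ₀ r }
    let v : B →ₐ[R₀] DirectLimit Ra t := { χ.toRingHom with commutes' := fun _ => rfl }
    have huv : u = v := algHom_ext_of_isPairHenselization_of_le_jacobson _ hB hjacL u v
    intro x
    exact congr($huv x)
  · intro a φ ψ h
    obtain ⟨n, π, hπ, -⟩ := Algebra.FinitePresentation.out (R := A) (A := R₀)
    obtain ⟨b, hab, hb⟩ := exists_of_eq_finite Ra t
      (fun i : Fin n => φ (algebraMap R₀ B (π (MvPolynomial.X i))))
      (fun i : Fin n => ψ (algebraMap R₀ B (π (MvPolynomial.X i)))) (fun i => h _)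
    refine ⟨b, hab, ?_⟩
    let tA : Ra a →ₐ[A] Ra b :=
      { t a b hab with commutes' := fun x => congr($(ht a b hab) x) }
    have h1 : ((tA.comp φ).comp (IsScalarTower.toAlgHom A R₀ B)).comp π =
        ((tA.comp ψ).comp (IsScalarTower.toAlgHom A R₀ B)).comp π := by
      apply MvPolynomial.algHom_ext
      intro i
      exact hb i
    have h2 : (tA.comp φ).comp (IsScalarTower.toAlgHom A R₀ B) =
        (tA.comp ψ).comp (IsScalarTower.toAlgHom A R₀ B) := by
      ext r
      obtain ⟨p, rfl⟩ := hπ r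
      exact congr($h1 p)
    obtain ⟨g, -, hguniq⟩ := hB.2 (Ra b) (I.map (algebraMap A (Ra b)))
      ((tA.comp φ).comp (IsScalarTower.toAlgHom A R₀ B)).toRingHom (hhens b) (hle b _)
    have e1 : (tA.comp φ).toRingHom = g := hguniq _ rfl
    have e2 : (tA.comp ψ).toRingHom = g := hguniq _ (congr(($h2).toRingHom).symm)
    intro x
    exact congr($(e1.trans e2.symm) x)

end Alg

end Groth.Agent.Lib.Helper90.HensColim
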