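import Mathlib
import Groth.Agent.Lib.Helper90.HensWeier

set_option autoImplicit false
set_option linter.style.haveILetI false
universe u

namespace Groth.Agent.Lib.Helper90.HensLaurent

open Polynomial Groth.Agent.Lib.Helper90.PairHz Groth.Agent.Lib.Helper90.HensWeier

section Normalized

variable {R : Type u} [CommRing R] [IsLocalRing R]

/-- normalized polynomial: constant coefficient `1` and all other coefficients in `m`. -/
def IsNorm (g : R[X]) : Prop :=
  g.coeff 0 = 1 ∧ ∀ i, i ≠ 0 → g.coeff i ∈ IsLocalRing.maximalIdeal R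

theorem exists_norm_of_sup_eq_top (I : Ideal R[X])
    (h : I ⊔ (IsLocalRing.maximalIdeal R).map (algebraMap R R[X]) = ⊤) : ∃ g ∈ I, IsNorm g := by
  obtain ⟨g₀, hg₀, μ, hμ, h1⟩ := Submodule.mem_sup.mp ((Ideal.eq_top_iff_one _).mp h)
  have hμ' : ∀ n, μ.coeff n ∈ IsLocalRing.maximalIdeal R := Ideal.mem_map_C_iff.mp hμ
  have hc : ∀ n, g₀.coeff n = (1 : R[X]).coeff n - μ.coeff n := by
    intro n
    rw [← h1, coeff_add, add_sub_cancel_right]
  have hu : IsUnit (g₀.coeff 0) := by
    rw [hc 0, coeff_one_zero]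
    by_contra hnu
    have h2 : (1 : R) - μ.coeff 0 ∈ IsLocalRing.maximalIdeal R := hnu
    have h3 := Ideal.add_mem _ h2 (hμ' 0)
    rw [sub_add_cancel] at h3
    exact (IsLocalRing.maximalIdeal.isMaximal R).ne_top ((Ideal.eq_top_iff_one _).mpr h3)
  obtain ⟨c, hc0⟩ := hu
  refine ⟨C ((c⁻¹ : Rˣ) : R) * g₀, Ideal.mul_mem_left _ _ hg₀, ?_, ?_⟩
  · rw [coeff_C_mul, ← hc0, Units.inv_mul]
  · intro i hi
    rw [coeff_C_mul, hc i, coeff_one, if_neg hi, zero_sub]
    exact Ideal.mul_mem_left _ _ (neg_mem (hμ' i))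

theorem IsNorm.one_sub_mem {g : R[X]} (hg : IsNorm g) :
    1 - g ∈ (IsLocalRing.maximalIdeal R).map (algebraMap R R[X]) := by
  apply Ideal.mem_map_C_iff.mpr
  intro n
  rw [coeff_sub]
  by_cases hn : n = 0
  · subst hn
    rw [hg.1, coeff_one_zero, sub_self]
    exact Ideal.zero_mem _
  · rw [coeff_one, if_neg hn, zero_sub]
    exact neg_mem (hg.2 n hn)

theorem IsNorm.reflect_coeff_self {g : R[X]} (hg : IsNorm g) (n : ℕ) :
    (reflect n g).coeff n = 1 := by
  rw [coeff_reflect, revAt_le le_rfl, Nat.sub_self, hg.1]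

theorem IsNorm.reflect_monic {g : R[X]} (hg : IsNorm g) {n : ℕ} (hn : g.natDegree ≤ n) :
    (reflect n g).Monic := by
  apply monic_of_natDegree_le_of_coeff_eq_one n _ (hg.reflect_coeff_self n)
  exact natDegree_reflect_le.trans (max_le le_rfl hn)

theorem IsNorm.reflect_natDegree {g : R[X]} (hg : IsNorm g) {n : ℕ}
    (hn : g.natDegree ≤ n) : (reflect n g).natDegree = n := by
  apply le_antisymm (natDegree_reflect_le.trans (max_le le_rfl hn))
  apply le_natDegree_of_ne_zero
  rw [hg.reflect_coeff_self n]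
  exact one_ne_zero

theorem IsNorm.reflect_coeff_mem {g : R[X]} (hg : IsNorm g) {n : ℕ} (hn : g.natDegree ≤ n)
    (i : ℕ) (hi : i < (reflect n g).natDegree) :
    (reflect n g).coeff i ∈ IsLocalRing.maximalIdeal R := by
  rw [hg.reflect_natDegree hn] at hi
  rw [coeff_reflect, revAt_le hi.le]
  exact hg.2 _ (by omega)

/-- the reflection of a distinguished monic polynomial is normalized -/
theorem isNorm_reflect {P : R[X]} (hP : P.Monic)
    (hc : ∀ i, i < P.natDegree → P.coeff i ∈ IsLocalRing.maximalIdeal R) :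
    IsNorm (reflect P.natDegree P) := by
  constructor
  · rw [coeff_reflect, revAt_zero]
    exact hP.coeff_natDegree
  · intro i hi
    rw [coeff_reflect]
    by_cases hle : i ≤ P.natDegree
    · rw [revAt_le hle]
      exact hc _ (by omega)
    · rw [revAt_eq_self_of_lt (by omega), coeff_eq_zero_of_natDegree_lt (by omega)]
      exact Ideal.zero_mem _

end Normalized

section NotMem

variable {R : Type u} [CommRing R] [IsLocalRing R] {B : Type u} [CommRing B] [Algebra R B]
  [Algebra R[X] B] [IsScalarTower R R[X] B]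
variable (hB : Hens2.IsPairHenselization R[X] (Ideal.span {(X : R[X])}) B)

include hB

theorem X_pow_notMem_mB (k : ℕ) : algebraMap R[X] B X ^ k ∉ mB R B := by
  intro hmem
  have hQ := quotBij_pow_of_isPairHenselization _ (isPairHenselization_quot_mB hB) (k + 1)
  have h1 := hQ.inj (Ideal.Quotient.mk (mP R) (X ^ k)) (by
    rw [Ideal.Quotient.algebraMap_quotient_map_quotient, map_pow,
      Ideal.Quotient.eq_zero_iff_mem.mpr hmem]
    exact Ideal.zero_mem _)
  rw [Ideal.map_span, Set.image_singleton, Ideal.span_singleton_pow, ← map_pow,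
    Ideal.mem_span_singleton'] at h1
  obtain ⟨w, hw⟩ := h1
  obtain ⟨w, rfl⟩ := Ideal.Quotient.mk_surjective w
  rw [← map_mul, Ideal.Quotient.eq] at hw
  have h2 := (Ideal.mem_map_C_iff.mp hw) k
  rw [coeff_sub, coeff_mul_X_pow', if_neg (by omega), coeff_X_pow_self, zero_sub, neg_mem_iff] at h2
  exact (IsLocalRing.maximalIdeal.isMaximal R).ne_top ((Ideal.eq_top_iff_one _).mpr h2)

end NotMem

end Groth.Agent.Lib.Helper90.HensLaurent
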