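import Mathlib
import Groth.Agent.Lib.Helper90.HensLaurentBasic

set_option autoImplicit false
set_option linter.style.haveILetI false
set_option linter.unusedSectionVars false
universe u

namespace Groth.Agent.Lib.Helper90.HensLaurent

open Polynomial Groth.Agent.Lib.Helper90.PairHz Groth.Agent.Lib.Helper90.HensWeier

section Main

variable {R : Type u} [CommRing R] [HenselianLocalRing R] {B : Type u} [CommRing B] [Algebra R B]
  [Algebra R[X] B] [IsScalarTower R R[X] B]
variable (hB : Hens2.IsPairHenselization R[X] (Ideal.span {(X : R[X])}) B)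
variable {L : Type u} [CommRing L] [Algebra B L] [Algebra R L] [IsScalarTower R B L]
  [IsLocalization.Away (algebraMap R[X] B X) L]
variable (ψ : R[X] →ₐ[R] L) (hψ : ψ X * algebraMap B L (algebraMap R[X] B X) = 1)

theorem algL_apply (q : R[X]) : algebraMap B L (algebraMap R[X] B q) =
    eval₂ (algebraMap R L) (algebraMap B L (algebraMap R[X] B X)) q :=
  eval_unique ((IsScalarTower.toAlgHom R B L).comp (IsScalarTower.toAlgHom R R[X] B)) q

include hψ

theorem isUnit_psi_X : IsUnit (ψ X) := IsUnit.of_mul_eq_one _ hψ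

theorem isUnit_tL : IsUnit (algebraMap B L (algebraMap R[X] B X)) :=
  IsUnit.of_mul_eq_one _ ((mul_comm _ _).trans hψ)

theorem psi_eq_mul (g : R[X]) (n : ℕ) (hn : g.natDegree ≤ n) :
    ψ g = algebraMap B L (algebraMap R[X] B (reflect n g)) * ψ X ^ n := by
  letI : Invertible (ψ X) := ⟨algebraMap B L (algebraMap R[X] B X), (mul_comm _ _).trans hψ, hψ⟩
  rw [eval_unique ψ g, algL_apply]
  exact (eval₂_reflect_mul_pow (algebraMap R L) (ψ X) n g hn).symm

theorem algL_eq_mul (P : R[X]) (n : ℕ) (hn : P.natDegree ≤ n) :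
    algebraMap B L (algebraMap R[X] B P) =
      ψ (reflect n P) * algebraMap B L (algebraMap R[X] B X) ^ n := by
  letI : Invertible (algebraMap B L (algebraMap R[X] B X)) := ⟨ψ X, hψ, (mul_comm _ _).trans hψ⟩
  rw [eval_unique ψ (reflect n P), algL_apply]
  exact (eval₂_reflect_mul_pow (algebraMap R L) (algebraMap B L (algebraMap R[X] B X)) n P hn).symm

theorem span_psi_eq (g : R[X]) (n : ℕ) (hn : g.natDegree ≤ n) :
    Ideal.span {ψ g} = Ideal.span {algebraMap B L (algebraMap R[X] B (reflect n g))} := by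
  rw [psi_eq_mul ψ hψ g n hn]
  exact Ideal.span_singleton_mul_right_unit ((isUnit_psi_X ψ hψ).pow n) _

theorem span_psi_eq_map (g : R[X]) (n : ℕ) (hn : g.natDegree ≤ n) :
    Ideal.span {ψ g} =
      ((Ideal.span {reflect n g}).map (algebraMap R[X] B)).map (algebraMap B L) := by
  rw [span_psi_eq ψ hψ g n hn, Ideal.map_span, Set.image_singleton, Ideal.map_span,
    Set.image_singleton]

/-- `t ≡ ψ(-h)` modulo `ψ g`, where `g = h X + 1`. -/
theorem tL_sub_mem {g : R[X]} (hg : IsNorm g) :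
    algebraMap B L (algebraMap R[X] B X) - ψ (-g.divX) ∈ Ideal.span {ψ g} := by
  rw [Ideal.mem_span_singleton']
  refine ⟨algebraMap B L (algebraMap R[X] B X), ?_⟩
  have h1 : ψ g = ψ g.divX * ψ X + 1 := by
    conv_lhs => rw [← divX_mul_X_add g, hg.1]
    rw [map_add, map_mul, C_1, map_one]
  rw [h1, mul_add, mul_one, mul_comm (ψ g.divX), ← mul_assoc, mul_comm _ (ψ X), hψ, one_mul,
    map_neg, sub_neg_eq_add, add_comm]

theorem psi_comp (q r : R[X]) : ψ (q.comp r) = eval₂ (algebraMap R L) (ψ r) q := by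
  have h := hom_eval₂ q (C : R →+* R[X]) (ψ : R[X] →+* L) r
  have h2 : (ψ : R[X] →+* L).comp (C : R →+* R[X]) = algebraMap R L := by
    ext r
    rw [RingHom.comp_apply]
    exact ψ.commutes r
  rw [h2] at h
  exact h

include hB in
theorem exists_sub_mem {g : R[X]} (hg : IsNorm g) (l : L) :
    ∃ p : R[X], l - ψ p ∈ Ideal.span {ψ g} := by
  obtain ⟨k, b, hkb⟩ := IsLocalization.Away.surj (algebraMap R[X] B X) l
  have hGm := hg.reflect_monic (le_refl g.natDegree)
  have hGc := hg.reflect_coeff_mem (le_refl g.natDegree)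
  have hQB := (quotBij_iff _).mpr (bijective_quot_of_distinguished hB hGm hGc)
  obtain ⟨q, hq⟩ := hQB.surj b
  have h1 : algebraMap B L b - algebraMap B L (algebraMap R[X] B q) ∈ Ideal.span {ψ g} := by
    rw [span_psi_eq_map ψ hψ g _ le_rfl, ← map_sub]
    exact Ideal.mem_map_of_mem _ hq
  have h2 : algebraMap B L (algebraMap R[X] B q) - ψ (q.comp (-g.divX)) ∈ Ideal.span {ψ g} := by
    rw [algL_apply, psi_comp ψ hψ, eval₂_eq_eval_map, eval₂_eq_eval_map]
    obtain ⟨c, hc⟩ := sub_dvd_eval_sub (algebraMap B L (algebraMap R[X] B X)) (ψ (-g.divX))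
      (q.map (algebraMap R L))
    rw [hc]
    exact Ideal.mul_mem_right _ _ (tL_sub_mem ψ hψ hg)
  refine ⟨q.comp (-g.divX) * X ^ k, ?_⟩
  have hl : l = algebraMap B L b * ψ X ^ k := by
    rw [← hkb, mul_assoc, ← mul_pow, mul_comm _ (ψ X), hψ, one_pow, mul_one]
  rw [hl, map_mul, map_pow, ← sub_mul]
  apply Ideal.mul_mem_right
  have := Ideal.add_mem _ h1 h2
  rwa [sub_add_sub_cancel] at this

include hB in
theorem mem_span_of_psi_mem {g : R[X]} (hg : IsNorm g) (p : R[X])
    (hp : ψ p ∈ Ideal.span {ψ g}) : p ∈ Ideal.span {g} := by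
  have hGm := hg.reflect_monic (le_refl g.natDegree)
  have hGc := hg.reflect_coeff_mem (le_refl g.natDegree)
  have hQB := (quotBij_iff _).mpr (bijective_quot_of_distinguished hB hGm hGc)
  have h1 : algebraMap B L (algebraMap R[X] B (reflect p.natDegree p)) ∈
      ((Ideal.span {reflect g.natDegree g}).map (algebraMap R[X] B)).map (algebraMap B L) := by
    rw [← span_psi_eq_map ψ hψ g _ le_rfl]
    have : algebraMap B L (algebraMap R[X] B (reflect p.natDegree p)) =
        ψ p * algebraMap B L (algebraMap R[X] B X) ^ p.natDegree := by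
      rw [psi_eq_mul ψ hψ p _ le_rfl, mul_assoc, ← mul_pow, hψ, one_pow, mul_one]
    rw [this]
    exact Ideal.mul_mem_right _ _ hp
  obtain ⟨⟨⟨x, hx⟩, ⟨y, ⟨j, rfl⟩⟩⟩, hxy⟩ :=
    (IsLocalization.mem_map_algebraMap_iff (Submonoid.powers (algebraMap R[X] B X)) L).mp h1
  rw [← map_mul] at hxy
  obtain ⟨⟨c, ⟨j', rfl⟩⟩, hc⟩ :=
    (IsLocalization.eq_iff_exists (Submonoid.powers (algebraMap R[X] B X)) L).mp hxy
  have h2 : algebraMap R[X] B (X ^ (j' + j) * reflect p.natDegree p) ∈
      (Ideal.span {reflect g.natDegree g}).map (algebraMap R[X] B) := by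
    have : algebraMap R[X] B (X ^ (j' + j) * reflect p.natDegree p) =
        algebraMap R[X] B X ^ j' * x := by
      rw [← hc]; simp only [map_mul, map_pow]; ring
    rw [this]
    exact Ideal.mul_mem_left _ _ hx
  have h3 := hQB.inj _ h2
  obtain ⟨w, hw⟩ := Ideal.mem_span_singleton'.mp h3
  rw [← Ideal.Quotient.eq_zero_iff_mem]
  obtain ⟨mk, hmk⟩ : ∃ mk : R[X] →+* R[X] ⧸ Ideal.span {g}, mk = Ideal.Quotient.mk _ := ⟨_, rfl⟩
  rw [← hmk]
  have hg0 : mk g = 0 := by
    rw [hmk]; exact Ideal.Quotient.eq_zero_iff_mem.mpr (Ideal.mem_span_singleton_self g)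
  have hst : mk X * mk (-g.divX) = 1 := by
    have hgeq : g.divX * X + 1 = g := by
      have h := divX_mul_X_add g
      rwa [hg.1, C_1] at h
    have : mk (g.divX * X + 1) = 0 := by rw [hgeq]; exact hg0
    rw [map_add, map_mul, map_one] at this
    rw [map_neg]
    linear_combination (-1 : R[X] ⧸ Ideal.span {g}) * this
  letI : Invertible (mk X) := ⟨mk (-g.divX), (mul_comm _ _).trans hst, hst⟩
  have hev : ∀ f : R[X], eval₂ (mk.comp C) (mk X) f = mk f := fun f => by
    rw [← hom_eval₂, eval₂_C_X]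
  have hG := eval₂_reflect_mul_pow (mk.comp C) (mk X) g.natDegree g le_rfl
  rw [hev, hg0] at hG
  have hG' : eval₂ (mk.comp C) (⅟(mk X)) (reflect g.natDegree g) = 0 := by
    have hu : IsUnit (mk X ^ g.natDegree) := (isUnit_of_invertible (mk X)).pow _
    exact hu.mul_left_eq_zero.mp hG
  have hp' := eval₂_reflect_mul_pow (mk.comp C) (mk X) p.natDegree p le_rfl
  rw [hev] at hp'
  have h4 := congrArg (eval₂ (mk.comp C) (⅟(mk X))) hw
  rw [eval₂_mul, hG', mul_zero, eval₂_mul, eval₂_X_pow] at h4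
  have h5 : eval₂ (mk.comp C) (⅟(mk X)) (reflect p.natDegree p) = 0 := by
    have hu : IsUnit (⅟(mk X) ^ (j' + j)) := (isUnit_of_invertible _).pow _
    exact hu.mul_right_eq_zero.mp h4.symm
  rw [← hp', h5, zero_mul]

include hB in
theorem exists_sub_mem_of_mem_map {I : Ideal R[X]} {g : R[X]} (_hgI : g ∈ I) (hg : IsNorm g)
    {z : L} (hz : z ∈ I.map ψ.toRingHom) : ∃ i ∈ I, z - ψ i ∈ Ideal.span {ψ g} := by
  induction hz using Submodule.span_induction with
  | mem z hz =>
    obtain ⟨i, hi, rfl⟩ := hz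
    exact ⟨i, hi, by erw [sub_self]; exact Ideal.zero_mem _⟩
  | zero => exact ⟨0, I.zero_mem, by rw [map_zero, sub_self]; exact Ideal.zero_mem _⟩
  | add x y _ _ hx hy =>
    obtain ⟨i, hi, hxi⟩ := hx
    obtain ⟨i', hi', hyi⟩ := hy
    refine ⟨i + i', I.add_mem hi hi', ?_⟩
    rw [map_add]
    have := Ideal.add_mem _ hxi hyi
    rwa [sub_add_sub_comm] at this
  | smul a x _ hx =>
    obtain ⟨i, hi, hxi⟩ := hx
    obtain ⟨p, hp⟩ := exists_sub_mem hB ψ hψ hg a
    refine ⟨p * i, I.mul_mem_left _ hi, ?_⟩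
    rw [smul_eq_mul, map_mul]
    have : a * x - ψ p * ψ i = a * (x - ψ i) + (a - ψ p) * ψ i := by ring
    rw [this]
    exact Ideal.add_mem _ (Ideal.mul_mem_left _ _ hxi) (Ideal.mul_mem_right _ _ hp)

include hB in
theorem partA (I : Ideal R[X])
    (hI : I ⊔ (IsLocalRing.maximalIdeal R).map (algebraMap R R[X]) = ⊤) :
    (I.map ψ.toRingHom).comap ψ.toRingHom = I ∧
    I.map ψ.toRingHom ⊔ (IsLocalRing.maximalIdeal R).map (algebraMap R L) = ⊤ ∧
    Function.Bijective
      (Ideal.quotientMap (I.map ψ.toRingHom) ψ.toRingHom Ideal.le_comap_map) := by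
  obtain ⟨g, hgI, hg⟩ := exists_norm_of_sup_eq_top I hI
  have hA1 : (I.map ψ.toRingHom).comap ψ.toRingHom = I := by
    apply le_antisymm _ Ideal.le_comap_map
    intro p hp
    rw [Ideal.mem_comap] at hp
    obtain ⟨i, hi, h⟩ := exists_sub_mem_of_mem_map hB ψ hψ hgI hg hp
    have h2 : ψ (p - i) ∈ Ideal.span {ψ g} := by rw [map_sub]; exact h
    have h3 := mem_span_of_psi_mem hB ψ hψ hg _ h2
    have h4 : p - i ∈ I := (Ideal.span_le.mpr (Set.singleton_subset_iff.mpr hgI)) h3
    have := I.add_mem h4 hi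
    rwa [sub_add_cancel] at this
  refine ⟨hA1, ?_, ?_, ?_⟩
  · rw [Ideal.eq_top_iff_one]
    have h1 : (1 : L) = ψ g + ψ (1 - g) := by rw [← map_add, add_sub_cancel, map_one]
    rw [h1]
    apply Ideal.add_mem
    · exact Ideal.mem_sup_left (Ideal.mem_map_of_mem ψ.toRingHom hgI)
    · apply Ideal.mem_sup_right
      have h2 : (IsLocalRing.maximalIdeal R).map (algebraMap R L) =
          ((IsLocalRing.maximalIdeal R).map (algebraMap R R[X])).map ψ.toRingHom := by
        rw [Ideal.map_map]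
        congr 1
        ext r
        exact (ψ.commutes r).symm
      rw [h2]
      exact Ideal.mem_map_of_mem ψ.toRingHom hg.one_sub_mem
  · exact Ideal.quotientMap_injective' (le_of_eq hA1)
  · intro y
    obtain ⟨l, rfl⟩ := Ideal.Quotient.mk_surjective y
    obtain ⟨p, hp⟩ := exists_sub_mem hB ψ hψ hg l
    refine ⟨Ideal.Quotient.mk I p, ?_⟩
    rw [Ideal.quotientMap_mk]
    symm
    rw [Ideal.Quotient.eq]
    exact (Ideal.span_le.mpr (Set.singleton_subset_iff.mpr
      (Ideal.mem_map_of_mem ψ.toRingHom hgI))) hp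

include hB in
theorem exists_norm_of_sup_eq_top_L (J : Ideal L)
    (hJ : J ⊔ (IsLocalRing.maximalIdeal R).map (algebraMap R L) = ⊤) :
    ∃ g : R[X], IsNorm g ∧ ψ g ∈ J := by
  obtain ⟨j, hj, μ, hμ, h1⟩ := Submodule.mem_sup.mp ((Ideal.eq_top_iff_one _).mp hJ)
  have h2 : (IsLocalRing.maximalIdeal R).map (algebraMap R L) =
      ((IsLocalRing.maximalIdeal R).map (algebraMap R B)).map (algebraMap B L) := by
    rw [Ideal.map_map, ← IsScalarTower.algebraMap_eq]
  rw [h2] at hμ
  obtain ⟨⟨⟨β, hβ⟩, ⟨y, ⟨k, rfl⟩⟩⟩, hβy⟩ :=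
    (IsLocalization.mem_map_algebraMap_iff (Submonoid.powers (algebraMap R[X] B X)) L).mp hμ
  have hβy' : μ * algebraMap B L (algebraMap R[X] B X) ^ k = algebraMap B L β := by
    rw [← map_pow]; exact hβy
  have hb : algebraMap R[X] B X ^ k - β ∉
      (IsLocalRing.maximalIdeal R).map (algebraMap R B) := by
    intro hmem
    have := Ideal.add_mem _ hmem hβ
    rw [sub_add_cancel, ← mB_eq] at this
    exact X_pow_notMem_mB hB k this
  obtain ⟨⟨⟨P, u⟩, ⟨hPm, hPc, hfP⟩, -⟩, -⟩ := weierstrass hB _ hb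
  refine ⟨reflect P.natDegree P, isNorm_reflect hPm hPc, ?_⟩
  have h3 : algebraMap B L (algebraMap R[X] B X ^ k - β) =
      j * algebraMap B L (algebraMap R[X] B X) ^ k := by
    rw [map_sub, ← hβy', map_pow]
    have : j = 1 - μ := by rw [← h1]; ring
    rw [this]; ring
  have h4 : algebraMap B L (algebraMap R[X] B P) ∈ J := by
    have : algebraMap B L (algebraMap R[X] B P) =
        algebraMap B L (algebraMap R[X] B X ^ k - β) * algebraMap B L ((u⁻¹ : Bˣ) : B) := by
      rw [hfP, map_mul, mul_assoc, ← map_mul, Units.mul_inv, map_one, mul_one]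
    rw [this, h3]
    exact J.mul_mem_right _ (J.mul_mem_right _ hj)
  have h5 : ψ (reflect P.natDegree P) =
      algebraMap B L (algebraMap R[X] B P) * ψ X ^ P.natDegree := by
    rw [algL_eq_mul ψ hψ P _ le_rfl, mul_assoc, ← mul_pow, mul_comm _ (ψ X), hψ, one_pow, mul_one]
  rw [h5]
  exact J.mul_mem_right _ h4

include hB in
theorem partB (J : Ideal L)
    (hJ : J ⊔ (IsLocalRing.maximalIdeal R).map (algebraMap R L) = ⊤) :
    (J.comap ψ.toRingHom).map ψ.toRingHom = J ∧
    J.comap ψ.toRingHom ⊔ (IsLocalRing.maximalIdeal R).map (algebraMap R R[X]) = ⊤ := by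
  obtain ⟨g, hg, hgJ⟩ := exists_norm_of_sup_eq_top_L hB ψ hψ J hJ
  have hgc : g ∈ J.comap ψ.toRingHom := hgJ
  constructor
  · apply le_antisymm Ideal.map_comap_le
    intro l hl
    obtain ⟨p, hp⟩ := exists_sub_mem hB ψ hψ hg l
    have hspanJ : Ideal.span {ψ g} ≤ J := Ideal.span_le.mpr (Set.singleton_subset_iff.mpr hgJ)
    have hpJ : ψ p ∈ J := by
      have := J.sub_mem hl (hspanJ hp)
      rwa [sub_sub_cancel] at this
    have hspan2 : Ideal.span {ψ g} ≤ (J.comap ψ.toRingHom).map ψ.toRingHom :=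
      Ideal.span_le.mpr (Set.singleton_subset_iff.mpr (Ideal.mem_map_of_mem ψ.toRingHom hgc))
    have h1 : ψ p ∈ (J.comap ψ.toRingHom).map ψ.toRingHom :=
      Ideal.mem_map_of_mem ψ.toRingHom (show p ∈ J.comap ψ.toRingHom from hpJ)
    have := Ideal.add_mem _ (hspan2 hp) h1
    rwa [sub_add_cancel] at this
  · rw [Ideal.eq_top_iff_one]
    have : (1 : R[X]) = g + (1 - g) := by ring
    rw [this]
    exact Ideal.add_mem _ (Ideal.mem_sup_left hgc) (Ideal.mem_sup_right hg.one_sub_mem)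

end Main

end Groth.Agent.Lib.Helper90.HensLaurent
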