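import Groth.Agent.Lib.Helper90.HzFunct
import Groth.Agent.Lib.Helper90.PairHzHfp
import Mathlib.Algebra.Colimit.DirectLimit

/-!
# Compact objects among henselian pairs are henselian finitely presented
-/

set_option autoImplicit false
set_option linter.style.haveILetI false

universe u

namespace Groth.Agent.Lib.Helper90.HfpCompact

open Groth.Agent.Lib.Helper90.PairHz

variable (A : Type u) [CommRing A] (I : Ideal A) (B : Type u) [CommRing B] [Algebra A B]

/-- Every `A`-algebra map from `B` to a directed colimit of henselian pairs over `(A, I)`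
factors through a stage. -/
def CompactSurj : Prop :=
  ∀ (κ : Type u) [Preorder κ] [IsDirectedOrder κ] [Nonempty κ]
    (Ra : κ → Type u) [∀ a, CommRing (Ra a)] [∀ a, Algebra A (Ra a)]
    [∀ a, HenselianRing (Ra a) (I.map (algebraMap A (Ra a)))]
    (t : ∀ a b : κ, a ≤ b → (Ra a →+* Ra b)) [DirectedSystem Ra (fun a b hab => t a b hab)],
    (∀ (a b : κ) (hab : a ≤ b), (t a b hab).comp (algebraMap A (Ra a)) = algebraMap A (Ra b)) →
    ∀ [Algebra A (DirectLimit Ra t)],
    (∀ (a : κ) (x : A), algebraMap A (DirectLimit Ra t) x =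
      DirectLimit.Ring.of Ra t a (algebraMap A (Ra a) x)) →
    ∀ χ : B →ₐ[A] DirectLimit Ra t, ∃ (a : κ) (φ : B →ₐ[A] Ra a),
        ∀ x : B, DirectLimit.Ring.of Ra t a (φ x) = χ x

variable {A I B}

/-- A compact `B` which is (compatibly) a retract of the colimit is a retract of a stage. -/
theorem exists_retract (hcpt : CompactSurj A I B)
    {κ : Type u} [Preorder κ] [IsDirectedOrder κ] [Nonempty κ]
    (Ra : κ → Type u) [∀ a, CommRing (Ra a)] [∀ a, Algebra A (Ra a)]
    [∀ a, HenselianRing (Ra a) (I.map (algebraMap A (Ra a)))]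
    (t : ∀ a b : κ, a ≤ b → (Ra a →+* Ra b)) [DirectedSystem Ra (fun a b hab => t a b hab)]
    (ht : ∀ (a b : κ) (hab : a ≤ b), (t a b hab).comp (algebraMap A (Ra a)) = algebraMap A (Ra b))
    (π : ∀ a, Ra a →+* B) (hπ : ∀ (a b : κ) (hab : a ≤ b) (x : Ra a), π b (t a b hab x) = π a x)
    (χ : B →+* DirectLimit Ra t)
    (hχ : ∀ (a : κ) (x : A), χ (algebraMap A B x) =
      DirectLimit.Ring.of Ra t a (algebraMap A (Ra a) x))
    (hπχ : ∀ b : B, ∃ (a : κ) (r : Ra a), χ b = DirectLimit.Ring.of Ra t a r ∧ π a r = b) :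
    ∃ (a : κ) (φ : B →ₐ[A] Ra a), ∀ x : B, π a (φ x) = x := by
  classical
  let a₀ : κ := Classical.arbitrary κ
  letI : Algebra A (DirectLimit Ra t) :=
    ((DirectLimit.Ring.of Ra t a₀).comp (algebraMap A (Ra a₀))).toAlgebra
  have halg : ∀ (a : κ) (x : A), algebraMap A (DirectLimit Ra t) x =
      DirectLimit.Ring.of Ra t a (algebraMap A (Ra a) x) := by
    intro a x
    obtain ⟨c, hac, ha₀c⟩ := exists_ge_ge a a₀
    change DirectLimit.Ring.of Ra t a₀ (algebraMap A (Ra a₀) x) = _
    rw [← DirectLimit.Ring.of_f ha₀c, ← DirectLimit.Ring.of_f hac]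
    congr 1
    rw [← RingHom.comp_apply, ht, ← RingHom.comp_apply, ht]
  let χA : B →ₐ[A] DirectLimit Ra t :=
    { χ with commutes' := fun x => by rw [halg a₀]; exact hχ a₀ x }
  obtain ⟨a, φ, hφ⟩ := hcpt κ Ra t ht halg χA
  refine ⟨a, φ, fun x => ?_⟩
  obtain ⟨a', r, h1, h2⟩ := hπχ x
  have h3 : DirectLimit.Ring.of Ra t a (φ x) = DirectLimit.Ring.of Ra t a' r := (hφ x).trans h1
  obtain ⟨c, hac, ha'c, h4⟩ := Quotient.exact h3
  have h4' : t a c hac (φ x) = t a' c ha'c r := h4
  rw [← hπ a c hac, h4', hπ a' c ha'c, h2]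


section Stage2

variable {H : Type u} [CommRing H] [Algebra A H]

/-- finitely generated subideals of a fixed ideal -/
abbrev FGSub (N : Ideal H) : Type u := {N₀ : Ideal H // N₀.FG ∧ N₀ ≤ N}

instance (N : Ideal H) : IsDirectedOrder (FGSub N) :=
  ⟨fun a b => ⟨⟨a.1 ⊔ b.1, Submodule.FG.sup a.2.1 b.2.1, sup_le a.2.2 b.2.2⟩,
    show a.1 ≤ a.1 ⊔ b.1 from le_sup_left, show b.1 ≤ a.1 ⊔ b.1 from le_sup_right⟩⟩

instance (N : Ideal H) : Nonempty (FGSub N) := ⟨⟨⊥, Submodule.fg_bot, bot_le⟩⟩

theorem henselianRing_quotient (I : Ideal A) [hH : HenselianRing H (I.map (algebraMap A H))]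
    (N₀ : Ideal H) : HenselianRing (H ⧸ N₀) (I.map (algebraMap A (H ⧸ N₀))) := by
  have h := Groth.Agent.Lib.Helper37.henselianRing_map_of_surjective (Ideal.Quotient.mk N₀)
    Ideal.Quotient.mk_surjective (I.map (algebraMap A H))
  rw [Ideal.map_map] at h
  exact h

/-- the transition maps of the system of quotients -/
noncomputable def tQ (N : Ideal H) (a b : FGSub N) (hab : a ≤ b) : (H ⧸ a.1) →+* (H ⧸ b.1) :=
  Ideal.Quotient.factor (show a.1 ≤ b.1 from hab)

theorem tQ_mk (N : Ideal H) (a b : FGSub N) (hab : a ≤ b) (x : H) :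
    tQ N a b hab (Ideal.Quotient.mk a.1 x) = Ideal.Quotient.mk b.1 x := rfl

instance (N : Ideal H) : DirectedSystem (fun a : FGSub N => H ⧸ a.1)
    (fun a b hab => tQ N a b hab) where
  map_self a x := by
    obtain ⟨x, rfl⟩ := Ideal.Quotient.mk_surjective x
    rfl
  map_map a b c hab hbc x := by
    obtain ⟨x, rfl⟩ := Ideal.Quotient.mk_surjective x
    rfl

theorem ker_fg_of_compact (hcpt : CompactSurj A I B)
    [hH : HenselianRing H (I.map (algebraMap A H))]
    {ι : Type*} [Finite ι] (x : ι → H)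
    (hx : ∀ (C : Type u) [CommRing C] [Algebra A C],
      HenselianRing C (I.map (algebraMap A C)) → ∀ (u v : H →ₐ[A] C),
        (∀ j, u (x j) = v (x j)) → u = v)
    (θ : H →ₐ[A] B) (hθ : Function.Surjective θ) : (RingHom.ker θ.toRingHom).FG := by
  classical
  set N : Ideal H := RingHom.ker θ.toRingHom with hN
  have hmemN : ∀ z : H, z ∈ N ↔ θ z = 0 := fun z => Iff.rfl
  haveI : ∀ a : FGSub N, HenselianRing (H ⧸ a.1) (I.map (algebraMap A (H ⧸ a.1))) :=
    fun a => henselianRing_quotient I a.1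
  -- the maps to `B`
  let π : ∀ a : FGSub N, (H ⧸ a.1) →+* B := fun a =>
    Ideal.Quotient.lift a.1 θ.toRingHom (fun z hz => a.2.2 hz)
  have hπmk : ∀ (a : FGSub N) (z : H), π a (Ideal.Quotient.mk a.1 z) = θ z := fun a z => rfl
  have hπ : ∀ (a b : FGSub N) (hab : a ≤ b) (z : H ⧸ a.1), π b (tQ N a b hab z) = π a z := by
    intro a b hab z
    obtain ⟨z, rfl⟩ := Ideal.Quotient.mk_surjective z
    rfl
  have ht : ∀ (a b : FGSub N) (hab : a ≤ b),
      (tQ N a b hab).comp (algebraMap A (H ⧸ a.1)) = algebraMap A (H ⧸ b.1) := by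
    intro a b hab
    rfl
  -- the map from `B` to the colimit
  let bot' : FGSub N := ⟨⊥, Submodule.fg_bot, bot_le⟩
  let ψ : H →+* DirectLimit (fun a : FGSub N => H ⧸ a.1) (tQ N) :=
    (DirectLimit.Ring.of (fun a : FGSub N => H ⧸ a.1) (tQ N) bot').comp (Ideal.Quotient.mk bot'.1)
  have hψa : ∀ (a : FGSub N) (z : H), ψ z =
      DirectLimit.Ring.of (fun a : FGSub N => H ⧸ a.1) (tQ N) a (Ideal.Quotient.mk a.1 z) := by
    intro a z
    have hle : bot' ≤ a := show (⊥ : Ideal H) ≤ a.1 from bot_le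
    have h1 := DirectLimit.Ring.of_f (G := fun a : FGSub N => H ⧸ a.1) (f := tQ N) hle
      (Ideal.Quotient.mk bot'.1 z)
    exact h1.symm
  have hψ : ∀ z ∈ N, ψ z = 0 := by
    intro z hz
    let a : FGSub N := ⟨Ideal.span {z}, ⟨{z}, by simp⟩, (Ideal.span_singleton_le_iff_mem _).mpr hz⟩
    rw [hψa a z]
    have : Ideal.Quotient.mk a.1 z = 0 :=
      Ideal.Quotient.eq_zero_iff_mem.mpr (Ideal.mem_span_singleton_self z)
    rw [this, map_zero]
  let eB : (H ⧸ N) ≃+* B := RingHom.quotientKerEquivOfSurjective (f := θ.toRingHom) hθ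
  let χ : B →+* DirectLimit (fun a : FGSub N => H ⧸ a.1) (tQ N) :=
    (Ideal.Quotient.lift N ψ hψ).comp (eB.symm : B →+* H ⧸ N)
  have hχθ : ∀ z : H, χ (θ z) = ψ z := by
    intro z
    have h1 : eB.symm (θ z) = Ideal.Quotient.mk N z := by
      rw [RingEquiv.symm_apply_eq]
      exact (RingHom.quotientKerEquivOfSurjective_apply_mk hθ z).symm
    change Ideal.Quotient.lift N ψ hψ (eB.symm (θ z)) = _
    rw [h1, Ideal.Quotient.lift_mk]
  have hχ : ∀ (a : FGSub N) (r : A), χ (algebraMap A B r) =
      DirectLimit.Ring.of (fun a : FGSub N => H ⧸ a.1) (tQ N) a (algebraMap A (H ⧸ a.1) r) := by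
    intro a r
    rw [← θ.commutes r, hχθ, hψa a]
    rfl
  have hπχ : ∀ b : B, ∃ (a : FGSub N) (r : H ⧸ a.1),
      χ b = DirectLimit.Ring.of (fun a : FGSub N => H ⧸ a.1) (tQ N) a r ∧ π a r = b := by
    intro b
    obtain ⟨z, rfl⟩ := hθ b
    exact ⟨bot', Ideal.Quotient.mk bot'.1 z, hχθ z, rfl⟩
  obtain ⟨N₀, φ, hφ⟩ := exists_retract hcpt (fun a : FGSub N => H ⧸ a.1) (tQ N) ht π hπ χ hχ hπχ
  -- finite generation
  have hy : ∀ j, ∃ y : H, Ideal.Quotient.mk N₀.1 y = φ (θ (x j)) := fun j =>
    Ideal.Quotient.mk_surjective _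
  choose y hy using hy
  set N₁ : Ideal H := N₀.1 ⊔ Ideal.span (Set.range fun j => x j - y j) with hN₁
  have hfg : N₁.FG :=
    Submodule.FG.sup N₀.2.1 (Submodule.fg_span (Set.finite_range _))
  have hθy : ∀ j, θ (y j) = θ (x j) := by
    intro j
    have := hφ (θ (x j))
    rw [← hy j, hπmk] at this
    exact this
  have hle1 : N₁ ≤ N := by
    refine sup_le N₀.2.2 ?_
    rw [Ideal.span_le]
    rintro _ ⟨j, rfl⟩
    change θ (x j - y j) = 0
    rw [map_sub, hθy, sub_self]
  have hle2 : N ≤ N₁ := by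
    have hC : HenselianRing (H ⧸ N₁) (I.map (algebraMap A (H ⧸ N₁))) :=
      henselianRing_quotient I N₁
    let u : H →ₐ[A] H ⧸ N₁ := Ideal.Quotient.mkₐ A N₁
    let v : H →ₐ[A] H ⧸ N₁ :=
      ((Ideal.Quotient.factorₐ A (show N₀.1 ≤ N₁ from le_sup_left)).comp φ).comp θ
    have huv : u = v := by
      apply hx (H ⧸ N₁) hC
      intro j
      change Ideal.Quotient.mk N₁ (x j) =
        Ideal.Quotient.factor (show N₀.1 ≤ N₁ from le_sup_left) (φ (θ (x j)))
      rw [← hy j, Ideal.Quotient.factor_mk, Ideal.Quotient.eq]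
      exact Ideal.mem_sup_right (Ideal.subset_span ⟨j, rfl⟩)
    intro z hz
    have h1 : u z = v z := by rw [huv]
    have h2 : v z = 0 := by
      change Ideal.Quotient.factor (show N₀.1 ≤ N₁ from le_sup_left) (φ (θ z)) = 0
      rw [(hmemN z).mp hz, map_zero, map_zero]
    rw [h2] at h1
    exact Ideal.Quotient.eq_zero_iff_mem.mp h1
  rw [le_antisymm hle2 hle1]
  exact hfg

end Stage2


section Stage1

variable (A I B)

/-- the subalgebra generated by a finite set -/
abbrev RS (S : Finset B) : Subalgebra A B := Algebra.adjoin A (S : Set B)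

/-- the ideal of the subalgebra -/
abbrev JS (S : Finset B) : Ideal (RS A B S) := I.map (algebraMap A (RS A B S))

/-- the henselization of the subalgebra -/
abbrev HS (S : Finset B) : Type u := Hz (JS A I B S)

noncomputable instance algHS (S : Finset B) : Algebra A (HS A I B S) :=
  ((algebraMap (RS A B S) (HS A I B S)).comp (algebraMap A (RS A B S))).toAlgebra

instance (S : Finset B) : IsScalarTower A (RS A B S) (HS A I B S) :=
  IsScalarTower.of_algebraMap_eq fun _ => rfl

instance henselianRing_HS (S : Finset B) :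
    HenselianRing (HS A I B S) (I.map (algebraMap A (HS A I B S))) := by
  have h := (isPairHenselization_Hz (JS A I B S)).1
  rw [Ideal.map_map] at h
  exact h

variable {B}

/-- inclusion of the subalgebras -/
noncomputable def incl {S S' : Finset B} (h : S ≤ S') : RS A B S →ₐ[A] RS A B S' :=
  Subalgebra.inclusion (Algebra.adjoin_mono (Finset.coe_subset.mpr h))

theorem incl_val {S S' : Finset B} (h : S ≤ S') (r : RS A B S) :
    ((incl A h r : RS A B S') : B) = r := Subalgebra.coe_inclusion _ r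

theorem map_incl {S S' : Finset B} (h : S ≤ S') :
    (JS A I B S).map (incl A h).toRingHom ≤ JS A I B S' := by
  rw [Ideal.map_map]
  apply le_of_eq
  congr 1

/-- transition maps -/
noncomputable def tS (S S' : Finset B) (h : S ≤ S') : HS A I B S →+* HS A I B S' :=
  hzMap (JS A I B S) (JS A I B S') (incl A h).toRingHom (map_incl A I h)

theorem tS_algebraMap {S S' : Finset B} (h : S ≤ S') (r : RS A B S) :
    tS A I S S' h (algebraMap (RS A B S) (HS A I B S) r) =
      algebraMap (RS A B S') (HS A I B S') (incl A h r) :=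
  hzMap_algebraMap _ _ _ _ r

instance : DirectedSystem (fun S : Finset B => HS A I B S) (fun S S' h => tS A I S S' h) where
  map_self S x := by
    have : tS A I S S le_rfl = RingHom.id _ := by
      symm
      apply hzMap_unique
      refine RingHom.ext fun r => ?_
      rw [RingHom.comp_apply, RingHom.comp_apply, RingHom.id_apply]
      congr 1
    rw [this]
    rfl
  map_map S'' S' S h h' x := by
    have : (tS A I S' S'' h').comp (tS A I S S' h) = tS A I S S'' (h.trans h') := by
      apply hzMap_unique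
      refine RingHom.ext fun r => ?_
      rw [RingHom.comp_apply, RingHom.comp_apply, RingHom.comp_apply, tS_algebraMap,
        tS_algebraMap]
      congr 1
    exact RingHom.congr_fun this x

theorem tS_comp_algebraMap (S S' : Finset B) (h : S ≤ S') :
    (tS A I S S' h).comp (algebraMap A (HS A I B S)) = algebraMap A (HS A I B S') := by
  refine RingHom.ext fun a => ?_
  change tS A I S S' h (algebraMap (RS A B S) (HS A I B S) (algebraMap A (RS A B S) a)) = _
  rw [tS_algebraMap, AlgHom.commutes]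
  rfl

variable [hB : HenselianRing B (I.map (algebraMap A B))]

omit hB in
theorem map_val (S : Finset B) :
    (JS A I B S).map (RS A B S).val.toRingHom ≤ I.map (algebraMap A B) := by
  rw [Ideal.map_map]
  apply le_of_eq
  congr 1

/-- the maps to `B` -/
noncomputable def piS (S : Finset B) : HS A I B S →+* B :=
  hzLift (JS A I B S) (I.map (algebraMap A B)) (RS A B S).val.toRingHom (map_val A I S)

theorem piS_algebraMap (S : Finset B) (r : RS A B S) :
    piS A I S (algebraMap (RS A B S) (HS A I B S) r) = r :=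
  hzLift_algebraMap _ _ _ _ r

theorem piS_tS (S S' : Finset B) (h : S ≤ S') (x : HS A I B S) :
    piS A I S' (tS A I S S' h x) = piS A I S x := by
  have : (piS A I S').comp (tS A I S S' h) = piS A I S := by
    apply hzLift_unique
    refine RingHom.ext fun r => ?_
    rw [RingHom.comp_apply, RingHom.comp_apply, tS_algebraMap, piS_algebraMap]
    rfl
  exact RingHom.congr_fun this x

omit hB in
/-- the canonical element of the colimit attached to an element of a subalgebra -/
theorem of_algebraMap_eq {S S' : Finset B} (r : RS A B S) (r' : RS A B S')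
    (h : (r : B) = r') :
    DirectLimit.Ring.of (fun S : Finset B => HS A I B S) (tS A I) S
        (algebraMap (RS A B S) (HS A I B S) r) =
      DirectLimit.Ring.of (fun S : Finset B => HS A I B S) (tS A I) S'
        (algebraMap (RS A B S') (HS A I B S') r') := by
  classical
  have h1 : S ≤ S ∪ S' := Finset.subset_union_left
  have h2 : S' ≤ S ∪ S' := Finset.subset_union_right
  rw [← DirectLimit.Ring.of_f h1, ← DirectLimit.Ring.of_f h2, tS_algebraMap, tS_algebraMap]
  congr 2
  exact Subtype.ext h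

end Stage1

end Groth.Agent.Lib.Helper90.HfpCompact
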