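import Groth.Agent.Lib.Helper90.HfpCompact

/-!
# Compact objects among henselian pairs are henselian finitely presented (part 2)
-/

set_option autoImplicit false
set_option linter.style.haveILetI false

universe u

namespace Groth.Agent.Lib.Helper90.HfpCompact

open Groth.Agent.Lib.Helper90.PairHz

variable {A : Type u} [CommRing A] {I : Ideal A} {B : Type u} [CommRing B] [Algebra A B]

section General

variable (A)
variable (G : Finset B → Type u) [∀ S, CommRing (G S)]
  (f : ∀ S S' : Finset B, S ≤ S' → G S →+* G S')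
  [DirectedSystem G (fun S S' h => f S S' h)]
  (j : ∀ S : Finset B, RS A B S →+* G S)
  (hj : ∀ (S S' : Finset B) (h : S ≤ S') (r : RS A B S), f S S' h (j S r) = j S' (incl A h r))

theorem incl_eq {S S' T : Finset B} (h1 : S ≤ T) (h2 : S' ≤ T) (r : RS A B S) (r' : RS A B S')
    (h : (r : B) = r') : incl A h1 r = incl A h2 r' := by
  apply Subtype.ext
  rw [incl_val, incl_val, h]

include hj in
theorem of_j_eq {S S' : Finset B} (r : RS A B S) (r' : RS A B S') (h : (r : B) = r') :
    DirectLimit.Ring.of G f S (j S r) = DirectLimit.Ring.of G f S' (j S' r') := by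
  classical
  have h1 : S ≤ S ∪ S' := Finset.subset_union_left
  have h2 : S' ≤ S ∪ S' := Finset.subset_union_right
  rw [← DirectLimit.Ring.of_f h1, ← DirectLimit.Ring.of_f h2, hj, hj, incl_eq A h1 h2 r r' h]

/-- the canonical map `B → colim G`, as a function -/
noncomputable def chiGFun (b : B) : DirectLimit G f :=
  DirectLimit.Ring.of G f {b} (j {b} ⟨b, Algebra.subset_adjoin (Finset.mem_singleton_self b)⟩)

include hj in
theorem chiGFun_eq (S : Finset B) (r : RS A B S) (b : B) (h : (r : B) = b) :
    chiGFun A G f j b = DirectLimit.Ring.of G f S (j S r) :=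
  of_j_eq A G f j hj _ r h.symm

/-- the canonical map `B → colim G` -/
noncomputable def chiG : B →+* DirectLimit G f where
  toFun := chiGFun A G f j
  map_one' := by
    rw [chiGFun_eq A G f j hj ∅ 1 1 (OneMemClass.coe_one _), map_one, map_one]
  map_zero' := by
    rw [chiGFun_eq A G f j hj ∅ 0 0 (ZeroMemClass.coe_zero _), map_zero, map_zero]
  map_mul' x y := by
    classical
    obtain ⟨S, hxS, hyS⟩ : ∃ S : Finset B, x ∈ S ∧ y ∈ S := ⟨{x, y}, by simp, by simp⟩
    have hx : x ∈ RS A B S := Algebra.subset_adjoin hxS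
    have hy : y ∈ RS A B S := Algebra.subset_adjoin hyS
    obtain ⟨rx, hrx⟩ : ∃ r : RS A B S, (r : B) = x := ⟨⟨x, hx⟩, rfl⟩
    obtain ⟨ry, hry⟩ : ∃ r : RS A B S, (r : B) = y := ⟨⟨y, hy⟩, rfl⟩
    have hc : ((rx * ry : RS A B S) : B) = x * y := by
      rw [MulMemClass.coe_mul, hrx, hry]
    rw [chiGFun_eq A G f j hj S (rx * ry) (x * y) hc, chiGFun_eq A G f j hj S rx x hrx,
      chiGFun_eq A G f j hj S ry y hry, map_mul, map_mul]
  map_add' x y := by
    classical
    obtain ⟨S, hxS, hyS⟩ : ∃ S : Finset B, x ∈ S ∧ y ∈ S := ⟨{x, y}, by simp, by simp⟩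
    have hx : x ∈ RS A B S := Algebra.subset_adjoin hxS
    have hy : y ∈ RS A B S := Algebra.subset_adjoin hyS
    obtain ⟨rx, hrx⟩ : ∃ r : RS A B S, (r : B) = x := ⟨⟨x, hx⟩, rfl⟩
    obtain ⟨ry, hry⟩ : ∃ r : RS A B S, (r : B) = y := ⟨⟨y, hy⟩, rfl⟩
    have hc : ((rx + ry : RS A B S) : B) = x + y := by
      rw [AddMemClass.coe_add, hrx, hry]
    rw [chiGFun_eq A G f j hj S (rx + ry) (x + y) hc, chiGFun_eq A G f j hj S rx x hrx,
      chiGFun_eq A G f j hj S ry y hry, map_add, map_add]

theorem chiG_eq (S : Finset B) (r : RS A B S) :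
    chiG A G f j hj (r : B) = DirectLimit.Ring.of G f S (j S r) :=
  chiGFun_eq A G f j hj S r _ rfl

end General


section Stage1b

variable (A I)

/-- the canonical map `B → colim HS` -/
noncomputable def chi : B →+* DirectLimit (fun S : Finset B => HS A I B S) (tS A I) :=
  chiG A (fun S : Finset B => HS A I B S) (tS A I)
    (fun S => algebraMap (RS A B S) (HS A I B S)) (fun _ _ h r => tS_algebraMap A I h r)

theorem chi_eq (S : Finset B) (r : RS A B S) :
    chi (B := B) A I (r : B) = DirectLimit.Ring.of (fun S : Finset B => HS A I B S) (tS A I) S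
      (algebraMap (RS A B S) (HS A I B S) r) :=
  chiG_eq A (fun S : Finset B => HS A I B S) (tS A I)
    (fun S => algebraMap (RS A B S) (HS A I B S)) (fun _ _ h r => tS_algebraMap A I h r) S r

theorem chi_algebraMap (S : Finset B) (a : A) :
    chi (B := B) A I (algebraMap A B a) =
      DirectLimit.Ring.of (fun S : Finset B => HS A I B S) (tS A I) S
        (algebraMap A (HS A I B S) a) :=
  chi_eq A I S (algebraMap A (RS A B S) a)

variable [hB : HenselianRing B (I.map (algebraMap A B))]

variable {A I} in
theorem exists_finset_retract (hcpt : CompactSurj A I B) :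
    ∃ (S : Finset B) (φ : B →ₐ[A] HS A I B S), ∀ b, piS A I S (φ b) = b :=
  exists_retract hcpt (fun S : Finset B => HS A I B S) (tS A I) (tS_comp_algebraMap A I)
    (piS A I) (piS_tS A I) (chi A I) (chi_algebraMap A I)
    (fun b => ⟨{b}, algebraMap (RS A B {b}) (HS A I B {b})
      ⟨b, Algebra.subset_adjoin (Finset.mem_singleton_self b)⟩,
      chi_eq A I {b} ⟨b, Algebra.subset_adjoin (Finset.mem_singleton_self b)⟩,
      piS_algebraMap A I _ _⟩)

end Stage1b

variable (A) in
theorem exists_mvPoly_surj (S : Finset B) :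
    ∃ ev : MvPolynomial S A →ₐ[A] RS A B S, Function.Surjective ev := by
  classical
  let ev' : MvPolynomial S A →ₐ[A] B := MvPolynomial.aeval (fun s : S => (s : B))
  have hrange : ev'.range = RS A B S := by
    rw [← Algebra.adjoin_range_eq_range_aeval, Subtype.range_coe_subtype]
    rfl
  refine ⟨ev'.codRestrict (RS A B S) (fun p => ?_), ?_⟩
  · rw [← hrange]
    exact ⟨p, rfl⟩
  · intro r
    have : (r : B) ∈ ev'.range := by
      rw [hrange]
      exact r.2
    obtain ⟨p, hp⟩ := this
    exact ⟨p, Subtype.ext hp⟩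

section Gens

variable {P : Type u} [CommRing P] [Algebra A P] (I)

/-- `A`-algebra structure on the henselization of `(P, IP)` -/
noncomputable abbrev algHzP : Algebra A (Hz (I.map (algebraMap A P))) :=
  ((algebraMap P (Hz (I.map (algebraMap A P)))).comp (algebraMap A P)).toAlgebra

attribute [local instance] algHzP

instance : IsScalarTower A P (Hz (I.map (algebraMap A P))) :=
  IsScalarTower.of_algebraMap_eq fun _ => rfl

theorem henselianRing_HzP :
    HenselianRing (Hz (I.map (algebraMap A P))) (I.map (algebraMap A (Hz (I.map (algebraMap A P))))) := by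
  have h := (isPairHenselization_Hz (I.map (algebraMap A P))).1
  rw [Ideal.map_map] at h
  exact h

/-- two `A`-algebra maps from the henselization of `(P, IP)` to a henselian pair over `(A, I)`
agreeing on `P` agree -/
theorem algHom_ext_HzP (C : Type u) [CommRing C] [Algebra A C]
    (hC : HenselianRing C (I.map (algebraMap A C)))
    (u v : Hz (I.map (algebraMap A P)) →ₐ[A] C)
    (h : ∀ p : P, u (algebraMap P _ p) = v (algebraMap P _ p)) : u = v := by
  have hf : (I.map (algebraMap A P)).map (u.toRingHom.comp (algebraMap P (Hz (I.map (algebraMap A P))))) ≤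
      I.map (algebraMap A C) := by
    rw [Ideal.map_map]
    apply le_of_eq
    congr 1
    refine RingHom.ext fun a => ?_
    change u (algebraMap P (Hz (I.map (algebraMap A P))) (algebraMap A P a)) = _
    exact u.commutes a
  have h2 : v.toRingHom.comp (algebraMap P (Hz (I.map (algebraMap A P)))) =
      u.toRingHom.comp (algebraMap P (Hz (I.map (algebraMap A P)))) := by
    refine RingHom.ext fun p => ?_
    exact (h p).symm
  have h3 : u.toRingHom = v.toRingHom :=
    hz_ringHom_ext (I.map (algebraMap A P)) (I.map (algebraMap A C)) _ hf rfl h2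
  exact AlgHom.coe_ringHom_injective h3

end Gens


section Main

attribute [local instance] algHzP

variable [hB : HenselianRing B (I.map (algebraMap A B))]

/-- **A compact henselian pair over `(A, I)` is henselian finitely presented.** -/
theorem exists_fp_of_compact (hcpt : CompactSurj A I B) :
    ∃ (R : Type u) (_ : CommRing R) (_ : Algebra A R) (_ : Algebra R B) (_ : IsScalarTower A R B),
      Algebra.FinitePresentation A R ∧
        Hens2.IsPairHenselization R (I.map (algebraMap A R)) B := by
  classical
  obtain ⟨S, φ, hφ⟩ := exists_finset_retract hcpt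
  obtain ⟨ev, hev⟩ := exists_mvPoly_surj A S
  have hHz : HenselianRing (Hz (I.map (algebraMap A (MvPolynomial S A))))
      (I.map (algebraMap A (Hz (I.map (algebraMap A (MvPolynomial S A)))))) :=
    henselianRing_HzP I
  have hJeq : JS A I B S = (I.map (algebraMap A (MvPolynomial S A))).map ev.toRingHom := by
    rw [Ideal.map_map, AlgHom.toRingHom_eq_coe, AlgHom.comp_algebraMap]
  obtain ⟨q, hqdef⟩ : ∃ q : Hz (I.map (algebraMap A (MvPolynomial S A))) →+* HS A I B S,
      q = hzMap (I.map (algebraMap A (MvPolynomial S A))) (JS A I B S) ev.toRingHom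
        (le_of_eq hJeq.symm) := ⟨_, rfl⟩
  have hq : Function.Surjective q := by
    rw [hqdef]
    exact hzMap_surjective _ (JS A I B S) ev.toRingHom _ hev hJeq
  have hqalg : ∀ p : MvPolynomial S A, q (algebraMap _ _ p) =
      algebraMap (RS A B S) (HS A I B S) (ev p) := by
    intro p
    rw [hqdef]
    exact hzMap_algebraMap _ _ _ _ p
  have hcomm : ∀ a : A, ((piS A I S).comp q) (algebraMap A _ a) = algebraMap A B a := by
    intro a
    have h1 : algebraMap A (Hz (I.map (algebraMap A (MvPolynomial S A)))) a =
      algebraMap (MvPolynomial S A) _ (algebraMap A (MvPolynomial S A) a) := rfl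
    rw [RingHom.comp_apply, h1, hqalg, piS_algebraMap, AlgHom.commutes]
    rfl
  obtain ⟨θ, hθdef⟩ : ∃ θ : Hz (I.map (algebraMap A (MvPolynomial S A))) →ₐ[A] B,
      ∀ h, θ h = piS A I S (q h) :=
    ⟨{ (piS A I S).comp q with commutes' := hcomm }, fun h => rfl⟩
  have hθ : Function.Surjective θ := by
    intro b
    obtain ⟨h, hh⟩ := hq (φ b)
    refine ⟨h, ?_⟩
    rw [hθdef, hh, hφ]
  have hx : ∀ (C : Type u) [CommRing C] [Algebra A C],
      HenselianRing C (I.map (algebraMap A C)) →
        ∀ (u v : Hz (I.map (algebraMap A (MvPolynomial S A))) →ₐ[A] C),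
        (∀ j : S, u (algebraMap (MvPolynomial S A) _ (MvPolynomial.X j)) =
          v (algebraMap (MvPolynomial S A) _ (MvPolynomial.X j))) → u = v := by
    intro C _ _ hC u v huv
    apply algHom_ext_HzP I C hC u v
    have h1 : u.comp (IsScalarTower.toAlgHom A (MvPolynomial S A) _) =
        v.comp (IsScalarTower.toAlgHom A (MvPolynomial S A) _) := by
      apply MvPolynomial.algHom_ext
      intro s
      exact huv s
    exact fun p => AlgHom.congr_fun h1 p
  have hfg : (RingHom.ker θ.toRingHom).FG :=
    ker_fg_of_compact hcpt (fun j : S => algebraMap (MvPolynomial S A) _ (MvPolynomial.X j))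
      hx θ hθ
  exact exists_fp_isPairHenselization_of_surjective (I := I) (R₁ := MvPolynomial S A)
    (P := Hz (I.map (algebraMap A (MvPolynomial S A))))
    (isPairHenselization_Hz _) θ hθ hfg

end Main

end Groth.Agent.Lib.Helper90.HfpCompact
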