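import Groth.Agent.Lib.Helper90.PairHzQuot
import Groth.Agent.Lib.Helper90.PairHzUnique

/-!
# Functoriality of the henselization of a pair

* `hzMap f h : Hz J →+* Hz J'` for `f : R →+* R'` with `J.map f ≤ J'`.
* `hzLift`: the map to a henselian pair.
* `hzMap_surjective`: `hzMap` of a surjection (with `J' = J.map f`) is surjective.
-/

set_option autoImplicit false
set_option linter.style.haveILetI false

universe u

namespace Groth.Agent.Lib.Helper90.PairHz

variable {R : Type u} [CommRing R] (J : Ideal R)

section Lift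

theorem exists_unique_hzLift {C : Type u} [CommRing C] (JC : Ideal C) [hC : HenselianRing C JC]
    (f : R →+* C) (hf : J.map f ≤ JC) :
    ∃! g : Hz J →+* C, g.comp (algebraMap R (Hz J)) = f :=
  (isPairHenselization_Hz J).2 C JC f hC hf

/-- The canonical map from the henselization to a henselian pair. -/
noncomputable def hzLift {C : Type u} [CommRing C] (JC : Ideal C) [HenselianRing C JC]
    (f : R →+* C) (hf : J.map f ≤ JC) : Hz J →+* C :=
  (exists_unique_hzLift J JC f hf).choose

theorem hzLift_comp {C : Type u} [CommRing C] (JC : Ideal C) [HenselianRing C JC]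
    (f : R →+* C) (hf : J.map f ≤ JC) :
    (hzLift J JC f hf).comp (algebraMap R (Hz J)) = f :=
  (exists_unique_hzLift J JC f hf).choose_spec.1

theorem hzLift_algebraMap {C : Type u} [CommRing C] (JC : Ideal C) [HenselianRing C JC]
    (f : R →+* C) (hf : J.map f ≤ JC) (r : R) :
    hzLift J JC f hf (algebraMap R (Hz J) r) = f r :=
  RingHom.congr_fun (hzLift_comp J JC f hf) r

theorem hzLift_unique {C : Type u} [CommRing C] (JC : Ideal C) [HenselianRing C JC]
    (f : R →+* C) (hf : J.map f ≤ JC) (g : Hz J →+* C)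
    (hg : g.comp (algebraMap R (Hz J)) = f) :
    g = hzLift J JC f hf :=
  (exists_unique_hzLift J JC f hf).choose_spec.2 g hg

theorem hz_ringHom_ext {C : Type u} [CommRing C] (JC : Ideal C) [HenselianRing C JC]
    (f : R →+* C) (hf : J.map f ≤ JC) {g₁ g₂ : Hz J →+* C}
    (h₁ : g₁.comp (algebraMap R (Hz J)) = f) (h₂ : g₂.comp (algebraMap R (Hz J)) = f) :
    g₁ = g₂ := by
  rw [hzLift_unique J JC f hf g₁ h₁, hzLift_unique J JC f hf g₂ h₂]

end Lift

section Map

variable {R' : Type u} [CommRing R'] (J' : Ideal R') (f : R →+* R') (hf : J.map f ≤ J')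

include hf in
theorem map_comp_le : J.map ((algebraMap R' (Hz J')).comp f) ≤ J'.map (algebraMap R' (Hz J')) := by
  rw [← Ideal.map_map]
  exact Ideal.map_mono hf

/-- Functoriality of the henselization. -/
noncomputable def hzMap : Hz J →+* Hz J' :=
  haveI : HenselianRing (Hz J') (J'.map (algebraMap R' (Hz J'))) := (isPairHenselization_Hz J').1
  hzLift J (J'.map (algebraMap R' (Hz J'))) ((algebraMap R' (Hz J')).comp f)
    (map_comp_le J J' f hf)

theorem hzMap_comp :
    (hzMap J J' f hf).comp (algebraMap R (Hz J)) = (algebraMap R' (Hz J')).comp f := by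
  haveI : HenselianRing (Hz J') (J'.map (algebraMap R' (Hz J'))) := (isPairHenselization_Hz J').1
  exact hzLift_comp J _ _ (map_comp_le J J' f hf)

theorem hzMap_algebraMap (r : R) :
    hzMap J J' f hf (algebraMap R (Hz J) r) = algebraMap R' (Hz J') (f r) :=
  RingHom.congr_fun (hzMap_comp J J' f hf) r

theorem hzMap_unique (g : Hz J →+* Hz J')
    (hg : g.comp (algebraMap R (Hz J)) = (algebraMap R' (Hz J')).comp f) :
    g = hzMap J J' f hf := by
  haveI : HenselianRing (Hz J') (J'.map (algebraMap R' (Hz J'))) := (isPairHenselization_Hz J').1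
  exact hzLift_unique J _ _ (map_comp_le J J' f hf) g hg

/-- The henselization of a quotient is a quotient of the henselization. -/
theorem hzMap_surjective (hsurj : Function.Surjective f) (hJ' : J' = J.map f) :
    Function.Surjective (hzMap J J' f hf) := by
  classical
  subst hJ'
  set K : Ideal R := RingHom.ker f with hK
  let Q := Hz J ⧸ K.map (algebraMap R (Hz J))
  have hQ : Hens2.IsPairHenselization (R ⧸ K) (J.map (Ideal.Quotient.mk K)) Q :=
    isPairHenselization_quotient J (isPairHenselization_Hz J) K
  let e : (R ⧸ K) ≃+* R' := RingHom.quotientKerEquivOfSurjective hsurj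
  have he : ∀ r : R, e (Ideal.Quotient.mk K r) = f r := fun r =>
    RingHom.quotientKerEquivOfSurjective_apply_mk hsurj r
  letI : Algebra R' Q := ((algebraMap (R ⧸ K) Q).comp (e.symm : R' →+* R ⧸ K)).toAlgebra
  have halg : algebraMap R' Q = (algebraMap (R ⧸ K) Q).comp (e.symm : R' →+* R ⧸ K) := rfl
  have hideal : (J.map f).map (e.symm : R' →+* R ⧸ K) = J.map (Ideal.Quotient.mk K) := by
    rw [Ideal.map_map]
    congr 1
    refine RingHom.ext fun r => ?_
    rw [RingHom.comp_apply, ← he r]
    exact e.symm_apply_apply _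
  have hQ' : Hens2.IsPairHenselization R' (J.map f) Q :=
    isPairHenselization_of_ringEquiv (e.symm) (J.map f) halg (hideal ▸ hQ)
  obtain ⟨ε⟩ := nonempty_algEquiv_of_isPairHenselization (J.map f)
    (isPairHenselization_Hz (J.map f)) hQ'
  let u : Hz J →+* Hz (J.map f) :=
    ((ε.symm : Q ≃ₐ[R'] Hz (J.map f)) : Q →+* Hz (J.map f)).comp
      (Ideal.Quotient.mk (K.map (algebraMap R (Hz J))))
  have hu : u = hzMap J (J.map f) f hf := by
    apply hzMap_unique
    refine RingHom.ext fun r => ?_
    simp only [u, RingHom.comp_apply]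
    have h1 : Ideal.Quotient.mk (K.map (algebraMap R (Hz J))) (algebraMap R (Hz J) r) =
        algebraMap R' Q (f r) := by
      rw [halg, RingHom.comp_apply, ← he r]
      have : (e.symm : R' →+* R ⧸ K) (e (Ideal.Quotient.mk K r)) = Ideal.Quotient.mk K r :=
        e.symm_apply_apply _
      rw [this]
      rfl
    rw [h1]
    exact ε.symm.commutes (f r)
  intro z
  obtain ⟨h, hh⟩ := Ideal.Quotient.mk_surjective (ε z)
  refine ⟨h, ?_⟩
  rw [← hu]
  simp only [u, RingHom.comp_apply, hh]
  exact ε.symm_apply_apply z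

end Map

end Groth.Agent.Lib.Helper90.PairHz
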