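import Mathlib
import Groth.Agent.Lib.Helper90.QFNbhd

/-!
# Lifting an idempotent of `B/IB` with finite factor to the integral closure (helper90)
-/

set_option autoImplicit false
set_option linter.style.haveILetI false
universe u

namespace Groth.Agent.Lib.Helper90.IdemIntClosure

open Groth.Agent.Lib.Helper90.QFNbhd

variable {A B : Type u} [CommRing A] [CommRing B] [Algebra A B]

/-- `B` is weakly quasi-finite at the primes of the finite factor `C₁` of `B/IB`. -/
theorem weaklyQuasiFiniteAt_of_finite_factor (I : Ideal A) (e : B ⧸ I.map (algebraMap A B))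
    (hfin : Module.Finite A ((B ⧸ I.map (algebraMap A B)) ⧸ Ideal.span {1 - e}))
    (q : Ideal B) [q.IsPrime] (hq : I.map (algebraMap A B) ≤ q)
    (e' : B) (he' : Ideal.Quotient.mk _ e' = e)
    (hee : e' * (1 - e') ∈ I.map (algebraMap A B)) (he'q : 1 - e' ∈ q) :
    Algebra.WeaklyQuasiFiniteAt A q := by
  rw [Algebra.weaklyQuasiFiniteAt_iff]
  set Bq := Localization.AtPrime q with hBq
  set pBq : Ideal Bq := (q.under A).map (algebraMap A Bq) with hpBq
  let f₀ : B →ₐ[A] Bq ⧸ pBq := (Ideal.Quotient.mkₐ A pBq).comp (IsScalarTower.toAlgHom A B Bq)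
  have hf₀ : ∀ x : B, f₀ x = Ideal.Quotient.mk pBq (algebraMap B Bq x) := fun x => rfl
  have hIp : I.map (algebraMap A B) ≤ pBq.comap (algebraMap B Bq) := by
    rw [Ideal.map_le_iff_le_comap]
    intro a ha
    rw [Ideal.mem_comap, Ideal.mem_comap, ← IsScalarTower.algebraMap_apply]
    apply Ideal.mem_map_of_mem
    exact hq (Ideal.mem_map_of_mem _ ha)
  have h₀ : ∀ x ∈ I.map (algebraMap A B), f₀ x = 0 := by
    intro x hx
    rw [hf₀]
    exact Ideal.Quotient.eq_zero_iff_mem.mpr (hIp hx)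
  let f₁ : (B ⧸ I.map (algebraMap A B)) →ₐ[A] Bq ⧸ pBq := Ideal.Quotient.liftₐ _ f₀ h₀
  have hf₁ : ∀ x : B, f₁ (Ideal.Quotient.mk _ x) = f₀ x := fun x => rfl
  have he'u : IsUnit (algebraMap B Bq e') := by
    apply IsLocalization.map_units Bq (⟨e', ?_⟩ : q.primeCompl)
    intro h
    exact (Ideal.IsPrime.ne_top ‹_›) ((Ideal.eq_top_iff_one q).mpr (by
      have := q.add_mem h he'q
      rwa [add_sub_cancel] at this))
  have h1e : f₀ (1 - e') = 0 := by
    have h2 : f₀ e' * f₀ (1 - e') = 0 := by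
      rw [← map_mul]
      exact h₀ _ hee
    have h3 : IsUnit (f₀ e') := by
      rw [hf₀]
      exact he'u.map _
    exact (h3.mul_right_eq_zero).mp h2
  have h₁ : ∀ x ∈ Ideal.span {1 - e}, f₁ x = 0 := by
    intro x hx
    obtain ⟨y, rfl⟩ := Ideal.mem_span_singleton'.mp hx
    rw [map_mul, ← he', ← map_one (Ideal.Quotient.mk _), ← map_sub, hf₁, h1e, mul_zero]
  let f : ((B ⧸ I.map (algebraMap A B)) ⧸ Ideal.span {1 - e}) →ₐ[A] Bq ⧸ pBq :=
    Ideal.Quotient.liftₐ _ f₁ h₁
  have hf : ∀ x : B, f (Ideal.Quotient.mk _ (Ideal.Quotient.mk _ x)) =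
      Ideal.Quotient.mk pBq (algebraMap B Bq x) := fun x => rfl
  refine Algebra.QuasiFinite.of_forall_exists_mul_mem_range f fun x => ?_
  obtain ⟨x, rfl⟩ := Ideal.Quotient.mk_surjective x
  obtain ⟨b, s, rfl⟩ := IsLocalization.exists_mk'_eq q.primeCompl x
  refine ⟨Ideal.Quotient.mk _ (Ideal.Quotient.mk _ s.1), ?_, Ideal.Quotient.mk _ (Ideal.Quotient.mk _ b), ?_⟩
  · rw [hf]
    exact (IsLocalization.map_units Bq s).map _
  · change f _ = _
    rw [hf, hf, ← map_mul, IsLocalization.mk'_spec]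


theorem conductorLike_sup_ker_eq_top [Algebra.FiniteType A B] (I : Ideal A)
    (e : B ⧸ I.map (algebraMap A B)) (he : IsIdempotentElem e)
    (hfin : Module.Finite A ((B ⧸ I.map (algebraMap A B)) ⧸ Ideal.span {1 - e})) :
    conductorLike A B ⊔ RingHom.ker (algebraMap (integralClosure A B)
      ((B ⧸ I.map (algebraMap A B)) ⧸ Ideal.span {1 - e})) = ⊤ := by
  have halg : ∀ x : integralClosure A B, algebraMap (integralClosure A B)
      ((B ⧸ I.map (algebraMap A B)) ⧸ Ideal.span {1 - e}) x =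
      Ideal.Quotient.mk _ (Ideal.Quotient.mk (I.map (algebraMap A B)) (x : B)) := fun x => rfl
  obtain ⟨e', he'⟩ := Ideal.Quotient.mk_surjective e
  have hee : e' * (1 - e') ∈ I.map (algebraMap A B) := by
    rw [← Ideal.Quotient.eq_zero_iff_mem, map_mul, map_sub, map_one, he', mul_sub, mul_one,
      he.eq, sub_self]
  by_contra hne
  obtain ⟨P, hP, hle⟩ := Ideal.exists_le_maximal _ hne
  have hPp : P.IsPrime := hP.isPrime
  have : Algebra.IsIntegral A ((B ⧸ I.map (algebraMap A B)) ⧸ Ideal.span {1 - e}) :=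
    Algebra.IsIntegral.of_finite A _
  have : Algebra.IsIntegral (integralClosure A B)
      ((B ⧸ I.map (algebraMap A B)) ⧸ Ideal.span {1 - e}) :=
    Algebra.IsIntegral.tower_top (R := A)
  have hker : (⊥ : Ideal ((B ⧸ I.map (algebraMap A B)) ⧸ Ideal.span {1 - e})).comap
      (algebraMap (integralClosure A B) _) ≤ P := by
    intro x hx
    apply hle
    apply Ideal.mem_sup_right
    rw [Ideal.mem_comap, Ideal.mem_bot] at hx
    exact hx
  obtain ⟨Q, -, hQp, hQ⟩ := Ideal.exists_ideal_over_prime_of_isIntegral P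
    (⊥ : Ideal ((B ⧸ I.map (algebraMap A B)) ⧸ Ideal.span {1 - e})) hker
  set q : Ideal B := Q.comap ((Ideal.Quotient.mk (Ideal.span {1 - e})).comp
    (Ideal.Quotient.mk (I.map (algebraMap A B)))) with hq
  have hqp : q.IsPrime := Ideal.comap_isPrime _ _
  have hIq : I.map (algebraMap A B) ≤ q := by
    intro x hx
    rw [hq, Ideal.mem_comap, RingHom.comp_apply, Ideal.Quotient.eq_zero_iff_mem.mpr hx, map_zero]
    exact Q.zero_mem
  have he'q : 1 - e' ∈ q := by
    rw [hq, Ideal.mem_comap, RingHom.comp_apply, map_sub, map_one, he',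
      Ideal.Quotient.eq_zero_iff_mem.mpr (Ideal.mem_span_singleton_self _)]
    exact Q.zero_mem
  have hw : Algebra.WeaklyQuasiFiniteAt A q :=
    weaklyQuasiFiniteAt_of_finite_factor I e hfin q hIq e' he' hee he'q
  have hz : Algebra.ZariskisMainProperty A q := .of_finiteType_of_weaklyQuasiFiniteAt q
  obtain ⟨r, hrq, hr, hrx⟩ := Algebra.zariskisMainProperty_iff.mp hz
  apply hrq
  have hrK : (⟨r, hr⟩ : integralClosure A B) ∈ conductorLike A B := hrx
  have hrP : (⟨r, hr⟩ : integralClosure A B) ∈ P := hle (Ideal.mem_sup_left hrK)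
  rw [← hQ, Ideal.mem_comap, halg] at hrP
  exact hrP


/-- multiplying an element of `IB` by a power of an element of the conductor lands in `IB'` -/
theorem exists_pow_mul_mem (I : Ideal A) {c : integralClosure A B} (hc : c ∈ conductorLike A B)
    {z : B} (hz : z ∈ I.map (algebraMap A B)) :
    ∃ M : ℕ, ∃ w ∈ I.map (algebraMap A (integralClosure A B)), (w : B) = (c : B) ^ M * z := by
  induction hz using Submodule.span_induction with
  | mem z hz =>
    obtain ⟨a, ha, rfl⟩ := hz
    exact ⟨0, algebraMap A _ a, Ideal.mem_map_of_mem _ ha, by simp⟩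
  | zero => exact ⟨0, 0, Ideal.zero_mem _, by simp⟩
  | add z₁ z₂ _ _ h₁ h₂ =>
    obtain ⟨M₁, w₁, hw₁, e₁⟩ := h₁
    obtain ⟨M₂, w₂, hw₂, e₂⟩ := h₂
    refine ⟨M₁ + M₂, c ^ M₂ * w₁ + c ^ M₁ * w₂,
      Ideal.add_mem _ (Ideal.mul_mem_left _ _ hw₁) (Ideal.mul_mem_left _ _ hw₂), ?_⟩
    rw [Subalgebra.coe_add, Subalgebra.coe_mul, Subalgebra.coe_mul, Subalgebra.coe_pow,
      Subalgebra.coe_pow, e₁, e₂]
    ring
  | smul x z _ h =>
    obtain ⟨M, w, hw, e⟩ := h
    obtain ⟨m, hm⟩ := hc x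
    refine ⟨m + M, ⟨_, hm⟩ * w, Ideal.mul_mem_left _ _ hw, ?_⟩
    rw [Subalgebra.coe_mul, e, smul_eq_mul]
    ring

theorem exists_forall_pow_mul_mem (I : Ideal A) {c : integralClosure A B}
    (hc : c ∈ conductorLike A B) {z : integralClosure A B}
    (hz : (z : B) ∈ I.map (algebraMap A B)) :
    ∃ M : ℕ, ∀ n, M ≤ n → c ^ n * z ∈ I.map (algebraMap A (integralClosure A B)) := by
  obtain ⟨M, w, hw, e⟩ := exists_pow_mul_mem I hc hz
  refine ⟨M, fun n hn => ?_⟩
  have : c ^ n * z = c ^ (n - M) * w := by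
    apply Subtype.ext
    rw [Subalgebra.coe_mul, Subalgebra.coe_mul, Subalgebra.coe_pow, Subalgebra.coe_pow, e,
      ← mul_assoc, ← pow_add, Nat.sub_add_cancel hn]
  rw [this]
  exact Ideal.mul_mem_left _ _ hw

/-- `B'[1/g] → B[1/g]` is bijective for `g` in the conductor -/
theorem bijective_of_mem_conductorLike {g : integralClosure A B} (hg : g ∈ conductorLike A B) :
    Function.Bijective (algebraMap (Localization.Away g)
      (Localization (Algebra.algebraMapSubmonoid B (Submonoid.powers g)))) := by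
  refine ⟨localizationAlgebra_injective _ _ Subtype.val_injective, ?_⟩
  intro y
  obtain ⟨x, ⟨s, hs⟩, rfl⟩ := IsLocalization.exists_mk'_eq
    (Algebra.algebraMapSubmonoid B (Submonoid.powers g)) y
  obtain ⟨_, ⟨n, rfl⟩, rfl⟩ := hs
  obtain ⟨m, hm⟩ := hg x
  refine ⟨IsLocalization.mk' _ (⟨_, hm⟩ : integralClosure A B)
    (⟨g ^ (m + n), ⟨m + n, rfl⟩⟩ : Submonoid.powers g), ?_⟩
  rw [localizationAlgebraMap_def, IsLocalization.map_mk', IsLocalization.mk'_eq_iff_eq]
  congr 1
  simp only [map_pow]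
  change (algebraMap (integralClosure A B) B g) ^ n * ((g : B) ^ m * x) =
    (algebraMap (integralClosure A B) B g) ^ (m + n) * x
  rw [pow_add]
  change (g : B) ^ n * ((g : B) ^ m * x) = (g : B) ^ m * (g : B) ^ n * x
  ring


/-- the main construction -/
theorem exists_idempotent_lift [Algebra.FiniteType A B] (I : Ideal A)
    (e : B ⧸ I.map (algebraMap A B)) (he : IsIdempotentElem e)
    (hfin : Module.Finite A ((B ⧸ I.map (algebraMap A B)) ⧸ Ideal.span {1 - e})) :
    ∃ g : integralClosure A B, g ∈ conductorLike A B ∧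
      IsIdempotentElem (Ideal.Quotient.mk (I.map (algebraMap A (integralClosure A B))) g) ∧
      Ideal.Quotient.mk (I.map (algebraMap A B)) (g : B) = e := by
  have htop := conductorLike_sup_ker_eq_top I e he hfin
  rw [Ideal.eq_top_iff_one, Submodule.mem_sup] at htop
  obtain ⟨c, hc, k, hk, hck⟩ := htop
  obtain ⟨e', he'⟩ := Ideal.Quotient.mk_surjective e
  have hk' : Ideal.Quotient.mk (I.map (algebraMap A B)) (k : B) ∈ Ideal.span {1 - e} :=
    Ideal.Quotient.eq_zero_iff_mem.mp hk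
  obtain ⟨y, hy⟩ := Ideal.mem_span_singleton'.mp hk'
  have hke : Ideal.Quotient.mk (I.map (algebraMap A B)) (k : B) * e = 0 := by
    rw [← hy, mul_assoc, sub_mul, one_mul, he.eq, sub_self, mul_zero]
  have hck' : (c : B) = 1 - (k : B) := by
    have := congrArg Subtype.val hck
    rw [Subalgebra.coe_add, Subalgebra.coe_one] at this
    exact eq_sub_of_add_eq this
  have hce : Ideal.Quotient.mk (I.map (algebraMap A B)) (c : B) * e = e := by
    rw [hck', map_sub, map_one, sub_mul, one_mul, hke, sub_zero]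
  have hcpe : ∀ n : ℕ, Ideal.Quotient.mk (I.map (algebraMap A B)) (c : B) ^ n * e = e := by
    intro n
    induction n with
    | zero => simp
    | succ n ih => rw [pow_succ, mul_assoc, hce, ih]
  obtain ⟨m, hm⟩ := hc e'
  obtain ⟨b, hbdef⟩ : ∃ b : integralClosure A B, (b : B) = (c : B) ^ m * e' := ⟨⟨_, hm⟩, rfl⟩
  have hb : Ideal.Quotient.mk (I.map (algebraMap A B)) (b : B) = e := by
    rw [hbdef, map_mul, map_pow, he', hcpe]
  have h1 : ((b * b - b : integralClosure A B) : B) ∈ I.map (algebraMap A B) := by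
    rw [← Ideal.Quotient.eq_zero_iff_mem, Subalgebra.coe_sub, Subalgebra.coe_mul, map_sub,
      map_mul, hb, he.eq, sub_self]
  have h2 : ((k * b : integralClosure A B) : B) ∈ I.map (algebraMap A B) := by
    rw [← Ideal.Quotient.eq_zero_iff_mem, Subalgebra.coe_mul, map_mul, hb, hke]
  obtain ⟨M₁, hM₁⟩ := exists_forall_pow_mul_mem I hc h1
  obtain ⟨M₂, hM₂⟩ := exists_forall_pow_mul_mem I hc h2
  obtain ⟨M, hMdef⟩ : ∃ M : ℕ, M = M₁ + M₂ + 1 := ⟨_, rfl⟩
  have hMpos : M = (M₁ + M₂) + 1 := hMdef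
  refine ⟨c ^ M * b, ?_, ?_, ?_⟩
  · rw [hMpos, pow_succ, mul_assoc]
    exact Ideal.mul_mem_left _ _ (Ideal.mul_mem_right _ _ hc)
  · have e1 := Ideal.Quotient.eq_zero_iff_mem.mpr (hM₁ M (by omega))
    have e2 := Ideal.Quotient.eq_zero_iff_mem.mpr (hM₂ M (by omega))
    have e3 := congrArg (Ideal.Quotient.mk (I.map (algebraMap A (integralClosure A B)))) hck
    simp only [map_mul, map_sub, map_pow, map_add, map_one] at e1 e2 e3
    simp only [IsIdempotentElem, map_mul, map_pow]
    generalize Ideal.Quotient.mk (I.map (algebraMap A (integralClosure A B))) c = C at *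
    generalize Ideal.Quotient.mk (I.map (algebraMap A (integralClosure A B))) k = K at *
    generalize Ideal.Quotient.mk (I.map (algebraMap A (integralClosure A B))) b = Bb at *
    have hKu : K * (C ^ M * Bb) = 0 := by
      rw [show K * (C ^ M * Bb) = C ^ M * (K * Bb) by ring, e2]
    have hCu : C * (C ^ M * Bb) = C ^ M * Bb := by
      have : C = 1 - K := eq_sub_of_add_eq e3
      nth_rewrite 1 [this]
      rw [sub_mul, one_mul, hKu, sub_zero]
    have hCnu : ∀ n : ℕ, C ^ n * (C ^ M * Bb) = C ^ M * Bb := by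
      intro n
      induction n with
      | zero => simp
      | succ n ih => rw [pow_succ, mul_assoc, hCu, ih]
    have hBB : C ^ M * (Bb * Bb) = C ^ M * Bb := by
      rw [mul_sub] at e1
      exact sub_eq_zero.mp e1
    calc C ^ M * Bb * (C ^ M * Bb) = C ^ M * (C ^ M * (Bb * Bb)) := by ring
      _ = C ^ M * (C ^ M * Bb) := by rw [hBB]
      _ = C ^ M * Bb := hCnu M
  · rw [Subalgebra.coe_mul, Subalgebra.coe_pow, map_mul, map_pow, hb, hcpe]

end Groth.Agent.Lib.Helper90.IdemIntClosure
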