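import Groth.Prelude.Def_W4c5qllcourbesmultMultCrv
import Mathlib.RingTheory.AdjoinRoot
import Mathlib.RingTheory.DiscreteValuationRing.Basic
import Mathlib.Algebra.Module.Torsion.Free
import Mathlib.LinearAlgebra.FreeModule.PID
import Mathlib.RingTheory.Finiteness.Basic
import Mathlib.RingTheory.Polynomial.Basic
import Mathlib.LinearAlgebra.Dual.Lemmas

/-!
# Modules over `R[X]/(X^n)` (helper90)

Library for the `MultCrv` family: `A = MultCrv.Rn R n = R[X]/(X^n)`, `z` the class of `X`.
Main tools: the Frobenius form `tau : A →ₗ[R] R` (coefficient of `z^(n-1)`), the induced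
identification `Hom_A(M, A) ≃ Hom_R(M, R)` (`Lam`, `tau_Lam`, `Lam_tau`), and the factorisation of
`z^(n-1) • id_M` through a free module for `R`-torsion-free `M`.
-/

set_option autoImplicit false
universe u

namespace Groth.Agent.Lib.Helper90.MultCrvLib

open MultCrv Polynomial

section basic

variable (R : Type u) [CommRing R] (n : ℕ)

theorem z_pow_n : z R n ^ n = 0 := by
  rw [← map_pow, Ideal.Quotient.eq_zero_iff_mem]
  exact Ideal.subset_span rfl

theorem z_pow_eq_zero {k : ℕ} (hk : n ≤ k) : z R n ^ k = 0 := by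
  obtain ⟨j, rfl⟩ := Nat.exists_eq_add_of_le hk
  rw [pow_add, z_pow_n, zero_mul]

theorem adjoin_z_eq_top : Algebra.adjoin R {z R n} = ⊤ :=
  AdjoinRoot.adjoinRoot_eq_top (f := (X : R[X]) ^ n)

variable {R n}

/-- An `R`-linear map between `A`-modules commuting with `z` is `A`-linear. -/
theorem map_smul_of_map_z_smul {M N : Type*} [AddCommGroup M] [Module (Rn R n) M] [Module R M]
    [IsScalarTower R (Rn R n) M] [AddCommGroup N] [Module (Rn R n) N] [Module R N]
    [IsScalarTower R (Rn R n) N] (f : M →ₗ[R] N) (hf : ∀ m, f (z R n • m) = z R n • f m)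
    (a : Rn R n) (m : M) : f (a • m) = a • f m := by
  have ha : a ∈ Algebra.adjoin R {z R n} := by rw [adjoin_z_eq_top]; trivial
  induction ha using Algebra.adjoin_induction generalizing m with
  | mem x hx =>
    rw [Set.mem_singleton_iff] at hx
    rw [hx, hf]
  | algebraMap r =>
    rw [algebraMap_smul, algebraMap_smul, map_smul]
  | add x y _ _ hx hy => rw [add_smul, add_smul, map_add, hx, hy]
  | mul x y _ _ hx hy => rw [mul_smul, mul_smul, hx, hy]

/-- Upgrade an `R`-linear map commuting with `z` to an `A`-linear map. -/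
def linearMapOfZ {M N : Type*} [AddCommGroup M] [Module (Rn R n) M] [Module R M]
    [IsScalarTower R (Rn R n) M] [AddCommGroup N] [Module (Rn R n) N] [Module R N]
    [IsScalarTower R (Rn R n) N] (f : M →ₗ[R] N) (hf : ∀ m, f (z R n • m) = z R n • f m) :
    M →ₗ[Rn R n] N where
  toFun := f
  map_add' := f.map_add
  map_smul' a m := map_smul_of_map_z_smul f hf a m

@[simp] theorem linearMapOfZ_apply {M N : Type*} [AddCommGroup M] [Module (Rn R n) M] [Module R M]
    [IsScalarTower R (Rn R n) M] [AddCommGroup N] [Module (Rn R n) N] [Module R N]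
    [IsScalarTower R (Rn R n) N] (f : M →ₗ[R] N) (hf : ∀ m, f (z R n • m) = z R n • f m) (m : M) :
    linearMapOfZ f hf m = f m := rfl

end basic

section tau

variable (R : Type u) [CommRing R] (n : ℕ)

/-- The Frobenius form on `A = R[X]/(X^n)`: the coefficient of `z^(n-1)`. -/
noncomputable def tau : Rn R n →ₗ[R] R :=
  (Polynomial.lcoeff R (n - 1)).comp (AdjoinRoot.modByMonicHom (monic_X_pow n))

theorem tau_mk (p : R[X]) :
    tau R n (Ideal.Quotient.mk (Ideal.span {(X : R[X]) ^ n}) p) = (p %ₘ X ^ n).coeff (n - 1) := by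
  have : AdjoinRoot.modByMonicHom (monic_X_pow n) (AdjoinRoot.mk (X ^ n) p) = p %ₘ X ^ n :=
    AdjoinRoot.modByMonicHom_mk (monic_X_pow n) p
  show (AdjoinRoot.modByMonicHom (monic_X_pow n) (AdjoinRoot.mk (X ^ n) p)).coeff (n - 1) = _
  rw [this]

theorem tau_z_pow [Nontrivial R] (hn : 1 ≤ n) (k : ℕ) :
    tau R n (z R n ^ k) = if k = n - 1 then 1 else 0 := by
  by_cases hk : k < n
  · have h1 : z R n ^ k = Ideal.Quotient.mk (Ideal.span {(X : R[X]) ^ n}) (X ^ k) := by
      rw [map_pow]
    rw [h1, tau_mk]
    have h2 : (X : R[X]) ^ k %ₘ X ^ n = X ^ k := by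
      rw [modByMonic_eq_self_iff (monic_X_pow n), degree_X_pow, degree_X_pow]
      exact_mod_cast hk
    rw [h2, coeff_X_pow]
    by_cases h : k = n - 1
    · simp [h]
    · rw [if_neg h, if_neg (fun h' => h h'.symm)]
  · rw [z_pow_eq_zero R n (not_lt.mp hk), map_zero, if_neg]
    omega

theorem recon_z_pow [Nontrivial R] (hn : 1 ≤ n) (k : ℕ) :
    ∑ i ∈ Finset.range n, tau R n (z R n ^ (n - 1 - i) * z R n ^ k) • z R n ^ i = z R n ^ k := by
  by_cases hk : k < n
  · rw [Finset.sum_eq_single k]
    · rw [← pow_add, tau_z_pow R n hn, if_pos (by omega), one_smul]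
    · intro i hi hik
      rw [Finset.mem_range] at hi
      rw [← pow_add, tau_z_pow R n hn, if_neg (by omega), zero_smul]
    · intro h
      exact absurd (Finset.mem_range.mpr hk) h
  · rw [z_pow_eq_zero R n (not_lt.mp hk)]
    simp

/-- Frobenius reconstruction: `a = Σ_i tau (z^(n-1-i) a) z^i`. -/
theorem recon [Nontrivial R] (hn : 1 ≤ n) (a : Rn R n) :
    ∑ i ∈ Finset.range n, tau R n (z R n ^ (n - 1 - i) * a) • z R n ^ i = a := by
  obtain ⟨p, rfl⟩ := Ideal.Quotient.mk_surjective a
  induction p using Polynomial.induction_on' with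
  | add p q hp hq =>
    simp only [map_add, mul_add, add_smul, Finset.sum_add_distrib, hp, hq]
  | monomial k c =>
    have h1 : Ideal.Quotient.mk (Ideal.span {(X : R[X]) ^ n}) (monomial k c) = c • z R n ^ k := by
      rw [← C_mul_X_pow_eq_monomial, map_mul, map_pow]
      exact (Algebra.smul_def c (z R n ^ k)).symm
    rw [h1]
    simp only [mul_smul_comm, map_smul, smul_assoc]
    rw [← Finset.smul_sum, recon_z_pow R n hn k]

end tau

section Lam

variable {R : Type u} [CommRing R] {n : ℕ} {M : Type*} [AddCommGroup M] [Module (Rn R n) M]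
  [Module R M] [IsScalarTower R (Rn R n) M]

/-- The `R`-linear map `m ↦ Σ_i ψ(z^(n-1-i) m) z^i` attached to an `R`-linear form `ψ`. -/
noncomputable def LamR (ψ : M →ₗ[R] R) : M →ₗ[R] Rn R n where
  toFun m := ∑ i ∈ Finset.range n, ψ (z R n ^ (n - 1 - i) • m) • z R n ^ i
  map_add' m m' := by
    simp only [smul_add, map_add, add_smul, Finset.sum_add_distrib]
  map_smul' r m := by
    simp only [RingHom.id_apply, Finset.smul_sum]
    refine Finset.sum_congr rfl fun i _ => ?_
    rw [smul_comm (z R n ^ (n - 1 - i)) r m, map_smul, smul_assoc]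

theorem LamR_apply (ψ : M →ₗ[R] R) (m : M) :
    LamR (n := n) ψ m = ∑ i ∈ Finset.range n, ψ (z R n ^ (n - 1 - i) • m) • z R n ^ i := rfl

theorem LamR_z_smul (ψ : M →ₗ[R] R) (m : M) :
    LamR (n := n) ψ (z R n • m) = z R n • LamR (n := n) ψ m := by
  rw [LamR_apply, LamR_apply, smul_eq_mul]
  cases n with
  | zero => simp
  | succ k =>
    rw [Finset.sum_range_succ', Finset.sum_range_succ, mul_add, Finset.mul_sum]
    have h0 : z R (k + 1) ^ (k + 1 - 1 - 0) • z R (k + 1) • m = 0 := by
      rw [smul_smul, ← pow_succ]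
      have : k + 1 - 1 - 0 + 1 = k + 1 := by omega
      rw [this, z_pow_n]
      exact zero_smul (Rn R (k + 1)) m
    have h1 : z R (k + 1) * (ψ (z R (k + 1) ^ (k + 1 - 1 - k) • m) • z R (k + 1) ^ k) = 0 := by
      rw [mul_smul_comm, ← pow_succ', z_pow_n, smul_zero]
    rw [h0, h1, map_zero, zero_smul, add_zero, add_zero]
    refine Finset.sum_congr rfl fun i hi => ?_
    rw [Finset.mem_range] at hi
    rw [smul_smul, ← pow_succ, mul_smul_comm, ← pow_succ']
    have : k + 1 - 1 - (i + 1) + 1 = k + 1 - 1 - i := by omega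
    rw [this]

/-- The `A`-linear form attached to an `R`-linear form. -/
noncomputable def Lam (ψ : M →ₗ[R] R) : M →ₗ[Rn R n] Rn R n :=
  linearMapOfZ (LamR ψ) (LamR_z_smul ψ)

theorem Lam_apply (ψ : M →ₗ[R] R) (m : M) :
    Lam (n := n) ψ m = ∑ i ∈ Finset.range n, ψ (z R n ^ (n - 1 - i) • m) • z R n ^ i := rfl

theorem tau_Lam [Nontrivial R] (hn : 1 ≤ n) (ψ : M →ₗ[R] R) (m : M) :
    tau R n (Lam (n := n) ψ m) = ψ m := by
  rw [Lam_apply, map_sum]
  simp only [map_smul, tau_z_pow R n hn, smul_eq_mul, mul_ite, mul_one, mul_zero]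
  rw [Finset.sum_ite_eq' (Finset.range n) (n - 1), if_pos (Finset.mem_range.mpr (by omega))]
  simp

theorem Lam_tau [Nontrivial R] (hn : 1 ≤ n) (l : M →ₗ[Rn R n] Rn R n) :
    Lam ((tau R n).comp (l.restrictScalars R)) = l := by
  apply LinearMap.ext
  intro m
  rw [Lam_apply]
  simp only [LinearMap.comp_apply, LinearMap.restrictScalars_apply, map_smul, smul_eq_mul]
  exact recon R n hn (l m)

theorem Lam_add (ψ ψ' : M →ₗ[R] R) : Lam (n := n) (ψ + ψ') = Lam ψ + Lam ψ' := by
  apply LinearMap.ext
  intro m
  simp only [Lam_apply, LinearMap.add_apply, add_smul, Finset.sum_add_distrib]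

theorem Lam_smul (r : R) (ψ : M →ₗ[R] R) : Lam (n := n) (r • ψ) = r • Lam ψ := by
  apply LinearMap.ext
  intro m
  simp only [Lam_apply, LinearMap.smul_apply, smul_assoc, Finset.smul_sum]

end Lam

section ext

variable {R : Type u} [CommRing R] {n : ℕ}

instance finite_Rn : Module.Finite R (Rn R n) := (monic_X_pow n).finite_quotient

instance free_Rn : Module.Free R (Rn R n) := (monic_X_pow n).free_quotient

theorem finite_of_finite_Rn (M : Type*) [AddCommGroup M] [Module (Rn R n) M] [Module R M]
    [IsScalarTower R (Rn R n) M] [Module.Finite (Rn R n) M] : Module.Finite R M :=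
  Module.Finite.trans (Rn R n) M

/-- Extension of `A`-linear forms along an injection with `R`-projective cokernel. -/
theorem exists_extension [Nontrivial R] (hn : 1 ≤ n) {M' M M'' : Type*}
    [AddCommGroup M'] [Module (Rn R n) M'] [Module R M'] [IsScalarTower R (Rn R n) M']
    [AddCommGroup M] [Module (Rn R n) M] [Module R M] [IsScalarTower R (Rn R n) M]
    [AddCommGroup M''] [Module (Rn R n) M''] [Module R M''] [IsScalarTower R (Rn R n) M'']
    [Module.Projective R M'']
    (f : M' →ₗ[Rn R n] M) (g : M →ₗ[Rn R n] M'') (hf : Function.Injective f)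
    (hg : Function.Surjective g) (hfg : LinearMap.range f = LinearMap.ker g)
    (l' : M' →ₗ[Rn R n] Rn R n) : ∃ l : M →ₗ[Rn R n] Rn R n, l.comp f = l' := by
  classical
  obtain ⟨s, hs⟩ := Module.projective_lifting_property (g.restrictScalars R) LinearMap.id hg
  have hs' : ∀ x, g (s x) = x := fun x => by
    simpa using congrArg (fun h => h x) hs
  -- the `R`-linear retraction of `f`
  have hmem : ∀ m : M, m - s (g m) ∈ LinearMap.range (f.restrictScalars R) := by
    intro m
    have : m - s (g m) ∈ LinearMap.ker g := by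
      rw [LinearMap.mem_ker, map_sub, hs', sub_self]
    rw [← hfg] at this
    obtain ⟨m', hm'⟩ := this
    exact ⟨m', hm'⟩
  let e := LinearEquiv.ofInjective (f.restrictScalars R) hf
  let ρ : M →ₗ[R] M' := e.symm.toLinearMap.comp
    (LinearMap.codRestrict (LinearMap.range (f.restrictScalars R))
      (LinearMap.id - s.comp (g.restrictScalars R)) hmem)
  have hρ : ∀ m', ρ (f m') = m' := by
    intro m'
    apply hf
    have h1 : f (ρ (f m')) = f m' - s (g (f m')) := by
      have := e.apply_symm_apply ((LinearMap.codRestrict (LinearMap.range (f.restrictScalars R))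
        (LinearMap.id - s.comp (g.restrictScalars R)) hmem) (f m'))
      exact congrArg Subtype.val this
    have h2 : g (f m') = 0 := by
      have : f m' ∈ LinearMap.ker g := hfg ▸ LinearMap.mem_range_self f m'
      exact this
    rw [h1, h2, map_zero, sub_zero]
  refine ⟨Lam (((tau R n).comp (l'.restrictScalars R)).comp ρ), ?_⟩
  conv_rhs => rw [← Lam_tau hn l']
  apply LinearMap.ext
  intro m'
  simp only [LinearMap.comp_apply, Lam_apply, LinearMap.restrictScalars_apply]
  refine Finset.sum_congr rfl fun i _ => ?_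
  rw [← map_smul f, hρ]

end ext

section factor

variable {R : Type u} [CommRing R] [IsDomain R] [IsPrincipalIdealRing R] {n : ℕ}

/-- For an `R`-torsion-free finitely generated module `M` over `A = R[X]/(X^n)`, multiplication by
`z^(n-1)` on `M` factors through a finite free `A`-module. -/
theorem exists_factor_zpow (hn : 1 ≤ n) (M : Type*) [AddCommGroup M] [Module (Rn R n) M]
    [Module R M] [IsScalarTower R (Rn R n) M] [Module.Finite (Rn R n) M]
    [Module.IsTorsionFree R M] :
    ∃ (q : ℕ) (α : M →ₗ[Rn R n] (Fin q → Rn R n)) (β : (Fin q → Rn R n) →ₗ[Rn R n] M),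
      ∀ x, β (α x) = z R n ^ (n - 1) • x := by
  classical
  haveI : Module.Finite R M := finite_of_finite_Rn (R := R) (n := n) M
  let zn : M →ₗ[R] M :=
    ((z R n ^ (n - 1)) • (LinearMap.id : M →ₗ[Rn R n] M)).restrictScalars R
  have hzn : ∀ x, zn x = z R n ^ (n - 1) • x := fun x => rfl
  haveI : Module.Finite R (LinearMap.range zn) := Module.Finite.range zn
  obtain ⟨q, b⟩ := Module.basisOfFiniteTypeTorsionFree' (R := R) (M := LinearMap.range zn)
  have hm : ∀ k, ∃ m : M, zn m = (b k : M) := fun k => (b k).2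
  choose m hm using hm
  let αR : M →ₗ[R] (Fin q → Rn R n) :=
    LinearMap.pi fun k => (LinearMap.toSpanSingleton R (Rn R n) (z R n ^ (n - 1))).comp
      ((b.coord k).comp zn.rangeRestrict)
  have hαR : ∀ x k, αR x k = (b.repr (zn.rangeRestrict x) k) • z R n ^ (n - 1) := fun x k => rfl
  have hz : ∀ x, αR (z R n • x) = z R n • αR x := by
    intro x
    funext k
    rw [hαR, Pi.smul_apply, hαR]
    have h1 : zn.rangeRestrict (z R n • x) = 0 := by
      apply Subtype.ext
      change z R n ^ (n - 1) • (z R n • x) = 0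
      rw [smul_smul, ← pow_succ, Nat.sub_add_cancel hn, z_pow_n]
      exact zero_smul (Rn R n) x
    rw [h1, map_zero, Finsupp.zero_apply, zero_smul, smul_eq_mul, mul_smul_comm, ← pow_succ',
      Nat.sub_add_cancel hn, z_pow_n, smul_zero]
  refine ⟨q, linearMapOfZ αR hz, Fintype.linearCombination (Rn R n) m, fun x => ?_⟩
  rw [Fintype.linearCombination_apply]
  have h2 : ∀ k, (linearMapOfZ αR hz x) k • m k
      = (b.repr (zn.rangeRestrict x) k) • ((b k : LinearMap.range zn) : M) := by
    intro k
    rw [linearMapOfZ_apply, hαR, smul_assoc, ← hm k, hzn]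
  rw [Finset.sum_congr rfl fun k _ => h2 k]
  have h3 : ((∑ k, (b.repr (zn.rangeRestrict x) k) • b k : LinearMap.range zn) : M)
      = ∑ k, (b.repr (zn.rangeRestrict x) k) • ((b k : LinearMap.range zn) : M) := by
    rw [Submodule.coe_sum]
    rfl
  rw [← h3, b.sum_repr]
  rfl

end factor

section reflexive

variable {R : Type u} [CommRing R] {n : ℕ}

theorem eq_of_tau_zpow_mul [Nontrivial R] (hn : 1 ≤ n) {a b : Rn R n}
    (h : ∀ j, tau R n (z R n ^ j * a) = tau R n (z R n ^ j * b)) : a = b := by
  rw [← recon R n hn a, ← recon R n hn b]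
  exact Finset.sum_congr rfl fun i _ => by rw [h]

/-- A reflexive `A`-module is `R`-torsion-free. -/
theorem isTorsionFree_of_isReflexive [IsDomain R] (M : Type*) [AddCommGroup M]
    [Module (Rn R n) M] [Module R M] [IsScalarTower R (Rn R n) M]
    [Module.IsReflexive (Rn R n) M] : Module.IsTorsionFree R M := by
  apply Module.IsTorsionFree.of_smul_eq_zero
  intro c m hcm
  by_cases hc : c = 0
  · exact Or.inl hc
  · right
    apply (Module.bijective_dual_eval (Rn R n) M).injective
    rw [map_zero]
    apply LinearMap.ext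
    intro l
    rw [Module.Dual.eval_apply, LinearMap.zero_apply]
    have h1 : c • l m = 0 := by
      rw [← algebraMap_smul (Rn R n) c (l m), ← map_smul, algebraMap_smul, hcm, map_zero]
    rcases smul_eq_zero.mp h1 with h | h
    · exact absurd h hc
    · exact h

/-- A finitely generated `R`-torsion-free `A`-module is reflexive over `A`. -/
theorem isReflexive_of_isTorsionFree [IsDomain R] [IsPrincipalIdealRing R] (hn : 1 ≤ n)
    (M : Type*) [AddCommGroup M] [Module (Rn R n) M] [Module R M] [IsScalarTower R (Rn R n) M]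
    [Module.Finite (Rn R n) M] [Module.IsTorsionFree R M] : Module.IsReflexive (Rn R n) M := by
  classical
  haveI : Module.Finite R M := finite_of_finite_Rn (R := R) (n := n) M
  haveI : Module.Free R M := inferInstance
  haveI : Module.IsReflexive R M := inferInstance
  constructor
  constructor
  · rw [injective_iff_map_eq_zero]
    intro m hm
    apply (Module.bijective_dual_eval R M).injective
    rw [map_zero]
    apply LinearMap.ext
    intro ψ
    rw [Module.Dual.eval_apply, LinearMap.zero_apply]
    have h1 : Lam (n := n) ψ m = 0 := by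
      have := congrArg (fun Φ => Φ (Lam (n := n) ψ)) hm
      simpa using this
    rw [← tau_Lam hn ψ m, h1, map_zero]
  · intro Φ
    let φR : Module.Dual R (Module.Dual R M) :=
      { toFun := fun ψ => tau R n (Φ (Lam ψ))
        map_add' := fun ψ ψ' => by rw [Lam_add, map_add, map_add]
        map_smul' := fun r ψ => by
          rw [Lam_smul, ← algebraMap_smul (Rn R n) r (Lam ψ), map_smul, algebraMap_smul, map_smul]
          rfl }
    obtain ⟨m, hm⟩ := (Module.bijective_dual_eval R M).surjective φR
    refine ⟨m, ?_⟩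
    apply LinearMap.ext
    intro l
    rw [Module.Dual.eval_apply]
    apply eq_of_tau_zpow_mul hn
    intro j
    have h1 := congrArg (fun F => F ((tau R n).comp ((z R n ^ j • l).restrictScalars R))) hm
    simp only [Module.Dual.eval_apply] at h1
    have h2 : φR ((tau R n).comp ((z R n ^ j • l).restrictScalars R))
        = tau R n (Φ (z R n ^ j • l)) := by
      change tau R n (Φ (Lam _)) = _
      rw [Lam_tau hn]
    rw [h2, map_smul] at h1
    exact h1

end reflexive

end Groth.Agent.Lib.Helper90.MultCrvLib
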