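import Groth.Agent.Lib.Helper90.MultCrv
import Mathlib.Algebra.Category.ModuleCat.Ext.HasExt
import Mathlib.Algebra.Homology.DerivedCategory.Ext.Linear
import Mathlib.Algebra.Homology.DerivedCategory.Ext.ExactSequences
import Mathlib.Algebra.Homology.ShortComplex.ModuleCat

/-!
# `Ext` over `R[X]/(X^n)` (helper90)

General dimension-shifting lemmas for `Abelian.Ext` and their application to modules over
`A = R[X]/(X^n)`.
-/

set_option autoImplicit false
universe w v u t

namespace Groth.Agent.Lib.Helper90.MultCrvLib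

open CategoryTheory Abelian

section general

variable {C : Type u} [Category.{v} C] [Abelian C] [HasExt.{w} C]

/-- Dimension shifting: in `0 → X₁ → X₂ → X₃ → 0`, if `Ext^{n₀}(X₁, Y) = 0` and
`Ext^{n₀+1}(X₂, Y) = 0` then `Ext^{n₀+1}(X₃, Y) = 0`. -/
theorem ext_subsingleton_of_shortExact {S : ShortComplex C} (hS : S.ShortExact) (Y : C)
    (n₀ n₁ : ℕ) (h : 1 + n₀ = n₁) (h1 : Subsingleton (Ext S.X₁ Y n₀))
    (h2 : ∀ x : Ext S.X₂ Y n₁, x = 0) : Subsingleton (Ext S.X₃ Y n₁) := by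
  refine subsingleton_of_forall_eq 0 fun x₃ => ?_
  obtain ⟨x₁, rfl⟩ := Ext.contravariant_sequence_exact₃ hS Y x₃ (h2 _) h
  rw [Subsingleton.elim x₁ 0, Ext.comp_zero]

/-- Degree one: in `0 → X₁ → X₂ → X₃ → 0`, if every morphism `X₁ ⟶ Y` extends to `X₂` and
`Ext^1(X₂, Y) = 0` then `Ext^1(X₃, Y) = 0`. -/
theorem ext_one_subsingleton_of_extension {S : ShortComplex C} (hS : S.ShortExact) (Y : C)
    (hext : ∀ φ : S.X₁ ⟶ Y, ∃ ψ : S.X₂ ⟶ Y, S.f ≫ ψ = φ)
    (h2 : ∀ x : Ext S.X₂ Y 1, x = 0) : Subsingleton (Ext S.X₃ Y 1) := by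
  refine subsingleton_of_forall_eq 0 fun x₃ => ?_
  obtain ⟨x₁, rfl⟩ := Ext.contravariant_sequence_exact₃ hS Y x₃ (h2 _) (rfl : 1 + 0 = 1)
  obtain ⟨φ, rfl⟩ := (Ext.mk₀_bijective _ _).2 x₁
  obtain ⟨ψ, rfl⟩ := hext φ
  rw [← Ext.mk₀_comp_mk₀]
  exact hS.extClass_comp_assoc (Ext.mk₀ ψ)

/-- Converse direction: if `Ext^1(X₃, Y) = 0` then every morphism `X₁ ⟶ Y` extends to `X₂`. -/
theorem exists_extension_of_ext_one_eq_zero {S : ShortComplex C} (hS : S.ShortExact) (Y : C)
    (h : ∀ x : Ext S.X₃ Y 1, x = 0) (φ : S.X₁ ⟶ Y) : ∃ ψ : S.X₂ ⟶ Y, S.f ≫ ψ = φ := by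
  obtain ⟨x₂, hx₂⟩ := Ext.contravariant_sequence_exact₁ hS Y (Ext.mk₀ φ) (rfl : 1 + 0 = 1) (h _)
  obtain ⟨ψ, rfl⟩ := (Ext.mk₀_bijective _ _).2 x₂
  refine ⟨ψ, ?_⟩
  rw [Ext.mk₀_comp_mk₀] at hx₂
  exact (Ext.mk₀_bijective _ _).1 hx₂

/-- Surjectivity of the connecting map when the middle term has vanishing `Ext`. -/
theorem exists_extClass_comp {S : ShortComplex C} (hS : S.ShortExact) (Y : C)
    (n₀ n₁ : ℕ) (h : 1 + n₀ = n₁) (h2 : ∀ x : Ext S.X₂ Y n₁, x = 0) (x₃ : Ext S.X₃ Y n₁) :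
    ∃ x₁ : Ext S.X₁ Y n₀, hS.extClass.comp x₁ h = x₃ :=
  Ext.contravariant_sequence_exact₃ hS Y x₃ (h2 _) h

end general

section linear

variable {A : Type t} [CommRing A] {C : Type u} [Category.{v} C] [Abelian C] [Linear A C]
  [HasExt.{w} C]

theorem smul_eq_mk₀_comp {X Y : C} {i : ℕ} (r : A) (x : Ext X Y i) :
    r • x = (Ext.mk₀ (r • 𝟙 X)).comp x (zero_add i) := by
  rw [Ext.mk₀_smul, Ext.smul_comp, Ext.mk₀_id_comp]

/-- If `r • 𝟙 X` factors through a projective object then `r` kills `Ext^i(X, Y)` for `i ≥ 1`. -/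
theorem smul_ext_eq_zero_of_factors {X Y P : C} [Projective P] (r : A) (α : X ⟶ P) (β : P ⟶ X)
    (h : α ≫ β = r • 𝟙 X) {i : ℕ} (hi : 1 ≤ i) (x : Ext X Y i) : r • x = 0 := by
  obtain ⟨j, rfl⟩ : ∃ j, i = j + 1 := ⟨i - 1, by omega⟩
  rw [smul_eq_mk₀_comp, ← h, ← Ext.mk₀_comp_mk₀_assoc, Ext.eq_zero_of_projective
    ((Ext.mk₀ β).comp x (zero_add (j + 1))), Ext.comp_zero]

end linear

section multcrv

open MultCrv

variable {R : Type u} [CommRing R] [IsDomain R] [IsPrincipalIdealRing R] {n : ℕ}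

instance isNoetherianRing_Rn : IsNoetherianRing (Rn R n) := by
  unfold Rn
  infer_instance

/-- The kernel of a linear map out of a finite free `A`-module is finite over `A`. -/
theorem finite_ker {r : ℕ} {M : Type*} [AddCommGroup M] [Module (Rn R n) M]
    (p : (Fin r → Rn R n) →ₗ[Rn R n] M) : Module.Finite (Rn R n) ↥(LinearMap.ker p) :=
  Module.Finite.of_fg (IsNoetherian.noetherian _)

/-- The kernel of a linear map out of a finite free `A`-module is `R`-torsion-free. -/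
theorem isTorsionFree_ker {r : ℕ} {M : Type*} [AddCommGroup M] [Module (Rn R n) M]
    (p : (Fin r → Rn R n) →ₗ[Rn R n] M) : Module.IsTorsionFree R ↥(LinearMap.ker p) :=
  Function.Injective.moduleIsTorsionFree (R := R) (N := Fin r → Rn R n)
    (fun x : ↥(LinearMap.ker p) => (x : Fin r → Rn R n)) Subtype.val_injective (fun _ _ => rfl)

/-- `Ext^i_A(M, A) = 0` for `i ≥ 1` and `M` finitely generated and `R`-torsion-free. -/
theorem ext_self_subsingleton (hn : 1 ≤ n) (i : ℕ) (hi : 1 ≤ i) :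
    ∀ (M : Type u) [AddCommGroup M] [Module (Rn R n) M] [Module R M]
      [IsScalarTower R (Rn R n) M] [Module.Finite (Rn R n) M] [Module.IsTorsionFree R M],
      Subsingleton (Ext (ModuleCat.of (Rn R n) M) (ModuleCat.of (Rn R n) (Rn R n)) i) := by
  induction i, hi using Nat.le_induction with
  | base =>
    intro M _ _ _ _ _ _
    obtain ⟨r, p, hp⟩ := Module.Finite.exists_fin' (Rn R n) M
    have hS := LinearMap.shortExact_shortComplexKer hp
    haveI : Module.Finite R M := finite_of_finite_Rn (R := R) (n := n) M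
    haveI : Module.Projective R M := inferInstance
    refine ext_one_subsingleton_of_extension hS _ (fun φ => ?_) (fun x => Ext.eq_zero_of_projective x)
    obtain ⟨l, hl⟩ := exists_extension (R := R) (n := n) hn (LinearMap.ker p).subtype p
      (LinearMap.ker p).injective_subtype hp (by rw [Submodule.range_subtype]) φ.hom
    refine ⟨ModuleCat.ofHom l, ?_⟩
    ext x
    exact congrArg (fun f => f x) hl
  | succ i hi ih =>
    intro M _ _ _ _ _ _
    obtain ⟨r, p, hp⟩ := Module.Finite.exists_fin' (Rn R n) M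
    have hS := LinearMap.shortExact_shortComplexKer hp
    haveI := finite_ker (R := R) (n := n) p
    haveI := isTorsionFree_ker (R := R) (n := n) p
    exact ext_subsingleton_of_shortExact hS _ i (i + 1) (by omega) (ih ↥(LinearMap.ker p))
      (fun x => Ext.eq_zero_of_projective x)

/-- `Ext^i_A(M, A) = 0` for `i ≥ 2` and `M` finitely generated. -/
theorem ext_self_subsingleton_of_two_le (hn : 1 ≤ n) (M : Type u) [AddCommGroup M]
    [Module (Rn R n) M] [Module.Finite (Rn R n) M] (i : ℕ) (hi : 2 ≤ i) :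
    Subsingleton (Ext (ModuleCat.of (Rn R n) M) (ModuleCat.of (Rn R n) (Rn R n)) i) := by
  obtain ⟨r, p, hp⟩ := Module.Finite.exists_fin' (Rn R n) M
  have hS := LinearMap.shortExact_shortComplexKer hp
  haveI := finite_ker (R := R) (n := n) p
  haveI := isTorsionFree_ker (R := R) (n := n) p
  obtain ⟨j, rfl⟩ : ∃ j, i = j + 1 := ⟨i - 1, by omega⟩
  exact ext_subsingleton_of_shortExact hS _ j (j + 1) (by omega)
    (ext_self_subsingleton (R := R) (n := n) hn j (by omega) ↥(LinearMap.ker p))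
    (fun x => Ext.eq_zero_of_projective x)

/-- `z^(n-1)` kills `Ext^i_A(M, N)` for `i ≥ 1` and `M` finitely generated and `R`-torsion-free. -/
theorem zpow_smul_ext_eq_zero (hn : 1 ≤ n) (M N : Type u) [AddCommGroup M] [Module (Rn R n) M]
    [Module R M] [IsScalarTower R (Rn R n) M] [Module.Finite (Rn R n) M]
    [Module.IsTorsionFree R M] [AddCommGroup N] [Module (Rn R n) N] (i : ℕ) (hi : 1 ≤ i)
    (x : Ext (ModuleCat.of (Rn R n) M) (ModuleCat.of (Rn R n) N) i) :
    (z R n ^ (n - 1)) • x = 0 := by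
  obtain ⟨q, α, β, h⟩ := exists_factor_zpow (R := R) (n := n) hn M
  refine smul_ext_eq_zero_of_factors (P := ModuleCat.of (Rn R n) (Fin q → Rn R n))
    (z R n ^ (n - 1)) (ModuleCat.ofHom α) (ModuleCat.ofHom β) ?_ hi x
  ext m
  exact h m

/-- `z^(n-1)` kills `Ext^i_A(M, N)` for `i ≥ 2` and `M` finitely generated. -/
theorem zpow_smul_ext_eq_zero_of_two_le (hn : 1 ≤ n) (M N : Type u) [AddCommGroup M]
    [Module (Rn R n) M] [Module.Finite (Rn R n) M] [AddCommGroup N] [Module (Rn R n) N]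
    (i : ℕ) (hi : 2 ≤ i) (x : Ext (ModuleCat.of (Rn R n) M) (ModuleCat.of (Rn R n) N) i) :
    (z R n ^ (n - 1)) • x = 0 := by
  obtain ⟨r, p, hp⟩ := Module.Finite.exists_fin' (Rn R n) M
  have hS := LinearMap.shortExact_shortComplexKer hp
  haveI := finite_ker (R := R) (n := n) p
  haveI := isTorsionFree_ker (R := R) (n := n) p
  obtain ⟨j, rfl⟩ : ∃ j, i = j + 1 := ⟨i - 1, by omega⟩
  obtain ⟨x₁, rfl⟩ := exists_extClass_comp hS (ModuleCat.of (Rn R n) N) j (j + 1) (by omega)
    (fun x => Ext.eq_zero_of_projective x) x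
  rw [← Ext.comp_smul, zpow_smul_ext_eq_zero (R := R) (n := n) hn ↥(LinearMap.ker p) N j
    (by omega) x₁, Ext.comp_zero]

/-- If `Ext^1_A(M, A) = 0` for a finitely generated `A`-module `M`, then `M` is `R`-torsion-free. -/
theorem isTorsionFree_of_ext_one_subsingleton (hn : 1 ≤ n) (M : Type u) [AddCommGroup M]
    [Module (Rn R n) M] [Module R M] [IsScalarTower R (Rn R n) M] [Module.Finite (Rn R n) M]
    (h : Subsingleton (Ext (ModuleCat.of (Rn R n) M) (ModuleCat.of (Rn R n) (Rn R n)) 1)) :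
    Module.IsTorsionFree R M := by
  classical
  obtain ⟨r, p, hp⟩ := Module.Finite.exists_fin' (Rn R n) M
  have hS := LinearMap.shortExact_shortComplexKer hp
  haveI := finite_ker (R := R) (n := n) p
  haveI := isTorsionFree_ker (R := R) (n := n) p
  haveI : Module.Finite R ↥(LinearMap.ker p) :=
    finite_of_finite_Rn (R := R) (n := n) ↥(LinearMap.ker p)
  obtain ⟨q, b⟩ := Module.basisOfFiniteTypeTorsionFree' (R := R) (M := ↥(LinearMap.ker p))
  -- every `A`-linear form on the kernel extends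
  have hext : ∀ l' : ↥(LinearMap.ker p) →ₗ[Rn R n] Rn R n,
      ∃ l : (Fin r → Rn R n) →ₗ[Rn R n] Rn R n, ∀ k : ↥(LinearMap.ker p), l (k : Fin r → Rn R n) = l' k := by
    intro l'
    obtain ⟨ψ, hψ⟩ := exists_extension_of_ext_one_eq_zero hS (ModuleCat.of (Rn R n) (Rn R n))
      (fun x => Subsingleton.elim x 0) (ModuleCat.ofHom l')
    refine ⟨ψ.hom, fun k => ?_⟩
    have := congrArg (fun f => f.hom k) hψ
    exact this
  -- every `R`-linear form on the kernel extends
  have hextR : ∀ ψ : ↥(LinearMap.ker p) →ₗ[R] R,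
      ∃ ε : (Fin r → Rn R n) →ₗ[R] R, ∀ k : ↥(LinearMap.ker p), ε (k : Fin r → Rn R n) = ψ k := by
    intro ψ
    obtain ⟨l, hl⟩ := hext (Lam ψ)
    refine ⟨(tau R n).comp (l.restrictScalars R), fun k => ?_⟩
    rw [LinearMap.comp_apply, LinearMap.restrictScalars_apply, hl, tau_Lam hn]
  choose ε hε using fun i => hextR (b.coord i)
  -- the retraction
  have hρ : ∀ k : ↥(LinearMap.ker p), ∑ i, ε i (k : Fin r → Rn R n) • b i = k := by
    intro k
    simp only [hε]
    exact b.sum_repr k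
  apply Module.IsTorsionFree.of_smul_eq_zero
  intro c m hcm
  by_cases hc : c = 0
  · exact Or.inl hc
  · right
    obtain ⟨x, rfl⟩ := hp m
    have hx : c • x ∈ LinearMap.ker p := by
      rw [LinearMap.mem_ker]
      have : p (c • x) = c • p x := by
        rw [← algebraMap_smul (Rn R n) c x, map_smul, algebraMap_smul]
      rw [this, hcm]
    have h1 := hρ ⟨c • x, hx⟩
    have h2 : (c • (∑ i, ε i x • b i : ↥(LinearMap.ker p)) : ↥(LinearMap.ker p)) = ⟨c • x, hx⟩ := by
      rw [← h1, Finset.smul_sum]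
      refine Finset.sum_congr rfl fun i _ => ?_
      rw [map_smul, smul_assoc]
    have h3 : c • ((∑ i, ε i x • b i : ↥(LinearMap.ker p)) : Fin r → Rn R n) = c • x :=
      congrArg Subtype.val h2
    have h4 : ((∑ i, ε i x • b i : ↥(LinearMap.ker p)) : Fin r → Rn R n) = x := by
      rcases smul_eq_zero.mp (show c • (((∑ i, ε i x • b i : ↥(LinearMap.ker p)) :
          Fin r → Rn R n) - x) = 0 by rw [smul_sub, h3, sub_self]) with h | h
      · exact absurd h hc
      · exact sub_eq_zero.mp h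
    rw [← h4]
    exact (∑ i, ε i x • b i : ↥(LinearMap.ker p)).2

end multcrv

end Groth.Agent.Lib.Helper90.MultCrvLib
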