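import Groth.Agent.Lib.Helper90.MultCrv
import Mathlib.Tactic.Module
import Mathlib.Tactic.LinearCombination

/-!
# Graded pieces of the canonical filtrations over `R[X]/(X^n)` (helper90)

Torsion-freeness criteria for `G1`, `Gam2`, and the equivalence of their freeness.
-/

set_option autoImplicit false
universe u

namespace Groth.Agent.Lib.Helper90.MultCrvLib

open MultCrv

section G

variable {R : Type u} [CommRing R] [IsDomain R] {n : ℕ} {M : Type*} [AddCommGroup M]
  [Module (Rn R n) M] [Module R M] [IsScalarTower R (Rn R n) M]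

theorem mem_filt (i : ℕ) (x : M) : x ∈ filt R n M i ↔ ∃ a : M, z R n ^ i • a = x := Iff.rfl

theorem mem_filt2 (i : ℕ) (x : M) : x ∈ filt2 R n M i ↔ z R n ^ i • x = 0 := Iff.rfl

/-- Torsion-freeness of `G_i(M) = z^i M / z^(i+1) M` in elementary terms. -/
theorem isTorsionFree_G1_iff (i : ℕ) :
    Module.IsTorsionFree R (G1 R n M i) ↔
      ∀ (r : R) (a : M), r ≠ 0 → (∃ c : M, r • (z R n ^ i • a) = z R n ^ (i + 1) • c) →
        ∃ b : M, z R n ^ i • a = z R n ^ (i + 1) • b := by
  rw [Module.isTorsionFree_iff_smul_eq_zero]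
  constructor
  · intro h r a hr ⟨c, hc⟩
    have hx : z R n ^ i • a ∈ filt R n M i := ⟨a, rfl⟩
    have h1 : r • (Submodule.Quotient.mk ⟨z R n ^ i • a, hx⟩ : G1 R n M i) = 0 := by
      change (Submodule.Quotient.mk (r • ⟨z R n ^ i • a, hx⟩ : ↥(filt R n M i)) : G1 R n M i) = 0
      rw [Submodule.Quotient.mk_eq_zero, Submodule.mem_comap]
      exact ⟨c, hc.symm⟩
    rcases h r _ h1 with h2 | h2
    · exact absurd h2 hr
    · rw [Submodule.Quotient.mk_eq_zero, Submodule.mem_comap] at h2
      obtain ⟨b, hb⟩ := h2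
      exact ⟨b, hb.symm⟩
  · intro h r q hrq
    by_cases hr : r = 0
    · exact Or.inl hr
    · right
      obtain ⟨⟨x, hx⟩, rfl⟩ := Submodule.Quotient.mk_surjective _ q
      obtain ⟨a, rfl⟩ := hx
      have h1 : (Submodule.Quotient.mk (r • ⟨(z R n ^ i • LinearMap.id) a, ⟨a, rfl⟩⟩ :
          ↥(filt R n M i)) : G1 R n M i) = 0 := hrq
      rw [Submodule.Quotient.mk_eq_zero, Submodule.mem_comap] at h1
      obtain ⟨c, hc⟩ := h1
      obtain ⟨b, hb⟩ := h r a hr ⟨c, hc.symm⟩
      rw [Submodule.Quotient.mk_eq_zero, Submodule.mem_comap]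
      exact ⟨b, hb.symm⟩

theorem smul_mem_filt2 (i : ℕ) (r : R) {u : M} (hu : u ∈ filt2 R n M i) :
    r • u ∈ filt2 R n M i := by
  rw [mem_filt2] at hu ⊢
  rw [smul_comm, hu, smul_zero]

/-- Vanishing of a class in `Γ^(i)(M)`. -/
theorem gam2_mk_eq_zero_iff (i : ℕ) (u : M) (hu : u ∈ filt2 R n M (i + 1)) :
    (Submodule.Quotient.mk (Submodule.Quotient.mk ⟨u, hu⟩ : G2 R n M (i + 1)) : Gam2 R n M i) = 0
      ↔ ∃ w : M, z R n ^ (i + 2) • w = 0 ∧ z R n ^ i • (z R n • w - u) = 0 := by
  rw [Submodule.Quotient.mk_eq_zero, LinearMap.mem_range]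
  constructor
  · rintro ⟨q, hq⟩
    obtain ⟨⟨w, hw⟩, rfl⟩ := Submodule.Quotient.mk_surjective _ q
    have h1 : (Submodule.Quotient.mk (zDown R n M (i + 1) ⟨w, hw⟩) : G2 R n M (i + 1))
        = Submodule.Quotient.mk ⟨u, hu⟩ := hq
    rw [Submodule.Quotient.eq, Submodule.mem_comap] at h1
    exact ⟨w, hw, h1⟩
  · rintro ⟨w, hw, h⟩
    refine ⟨Submodule.Quotient.mk ⟨w, hw⟩, ?_⟩
    change (Submodule.Quotient.mk (zDown R n M (i + 1) ⟨w, hw⟩) : G2 R n M (i + 1))
        = Submodule.Quotient.mk ⟨u, hu⟩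
    rw [Submodule.Quotient.eq, Submodule.mem_comap]
    exact h

/-- Torsion-freeness of `Γ^(i)(M)` in elementary terms. -/
theorem isTorsionFree_Gam2_iff (i : ℕ) :
    Module.IsTorsionFree R (Gam2 R n M i) ↔
      ∀ (r : R) (u : M), r ≠ 0 → z R n ^ (i + 1) • u = 0 →
        (∃ w : M, z R n ^ (i + 2) • w = 0 ∧ z R n ^ i • (z R n • w - r • u) = 0) →
        ∃ w : M, z R n ^ (i + 2) • w = 0 ∧ z R n ^ i • (z R n • w - u) = 0 := by
  rw [Module.isTorsionFree_iff_smul_eq_zero]
  constructor
  · intro h r u hr hu hw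
    have h1 : r • (Submodule.Quotient.mk (Submodule.Quotient.mk ⟨u, hu⟩ : G2 R n M (i + 1)) :
        Gam2 R n M i) = 0 := by
      change (Submodule.Quotient.mk (Submodule.Quotient.mk ⟨r • u, smul_mem_filt2 (i + 1) r hu⟩ :
        G2 R n M (i + 1)) : Gam2 R n M i) = 0
      rw [gam2_mk_eq_zero_iff]
      exact hw
    rcases h r _ h1 with h2 | h2
    · exact absurd h2 hr
    · exact (gam2_mk_eq_zero_iff i u hu).mp h2
  · intro h r q hrq
    by_cases hr : r = 0
    · exact Or.inl hr
    · right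
      obtain ⟨q', rfl⟩ := Submodule.Quotient.mk_surjective _ q
      obtain ⟨⟨u, hu⟩, rfl⟩ := Submodule.Quotient.mk_surjective _ q'
      have h1 : (Submodule.Quotient.mk (Submodule.Quotient.mk
          ⟨r • u, smul_mem_filt2 (i + 1) r hu⟩ : G2 R n M (i + 1)) : Gam2 R n M i) = 0 := hrq
      rw [gam2_mk_eq_zero_iff] at h1
      rw [gam2_mk_eq_zero_iff]
      exact h r u hr hu h1

/-- The elementary form of torsion-freeness of `G_i(M)`. -/
def P1 (R : Type u) [CommRing R] (n : ℕ) (M : Type*) [AddCommGroup M] [Module (Rn R n) M]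
    [Module R M] (i : ℕ) : Prop :=
  ∀ (r : R) (a : M), r ≠ 0 → (∃ c : M, r • (z R n ^ i • a) = z R n ^ (i + 1) • c) →
    ∃ b : M, z R n ^ i • a = z R n ^ (i + 1) • b

/-- The elementary form of torsion-freeness of `Γ^(i)(M)`. -/
def P2 (R : Type u) [CommRing R] (n : ℕ) (M : Type*) [AddCommGroup M] [Module (Rn R n) M]
    [Module R M] (i : ℕ) : Prop :=
  ∀ (r : R) (u : M), r ≠ 0 → z R n ^ (i + 1) • u = 0 →
    (∃ w : M, z R n ^ (i + 2) • w = 0 ∧ z R n ^ i • (z R n • w - r • u) = 0) →
    ∃ w : M, z R n ^ (i + 2) • w = 0 ∧ z R n ^ i • (z R n • w - u) = 0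

theorem P2_of_P1 (i : ℕ) (h : P1 R n M i) : P2 R n M i := by
  intro r u hr hu ⟨w, hw1, hw2⟩
  obtain ⟨b, hb⟩ := h r u hr ⟨w, by linear_combination (norm := module) (-1 : R) • hw2⟩
  refine ⟨b, ?_, ?_⟩
  · linear_combination (norm := module) hu - z R n • hb
  · linear_combination (norm := module) (-1 : R) • hb

theorem P1_of_P2 (i : ℕ) (h2 : P2 R n M i) (h1 : i + 1 = n ∨ P1 R n M (i + 1)) :
    P1 R n M i := by
  intro r a hr ⟨c, hc⟩
  -- Step 1
  have hb : ∃ b : M, z R n ^ (i + 1) • a = z R n ^ (i + 2) • b := by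
    rcases h1 with h1 | h1
    · refine ⟨0, ?_⟩
      rw [h1, z_pow_n, smul_zero]
      exact zero_smul (Rn R n) a
    · exact h1 r a hr ⟨c, by linear_combination (norm := module) z R n • hc⟩
  obtain ⟨b, hb⟩ := hb
  have hu : z R n ^ (i + 1) • (a - z R n • b) = 0 := by
    linear_combination (norm := module) hb
  obtain ⟨w', hw1, hw2⟩ := h2 r (a - z R n • b) hr hu ⟨c - r • b, by
    linear_combination (norm := module) r • hb - z R n • hc, by
    linear_combination (norm := module) (-1 : R) • hc⟩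
  exact ⟨w' + b, by linear_combination (norm := module) (-1 : R) • hw2⟩

theorem forall_P1_iff_forall_P2 : (∀ i, i < n → P1 R n M i) ↔ (∀ i, i < n → P2 R n M i) := by
  constructor
  · intro h i hi
    exact P2_of_P1 i (h i hi)
  · intro h
    have key : ∀ d i, i + d + 1 = n → P1 R n M i := by
      intro d
      induction d with
      | zero =>
        intro i hi
        exact P1_of_P2 i (h i (by omega)) (Or.inl (by omega))
      | succ d ih =>
        intro i hi
        exact P1_of_P2 i (h i (by omega)) (Or.inr (ih (i + 1) (by omega)))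
    intro i hi
    exact key (n - 1 - i) i (by omega)

end G

section free

variable {R : Type u} [CommRing R] [IsDomain R] [IsPrincipalIdealRing R] {n : ℕ} {M : Type*}
  [AddCommGroup M] [Module (Rn R n) M] [Module R M] [IsScalarTower R (Rn R n) M]

theorem finite_quot (Q : Type*) [AddCommGroup Q] [Module (Rn R n) Q] [Module R Q]
    [IsScalarTower R (Rn R n) Q] [Module.Finite R Q] (P : Submodule (Rn R n) Q) :
    Module.Finite R (Q ⧸ P) := by
  let π : Q →ₗ[R] Q ⧸ P :=
    { toFun := fun u => Submodule.Quotient.mk u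
      map_add' := fun _ _ => rfl
      map_smul' := fun _ _ => rfl }
  have hπ : Function.Surjective π := fun q => by
    obtain ⟨u, rfl⟩ := Submodule.Quotient.mk_surjective _ q
    exact ⟨u, rfl⟩
  exact Module.Finite.of_surjective π hπ

theorem finite_sub [Module.Finite (Rn R n) M] (P : Submodule (Rn R n) M) :
    Module.Finite R ↥P := by
  haveI : Module.Finite R M := finite_of_finite_Rn (R := R) (n := n) M
  haveI : IsNoetherian R M := isNoetherian_of_isNoetherianRing_of_finite R M
  have : Module.Finite R ↥(P.restrictScalars R) := Module.Finite.of_fg (IsNoetherian.noetherian _)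
  exact this

/-- `G_i(M)` free for all `i < n` iff `Γ^(i)(M)` free for all `i < n`. -/
theorem free_G1_iff_free_Gam2 [Module.Finite (Rn R n) M] :
    (∀ i : ℕ, i < n → Module.Free R (G1 R n M i)) ↔
      (∀ i : ℕ, i < n → Module.Free R (Gam2 R n M i)) := by
  have hG1 : ∀ i, Module.Free R (G1 R n M i) ↔ P1 R n M i := by
    intro i
    haveI := finite_sub (R := R) (n := n) (filt R n M i)
    haveI : Module.Finite R (G1 R n M i) := finite_quot (R := R) (n := n) _ _
    rw [Module.free_iff_isTorsionFree, isTorsionFree_G1_iff]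
    rfl
  have hGam2 : ∀ i, Module.Free R (Gam2 R n M i) ↔ P2 R n M i := by
    intro i
    haveI := finite_sub (R := R) (n := n) (filt2 R n M (i + 1))
    haveI : Module.Finite R (G2 R n M (i + 1)) := finite_quot (R := R) (n := n) _ _
    haveI : Module.Finite R (Gam2 R n M i) := finite_quot (R := R) (n := n) _ _
    rw [Module.free_iff_isTorsionFree, isTorsionFree_Gam2_iff]
    rfl
  simp only [hG1, hGam2]
  exact forall_P1_iff_forall_P2

end free

end Groth.Agent.Lib.Helper90.MultCrvLib
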