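import Groth.Agent.Lib.Helper90.MultCrv
import Mathlib.RingTheory.Nilpotent.Basic
import Mathlib.Algebra.Module.Projective
import Mathlib.Algebra.Module.Submodule.Equiv
import Mathlib.LinearAlgebra.Isomorphisms

/-!
# Quasi-free modules over `R[X]/(X^n)` (helper90)

Uniqueness of minimal free covers and the kernel of the standard cover of a quasi-free module.
-/

set_option autoImplicit false
universe u

namespace Groth.Agent.Lib.Helper90.MultCrvLib

open MultCrv Polynomial

section minimal

variable {R : Type u} [CommRing R] {n : ℕ}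

/-- An endomorphism congruent to the identity modulo `z` is bijective. -/
theorem bijective_of_sub_self_mem_z {F : Type*} [AddCommGroup F] [Module (Rn R n) F]
    (v : F →ₗ[Rn R n] F) (h : ∀ x, ∃ y, v x - x = z R n • y) : Function.Bijective v := by
  let N : Module.End (Rn R n) F := v - 1
  have hN : ∀ x, ∃ y, N x = z R n • y := fun x => by
    obtain ⟨y, hy⟩ := h x
    exact ⟨y, by rw [← hy]; rfl⟩
  have hpow : ∀ k : ℕ, ∀ x, ∃ y, (N ^ k) x = z R n ^ k • y := by
    intro k
    induction k with
    | zero => intro x; exact ⟨x, by simp⟩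
    | succ k ih =>
      intro x
      obtain ⟨y₁, hy₁⟩ := hN x
      obtain ⟨y₂, hy₂⟩ := ih y₁
      refine ⟨y₂, ?_⟩
      rw [pow_succ, Module.End.mul_apply, hy₁, map_smul, hy₂, smul_smul, ← pow_succ']
  have hnil : IsNilpotent N := by
    refine ⟨n, ?_⟩
    apply LinearMap.ext
    intro x
    obtain ⟨y, hy⟩ := hpow n x
    rw [hy, z_pow_n, LinearMap.zero_apply]
    exact zero_smul (Rn R n) y
  have hu : IsUnit (N + 1) := hnil.isUnit_add_one
  have hv : N + 1 = v := by simp [N]
  rw [hv] at hu
  exact (Module.End.isUnit_iff v).mp hu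

/-- Uniqueness of minimal covers: two surjections from projective modules whose kernels lie in
`z •` the source are isomorphic. -/
theorem exists_equiv_of_minimal_covers {F F₀ M : Type*} [AddCommGroup F] [Module (Rn R n) F]
    [AddCommGroup F₀] [Module (Rn R n) F₀] [AddCommGroup M] [Module (Rn R n) M]
    [Module.Projective (Rn R n) F] [Module.Projective (Rn R n) F₀]
    (φ : F →ₗ[Rn R n] M) (φ₀ : F₀ →ₗ[Rn R n] M) (hφ : Function.Surjective φ)
    (hφ₀ : Function.Surjective φ₀) (hk : ∀ x, φ x = 0 → ∃ y, x = z R n • y)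
    (hk₀ : ∀ x, φ₀ x = 0 → ∃ y, x = z R n • y) :
    ∃ θ : F ≃ₗ[Rn R n] F₀, ∀ x, φ₀ (θ x) = φ x := by
  obtain ⟨θ₁, h₁⟩ := Module.projective_lifting_property φ₀ φ hφ₀
  obtain ⟨θ₂, h₂⟩ := Module.projective_lifting_property φ φ₀ hφ
  have h₁' : ∀ x, φ₀ (θ₁ x) = φ x := fun x => congrArg (fun f => f x) h₁
  have h₂' : ∀ x, φ (θ₂ x) = φ₀ x := fun x => congrArg (fun f => f x) h₂
  have b₁ : Function.Bijective (θ₂.comp θ₁) := by
    apply bijective_of_sub_self_mem_z
    intro x
    apply hk
    rw [map_sub, LinearMap.comp_apply, h₂', h₁', sub_self]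
  have b₂ : Function.Bijective (θ₁.comp θ₂) := by
    apply bijective_of_sub_self_mem_z
    intro x
    apply hk₀
    rw [map_sub, LinearMap.comp_apply, h₁', h₂', sub_self]
  have hinj : Function.Injective θ₁ := by
    have := b₁.1
    rw [LinearMap.coe_comp] at this
    exact Function.Injective.of_comp this
  have hsurj : Function.Surjective θ₁ := by
    have := b₂.2
    rw [LinearMap.coe_comp] at this
    exact Function.Surjective.of_comp this
  exact ⟨LinearEquiv.ofBijective θ₁ ⟨hinj, hsurj⟩, h₁'⟩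

/-- The kernels of two minimal covers are isomorphic. -/
theorem nonempty_ker_equiv_of_minimal_covers {F F₀ M : Type*} [AddCommGroup F]
    [Module (Rn R n) F] [AddCommGroup F₀] [Module (Rn R n) F₀] [AddCommGroup M]
    [Module (Rn R n) M] [Module.Projective (Rn R n) F] [Module.Projective (Rn R n) F₀]
    (φ : F →ₗ[Rn R n] M) (φ₀ : F₀ →ₗ[Rn R n] M) (hφ : Function.Surjective φ)
    (hφ₀ : Function.Surjective φ₀) (hk : ∀ x, φ x = 0 → ∃ y, x = z R n • y)
    (hk₀ : ∀ x, φ₀ x = 0 → ∃ y, x = z R n • y) :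
    Nonempty (↥(LinearMap.ker φ) ≃ₗ[Rn R n] ↥(LinearMap.ker φ₀)) := by
  obtain ⟨θ, hθ⟩ := exists_equiv_of_minimal_covers φ φ₀ hφ hφ₀ hk hk₀
  refine ⟨LinearEquiv.ofSubmodules θ _ _ ?_⟩
  ext y
  constructor
  · rintro ⟨x, hx, rfl⟩
    rw [LinearMap.mem_ker]
    change φ₀ (θ x) = 0
    rw [hθ]
    exact hx
  · intro hy
    refine ⟨θ.symm y, ?_, by simp⟩
    change φ (θ.symm y) = 0
    rw [← hθ, LinearEquiv.apply_symm_apply]
    exact hy

end minimal

section ann

variable {R : Type u} [CommRing R] [Nontrivial R] {n : ℕ}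

/-- In `R[X]/(X^n)` the annihilator of `z^k` is `(z^(n-k))`. -/
theorem zpow_mul_eq_zero_iff (hn : 1 ≤ n) {k : ℕ} (hk : k ≤ n) (a : Rn R n) :
    z R n ^ k * a = 0 ↔ a ∈ Ideal.span {z R n ^ (n - k)} := by
  rw [Ideal.mem_span_singleton']
  constructor
  · intro h
    have hc : ∀ i, i < n - k → tau R n (z R n ^ (n - 1 - i) * a) = 0 := by
      intro i hi
      have : z R n ^ (n - 1 - i) * a = z R n ^ (n - 1 - i - k) * (z R n ^ k * a) := by
        rw [← mul_assoc, ← pow_add]
        congr 2
        omega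
      rw [this, h, mul_zero, map_zero]
    refine ⟨∑ i ∈ Finset.range n, if i < n - k then 0
      else tau R n (z R n ^ (n - 1 - i) * a) • z R n ^ (i - (n - k)), ?_⟩
    rw [Finset.sum_mul]
    conv_rhs => rw [← recon R n hn a]
    refine Finset.sum_congr rfl fun i hi => ?_
    rw [Finset.mem_range] at hi
    by_cases h' : i < n - k
    · rw [if_pos h', zero_mul, hc i h', zero_smul]
    · rw [if_neg h', smul_mul_assoc, ← pow_add]
      congr 2
      omega
  · rintro ⟨c, rfl⟩
    rw [mul_comm c, ← mul_assoc, ← pow_add, Nat.add_sub_cancel' hk, z_pow_n, zero_mul]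

end ann

section std

variable (R : Type u) [CommRing R] (n : ℕ)

/-- The standard cover of the model quasi-free module, as a map into the product. -/
noncomputable def stdCoverPi (m : Fin n → ℕ) :
    ((i : Fin n) → Fin (m i) → Rn R n) →ₗ[Rn R n]
      ((i : Fin n) → Fin (m i) → Oi R n (i.1 + 1)) where
  toFun x i k := Submodule.Quotient.mk (x i k)
  map_add' _ _ := rfl
  map_smul' _ _ := rfl

/-- The standard cover of the model quasi-free module. -/
noncomputable def stdCover (m : Fin n → ℕ) :
    ((i : Fin n) → Fin (m i) → Rn R n) →ₗ[Rn R n] QFModel R n m :=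
  (QFModel.equivPi R n m).symm.toLinearMap.comp (stdCoverPi R n m)

variable {R n}

theorem stdCover_apply (m : Fin n → ℕ) (x : (i : Fin n) → Fin (m i) → Rn R n) (i : Fin n)
    (k : Fin (m i)) :
    QFModel.equivPi R n m (stdCover R n m x) i k
      = Ideal.Quotient.mk (Ideal.span {z R n ^ (i.1 + 1)}) (x i k) := by
  unfold stdCover
  rw [LinearMap.comp_apply, LinearEquiv.coe_coe, LinearEquiv.apply_symm_apply]
  rfl

theorem stdCover_surjective (m : Fin n → ℕ) : Function.Surjective (stdCover R n m) := by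
  intro q
  have : ∀ i k, ∃ a : Rn R n, Ideal.Quotient.mk (Ideal.span {z R n ^ (i.1 + 1)}) a
      = QFModel.equivPi R n m q i k := fun i k => Ideal.Quotient.mk_surjective _
  choose x hx using this
  refine ⟨x, ?_⟩
  apply (QFModel.equivPi R n m).injective
  funext i k
  rw [stdCover_apply, hx]

theorem mem_ker_stdCover (m : Fin n → ℕ) (x : (i : Fin n) → Fin (m i) → Rn R n) :
    x ∈ LinearMap.ker (stdCover R n m) ↔ ∀ i k, x i k ∈ Ideal.span {z R n ^ (i.1 + 1)} := by
  rw [LinearMap.mem_ker]
  constructor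
  · intro h i k
    rw [← Ideal.Quotient.eq_zero_iff_mem, ← stdCover_apply, h, map_zero]
    rfl
  · intro h
    apply (QFModel.equivPi R n m).injective
    rw [map_zero]
    funext i k
    rw [stdCover_apply, Ideal.Quotient.eq_zero_iff_mem.mpr (h i k)]
    rfl

theorem ker_stdCover_le_z (m : Fin n → ℕ) (x : (i : Fin n) → Fin (m i) → Rn R n)
    (hx : stdCover R n m x = 0) : ∃ y : (i : Fin n) → Fin (m i) → Rn R n, x = z R n • y := by
  have h := (mem_ker_stdCover m x).mp hx
  have : ∀ i k, ∃ c : Rn R n, x i k = z R n * c := by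
    intro i k
    obtain ⟨c, hc⟩ := Ideal.mem_span_singleton'.mp (h i k)
    refine ⟨c * z R n ^ i.1, ?_⟩
    rw [← hc, pow_succ]
    ring
  choose y hy using this
  refine ⟨y, ?_⟩
  funext i k
  rw [hy]
  rfl

end std

section rev

variable {R : Type u} [CommRing R] {n : ℕ}

/-- Total accessor for a dependent family indexed by `Fin n` and `Fin (f j)`. -/
noncomputable def pick (f : Fin n → ℕ) (y : (j : Fin n) → Fin (f j) → Rn R n) (j k : ℕ) :
    Rn R n :=
  if h : j < n then (if h' : k < f ⟨j, h⟩ then y ⟨j, h⟩ ⟨k, h'⟩ else 0) else 0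

theorem pick_eq (f : Fin n → ℕ) (y : (j : Fin n) → Fin (f j) → Rn R n) (j : Fin n)
    (k : Fin (f j)) : pick f y j.1 k.1 = y j k := by
  unfold pick
  rw [dif_pos j.2, dif_pos k.2]

theorem pick_eq' (f : Fin n → ℕ) (y : (j : Fin n) → Fin (f j) → Rn R n) (j k : ℕ) (hj : j < n)
    (hk : k < f ⟨j, hj⟩) : pick f y j k = y ⟨j, hj⟩ ⟨k, hk⟩ := by
  unfold pick
  rw [dif_pos hj, dif_pos hk]

theorem pick_add (f : Fin n → ℕ) (y y' : (j : Fin n) → Fin (f j) → Rn R n) (j k : ℕ) :
    pick f (y + y') j k = pick f y j k + pick f y' j k := by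
  unfold pick
  split_ifs <;> simp

theorem pick_smul (f : Fin n → ℕ) (a : Rn R n) (y : (j : Fin n) → Fin (f j) → Rn R n) (j k : ℕ) :
    pick f (a • y) j k = a * pick f y j k := by
  unfold pick
  split_ifs <;> simp

theorem revType_of_lt (m : Fin n → ℕ) (j : Fin n) (h : j.1 + 1 < n) :
    revType n m j = m ⟨n - 2 - j.1, by omega⟩ := dif_pos h

theorem revType_of_not_lt (m : Fin n → ℕ) (j : Fin n) (h : ¬ j.1 + 1 < n) :
    revType n m j = 0 := dif_neg h

theorem revType_rev (m : Fin n → ℕ) (i : Fin n) (h : i.1 + 1 < n) :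
    revType n m ⟨n - 2 - i.1, by omega⟩ = m i := by
  have h1 : (⟨n - 2 - i.1, by omega⟩ : Fin n).1 + 1 < n := by
    change n - 2 - i.1 + 1 < n
    omega
  rw [revType_of_lt m _ h1]
  congr 1
  apply Fin.ext
  change n - 2 - (n - 2 - i.1) = i.1
  omega

/-- The map from the free module of the reversed type onto the kernel of the standard cover. -/
noncomputable def revMap (m : Fin n → ℕ) :
    ((j : Fin n) → Fin (revType n m j) → Rn R n) →ₗ[Rn R n]
      ((i : Fin n) → Fin (m i) → Rn R n) where
  toFun y i k :=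
    if i.1 + 1 < n then z R n ^ (i.1 + 1) * pick (revType n m) y (n - 2 - i.1) k.1 else 0
  map_add' y y' := by
    funext i k
    simp only [Pi.add_apply]
    split_ifs
    · rw [pick_add, mul_add]
    · rw [add_zero]
  map_smul' a y := by
    funext i k
    simp only [Pi.smul_apply, RingHom.id_apply, smul_eq_mul]
    split_ifs
    · rw [pick_smul]
      ring
    · rw [mul_zero]

theorem revMap_apply (m : Fin n → ℕ) (y : (j : Fin n) → Fin (revType n m j) → Rn R n)
    (i : Fin n) (k : Fin (m i)) :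
    revMap m y i k =
      if i.1 + 1 < n then z R n ^ (i.1 + 1) * pick (revType n m) y (n - 2 - i.1) k.1 else 0 :=
  rfl

theorem ker_revMap [Nontrivial R] (hn : 1 ≤ n) (m : Fin n → ℕ) :
    LinearMap.ker (revMap (R := R) m) = LinearMap.ker (stdCover R n (revType n m)) := by
  ext y
  rw [mem_ker_stdCover, LinearMap.mem_ker]
  constructor
  · intro h j k'
    have hj : j.1 + 1 < n := by
      by_contra hcon
      have h0 : k'.1 < revType n m j := k'.2
      have h0' : revType n m j = 0 := revType_of_not_lt m j hcon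
      omega
    have hi : n - 2 - j.1 < n := by omega
    have hk : k'.1 < m ⟨n - 2 - j.1, hi⟩ := by
      have h0 : k'.1 < revType n m j := k'.2
      have h0' : revType n m j = m ⟨n - 2 - j.1, hi⟩ := revType_of_lt m j hj
      omega
    have h1 := congrFun (congrFun h ⟨n - 2 - j.1, hi⟩) ⟨k'.1, hk⟩
    rw [revMap_apply, if_pos (by change n - 2 - j.1 + 1 < n; omega)] at h1
    have h2 : n - 2 - (n - 2 - j.1) = j.1 := by omega
    change z R n ^ (n - 2 - j.1 + 1) * pick (revType n m) y (n - 2 - (n - 2 - j.1)) k'.1 = 0 at h1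
    rw [h2, pick_eq, zpow_mul_eq_zero_iff hn (by omega)] at h1
    have h3 : n - (n - 2 - j.1 + 1) = j.1 + 1 := by omega
    rwa [h3] at h1
  · intro h
    funext i k
    rw [revMap_apply]
    split_ifs with hi
    · have hj : n - 2 - i.1 < n := by omega
      have hk : k.1 < revType n m ⟨n - 2 - i.1, hj⟩ := by
        rw [revType_rev m i hi]
        exact k.2
      rw [pick_eq' _ _ _ _ hj hk]
      change _ = (0 : Rn R n)
      rw [zpow_mul_eq_zero_iff hn (by omega)]
      have := h ⟨n - 2 - i.1, hj⟩ ⟨k.1, hk⟩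
      have h3 : n - (i.1 + 1) = n - 2 - i.1 + 1 := by omega
      rw [h3]
      exact this
    · rfl

theorem range_revMap (m : Fin n → ℕ) :
    LinearMap.range (revMap (R := R) m) = LinearMap.ker (stdCover R n m) := by
  ext x
  rw [mem_ker_stdCover]
  constructor
  · rintro ⟨y, rfl⟩ i k
    rw [revMap_apply]
    split_ifs
    · exact Ideal.mul_mem_right _ _ (Ideal.subset_span rfl)
    · exact Ideal.zero_mem _
  · intro h
    have : ∀ i k, ∃ c : Rn R n, x i k = z R n ^ (i.1 + 1) * c := by
      intro i k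
      obtain ⟨c, hc⟩ := Ideal.mem_span_singleton'.mp (h i k)
      exact ⟨c, by rw [← hc, mul_comm]⟩
    choose c hc using this
    refine ⟨fun j k' => pick m c (n - 2 - j.1) k'.1, ?_⟩
    funext i k
    rw [revMap_apply]
    split_ifs with hi
    · have hj : n - 2 - i.1 < n := by omega
      have hk : k.1 < revType n m ⟨n - 2 - i.1, hj⟩ := by
        rw [revType_rev m i hi]
        exact k.2
      rw [pick_eq' _ _ _ _ hj hk]
      have h2 : n - 2 - (n - 2 - i.1) = i.1 := by omega
      change z R n ^ (i.1 + 1) * pick m c (n - 2 - (n - 2 - i.1)) k.1 = x i k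
      rw [h2, pick_eq, ← hc]
    · have h1 : i.1 + 1 = n := by
        have := i.2
        omega
      rw [hc, h1, z_pow_n, zero_mul]

/-- The kernel of the standard cover of the model of type `m` is the model of the reversed
type. -/
theorem nonempty_ker_stdCover_equiv [Nontrivial R] (hn : 1 ≤ n) (m : Fin n → ℕ) :
    Nonempty (↥(LinearMap.ker (stdCover R n m)) ≃ₗ[Rn R n] QFModel R n (revType n m)) := by
  have e1 := (revMap (R := R) m).quotKerEquivRange
  have e2 := (stdCover R n (revType n m)).quotKerEquivOfSurjective (stdCover_surjective _)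
  exact ⟨(LinearEquiv.ofEq _ _ (range_revMap m).symm).trans
    (e1.symm.trans ((Submodule.quotEquivOfEq _ _ (ker_revMap hn m)).trans e2))⟩

end rev

end Groth.Agent.Lib.Helper90.MultCrvLib
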