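import Mathlib
import Groth.Prelude.Def_W4c5nonratstablectREq
import Groth.Agent.Lib.Proj.Helper56_Charts

set_option linter.style.haveILetI false
set_option linter.unusedSectionVars false

namespace Groth.Agent.Lib.Helper90.P1Chart

open CategoryTheory CategoryTheory.Limits AlgebraicGeometry MvPolynomial
open Groth.Agent.Lib.Proj

universe u

section Chart

variable (n : ℕ) (K : Type u) [CommRing K] (i : Fin (n + 1))

/-- the coefficient map `ℤ → K` (universe lifted) -/
def coeff : ULift.{u} ℤ →+* K := (Int.castRingHom K).comp ULift.ringEquiv.toRingHom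

/-- `𝔸ⁿ_K ⟶ 𝔸ⁿ_ℤ` -/
noncomputable def affMap : Spec (CommRingCat.of (MvPolynomial {j : Fin (n + 1) // j ≠ i} K)) ⟶
    Spec (CommRingCat.of (MvPolynomial {j : Fin (n + 1) // j ≠ i} (ULift.{u} ℤ))) :=
  Spec.map (CommRingCat.ofHom (MvPolynomial.map (coeff K)))

/-- the `i`-th chart of `ℙⁿ_K` (as the base change of `ℙⁿ_ℤ`) -/
noncomputable def chartK : Spec (CommRingCat.of (MvPolynomial {j : Fin (n + 1) // j ≠ i} K)) ⟶
    CohB1.ProjSpaceOver n (Spec (CommRingCat.of K)) :=
  pullback.lift (affMap n K i ≫ chart n (ULift.{u} ℤ) i)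
    (Spec.map (CommRingCat.ofHom (C : K →+* MvPolynomial {j : Fin (n + 1) // j ≠ i} K)))
    (specULiftZIsTerminal.hom_ext _ _)

theorem chartK_toBase : chartK n K i ≫ CohB1.ProjSpaceOver.toBase n (Spec (CommRingCat.of K)) =
    Spec.map (CommRingCat.ofHom (C : K →+* MvPolynomial {j : Fin (n + 1) // j ≠ i} K)) :=
  pullback.lift_snd _ _ _

attribute [local instance] MvPolynomial.algebraMvPolynomial in
instance : IsOpenImmersion (chartK n K i) := by
  letI : Algebra (ULift.{u} ℤ) K := (coeff K).toAlgebra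
  have hpo := CommRingCat.isPushout_of_isPushout (ULift.{u} ℤ) K
    (MvPolynomial {j : Fin (n + 1) // j ≠ i} (ULift.{u} ℤ))
    (MvPolynomial {j : Fin (n + 1) // j ≠ i} K)
  have hpb := isPullback_SpecMap_of_isPushout _ _ _ _ hpo
  have outer : IsPullback (chartK n K i ≫ pullback.snd _ _) (affMap n K i)
      (specULiftZIsTerminal.from (Spec (CommRingCat.of K)))
      (chart n (ULift.{u} ℤ) i ≫ CohB1.ProjSpace.toSpec n (ULift.{u} ℤ)) := by
    rw [chart_toSpec]
    have h1 : chartK n K i ≫ pullback.snd _ _ = Spec.map (CommRingCat.ofHom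
        (C : K →+* MvPolynomial {j : Fin (n + 1) // j ≠ i} K)) := pullback.lift_snd _ _ _
    rw [h1]
    have h2 : specULiftZIsTerminal.from (Spec (CommRingCat.of K)) =
        Spec.map (CommRingCat.ofHom (coeff K)) := specULiftZIsTerminal.hom_ext _ _
    rw [h2]
    exact hpb
  have left := IsPullback.of_right outer (pullback.lift_fst _ _ _) (IsPullback.of_hasPullback _ _).flip
  exact MorphismProperty.of_isPullback (P := @IsOpenImmersion) left.flip inferInstance

end Chart

section Link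

variable {k : Type u} [Field k] {Y : Scheme.{u}} (g : Y ⟶ Spec (CommRingCat.of k))
  (n : ℕ) (V : (Spec (CommRingCat.of (MvPolynomial (Fin n) k))).Opens)
  (a : Y ⟶ (V : Scheme.{u})) (b : (V : Scheme.{u}) ⟶ Y)
  (hab : a ≫ b = 𝟙 Y)
  (ha : a ≫ V.ι ≫ Spec.map (CommRingCat.ofHom (algebraMap k (MvPolynomial (Fin n) k))) = g)
  (hb : b ≫ g = V.ι ≫ Spec.map (CommRingCat.ofHom (algebraMap k (MvPolynomial (Fin n) k))))
  (K : Type u) [Field K] [Algebra k K]

/-- the variable of the affine line chart -/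
def tvar : {j : Fin (1 + 1) // j ≠ 0} := ⟨1, by decide⟩

/-- the line through two points of affine space -/
noncomputable def line (αA αB : MvPolynomial (Fin n) k →+* K) :
    MvPolynomial (Fin n) k →+* MvPolynomial {j : Fin (1 + 1) // j ≠ 0} K :=
  eval₂Hom ((C : K →+* MvPolynomial {j : Fin (1 + 1) // j ≠ 0} K).comp (algebraMap k K))
    (fun i => C (αA (X i)) + X tvar * C (αB (X i) - αA (X i)))

theorem eval_zero_comp_line (αA αB : MvPolynomial (Fin n) k →+* K)
    (hA : αA.comp (C : k →+* MvPolynomial (Fin n) k) = algebraMap k K) :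
    (MvPolynomial.eval (fun _ => (0 : K))).comp (line n K αA αB) = αA := by
  apply MvPolynomial.ringHom_ext
  · intro r
    simp [line, ← hA]
  · intro i
    simp [line]

theorem eval_one_comp_line (αA αB : MvPolynomial (Fin n) k →+* K)
    (hB : αB.comp (C : k →+* MvPolynomial (Fin n) k) = algebraMap k K) :
    (MvPolynomial.eval (fun _ => (1 : K))).comp (line n K αA αB) = αB := by
  apply MvPolynomial.ringHom_ext
  · intro r
    simp [line, ← hB]
  · intro i
    simp [line]

theorem line_comp_C (αA αB : MvPolynomial (Fin n) k →+* K) :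
    (line n K αA αB).comp (C : k →+* MvPolynomial (Fin n) k) =
      (C : K →+* MvPolynomial {j : Fin (1 + 1) // j ≠ 0} K).comp (algebraMap k K) := by
  ext r
  simp [line]

/-- a `K`-point of affine space over `k` as a ring map -/
theorem exists_ringHom_of_pt (p : Spec (CommRingCat.of K) ⟶ Spec (CommRingCat.of (MvPolynomial (Fin n) k)))
    (hp : p ≫ Spec.map (CommRingCat.ofHom (algebraMap k (MvPolynomial (Fin n) k))) = REq.specMap k K) :
    ∃ α : MvPolynomial (Fin n) k →+* K, Spec.map (CommRingCat.ofHom α) = p ∧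
      α.comp (C : k →+* MvPolynomial (Fin n) k) = algebraMap k K := by
  refine ⟨(Spec.preimage p).hom, ?_, ?_⟩
  · rw [CommRingCat.ofHom_hom, Spec.map_preimage]
  · have h1 : Spec.map (CommRingCat.ofHom (algebraMap k (MvPolynomial (Fin n) k)) ≫ Spec.preimage p) =
        Spec.map (CommRingCat.ofHom (algebraMap k K)) := by
      rw [Spec.map_comp, Spec.map_preimage]
      exact hp
    have h2 := Spec.map_injective h1
    have h3 := congrArg (fun f => f.hom) h2
    exact h3

include hab ha hb in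
theorem elemLink (A B : REq.Pts g K) : REq.ElemLink g K A B := by
  set π := Spec.map (CommRingCat.ofHom (algebraMap k (MvPolynomial (Fin n) k))) with hπ
  have hpA : (A.1 ≫ a ≫ V.ι) ≫ π = REq.specMap k K := by
    rw [Category.assoc, Category.assoc, ha, A.2]
  have hpB : (B.1 ≫ a ≫ V.ι) ≫ π = REq.specMap k K := by
    rw [Category.assoc, Category.assoc, ha, B.2]
  obtain ⟨αA, hαA, hAC⟩ := exists_ringHom_of_pt n K _ hpA
  obtain ⟨αB, hαB, hBC⟩ := exists_ringHom_of_pt n K _ hpB
  set ℓ := line n K αA αB with hℓ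
  set L : Spec (CommRingCat.of (MvPolynomial {j : Fin (1 + 1) // j ≠ 0} K)) ⟶
    Spec (CommRingCat.of (MvPolynomial (Fin n) k)) := Spec.map (CommRingCat.ofHom ℓ) with hL
  have hLπ : L ≫ π = Spec.map (CommRingCat.ofHom
      (C : K →+* MvPolynomial {j : Fin (1 + 1) // j ≠ 0} K)) ≫ REq.specMap k K := by
    rw [hL, hπ, ← Spec.map_comp, REq.specMap, ← Spec.map_comp]
    congr 1
    apply CommRingCat.hom_ext
    exact line_comp_C n K αA αB
  set O := L ⁻¹ᵁ V with hO
  set j := chartK 1 K 0 with hj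
  set iso := j.isoImage O with hiso
  -- the two points of the affine line
  have key : ∀ (c : K) (α : MvPolynomial (Fin n) k →+* K) (P : REq.Pts g K),
      (MvPolynomial.eval (fun _ => c)).comp ℓ = α →
      Spec.map (CommRingCat.ofHom α) = P.1 ≫ a ≫ V.ι →
      ∃ a' : Spec (CommRingCat.of K) ⟶ ((j ''ᵁ O : (REq.P1K K).Opens) : Scheme.{u}),
        a' ≫ (j ''ᵁ O).ι ≫ REq.P1K.toSpec K = 𝟙 _ ∧
        a' ≫ (iso.inv ≫ (L ∣_ V) ≫ b) = P.1 := by
    intro c α P hc hα
    set a₀ : Spec (CommRingCat.of K) ⟶ Spec (CommRingCat.of (MvPolynomial {j : Fin (1 + 1) // j ≠ 0} K)) :=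
      Spec.map (CommRingCat.ofHom (MvPolynomial.eval (fun _ => c))) with ha₀
    have ha₀L : a₀ ≫ L = P.1 ≫ a ≫ V.ι := by
      rw [ha₀, hL, ← Spec.map_comp, ← hα, ← hc]
      rfl
    have hrange : Set.range a₀.base ⊆ Set.range O.ι.base := by
      rintro _ ⟨x, rfl⟩
      rw [Scheme.Opens.range_ι]
      change L.base (a₀.base x) ∈ V
      have : L.base (a₀.base x) = (a₀ ≫ L).base x := rfl
      rw [this, ha₀L]
      exact ((P.1 ≫ a).base x).2
    set l₀ := IsOpenImmersion.lift O.ι a₀ hrange with hl₀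
    have hl₀fac : l₀ ≫ O.ι = a₀ := IsOpenImmersion.lift_fac _ _ _
    refine ⟨l₀ ≫ iso.hom, ?_, ?_⟩
    · rw [Category.assoc, Scheme.Hom.isoImage_hom_ι_assoc, reassoc_of% hl₀fac]
      change a₀ ≫ j ≫ CohB1.ProjSpaceOver.toBase 1 (Spec (CommRingCat.of K)) = 𝟙 _
      rw [hj, chartK_toBase, ha₀, ← Spec.map_comp, ← Spec.map_id]
      congr 1
      apply CommRingCat.hom_ext
      ext r
      simp
    · rw [Category.assoc, Iso.hom_inv_id_assoc]
      have h1 : l₀ ≫ (L ∣_ V) = P.1 ≫ a := by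
        rw [← cancel_mono V.ι, Category.assoc, morphismRestrict_ι, reassoc_of% hl₀fac, ha₀L,
          Category.assoc]
      rw [reassoc_of% h1, hab, Category.comp_id]
  obtain ⟨a', ha'1, ha'2⟩ := key 0 αA A (eval_zero_comp_line n K αA αB hAC) hαA
  obtain ⟨b', hb'1, hb'2⟩ := key 1 αB B (eval_one_comp_line n K αA αB hBC) hαB
  refine ⟨j ''ᵁ O, iso.inv ≫ (L ∣_ V) ≫ b, a', b', ?_, ha'1, hb'1, ha'2, hb'2⟩
  rw [Category.assoc, Category.assoc, hb, morphismRestrict_ι_assoc, hLπ]
  rw [← Scheme.Hom.isoImage_inv_ι_assoc j O]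
  change _ = iso.inv ≫ O.ι ≫ j ≫ CohB1.ProjSpaceOver.toBase 1 (Spec (CommRingCat.of K)) ≫ _
  have hjb : j ≫ CohB1.ProjSpaceOver.toBase 1 (Spec (CommRingCat.of K)) = Spec.map (CommRingCat.ofHom
      (C : K →+* MvPolynomial {j : Fin (1 + 1) // j ≠ 0} K)) := chartK_toBase 1 K 0
  rw [reassoc_of% hjb]

end Link

end Groth.Agent.Lib.Helper90.P1Chart
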