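import Mathlib
import Groth.Agent.Lib.Helper90.P1Chart

set_option linter.style.haveILetI false
set_option linter.unusedSectionVars false

namespace Groth.Agent.Lib.Helper90.P1Chart

open CategoryTheory CategoryTheory.Limits AlgebraicGeometry MvPolynomial

universe u

section AlmostRTrivial

variable {k : Type u} [Field k] {X : Scheme.{u}} (f : X ⟶ Spec (CommRingCat.of k))

/-- direct links push forward along the inclusion of an open subscheme -/
theorem elemLink_of_open (U : X.Opens) (K : Type u) [Field K] [Algebra k K] (A B : REq.Pts f K)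
    (A' B' : REq.Pts (U.ι ≫ f) K) (hA : A'.1 ≫ U.ι = A.1) (hB : B'.1 ≫ U.ι = B.1)
    (h : REq.ElemLink (U.ι ≫ f) K A' B') : REq.ElemLink f K A B := by
  obtain ⟨U₁, h, a', b', h1, h2, h3, h4, h5⟩ := h
  refine ⟨U₁, h ≫ U.ι, a', b', ?_, h2, h3, ?_, ?_⟩
  · rw [Category.assoc]
    exact h1
  · rw [← Category.assoc, h4, hA]
  · rw [← Category.assoc, h5, hB]

theorem exists_lift_pt (U : X.Opens) (K : Type u) [Field K] [Algebra k K] (A : REq.Pts f K)
    (hA : REq.InOpen f U A) : ∃ A' : REq.Pts (U.ι ≫ f) K, A'.1 ≫ U.ι = A.1 := by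
  have hr : Set.range A.1.base ⊆ Set.range U.ι.base := by
    rw [Scheme.Opens.range_ι]
    exact hA
  refine ⟨⟨IsOpenImmersion.lift U.ι A.1 hr, ?_⟩, IsOpenImmersion.lift_fac _ _ _⟩
  rw [← Category.assoc, IsOpenImmersion.lift_fac]
  exact A.2

theorem exists_pt_of_nonempty_open [Infinite k] (n : ℕ)
    (V : (Spec (CommRingCat.of (MvPolynomial (Fin n) k))).Opens)
    (hV : (V : Set (Spec (CommRingCat.of (MvPolynomial (Fin n) k)))).Nonempty)
    (K : Type u) [Field K] [Algebra k K] :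
    ∃ p : Spec (CommRingCat.of K) ⟶ (V : Scheme.{u}),
      p ≫ V.ι ≫ Spec.map (CommRingCat.ofHom (algebraMap k (MvPolynomial (Fin n) k))) =
        REq.specMap k K := by
  obtain ⟨x, hx⟩ := hV
  obtain ⟨_, ⟨g, rfl⟩, hxg, hgV⟩ :=
    (PrimeSpectrum.isTopologicalBasis_basic_opens (R := MvPolynomial (Fin n) k)).exists_subset_of_mem_open
      hx V.2
  have hg0 : g ≠ 0 := by
    rintro rfl
    exact hxg (Submodule.zero_mem _)
  obtain ⟨c, hc⟩ : ∃ c : Fin n → k, eval c g ≠ 0 := by
    by_contra hcon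
    simp only [not_exists, not_not] at hcon
    exact hg0 (MvPolynomial.funext (fun c => by rw [hcon c, map_zero]))
  set α : MvPolynomial (Fin n) k →+* K := (algebraMap k K).comp (eval c) with hα
  have hαg : IsUnit (α g) := by
    apply IsUnit.mk0
    rw [hα, RingHom.comp_apply]
    exact (map_ne_zero_iff _ (algebraMap k K).injective).mpr hc
  have hr : Set.range (Spec.map (CommRingCat.ofHom α)).base ⊆ Set.range V.ι.base := by
    rw [Scheme.Opens.range_ι]
    rintro _ ⟨y, rfl⟩
    apply hgV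
    change g ∉ (PrimeSpectrum.comap α y).asIdeal
    intro hmem
    have hmem' : α g ∈ (show PrimeSpectrum K from y).asIdeal := hmem
    exact (show PrimeSpectrum K from y).isPrime.ne_top (Ideal.eq_top_of_isUnit_mem _ hmem' hαg)
  refine ⟨IsOpenImmersion.lift V.ι _ hr, ?_⟩
  rw [← Category.assoc, IsOpenImmersion.lift_fac, ← Spec.map_comp, REq.specMap]
  congr 1
  apply CommRingCat.hom_ext
  ext r
  simp [hα]

theorem isAlmostRTrivial [Infinite k] [IsIntegral X] (hX : REq.IsRetractRational f) :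
    REq.IsAlmostRTrivial f := by
  obtain ⟨U, n, V, a, b, hne, hab, ha, hb⟩ := hX
  refine ⟨U, U.2.dense hne, fun K _ _ => ⟨?_, ?_⟩⟩
  · have hV : (V : Set (Spec (CommRingCat.of (MvPolynomial (Fin n) k)))).Nonempty := by
      obtain ⟨x, hx⟩ := hne
      exact ⟨(a.base ⟨x, hx⟩).1, (a.base ⟨x, hx⟩).2⟩
    obtain ⟨p, hp⟩ := exists_pt_of_nonempty_open n V hV K
    refine ⟨⟨p ≫ b ≫ U.ι, ?_⟩, ?_⟩
    · rw [Category.assoc, Category.assoc, hb]
      exact hp
    · rintro _ ⟨y, rfl⟩
      exact ((p ≫ b).base y).2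
  · intro A B hA hB
    obtain ⟨A', hA'⟩ := exists_lift_pt f U K A hA
    obtain ⟨B', hB'⟩ := exists_lift_pt f U K B hB
    exact Relation.EqvGen.rel _ _ (elemLink_of_open f U K A B A' B' hA' hB'
      (elemLink (U.ι ≫ f) n V a b hab ha hb K A' B'))

end AlmostRTrivial

end Groth.Agent.Lib.Helper90.P1Chart
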