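import Mathlib
import Groth.Agent.Lib.Helper90.P1Chart

set_option linter.style.haveILetI false
set_option linter.unusedSectionVars false

namespace Groth.Agent.Lib.Helper90.P1Chart

open CategoryTheory CategoryTheory.Limits AlgebraicGeometry MvPolynomial
open Groth.Agent.Lib.Proj

universe u

section Range

variable (n : ℕ) (K : Type u) [CommRing K] (i : Fin (n + 1))

attribute [local instance] MvPolynomial.algebraMvPolynomial in
theorem isPullback_chartK : IsPullback (affMap n K i) (chartK n K i)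
    (chart n (ULift.{u} ℤ) i)
    (pullback.fst (CohB1.ProjSpace.toSpec n (ULift.{u} ℤ))
      (specULiftZIsTerminal.from (Spec (CommRingCat.of K)))) := by
  letI : Algebra (ULift.{u} ℤ) K := (coeff K).toAlgebra
  have hpo := CommRingCat.isPushout_of_isPushout (ULift.{u} ℤ) K
    (MvPolynomial {j : Fin (n + 1) // j ≠ i} (ULift.{u} ℤ))
    (MvPolynomial {j : Fin (n + 1) // j ≠ i} K)
  have hpb := isPullback_SpecMap_of_isPushout _ _ _ _ hpo
  have outer : IsPullback (chartK n K i ≫ pullback.snd _ _) (affMap n K i)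
      (specULiftZIsTerminal.from (Spec (CommRingCat.of K)))
      (chart n (ULift.{u} ℤ) i ≫ CohB1.ProjSpace.toSpec n (ULift.{u} ℤ)) := by
    rw [chart_toSpec]
    have h1 : chartK n K i ≫ pullback.snd _ _ = Spec.map (CommRingCat.ofHom
        (C : K →+* MvPolynomial {j : Fin (n + 1) // j ≠ i} K)) := pullback.lift_snd _ _ _
    rw [h1]
    have h2 : specULiftZIsTerminal.from (Spec (CommRingCat.of K)) =
        Spec.map (CommRingCat.ofHom (coeff K)) := specULiftZIsTerminal.hom_ext _ _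
    rw [h2]
    exact hpb
  exact (IsPullback.of_right outer (pullback.lift_fst _ _ _)
    (IsPullback.of_hasPullback _ _).flip).flip

theorem range_chartK : Set.range (chartK n K i).base =
    (pullback.fst (CohB1.ProjSpace.toSpec n (ULift.{u} ℤ))
      (specULiftZIsTerminal.from (Spec (CommRingCat.of K)))).base ⁻¹'
        (Set.range (chart n (ULift.{u} ℤ) i).base) := by
  have h := Scheme.image_preimage_eq_of_isPullback (isPullback_chartK n K i) Set.univ
  rw [Set.preimage_univ, Set.image_univ, Set.image_univ] at h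
  exact h

theorem exists_mem_range_chartK (z : CohB1.ProjSpaceOver n (Spec (CommRingCat.of K))) :
    ∃ i : Fin (n + 1), z ∈ Set.range (chartK n K i).base := by
  have h := iSup_opensRange_chart n (ULift.{u} ℤ)
  have hz : (pullback.fst (CohB1.ProjSpace.toSpec n (ULift.{u} ℤ))
      (specULiftZIsTerminal.from (Spec (CommRingCat.of K)))).base z ∈
      (⨆ i : Fin (n + 1), (chart n (ULift.{u} ℤ) i).opensRange) := by
    rw [h]
    trivial
  obtain ⟨i, hi⟩ := TopologicalSpace.Opens.mem_iSup.mp hz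
  exact ⟨i, by rw [range_chartK]; exact hi⟩

end Range

section Irr

variable (K : Type u) [Field K]

theorem exists_mem_inter_range_chartK :
    ∃ z : CohB1.ProjSpaceOver 1 (Spec (CommRingCat.of K)),
      z ∈ Set.range (chartK 1 K 0).base ∧ z ∈ Set.range (chartK 1 K 1).base := by
  let y : Spec (CommRingCat.of (MvPolynomial {j : Fin (1 + 1) // j ≠ 0} K)) :=
    (⟨⊥, Ideal.isPrime_bot⟩ : PrimeSpectrum (MvPolynomial {j : Fin (1 + 1) // j ≠ 0} K))
  refine ⟨(chartK 1 K 0).base y, ⟨y, rfl⟩, ?_⟩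
  rw [range_chartK]
  show (pullback.fst (CohB1.ProjSpace.toSpec 1 (ULift.{u} ℤ))
      (specULiftZIsTerminal.from (Spec (CommRingCat.of K)))).base ((chartK 1 K 0).base y) ∈
    Set.range (chart 1 (ULift.{u} ℤ) 1).base
  have h1 : (pullback.fst (CohB1.ProjSpace.toSpec 1 (ULift.{u} ℤ))
      (specULiftZIsTerminal.from (Spec (CommRingCat.of K)))).base ((chartK 1 K 0).base y) =
      (chart 1 (ULift.{u} ℤ) 0).base ((affMap 1 K 0).base y) := by
    have := (isPullback_chartK 1 K 0).w
    have h2 := congrArg (fun f => f.base y) this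
    exact h2.symm
  rw [h1, range_chart]
  change (chart' 1 (ULift.{u} ℤ) 0).base ((affMap 1 K 0).base y) ∈
    Proj.basicOpen (CohB1.polyGrading 1 (ULift.{u} ℤ)) (X 1 : MvPolynomial (Fin (1 + 1)) (ULift.{u} ℤ))
  unfold chart'
  set w := (Spec.map (awayXEquiv 1 (ULift.{u} ℤ) 0).toCommRingCatIso.hom).base ((affMap 1 K 0).base y)
    with hw
  change (Proj.awayι (CohB1.polyGrading 1 (ULift.{u} ℤ)) (X 0) (X_mem 1 _ 0) Nat.one_pos).base w ∈
    Proj.basicOpen (CohB1.polyGrading 1 (ULift.{u} ℤ)) (X 1 : MvPolynomial (Fin (1 + 1)) (ULift.{u} ℤ))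
  have h3 : w ∈ (Proj.awayι (CohB1.polyGrading 1 (ULift.{u} ℤ)) (X 0) (X_mem 1 _ 0) Nat.one_pos) ⁻¹ᵁ
      Proj.basicOpen (CohB1.polyGrading 1 (ULift.{u} ℤ))
        (X 1 : MvPolynomial (Fin (1 + 1)) (ULift.{u} ℤ)) := by
    rw [Proj.awayι_preimage_basicOpen (CohB1.polyGrading 1 (ULift.{u} ℤ)) (X_mem 1 _ 0) Nat.one_pos
      (X_mem 1 _ 1) Nat.one_pos]
    intro hmem
    have hmem' : MvPolynomial.map (coeff K) (awayXEquiv 1 (ULift.{u} ℤ) 0
        (HomogeneousLocalization.Away.isLocalizationElem (X_mem 1 (ULift.{u} ℤ) 0) (X_mem 1 (ULift.{u} ℤ) 1))) ∈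
        (⊥ : Ideal (MvPolynomial {j : Fin (1 + 1) // j ≠ 0} K)) := hmem
    rw [awayXEquiv_mk] at hmem'
    rw [map_pow, dehom_X_of_ne 1 (ULift.{u} ℤ) 0 1 (by decide), pow_one, MvPolynomial.map_X,
      Ideal.mem_bot] at hmem'
    exact MvPolynomial.X_ne_zero _ hmem'
  exact h3

instance irreducibleSpace_P1K : IrreducibleSpace (REq.P1K K) := by
  have hS : ∀ i : Fin (1 + 1), IsIrreducible (Set.range (chartK 1 K i).base) := by
    intro i
    haveI : IrreducibleSpace (Spec (CommRingCat.of (MvPolynomial {j : Fin (1 + 1) // j ≠ i} K))) := by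
      show IrreducibleSpace (PrimeSpectrum _)
      infer_instance
    rw [← Set.image_univ]
    exact (IrreducibleSpace.isIrreducible_univ _).image _ (chartK 1 K i).continuous.continuousOn
  have hO : ∀ i : Fin (1 + 1), IsOpen (Set.range (chartK 1 K i).base) := fun i =>
    (chartK 1 K i).isOpenEmbedding.isOpen_range
  obtain ⟨z0, hz0, hz1⟩ := exists_mem_inter_range_chartK K
  have hz : ∀ i : Fin (1 + 1), z0 ∈ Set.range (chartK 1 K i).base := by
    intro i
    fin_cases i
    · exact hz0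
    · exact hz1
  set D := Set.range (chartK 1 K 0).base ∩ Set.range (chartK 1 K 1).base with hD
  have hDo : IsOpen D := (hO 0).inter (hO 1)
  have key : ∀ u : Set (REq.P1K K), IsOpen u → u.Nonempty → (u ∩ D).Nonempty := by
    rintro u hu ⟨x, hx⟩
    obtain ⟨i, hi⟩ := exists_mem_range_chartK 1 K x
    obtain ⟨t, -, ht⟩ := (hS i).2 u D hu hDo ⟨x, hi, hx⟩ ⟨z0, hz i, hz0, hz1⟩
    exact ⟨t, ht⟩
  haveI : PreirreducibleSpace ↥(REq.P1K K) := by
    constructor
    intro u v hu hv hu' hv'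
    obtain ⟨x, hxu, hxD⟩ := key u hu (by simpa using hu')
    obtain ⟨y, hyv, hyD⟩ := key v hv (by simpa using hv')
    obtain ⟨t, -, ht⟩ := (hS 0).2 u v hu hv ⟨x, hxD.1, hxu⟩ ⟨y, hyD.1, hyv⟩
    exact ⟨t, Set.mem_univ _, ht⟩
  exact ⟨⟨z0⟩⟩

end Irr

section Main

variable {k : Type u} [Field k] {Y : Scheme.{u}} (g : Y ⟶ Spec (CommRingCat.of k))
  (K : Type u) [Field K] [Algebra k K]
  (V W : Set Y) (hV : IsClosed V) (hW : IsClosed W) (hVW : V ∪ W = Set.univ)
  (hT : ∀ z : REq.Pts g K, ¬ (Set.range z.1.base ⊆ V ∩ W))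

include hV hW hVW hT in
theorem link_aux (U₁ : (REq.P1K K).Opens) (h : (U₁ : Scheme.{u}) ⟶ Y)
    (a' b' : Spec (CommRingCat.of K) ⟶ (U₁ : Scheme.{u})) (A B : REq.Pts g K)
    (hA : a' ≫ h = A.1) (hB : b' ≫ h = B.1) (hAV : Set.range A.1.base ⊆ V) :
    Set.range B.1.base ⊆ V := by
  haveI : PreirreducibleSpace ↥(U₁ : Scheme.{u}) := U₁.ι.isOpenEmbedding.preirreducibleSpace
  have hcl := isPreirreducible_iff_isClosed_union_isClosed.mp
    (PreirreducibleSpace.isPreirreducible_univ (X := ↥(U₁ : Scheme.{u})))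
    (h.base ⁻¹' V) (h.base ⁻¹' W) (hV.preimage h.continuous) (hW.preimage h.continuous)
    (by
      intro x _
      have : h.base x ∈ V ∪ W := by
        rw [hVW]
        trivial
      exact this)
  rcases hcl with h1 | h2
  · rintro _ ⟨y, rfl⟩
    rw [← hB]
    exact h1 (Set.mem_univ (b'.base y))
  · exfalso
    apply hT A
    rintro _ ⟨y, rfl⟩
    refine ⟨hAV ⟨y, rfl⟩, ?_⟩
    rw [← hA]
    exact h2 (Set.mem_univ (a'.base y))

include hV hW hVW hT in
theorem not_rEquiv (p q : REq.Pts g K) (hp : Set.range p.1.base ⊆ V)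
    (hq : Set.range q.1.base ⊆ W) : ¬ REq.REquiv g K p q := by
  intro hpq
  have main : ∀ A B : REq.Pts g K, REq.REquiv g K A B →
      (Set.range A.1.base ⊆ V ↔ Set.range B.1.base ⊆ V) := by
    intro A B hAB
    induction hAB with
    | rel A B hAB =>
      obtain ⟨U₁, h, a', b', -, -, -, hA, hB⟩ := hAB
      exact ⟨link_aux g K V W hV hW hVW hT U₁ h a' b' A B hA hB,
        link_aux g K V W hV hW hVW hT U₁ h b' a' B A hB hA⟩
    | refl A => exact Iff.rfl
    | symm A B _ ih => exact ih.symm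
    | trans A B C _ _ ih1 ih2 => exact ih1.trans ih2
  exact hT q (Set.subset_inter ((main p q hpq).mp hp) hq)

end Main

end Groth.Agent.Lib.Helper90.P1Chart
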