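import Mathlib
import Groth.Prelude.Def_P1
import Groth.Agent.Lib.Helper90.P1Irr

set_option linter.style.haveILetI false
set_option linter.unusedSectionVars false

namespace Groth.Agent.Lib.Helper90.P1Fin

open CategoryTheory CategoryTheory.Limits AlgebraicGeometry

universe u

/-- projection `P^1_X → P^1_ℤ`. -/
noncomputable def pr1 (X : Scheme.{u}) : CohB1.ProjSpaceOver 1 X ⟶ CohB1.ProjSpace 1 (ULift.{u} ℤ) :=
  pullback.fst (CohB1.ProjSpace.toSpec 1 (ULift.{u} ℤ)) (specULiftZIsTerminal.from X)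

/-- projection `P^1_X → X`. -/
noncomputable def pr2 (X : Scheme.{u}) : CohB1.ProjSpaceOver 1 X ⟶ X :=
  pullback.snd (CohB1.ProjSpace.toSpec 1 (ULift.{u} ℤ)) (specULiftZIsTerminal.from X)

theorem isPullback_pr (X : Scheme.{u}) : IsPullback (pr1 X) (pr2 X)
    (CohB1.ProjSpace.toSpec 1 (ULift.{u} ℤ)) (specULiftZIsTerminal.from X) :=
  IsPullback.of_hasPullback _ _

theorem hom_ext_pr {W X : Scheme.{u}} (a b : W ⟶ CohB1.ProjSpaceOver 1 X)
    (h1 : a ≫ pr1 X = b ≫ pr1 X) (h2 : a ≫ pr2 X = b ≫ pr2 X) : a = b :=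
  pullback.hom_ext h1 h2

variable {X Y : Scheme.{u}} (f : X ⟶ Y)

theorem toP1_pr1 : P1.toP1 f ≫ pr1 Y = pr1 X := by
  have h : P1.toP1 f ≫ pr1 Y = pr1 X ≫ 𝟙 _ := pullback.lift_fst _ _ _
  rw [h, Category.comp_id]

theorem toP1_pr2 : P1.toP1 f ≫ pr2 Y = pr2 X ≫ f := pullback.lift_snd _ _ _

theorem isPullback_toP1 : IsPullback (P1.toP1 f) (pr2 X) (pr2 Y) f := by
  have outer : IsPullback (P1.toP1 f ≫ pr1 Y) (pr2 X) (CohB1.ProjSpace.toSpec 1 (ULift.{u} ℤ))
      (f ≫ specULiftZIsTerminal.from Y) := by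
    rw [toP1_pr1]
    have h2 : f ≫ specULiftZIsTerminal.from Y = specULiftZIsTerminal.from X :=
      specULiftZIsTerminal.hom_ext _ _
    rw [h2]
    exact isPullback_pr X
  exact IsPullback.of_right outer (toP1_pr2 f) (isPullback_pr Y)

theorem sect_pr1 (X : Scheme.{u}) (i : Fin (1 + 1)) :
    P1.sect X i ≫ pr1 X = specULiftZIsTerminal.from X ≫ P1.point i := pullback.lift_fst _ _ _

theorem sect_pr2 (X : Scheme.{u}) (i : Fin (1 + 1)) : P1.sect X i ≫ pr2 X = 𝟙 X :=
  pullback.lift_snd _ _ _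

theorem sect_toP1 (i : Fin (1 + 1)) : P1.sect X i ≫ P1.toP1 f = f ≫ P1.sect Y i := by
  apply hom_ext_pr
  · rw [Category.assoc, toP1_pr1, sect_pr1, Category.assoc, sect_pr1, ← Category.assoc]
    congr 1
    exact specULiftZIsTerminal.hom_ext _ _
  · rw [Category.assoc, toP1_pr2, ← Category.assoc, sect_pr2, Category.assoc, sect_pr2,
      Category.id_comp, Category.comp_id]

/-- Key lemma: a clopen subset of `P^1_S` missing the zero section is empty. -/
theorem eq_empty_of_isClopen (S : Scheme.{u}) (Z : Set (CohB1.ProjSpaceOver 1 S)) (hZ : IsClopen Z)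
    (h0 : ∀ z ∈ Z, z ∉ Set.range (P1.sect S 0)) : Z = ∅ := by
  by_contra hne
  obtain ⟨z, hz⟩ := Set.nonempty_iff_ne_empty.mpr hne
  set s : S := (pr2 S) z with hs
  let K : Type u := S.residueField s
  let ι : Spec (CommRingCat.of K) ⟶ S := S.fromSpecResidueField s
  have hpb := isPullback_toP1 ι
  -- a point of Spec K over s
  let pt : Spec (CommRingCat.of K) := IsLocalRing.closedPoint K
  have hpt : ι pt = s := Scheme.fromSpecResidueField_apply s pt
  obtain ⟨p, hp1, hp2⟩ := Scheme.exists_preimage_of_isPullback hpb z pt (by rw [hpt])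
  -- preimage clopen
  have hcl : IsClopen ((P1.toP1 ι) ⁻¹' Z) := hZ.preimage (P1.toP1 ι).continuous
  haveI : IrreducibleSpace (REq.P1K K) := P1Chart.irreducibleSpace_P1K K
  have huniv : (P1.toP1 ι) ⁻¹' Z = Set.univ := by
    have := isClopen_iff.mp hcl
    rcases this with h | h
    · exfalso
      have : p ∈ (P1.toP1 ι) ⁻¹' Z := by
        show (P1.toP1 ι) p ∈ Z
        rw [hp1]; exact hz
      rw [h] at this
      exact this
    · exact h
  -- the zero point
  let q : REq.P1K K := (P1.sect (Spec (CommRingCat.of K)) 0) pt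
  have hq : (P1.toP1 ι) q ∈ Z := by
    have : q ∈ (P1.toP1 ι) ⁻¹' Z := by rw [huniv]; trivial
    exact this
  apply h0 _ hq
  refine ⟨ι pt, ?_⟩
  have := congrArg (fun f => f.base pt) (sect_toP1 ι 0)
  exact this.symm

end Groth.Agent.Lib.Helper90.P1Fin
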