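import Mathlib
import Groth.Prelude.Def_P1
import Groth.Agent.Lib.Helper90.P1Fin

set_option linter.style.haveILetI false
set_option linter.unusedSectionVars false

namespace Groth.Agent.Lib.Helper90.P1Fin

open CategoryTheory CategoryTheory.Limits AlgebraicGeometry

universe u

/-- topological lemma: open+closed map to a preconnected space with one finite fibre: every
connected component surjects. -/
theorem image_connectedComponent_eq_univ {X P : Type*} [TopologicalSpace X] [TopologicalSpace P]
    [PreconnectedSpace P] (f : X → P) (hfo : IsOpenMap f) (hfc : IsClosedMap f)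
    (p₀ : P) (hfin : (f ⁻¹' {p₀}).Finite) (x : X) (p : P) :
    ∃ y ∈ connectedComponent x, f y = p := by
  have step1 : ∀ U : Set X, IsClopen U → U.Nonempty → f '' U = Set.univ := by
    intro U hU hne
    have hcl : IsClopen (f '' U) := ⟨hfc _ hU.isClosed, hfo _ hU.isOpen⟩
    rcases isClopen_iff.mp hcl with h | h
    · exfalso
      obtain ⟨y, hy⟩ := hne
      have : f y ∈ f '' U := ⟨y, hy, rfl⟩
      rw [h] at this
      exact this
    · exact h
  set F := f ⁻¹' {p₀} with hF
  have hex : ∃ n : ℕ, ∃ U : Set X, IsClopen U ∧ x ∈ U ∧ (U ∩ F).ncard = n :=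
    ⟨_, Set.univ, isClopen_univ, Set.mem_univ x, rfl⟩
  classical
  obtain ⟨U, hUc, hxU, hUn⟩ := Nat.find_spec hex
  have hmin : ∀ A : Set X, IsClopen A → x ∈ A → (U ∩ F).ncard ≤ (A ∩ F).ncard := by
    intro A hA hxA
    rw [hUn]
    exact Nat.find_min' hex ⟨A, hA, hxA, rfl⟩
  have key : ∀ A B : Set X, IsClopen A → IsClopen B → x ∈ A → A ⊆ U → B ⊆ U → Disjoint A B →
      B.Nonempty → False := by
    intro A B hA hB hxA hAU hBU hdis hBne
    have hB' := step1 B hB hBne
    have : p₀ ∈ f '' B := by rw [hB']; trivial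
    obtain ⟨b, hbB, hb⟩ := this
    have hlt : (A ∩ F).ncard < (U ∩ F).ncard := by
      apply Set.ncard_lt_ncard
      · refine ⟨Set.inter_subset_inter_left _ hAU, ?_⟩
        intro hsub
        have hbA : b ∈ A ∩ F := hsub ⟨hBU hbB, hb⟩
        exact Set.disjoint_left.mp hdis hbA.1 hbB
      · exact hfin.subset Set.inter_subset_right
    exact absurd (hmin A hA hxA) (not_le.mpr hlt)
  have hUpre : IsPreconnected U := by
    intro u v hu hv hUuv hUu hUv
    by_contra hempty
    have hdisj : U ∩ (u ∩ v) = ∅ := Set.not_nonempty_iff_eq_empty.mp hempty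
    have hA : U ∩ u = U ∩ vᶜ := by
      ext t
      constructor
      · rintro ⟨htU, htu⟩
        refine ⟨htU, fun htv => ?_⟩
        have : t ∈ U ∩ (u ∩ v) := ⟨htU, htu, htv⟩
        rw [hdisj] at this
        exact this
      · rintro ⟨htU, htv⟩
        refine ⟨htU, ?_⟩
        rcases hUuv htU with h | h
        · exact h
        · exact absurd h htv
    have hB : U ∩ v = U ∩ uᶜ := by
      ext t
      constructor
      · rintro ⟨htU, htv⟩
        refine ⟨htU, fun htu => ?_⟩
        have : t ∈ U ∩ (u ∩ v) := ⟨htU, htu, htv⟩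
        rw [hdisj] at this
        exact this
      · rintro ⟨htU, htu⟩
        refine ⟨htU, ?_⟩
        rcases hUuv htU with h | h
        · exact absurd h htu
        · exact h
    have hAc : IsClopen (U ∩ u) :=
      ⟨by rw [hA]; exact hUc.isClosed.inter hv.isClosed_compl, hUc.isOpen.inter hu⟩
    have hBc : IsClopen (U ∩ v) :=
      ⟨by rw [hB]; exact hUc.isClosed.inter hu.isClosed_compl, hUc.isOpen.inter hv⟩
    have hdAB : Disjoint (U ∩ u) (U ∩ v) := by
      rw [Set.disjoint_left]
      rintro t ⟨htU, htu⟩ ⟨-, htv⟩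
      have : t ∈ U ∩ (u ∩ v) := ⟨htU, htu, htv⟩
      rw [hdisj] at this
      exact this
    rcases hUuv hxU with hxu | hxv
    · exact key (U ∩ u) (U ∩ v) hAc hBc ⟨hxU, hxu⟩ Set.inter_subset_left Set.inter_subset_left
        hdAB hUv
    · exact key (U ∩ v) (U ∩ u) hBc hAc ⟨hxU, hxv⟩ Set.inter_subset_left Set.inter_subset_left
        hdAB.symm hUu
  have hsub : U ⊆ connectedComponent x := hUpre.subset_connectedComponent hxU
  have hall := step1 U hUc ⟨x, hxU⟩
  have : p ∈ f '' U := by rw [hall]; trivial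
  obtain ⟨y, hyU, hy⟩ := this
  exact ⟨y, hsub hyU, hy⟩

/-- `P^1_S` is preconnected when `S` is. -/
theorem preconnectedSpace_P1 (S : Scheme.{u}) [PreconnectedSpace S] :
    PreconnectedSpace (CohB1.ProjSpaceOver 1 S) := by
  rw [preconnectedSpace_iff_clopen]
  intro Z hZ
  have hpre : IsClopen ((P1.sect S 0) ⁻¹' Z) := hZ.preimage (P1.sect S 0).continuous
  rcases isClopen_iff.mp hpre with h | h
  · left
    apply eq_empty_of_isClopen S Z hZ
    rintro _ hz ⟨s, rfl⟩
    have : s ∈ (P1.sect S 0) ⁻¹' Z := hz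
    rw [h] at this
    exact this
  · right
    have := eq_empty_of_isClopen S Zᶜ hZ.compl (by
      rintro _ hz ⟨s, rfl⟩
      have : s ∈ (P1.sect S 0) ⁻¹' Z := by rw [h]; trivial
      exact hz this)
    exact Set.compl_empty_iff.mp this

end Groth.Agent.Lib.Helper90.P1Fin
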