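import Mathlib
import Groth.Agent.Lib.Helper37.HenselLocal

/-!
# Henselization of a pair: basic objects (helper90)

* `IsGood I B`: `B` is an etale `A`-algebra with `A/I → B/IB` bijective.
* `onePlus I B`: the multiplicative set `1 + IB`; `Loc I B` its localization.
-/

set_option autoImplicit false
set_option linter.style.haveILetI false
universe u

namespace Groth.Agent.Lib.Helper90.PairHz

variable {A : Type u} [CommRing A] (I : Ideal A)

/-- A *good* etale neighbourhood of `V(I)`. -/
def IsGood (B : Type u) [CommRing B] [Algebra A B] : Prop :=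
  Algebra.Etale A B ∧ Function.Bijective (algebraMap (A ⧸ I) (B ⧸ I.map (algebraMap A B)))

/-- The multiplicative set `1 + IB`. -/
def onePlus (B : Type*) [CommRing B] [Algebra A B] : Submonoid B where
  carrier := {b | b - 1 ∈ I.map (algebraMap A B)}
  one_mem' := by simp
  mul_mem' := by
    intro a b ha hb
    have : a * b - 1 = (a - 1) * b + (b - 1) := by ring
    change a * b - 1 ∈ I.map (algebraMap A B)
    rw [this]
    exact Ideal.add_mem _ (Ideal.mul_mem_right _ _ ha) hb

theorem mem_onePlus {B : Type*} [CommRing B] [Algebra A B] {b : B} :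
    b ∈ onePlus I B ↔ b - 1 ∈ I.map (algebraMap A B) := Iff.rfl

/-- If `IC` is in the Jacobson radical, elements of `1 + IC` are units. -/
theorem isUnit_of_mem_onePlus {C : Type*} [CommRing C] [Algebra A C]
    (hC : I.map (algebraMap A C) ≤ Ideal.jacobson ⊥) {c : C} (hc : c ∈ onePlus I C) :
    IsUnit c := by
  have := Ideal.mem_jacobson_bot.mp (hC hc) 1
  simpa using this

/-- Algebra maps send `1 + IB` into `1 + IC`. -/
theorem map_mem_onePlus {B C : Type*} [CommRing B] [Algebra A B] [CommRing C] [Algebra A C]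
    (g : B →ₐ[A] C) {b : B} (hb : b ∈ onePlus I B) : g b ∈ onePlus I C := by
  rw [mem_onePlus] at hb ⊢
  have h1 : g b - 1 = g (b - 1) := by rw [map_sub, map_one]
  rw [h1]
  have h2 : (I.map (algebraMap A B)).map g.toRingHom = I.map (algebraMap A C) := by
    rw [Ideal.map_map]
    congr 1
    exact g.comp_algebraMap
  rw [← h2]
  exact Ideal.mem_map_of_mem _ hb

/-- The localization of `B` at `1 + IB`. -/
abbrev Loc (B : Type*) [CommRing B] [Algebra A B] : Type _ := Localization (onePlus I B)


/-- `A/I → C/IC` is bijective, in element form. -/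
structure QuotBij (C : Type*) [CommRing C] [Algebra A C] : Prop where
  surj : ∀ c : C, ∃ a : A, c - algebraMap A C a ∈ I.map (algebraMap A C)
  inj : ∀ a : A, algebraMap A C a ∈ I.map (algebraMap A C) → a ∈ I

theorem quotBij_iff {C : Type*} [CommRing C] [Algebra A C] :
    QuotBij I C ↔ Function.Bijective (algebraMap (A ⧸ I) (C ⧸ I.map (algebraMap A C))) := by
  constructor
  · intro h
    constructor
    · rw [injective_iff_map_eq_zero]
      intro x hx
      obtain ⟨a, rfl⟩ := Ideal.Quotient.mk_surjective x
      rw [Ideal.Quotient.algebraMap_quotient_map_quotient, Ideal.Quotient.eq_zero_iff_mem] at hx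
      exact Ideal.Quotient.eq_zero_iff_mem.mpr (h.inj a hx)
    · intro y
      obtain ⟨c, rfl⟩ := Ideal.Quotient.mk_surjective y
      obtain ⟨a, ha⟩ := h.surj c
      refine ⟨Ideal.Quotient.mk I a, ?_⟩
      rw [Ideal.Quotient.algebraMap_quotient_map_quotient]
      exact (Ideal.Quotient.eq.mpr ha).symm
  · intro h
    constructor
    · intro c
      obtain ⟨x, hx⟩ := h.2 (Ideal.Quotient.mk _ c)
      obtain ⟨a, rfl⟩ := Ideal.Quotient.mk_surjective x
      rw [Ideal.Quotient.algebraMap_quotient_map_quotient] at hx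
      exact ⟨a, Ideal.Quotient.eq.mp hx.symm⟩
    · intro a ha
      have : algebraMap (A ⧸ I) (C ⧸ I.map (algebraMap A C)) (Ideal.Quotient.mk I a) = 0 := by
        rw [Ideal.Quotient.algebraMap_quotient_map_quotient]
        exact Ideal.Quotient.eq_zero_iff_mem.mpr ha
      rw [← map_zero (algebraMap (A ⧸ I) (C ⧸ I.map (algebraMap A C)))] at this
      exact Ideal.Quotient.eq_zero_iff_mem.mp (h.1 this)

theorem IsGood.quotBij {B : Type u} [CommRing B] [Algebra A B] (h : IsGood I B) : QuotBij I B :=
  (quotBij_iff I).mpr h.2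

section Loc

variable {B : Type*} [CommRing B] [Algebra A B]

theorem map_map_loc : (I.map (algebraMap A B)).map (algebraMap B (Loc I B)) =
    I.map (algebraMap A (Loc I B)) := by
  rw [Ideal.map_map, ← IsScalarTower.algebraMap_eq]

/-- `I · Loc` is contained in the Jacobson radical. -/
theorem map_le_jacobson_loc : I.map (algebraMap A (Loc I B)) ≤ Ideal.jacobson ⊥ := by
  intro x hx
  rw [Ideal.mem_jacobson_bot]
  intro y
  have hz : x * y ∈ I.map (algebraMap A (Loc I B)) := Ideal.mul_mem_right _ _ hx
  generalize x * y = z at hz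
  rw [← map_map_loc, IsLocalization.mem_map_algebraMap_iff (onePlus I B)] at hz
  obtain ⟨⟨⟨a, ha⟩, ⟨s, hs⟩⟩, h⟩ := hz
  have hs' : IsUnit (algebraMap B (Loc I B) s) := IsLocalization.map_units _ ⟨s, hs⟩
  have has : a + s ∈ onePlus I B := by
    rw [mem_onePlus]
    have : a + s - 1 = a + (s - 1) := by ring
    rw [this]
    exact Ideal.add_mem _ ha hs
  have has' : IsUnit (algebraMap B (Loc I B) (a + s)) := IsLocalization.map_units _ ⟨a + s, has⟩
  have h2 : (z + 1) * algebraMap B (Loc I B) s = algebraMap B (Loc I B) (a + s) := by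
    rw [add_mul, one_mul, map_add]
    congr 1
  have : IsUnit ((z + 1) * algebraMap B (Loc I B) s) := h2 ▸ has'
  exact (IsUnit.mul_iff.mp this).1

/-- Elements of `Loc` are congruent to elements of `B` modulo `I`. -/
theorem exists_sub_mem_loc (l : Loc I B) :
    ∃ b : B, l - algebraMap B (Loc I B) b ∈ I.map (algebraMap A (Loc I B)) := by
  obtain ⟨⟨b, ⟨s, hs⟩⟩, h⟩ := IsLocalization.surj (onePlus I B) l
  refine ⟨b, ?_⟩
  change l * algebraMap B (Loc I B) s = algebraMap B (Loc I B) b at h
  rw [← h]
  have : l - l * algebraMap B (Loc I B) s = -(l * algebraMap B (Loc I B) (s - 1)) := by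
    rw [map_sub, map_one]; ring
  rw [this]
  apply Ideal.neg_mem_iff _ |>.mpr
  apply Ideal.mul_mem_left
  rw [← map_map_loc]
  exact Ideal.mem_map_of_mem _ hs

/-- `B/IB → Loc/I Loc` is injective. -/
theorem mem_of_algebraMap_mem_loc (b : B)
    (hb : algebraMap B (Loc I B) b ∈ I.map (algebraMap A (Loc I B))) :
    b ∈ I.map (algebraMap A B) := by
  rw [← map_map_loc, IsLocalization.mem_map_algebraMap_iff (onePlus I B)] at hb
  obtain ⟨⟨⟨a, ha⟩, ⟨s, hs⟩⟩, h⟩ := hb
  change algebraMap B (Loc I B) b * algebraMap B (Loc I B) s = algebraMap B (Loc I B) a at h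
  rw [← map_mul, IsLocalization.eq_iff_exists (onePlus I B)] at h
  obtain ⟨⟨t, ht⟩, h⟩ := h
  change t * (b * s) = t * a at h
  -- `b * (t s) ∈ IB` and `t s ∈ 1 + IB`
  have hts : t * s ∈ onePlus I B := (onePlus I B).mul_mem ht hs
  have h1 : b * (t * s) ∈ I.map (algebraMap A B) := by
    have : b * (t * s) = t * a := by rw [← h]; ring
    rw [this]; exact Ideal.mul_mem_left _ _ ha
  have h2 : b = b * (t * s) - b * (t * s - 1) := by ring
  rw [h2]
  exact Ideal.sub_mem _ h1 (Ideal.mul_mem_left _ _ hts)

theorem QuotBij.loc (h : QuotBij I B) : QuotBij I (Loc I B) := by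
  constructor
  · intro l
    obtain ⟨b, hb⟩ := exists_sub_mem_loc I l
    obtain ⟨a, ha⟩ := h.surj b
    refine ⟨a, ?_⟩
    have : l - algebraMap A (Loc I B) a =
        (l - algebraMap B (Loc I B) b) + algebraMap B (Loc I B) (b - algebraMap A B a) := by
      rw [IsScalarTower.algebraMap_apply A B (Loc I B), map_sub]; ring
    rw [this]
    refine Ideal.add_mem _ hb ?_
    rw [← map_map_loc]
    exact Ideal.mem_map_of_mem _ ha
  · intro a ha
    rw [IsScalarTower.algebraMap_apply A B (Loc I B)] at ha
    exact h.inj a (mem_of_algebraMap_mem_loc I _ ha)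

end Loc


section Maps

variable {B : Type*} [CommRing B] [Algebra A B]
  {C : Type*} [CommRing C] [Algebra A C]

/-- Uniqueness of maps from an unramified neighbourhood into a ring in which `I` is radical. -/
theorem algHom_ext_of_quotBij [Algebra.FormallyUnramified A B] [Algebra.EssFiniteType A B]
    (hB : QuotBij I B) (hC : I.map (algebraMap A C) ≤ Ideal.jacobson ⊥) (f g : B →ₐ[A] C) :
    f = g := by
  refine Groth.Agent.Lib.Helper37.algHom_eq_of_unramified_of_sub_mem _ hC f g fun b => ?_
  obtain ⟨a, ha⟩ := hB.surj b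
  have hf : f (b - algebraMap A B a) ∈ I.map (algebraMap A C) := by
    have h2 : (I.map (algebraMap A B)).map f.toRingHom = I.map (algebraMap A C) := by
      rw [Ideal.map_map]; congr 1; exact f.comp_algebraMap
    rw [← h2]; exact Ideal.mem_map_of_mem _ ha
  have hg : g (b - algebraMap A B a) ∈ I.map (algebraMap A C) := by
    have h2 : (I.map (algebraMap A B)).map g.toRingHom = I.map (algebraMap A C) := by
      rw [Ideal.map_map]; congr 1; exact g.comp_algebraMap
    rw [← h2]; exact Ideal.mem_map_of_mem _ ha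
  have : f b - g b = f (b - algebraMap A B a) - g (b - algebraMap A B a) := by
    rw [map_sub, map_sub, f.commutes, g.commutes]; ring
  rw [this]
  exact Ideal.sub_mem _ hf hg

/-- Extension of a map `B → C` to `Loc I B → C` when `IC` is in the Jacobson radical. -/
noncomputable def locLift (hC : I.map (algebraMap A C) ≤ Ideal.jacobson ⊥) (g : B →ₐ[A] C) :
    Loc I B →ₐ[A] C :=
  { IsLocalization.lift (M := onePlus I B) (g := g.toRingHom)
      (fun y => isUnit_of_mem_onePlus I hC (map_mem_onePlus I g y.2)) with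
    commutes' := by
      intro a
      change IsLocalization.lift _ (algebraMap A (Loc I B) a) = _
      rw [IsScalarTower.algebraMap_apply A B (Loc I B), IsLocalization.lift_eq]
      exact g.commutes a }

@[simp]
theorem locLift_algebraMap (hC : I.map (algebraMap A C) ≤ Ideal.jacobson ⊥) (g : B →ₐ[A] C)
    (b : B) : locLift I hC g (algebraMap B (Loc I B) b) = g b :=
  IsLocalization.lift_eq _ b

/-- Uniqueness of maps out of `Loc I B`. -/
theorem locAlgHom_ext [Algebra.FormallyUnramified A B] [Algebra.EssFiniteType A B]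
    (hB : QuotBij I B) (hC : I.map (algebraMap A C) ≤ Ideal.jacobson ⊥)
    (f g : Loc I B →ₐ[A] C) : f = g := by
  have h1 : f.comp (IsScalarTower.toAlgHom A B (Loc I B)) =
      g.comp (IsScalarTower.toAlgHom A B (Loc I B)) := algHom_ext_of_quotBij I hB hC _ _
  apply AlgHom.coe_ringHom_injective
  apply IsLocalization.ringHom_ext (onePlus I B)
  ext b
  exact congr($h1 b)

end Maps

end Groth.Agent.Lib.Helper90.PairHz
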