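import Groth.Agent.Lib.Helper90.PairHzHfp

set_option autoImplicit false
set_option linter.style.haveILetI false
universe u

namespace Groth.Agent.Lib.Helper90.PairHz

/-- Uniqueness of maps out of a henselization into any algebra in which the ideal lands in the
Jacobson radical (no henselian hypothesis on the target). -/
theorem algHom_ext_of_isPairHenselization_of_le_jacobson {R : Type u} [CommRing R] (J : Ideal R)
    {B : Type u} [CommRing B] [Algebra R B] (hB : Hens2.IsPairHenselization R J B)
    {C : Type*} [CommRing C] [Algebra R C] (hC : J.map (algebraMap R C) ≤ Ideal.jacobson ⊥)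
    (u v : B →ₐ[R] C) : u = v := by
  classical
  obtain ⟨e⟩ := nonempty_algEquiv_Hz J hB
  ext b
  obtain ⟨R', _, _, hR', hx⟩ := exists_good_range J ({e b} : Finset _)
  obtain ⟨r', hr'⟩ := hx (e b) (Finset.mem_singleton_self _)
  haveI := hR'.1
  have h := algHom_ext_of_quotBij J (hR'.quotBij J) hC
    ((u.comp e.symm.toAlgHom).comp (ofGood J R' hR'))
    ((v.comp e.symm.toAlgHom).comp (ofGood J R' hR'))
  have := congr($h r')
  simp only [AlgHom.comp_apply] at this
  rw [hr'] at this
  simpa using this

end Groth.Agent.Lib.Helper90.PairHz
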