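import Groth.Agent.Lib.Helper90.PairHzRange
import Groth.Agent.Lib.Helper90.EtaleNbhdFactor
import Groth.Agent.Lib.Helper37.HenselFactor

set_option autoImplicit false
set_option linter.style.haveILetI false
universe u

open Polynomial

namespace Groth.Agent.Lib.Helper90.PairHz

/-- Transported form of the etale-local lifting of coprime factorizations: the factorization is
prescribed in a quotient `T/JT` identified with `R/J` via a ring map `φ : R → T`. -/
theorem exists_etale_factor_lift_transport {R : Type u} [CommRing R] (J : Ideal R) (f : R[X])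
    (hf : f.Monic) {T : Type*} [CommRing T] (JT : Ideal T) (φ : R →+* T) (hφJ : J ≤ JT.comap φ)
    (hbij : Function.Bijective (Ideal.quotientMap JT φ hφJ))
    (g₀ h₀ : (T ⧸ JT)[X]) (hg₀ : g₀.Monic) (hh₀ : h₀.Monic) (hcop : IsCoprime g₀ h₀)
    (hfgh : (f.map φ).map (Ideal.Quotient.mk JT) = g₀ * h₀) :
    ∃ (R' : Type u) (_ : CommRing R') (_ : Algebra R R'), Algebra.Etale R R' ∧
      Function.Bijective (algebraMap (R ⧸ J) (R' ⧸ J.map (algebraMap R R'))) ∧
      ∃ g' h' : R'[X], g'.Monic ∧ h'.Monic ∧ f.map (algebraMap R R') = g' * h' ∧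
        ∀ ψ : R' →+* T, ψ.comp (algebraMap R R') = φ →
          (g'.map ψ).map (Ideal.Quotient.mk JT) = g₀ ∧
          (h'.map ψ).map (Ideal.Quotient.mk JT) = h₀ := by
  set β := Ideal.quotientMap JT φ hφJ with hβ
  let e : (R ⧸ J) ≃+* (T ⧸ JT) := RingEquiv.ofBijective β hbij
  have he : ∀ x, β (e.symm x) = x := fun x => e.apply_symm_apply x
  have hβe : β.comp (e.symm : (T ⧸ JT) →+* (R ⧸ J)) = RingHom.id (T ⧸ JT) := by
    ext x; exact he x
  set gh := g₀.map (e.symm : (T ⧸ JT) →+* (R ⧸ J)) with hgh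
  set hh := h₀.map (e.symm : (T ⧸ JT) →+* (R ⧸ J)) with hhh
  have hgβ : gh.map β = g₀ := by rw [hgh, Polynomial.map_map, hβe, Polynomial.map_id]
  have hhβ : hh.map β = h₀ := by rw [hhh, Polynomial.map_map, hβe, Polynomial.map_id]
  have hcop' : IsCoprime gh hh := hcop.map (Polynomial.mapRingHom (e.symm : (T ⧸ JT) →+* (R ⧸ J)))
  have hβmk : β.comp (Ideal.Quotient.mk J) = (Ideal.Quotient.mk JT).comp φ :=
    RingHom.ext fun x => by simp only [RingHom.comp_apply, hβ, Ideal.quotientMap_mk]
  have hfgh' : f.map (Ideal.Quotient.mk J) = gh * hh := by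
    apply Polynomial.map_injective β hbij.1
    rw [Polynomial.map_map, hβmk, ← Polynomial.map_map, hfgh, Polynomial.map_mul, hgβ, hhβ]
  obtain ⟨R', _, _, hR', hbij', g', h', hg', hh', -, hfac, hgmap, hhmap⟩ :=
    Groth.Agent.Lib.Helper90.EtaleNbhd.exists_etale_lift_coprime_monic_factorization J f hf gh hh
      (hg₀.map _) (hh₀.map _) hcop' hfgh'
  refine ⟨R', inferInstance, inferInstance, hR', hbij', g', h', hg', hh', hfac, fun ψ hψ => ?_⟩
  have hle : J.map (algebraMap R R') ≤ JT.comap ψ := by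
    rw [Ideal.map_le_iff_le_comap, Ideal.comap_comap, hψ]
    exact hφJ
  set β' := Ideal.quotientMap JT ψ hle with hβ'
  have hβ'mk : β'.comp (Ideal.Quotient.mk (J.map (algebraMap R R'))) =
      (Ideal.Quotient.mk JT).comp ψ :=
    RingHom.ext fun x => by simp only [RingHom.comp_apply, hβ', Ideal.quotientMap_mk]
  have hβ'alg : β'.comp (algebraMap (R ⧸ J) (R' ⧸ J.map (algebraMap R R'))) = β := by
    ext x
    simp only [RingHom.comp_apply, Ideal.Quotient.algebraMap_quotient_map_quotient, hβ', hβ,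
      Ideal.quotientMap_mk]
    rw [← RingHom.comp_apply ψ, hψ]
  constructor
  · rw [Polynomial.map_map, ← hβ'mk, ← Polynomial.map_map, hgmap, Polynomial.map_map, hβ'alg, hgβ]
  · rw [Polynomial.map_map, ← hβ'mk, ← Polynomial.map_map, hhmap, Polynomial.map_map, hβ'alg, hhβ]


variable {A : Type u} [CommRing A] (I : Ideal A)

theorem QuotBij.trans {B R' : Type*} [CommRing B] [Algebra A B] [CommRing R'] [Algebra B R']
    [Algebra A R'] [IsScalarTower A B R'] (hB : QuotBij I B)
    (hR' : QuotBij (I.map (algebraMap A B)) R') : QuotBij I R' := by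
  have hmap : (I.map (algebraMap A B)).map (algebraMap B R') = I.map (algebraMap A R') := by
    rw [Ideal.map_map, ← IsScalarTower.algebraMap_eq]
  constructor
  · intro r
    obtain ⟨b, hb⟩ := hR'.surj r
    obtain ⟨a, ha⟩ := hB.surj b
    refine ⟨a, ?_⟩
    have : r - algebraMap A R' a = (r - algebraMap B R' b) + algebraMap B R' (b - algebraMap A B a) := by
      rw [IsScalarTower.algebraMap_apply A B R', map_sub]; ring
    rw [this, ← hmap]
    exact Ideal.add_mem _ hb (Ideal.mem_map_of_mem _ ha)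
  · intro a ha
    rw [IsScalarTower.algebraMap_apply A B R', ← hmap] at ha
    exact hB.inj a (hR'.inj _ ha)

theorem quotientMap_bijective_of_quotBij {B T : Type*} [CommRing B] [Algebra A B] [CommRing T]
    [Algebra A T] (hB : QuotBij I B) (hT : QuotBij I T) (φ : B →ₐ[A] T)
    (hle : I.map (algebraMap A B) ≤ (I.map (algebraMap A T)).comap φ.toRingHom) :
    Function.Bijective (Ideal.quotientMap (I.map (algebraMap A T)) φ.toRingHom hle) := by
  constructor
  · rw [injective_iff_map_eq_zero]
    intro x hx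
    obtain ⟨b, rfl⟩ := Ideal.Quotient.mk_surjective x
    rw [Ideal.quotientMap_mk, Ideal.Quotient.eq_zero_iff_mem] at hx
    obtain ⟨a, ha⟩ := hB.surj b
    have h1 : φ (b - algebraMap A B a) ∈ I.map (algebraMap A T) := map_mem_map_of_algHom I φ ha
    have h2 : algebraMap A T a ∈ I.map (algebraMap A T) := by
      have : algebraMap A T a = φ b - φ (b - algebraMap A B a) := by
        rw [map_sub, φ.commutes]; ring
      rw [this]
      exact Ideal.sub_mem _ hx h1
    have h3 := hT.inj a h2
    rw [Ideal.Quotient.eq_zero_iff_mem]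
    have : b = (b - algebraMap A B a) + algebraMap A B a := by ring
    rw [this]
    exact Ideal.add_mem _ ha (Ideal.mem_map_of_mem _ h3)
  · intro y
    obtain ⟨t, rfl⟩ := Ideal.Quotient.mk_surjective y
    obtain ⟨a, ha⟩ := hT.surj t
    refine ⟨Ideal.Quotient.mk _ (algebraMap A B a), ?_⟩
    rw [Ideal.quotientMap_mk]
    change Ideal.Quotient.mk _ (φ (algebraMap A B a)) = _
    rw [φ.commutes]
    exact (Ideal.Quotient.eq.mpr ha).symm

/-- **The direct limit is henselian** along `I`. -/
theorem henselianRing_Hz : HenselianRing (Hz I) (I.map (algebraMap A (Hz I))) := by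
  apply Groth.Agent.Lib.Helper37.henselianRing_of_factor_lift _ (map_le_jacobson_Hz I)
  intro f hf g₀ h₀ hg₀ hh₀ hcop hfgh
  classical
  obtain ⟨B, _, _, hB, hrange⟩ := exists_good_range I f.coeffs
  have hlifts : f ∈ Polynomial.lifts (ofGood I B hB).toRingHom := by
    rw [Polynomial.lifts_iff_coeff_lifts]
    intro n
    by_cases h0 : f.coeff n = 0
    · exact ⟨0, by rw [map_zero, h0]⟩
    · exact hrange _ (Polynomial.coeff_mem_coeffs h0)
  obtain ⟨p₀, hp₀map, -, hp₀monic⟩ := Polynomial.lifts_and_natDegree_eq_and_monic hlifts hf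
  have hle : I.map (algebraMap A B) ≤
      (I.map (algebraMap A (Hz I))).comap (ofGood I B hB).toRingHom :=
    fun x hx => map_mem_map_of_algHom I (ofGood I B hB) hx
  have hbij := quotientMap_bijective_of_quotBij I (hB.quotBij I) (quotBij_Hz I) (ofGood I B hB) hle
  rw [← hp₀map] at hfgh
  obtain ⟨R', _, _, hR'et, hbij', g', h', hg', hh', hfac, hψ⟩ :=
    exists_etale_factor_lift_transport (I.map (algebraMap A B)) p₀ hp₀monic
      (I.map (algebraMap A (Hz I))) (ofGood I B hB).toRingHom hle hbij g₀ h₀ hg₀ hh₀ hcop hfgh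
  letI : Algebra A R' := Algebra.compHom R' (algebraMap A B)
  haveI : IsScalarTower A B R' := IsScalarTower.of_algebraMap_eq (fun _ => rfl)
  haveI := hB.1
  haveI : Algebra.Etale A R' := Algebra.Etale.comp A B R'
  have hR'q : QuotBij I R' := (hB.quotBij I).trans I ((quotBij_iff _).mpr hbij')
  have hR' : IsGood I R' := ⟨inferInstance, (quotBij_iff I).mp hR'q⟩
  have hcomp : (ofGood I R' hR').comp (IsScalarTower.toAlgHom A B R') = ofGood I B hB :=
    algHom_ext_Hz I hB _ _
  have hcomp' : (ofGood I R' hR').toRingHom.comp (algebraMap B R') = (ofGood I B hB).toRingHom := by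
    ext x; exact congr($hcomp x)
  obtain ⟨hg₀', hh₀'⟩ := hψ (ofGood I R' hR').toRingHom hcomp'
  refine ⟨g'.map (ofGood I R' hR').toRingHom, h'.map (ofGood I R' hR').toRingHom,
    hg'.map _, hh'.map _, ?_, hg₀', hh₀'⟩
  rw [← Polynomial.map_mul, ← hfac, Polynomial.map_map, hcomp', hp₀map]

end Groth.Agent.Lib.Helper90.PairHz
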