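import Groth.Agent.Lib.Helper90.PairHzBasic

/-!
# Henselization of a pair: a small index of presented good neighbourhoods (helper90)
-/

set_option autoImplicit false
set_option linter.style.haveILetI false
universe u

namespace Groth.Agent.Lib.Helper90.PairHz

variable {A : Type u} [CommRing A] (I : Ideal A)

theorem map_mem_map_of_algHom {B B' : Type*} [CommRing B] [Algebra A B] [CommRing B'] [Algebra A B']
    (g : B →ₐ[A] B') {b : B} (hb : b ∈ I.map (algebraMap A B)) :
    g b ∈ I.map (algebraMap A B') := by
  have h2 : (I.map (algebraMap A B)).map g.toRingHom = I.map (algebraMap A B') := by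
    rw [Ideal.map_map]; congr 1; exact g.comp_algebraMap
  rw [← h2]; exact Ideal.mem_map_of_mem _ hb

theorem QuotBij.of_algEquiv {B B' : Type*} [CommRing B] [Algebra A B] [CommRing B'] [Algebra A B']
    (e : B ≃ₐ[A] B') (h : QuotBij I B) : QuotBij I B' := by
  constructor
  · intro c'
    obtain ⟨a, ha⟩ := h.surj (e.symm c')
    refine ⟨a, ?_⟩
    have := map_mem_map_of_algHom I e.toAlgHom ha
    simpa using this
  · intro a ha
    have := map_mem_map_of_algHom I e.symm.toAlgHom ha
    exact h.inj a (by simpa using this)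

theorem IsGood.of_algEquiv {B B' : Type u} [CommRing B] [Algebra A B] [CommRing B'] [Algebra A B']
    (e : B ≃ₐ[A] B') (h : IsGood I B) : IsGood I B' := by
  haveI := h.1
  exact ⟨Algebra.Etale.of_equiv e, (quotBij_iff I).mp ((h.quotBij I).of_algEquiv I e)⟩

/-- Finite presentations: a number of variables and a finite set of relations. -/
structure Pres (A : Type u) [CommRing A] : Type u where
  n : ℕ
  s : Finset (MvPolynomial (Fin n) A)

/-- The presented algebra. -/
abbrev Pres.Ring (j : Pres A) : Type u :=
  MvPolynomial (Fin j.n) A ⧸ Ideal.span (j.s : Set (MvPolynomial (Fin j.n) A))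

theorem exists_pres (B : Type u) [CommRing B] [Algebra A B] [Algebra.FinitePresentation A B] :
    ∃ j : Pres A, Nonempty (j.Ring ≃ₐ[A] B) := by
  classical
  obtain ⟨n, f, hf, hker⟩ := Algebra.FinitePresentation.out (R := A) (A := B)
  obtain ⟨s, hs⟩ := hker
  refine ⟨⟨n, s⟩, ⟨?_⟩⟩
  have e := Ideal.quotientKerAlgEquivOfSurjective hf
  refine (Ideal.quotientEquivAlgOfEq A ?_).trans e
  exact hs

/-- The index set: presented good neighbourhoods. -/
structure GIdx : Type u where
  /-- the presentation -/
  pres : Pres A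
  /-- the presented algebra is a good neighbourhood -/
  good : IsGood I pres.Ring

theorem exists_gidx (B : Type u) [CommRing B] [Algebra A B] (h : IsGood I B) :
    ∃ j : GIdx I, Nonempty (j.1.Ring ≃ₐ[A] B) := by
  haveI := h.1
  obtain ⟨j, ⟨e⟩⟩ := exists_pres (A := A) B
  exact ⟨⟨j, h.of_algEquiv I e.symm⟩, ⟨e⟩⟩

/-- `A` itself is good. -/
theorem isGood_self : IsGood I A := by
  refine ⟨inferInstance, (quotBij_iff I).mp ⟨fun c => ⟨c, by simp⟩, fun a ha => ?_⟩⟩
  rwa [Algebra.algebraMap_self, Ideal.map_id] at ha

instance : Nonempty (GIdx I) := by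
  obtain ⟨j, -⟩ := exists_gidx I A (isGood_self I)
  exact ⟨j⟩

end Groth.Agent.Lib.Helper90.PairHz
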