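import Groth.Agent.Lib.Helper90.PairHzTower

set_option autoImplicit false
set_option linter.style.haveILetI false
universe u

open TensorProduct

namespace Groth.Agent.Lib.Helper90.PairHz

/-- Etale lifting over a henselian pair, relative version: an `A`-algebra map from an etale
`A`-algebra to `C/J` lifts to `C` when `(C, J)` is henselian. -/
theorem exists_algHom_lift_of_etale {A C R : Type*} [CommRing A] [CommRing C] [CommRing R]
    [Algebra A C] [Algebra A R] [Algebra.Etale A R] (J : Ideal C) [HenselianRing C J]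
    (σ₀ : R →ₐ[A] C ⧸ J) : ∃ τ : R →ₐ[A] C, ∀ r, Ideal.Quotient.mk J (τ r) = σ₀ r := by
  let σ : C ⊗[A] R →ₐ[C] C ⧸ J :=
    Algebra.TensorProduct.lift (Algebra.ofId C (C ⧸ J)) σ₀ (fun _ _ => .all _ _)
  obtain ⟨τ, hτ⟩ := Groth.Agent.Lib.Helper37.exists_lift_of_etale J σ
  refine ⟨(τ.restrictScalars A).comp Algebra.TensorProduct.includeRight, fun r => ?_⟩
  have := congr($hτ ((1 : C) ⊗ₜ[A] r))
  change Ideal.Quotient.mk J (τ ((1 : C) ⊗ₜ[A] r)) = σ ((1 : C) ⊗ₜ[A] r) at this
  refine this.trans ?_
  simp [σ]

/-- The henselization of `(R, IR)` is henselian along `I B` (tower form of the ideal). -/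
theorem henselianRing_tower {A : Type u} [CommRing A] (I : Ideal A)
    {R : Type u} [CommRing R] [Algebra A R]
    {B : Type u} [CommRing B] [Algebra R B] [Algebra A B] [IsScalarTower A R B]
    (hB : Hens2.IsPairHenselization R (I.map (algebraMap A R)) B) :
    HenselianRing B (I.map (algebraMap A B)) := by
  have hmap : (I.map (algebraMap A R)).map (algebraMap R B) = I.map (algebraMap A B) := by
    rw [Ideal.map_map, ← IsScalarTower.algebraMap_eq]
  exact hmap ▸ hB.1

end Groth.Agent.Lib.Helper90.PairHz
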