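import Groth.Agent.Lib.Helper90.PairHzLift
import Groth.Agent.Lib.Helper37.Hz9

set_option autoImplicit false
set_option linter.style.haveILetI false
universe u

namespace Groth.Agent.Lib.Helper90.PairHz

open IsLocalRing

/-- Being a henselization of a pair is invariant under algebra isomorphism. -/
theorem isPairHenselization_of_algEquiv {A : Type u} [CommRing A] (I : Ideal A)
    {B B' : Type u} [CommRing B] [Algebra A B] [CommRing B'] [Algebra A B'] (e : B ≃ₐ[A] B')
    (hB : Hens2.IsPairHenselization A I B) : Hens2.IsPairHenselization A I B' := by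
  have hmap : (I.map (algebraMap A B)).map (e : B →+* B') = I.map (algebraMap A B') := by
    rw [Ideal.map_map]
    congr 1
    ext a
    exact e.commutes a
  refine ⟨?_, fun C _ J f hCJ hIJ => ?_⟩
  · have h1 := hB.1
    refine ⟨?_, ?_⟩
    · intro x hx
      rw [← hmap] at hx
      have hx' : e.symm x ∈ I.map (algebraMap A B) := by
        have := Ideal.mem_map_of_mem (e.symm : B' →+* B) hx
        rw [Ideal.map_map] at this
        have hid : ((e.symm : B' →+* B).comp (e : B →+* B')) = RingHom.id B := by
          ext b; exact e.symm_apply_apply b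
        rwa [hid, Ideal.map_id] at this
      have h2 := h1.jac hx'
      rw [Ideal.mem_jacobson_bot] at h2 ⊢
      intro y
      have := h2 (e.symm y)
      have h3 : e (e.symm x * e.symm y + 1) = x * y + 1 := by simp
      rw [← h3]
      exact this.map e
    · intro f hf a₀ h₁ h₂
      let f' : Polynomial B := f.map (e.symm : B' →+* B)
      have hf' : f'.Monic := hf.map _
      have hev : ∀ (p : Polynomial B') (b : B'), (p.map (e.symm : B' →+* B)).eval (e.symm b) =
          e.symm (p.eval b) := by
        intro p b
        rw [Polynomial.eval_map]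
        exact (Polynomial.hom_eval₂ p (RingHom.id B') (e.symm : B' →+* B) b).symm.trans
          (by simp [Polynomial.eval₂_id])
      have hmem : ∀ b : B', b ∈ I.map (algebraMap A B') → e.symm b ∈ I.map (algebraMap A B) := by
        intro b hb
        rw [← hmap] at hb
        have := Ideal.mem_map_of_mem (e.symm : B' →+* B) hb
        rw [Ideal.map_map] at this
        have hid : ((e.symm : B' →+* B).comp (e : B →+* B')) = RingHom.id B := by
          ext b; exact e.symm_apply_apply b
        rwa [hid, Ideal.map_id] at this
      have h₁' : f'.eval (e.symm a₀) ∈ I.map (algebraMap A B) := by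
        rw [hev]; exact hmem _ h₁
      have h₂' : IsUnit (Ideal.Quotient.mk (I.map (algebraMap A B))
          (f'.derivative.eval (e.symm a₀))) := by
        rw [Polynomial.derivative_map, hev]
        obtain ⟨u, hu⟩ := h₂
        obtain ⟨v, hv⟩ := Ideal.Quotient.mk_surjective (↑u⁻¹ : B' ⧸ I.map (algebraMap A B'))
        have huv : f.derivative.eval a₀ * v - 1 ∈ I.map (algebraMap A B') := by
          rw [← Ideal.Quotient.eq_zero_iff_mem, map_sub, map_mul, hv, ← hu, map_one,
            Units.mul_inv, sub_self]
        have := hmem _ huv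
        rw [map_sub, map_mul, map_one, ← Ideal.Quotient.eq_zero_iff_mem, map_sub, map_mul,
          map_one, sub_eq_zero] at this
        exact IsUnit.of_mul_eq_one _ this
      obtain ⟨a, ha, haa⟩ := h1.is_henselian f' hf' (e.symm a₀) h₁' h₂'
      refine ⟨e a, ?_, ?_⟩
      · have := hev f (e a)
        rw [AlgEquiv.symm_apply_apply] at this
        have hr : f'.eval a = 0 := ha
        rw [hr] at this
        have h4 := congrArg e this
        rw [map_zero, AlgEquiv.apply_symm_apply] at h4
        exact h4.symm
      · have := Ideal.mem_map_of_mem (e : B →+* B') haa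
        rw [hmap] at this
        simpa using this
  · obtain ⟨g, hg, hguniq⟩ := hB.2 C J f hCJ hIJ
    refine ⟨g.comp (e.symm : B' →+* B), ?_, ?_⟩
    · ext a
      change g (e.symm (algebraMap A B' a)) = f a
      rw [e.symm.commutes]
      exact congr($hg a)
    · intro g' hg'
      have := hguniq (g'.comp (e : B →+* B')) (by
        ext a
        change g' (e (algebraMap A B a)) = f a
        rw [e.commutes]
        exact congr($hg' a))
      rw [← this]
      ext b
      simp

section Local

variable (A : Type u) [CommRing A] [IsLocalRing A]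

/-- A pair-henselization of a local ring along its maximal ideal has `mB` as maximal ideal. -/
theorem map_maximalIdeal_eq_of_quotBij {B : Type*} [CommRing B] [IsLocalRing B] [Algebra A B]
    (h : QuotBij (maximalIdeal A) B) :
    (maximalIdeal A).map (algebraMap A B) = maximalIdeal B := by
  have hbij := (quotBij_iff (maximalIdeal A)).mp h
  let e : (A ⧸ maximalIdeal A) ≃+* (B ⧸ (maximalIdeal A).map (algebraMap A B)) :=
    RingEquiv.ofBijective _ hbij
  have hfield : IsField (B ⧸ (maximalIdeal A).map (algebraMap A B)) :=
    e.symm.toMulEquiv.isField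
      ((Ideal.Quotient.maximal_ideal_iff_isField_quotient (maximalIdeal A)).mp inferInstance)
  have hmax : ((maximalIdeal A).map (algebraMap A B)).IsMaximal :=
    (Ideal.Quotient.maximal_ideal_iff_isField_quotient _).mpr hfield
  exact IsLocalRing.eq_maximalIdeal hmax

/-- pair-henselization ⇒ local henselization. -/
theorem isHenselization_of_isPairHenselization (B : Type u) [CommRing B] [IsLocalRing B]
    [Algebra A B] [IsLocalHom (algebraMap A B)]
    (hB : Hens2.IsPairHenselization A (maximalIdeal A) B) : Hensel.IsHenselization A B := by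
  have hq := quotBij_of_isPairHenselization _ hB
  have hm := map_maximalIdeal_eq_of_quotBij A hq
  have h1 : HenselianRing B (maximalIdeal B) := hm ▸ hB.1
  refine ⟨{ is_henselian := fun f hf a₀ h₁ h₂ => h1.is_henselian f hf a₀ h₁ (h₂.map _) }, ?_⟩
  intro T _ _ f hf
  refine hB.2 T (maximalIdeal T) f inferInstance ?_
  rw [Ideal.map_le_iff_le_comap]
  intro a ha
  rw [Ideal.mem_comap, IsLocalRing.mem_maximalIdeal, mem_nonunits_iff]
  intro hu
  exact ha (hf.map_nonunit a hu)

/-- If `A/I ≅ B/IB` and `I` is maximal then `IB` is maximal. -/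
theorem isMaximal_map_of_quotBij {A' : Type*} [CommRing A'] (I : Ideal A') [I.IsMaximal]
    {B : Type*} [CommRing B] [Algebra A' B] (h : QuotBij I B) :
    (I.map (algebraMap A' B)).IsMaximal := by
  have hbij := (quotBij_iff I).mp h
  let e : (A' ⧸ I) ≃+* (B ⧸ I.map (algebraMap A' B)) := RingEquiv.ofBijective _ hbij
  have hfield : IsField (B ⧸ I.map (algebraMap A' B)) :=
    e.symm.toMulEquiv.isField
      ((Ideal.Quotient.maximal_ideal_iff_isField_quotient I).mp inferInstance)
  exact (Ideal.Quotient.maximal_ideal_iff_isField_quotient _).mpr hfield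

instance isLocalRing_Hz : IsLocalRing (Hz (maximalIdeal A)) := by
  have hmax := isMaximal_map_of_quotBij (maximalIdeal A) (quotBij_Hz (maximalIdeal A))
  refine IsLocalRing.of_unique_max_ideal ⟨_, hmax, fun N hN => ?_⟩
  have h1 : (maximalIdeal A).map (algebraMap A (Hz (maximalIdeal A))) ≤ N :=
    (map_le_jacobson_Hz (maximalIdeal A)).trans (by
      rw [Ideal.jacobson]
      exact sInf_le ⟨bot_le, hN⟩)
  exact (hmax.eq_of_le hN.ne_top h1).symm

theorem maximalIdeal_Hz : maximalIdeal (Hz (maximalIdeal A)) =
    (maximalIdeal A).map (algebraMap A (Hz (maximalIdeal A))) :=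
  (IsLocalRing.eq_maximalIdeal
    (isMaximal_map_of_quotBij (maximalIdeal A) (quotBij_Hz (maximalIdeal A)))).symm

instance isLocalHom_Hz : IsLocalHom (algebraMap A (Hz (maximalIdeal A))) := by
  refine ⟨fun a ha => ?_⟩
  by_contra hna
  have h1 : a ∈ maximalIdeal A := (IsLocalRing.mem_maximalIdeal a).mpr hna
  have h2 : algebraMap A (Hz (maximalIdeal A)) a ∈ maximalIdeal (Hz (maximalIdeal A)) := by
    rw [maximalIdeal_Hz]
    exact Ideal.mem_map_of_mem _ h1
  exact (IsLocalRing.mem_maximalIdeal _).mp h2 ha

theorem isHenselization_Hz : Hensel.IsHenselization A (Hz (maximalIdeal A)) :=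
  isHenselization_of_isPairHenselization A _ (isPairHenselization_Hz _)

/-- local henselization ⇒ pair-henselization. -/
theorem isPairHenselization_of_isHenselization (B : Type u) [CommRing B] [IsLocalRing B]
    [Algebra A B] [IsLocalHom (algebraMap A B)] [hB : Hensel.IsHenselization A B] :
    Hens2.IsPairHenselization A (maximalIdeal A) B := by
  obtain ⟨e⟩ := Groth.Agent.Lib.Helper37.Hz.nonempty_algEquiv_Hens A B
  haveI := isHenselization_Hz A
  obtain ⟨e'⟩ := Groth.Agent.Lib.Helper37.Hz.nonempty_algEquiv_Hens A (Hz (maximalIdeal A))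
  exact isPairHenselization_of_algEquiv _ (e'.trans e.symm) (isPairHenselization_Hz _)

end Local

end Groth.Agent.Lib.Helper90.PairHz
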