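import Groth.Agent.Lib.Helper90.PairHzLimit

/-!
# Henselization of a pair: basic properties of the direct limit (helper90)
-/

set_option autoImplicit false
set_option linter.style.haveILetI false
universe u

namespace Groth.Agent.Lib.Helper90.PairHz

variable {A : Type u} [CommRing A] (I : Ideal A)

theorem tr_mem_map {j j' : GIdx I} (h : j ≤ j') {l : GIdx.L I j}
    (hl : l ∈ I.map (algebraMap A (GIdx.L I j))) :
    tr I j j' h l ∈ I.map (algebraMap A (GIdx.L I j')) :=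
  map_mem_map_of_algHom I (tr I j j' h) hl

theorem mem_map_Hz {z : Hz I} : z ∈ I.map (algebraMap A (Hz I)) ↔
    ∃ (j : GIdx I) (l : GIdx.L I j), l ∈ I.map (algebraMap A (GIdx.L I j)) ∧ ofL I j l = z := by
  constructor
  · intro hz
    refine Submodule.span_induction (p := fun z _ => ∃ (j : GIdx I) (l : GIdx.L I j),
      l ∈ I.map (algebraMap A (GIdx.L I j)) ∧ ofL I j l = z) ?_ ?_ ?_ ?_ hz
    · rintro _ ⟨i, hi, rfl⟩
      let j₀ : GIdx I := Classical.arbitrary _
      exact ⟨j₀, algebraMap A _ i, Ideal.mem_map_of_mem _ hi, (algebraMap_Hz I j₀ i).symm⟩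
    · exact ⟨Classical.arbitrary _, 0, Ideal.zero_mem _, map_zero _⟩
    · rintro x y _ _ ⟨j₁, l₁, h₁, rfl⟩ ⟨j₂, l₂, h₂, rfl⟩
      obtain ⟨k, h1k, h2k⟩ := exists_ge_ge j₁ j₂
      refine ⟨k, tr I j₁ k h1k l₁ + tr I j₂ k h2k l₂,
        Ideal.add_mem _ (tr_mem_map I h1k h₁) (tr_mem_map I h2k h₂), ?_⟩
      rw [map_add, ofL_tr, ofL_tr]
    · rintro a x _ ⟨j₁, l₁, h₁, rfl⟩
      obtain ⟨j₂, l₂, rfl⟩ := exists_ofL I a
      obtain ⟨k, h1k, h2k⟩ := exists_ge_ge j₁ j₂
      refine ⟨k, tr I j₂ k h2k l₂ * tr I j₁ k h1k l₁,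
        Ideal.mul_mem_left _ _ (tr_mem_map I h1k h₁), ?_⟩
      rw [map_mul, ofL_tr, ofL_tr, smul_eq_mul]
  · rintro ⟨j, l, hl, rfl⟩
    exact map_mem_map_of_algHom I (ofLₐ I j) hl

theorem map_le_jacobson_Hz : I.map (algebraMap A (Hz I)) ≤ Ideal.jacobson ⊥ := by
  intro x hx
  rw [Ideal.mem_jacobson_bot]
  intro y
  have hz : x * y ∈ I.map (algebraMap A (Hz I)) := Ideal.mul_mem_right _ _ hx
  obtain ⟨j, l, hl, hlz⟩ := (mem_map_Hz I).mp hz
  have hu : IsUnit (l * 1 + 1) := Ideal.mem_jacobson_bot.mp (map_le_jacobson_loc I hl) 1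
  rw [mul_one] at hu
  have := hu.map (ofL I j)
  rwa [map_add, map_one, hlz] at this

theorem quotBij_L (j : GIdx I) : QuotBij I (GIdx.L I j) := (j.2.quotBij I).loc I

theorem quotBij_Hz : QuotBij I (Hz I) := by
  constructor
  · intro z
    obtain ⟨j, l, rfl⟩ := exists_ofL I z
    obtain ⟨a, ha⟩ := (quotBij_L I j).surj l
    refine ⟨a, (mem_map_Hz I).mpr ⟨j, _, ha, ?_⟩⟩
    rw [map_sub, algebraMap_Hz I j a]
  · intro a ha
    obtain ⟨j, l, hl, hla⟩ := (mem_map_Hz I).mp ha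
    rw [algebraMap_Hz I j a, ← sub_eq_zero, ← map_sub] at hla
    obtain ⟨j', hjj', h0⟩ := ofL_eq_zero I hla
    rw [map_sub, AlgHom.commutes, sub_eq_zero] at h0
    apply (quotBij_L I j').inj a
    rw [← h0]
    exact tr_mem_map I hjj' hl

/-- Uniqueness of `A`-algebra maps from a good neighbourhood into the henselization. -/
theorem algHom_ext_Hz {B : Type u} [CommRing B] [Algebra A B] (hB : IsGood I B)
    (f g : B →ₐ[A] Hz I) : f = g := by
  haveI := hB.1
  exact algHom_ext_of_quotBij I (hB.quotBij I) (map_le_jacobson_Hz I) f g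

/-- The canonical map from a good neighbourhood to the henselization. -/
noncomputable def ofGood (B : Type u) [CommRing B] [Algebra A B] (hB : IsGood I B) :
    B →ₐ[A] Hz I :=
  let j := (exists_gidx I B hB).choose
  let e : j.1.Ring ≃ₐ[A] B := (exists_gidx I B hB).choose_spec.some
  ((ofLₐ I j).comp (IsScalarTower.toAlgHom A j.1.Ring (GIdx.L I j))).comp e.symm.toAlgHom

/-- The canonical map from a presented good neighbourhood. -/
theorem ofGood_ring (j : GIdx I) (b : j.1.Ring) :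
    ofGood I j.1.Ring j.2 b = ofL I j (algebraMap _ _ b) := by
  have : ofGood I j.1.Ring j.2 =
      (ofLₐ I j).comp (IsScalarTower.toAlgHom A j.1.Ring (GIdx.L I j)) := algHom_ext_Hz I j.2 _ _
  rw [this]; rfl

end Groth.Agent.Lib.Helper90.PairHz
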