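import Groth.Agent.Lib.Helper90.PairHzLocal
import Groth.Agent.Lib.Helper37.HenselQuot

set_option autoImplicit false
set_option linter.style.haveILetI false
universe u

namespace Groth.Agent.Lib.Helper90.PairHz

/-- **Henselization commutes with quotients**: if `H` is a henselization of `(R, J)` then
`H/KH` is a henselization of `(R/K, J(R/K))`. -/
theorem isPairHenselization_quotient {R : Type u} [CommRing R] (J : Ideal R) {H : Type u}
    [CommRing H] [Algebra R H] (hH : Hens2.IsPairHenselization R J H) (K : Ideal R) :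
    Hens2.IsPairHenselization (R ⧸ K) (J.map (Ideal.Quotient.mk K))
      (H ⧸ K.map (algebraMap R H)) := by
  have hcomp : (algebraMap (R ⧸ K) (H ⧸ K.map (algebraMap R H))).comp (Ideal.Quotient.mk K) =
      (Ideal.Quotient.mk (K.map (algebraMap R H))).comp (algebraMap R H) := rfl
  have hideal : (J.map (Ideal.Quotient.mk K)).map
      (algebraMap (R ⧸ K) (H ⧸ K.map (algebraMap R H))) =
      (J.map (algebraMap R H)).map (Ideal.Quotient.mk (K.map (algebraMap R H))) := by
    rw [Ideal.map_map, Ideal.map_map, hcomp]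
  refine ⟨?_, fun C _ J' f hCJ hIJ => ?_⟩
  · rw [hideal]
    haveI := hH.1
    exact Groth.Agent.Lib.Helper37.henselianRing_map_of_surjective _
      Ideal.Quotient.mk_surjective _
  · have hIJ₀ : J.map (f.comp (Ideal.Quotient.mk K)) ≤ J' := by
      rw [← Ideal.map_map]; exact hIJ
    obtain ⟨g₀, hg₀, hg₀uniq⟩ := hH.2 C J' (f.comp (Ideal.Quotient.mk K)) hCJ hIJ₀
    have hkill : ∀ x ∈ K.map (algebraMap R H), g₀ x = 0 := by
      intro x hx
      have hle : K.map (algebraMap R H) ≤ RingHom.ker g₀ := by
        rw [Ideal.map_le_iff_le_comap]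
        intro k hk
        change g₀ (algebraMap R H k) = 0
        have := congr($hg₀ k)
        change g₀ (algebraMap R H k) = f (Ideal.Quotient.mk K k) at this
        rw [this, Ideal.Quotient.eq_zero_iff_mem.mpr hk, map_zero]
      exact hle hx
    refine ⟨Ideal.Quotient.lift _ g₀ hkill, ?_, ?_⟩
    · apply Ideal.Quotient.ringHom_ext
      rw [RingHom.comp_assoc, hcomp, ← RingHom.comp_assoc, Ideal.Quotient.lift_comp_mk]
      exact hg₀
    · intro g' hg'
      apply Ideal.Quotient.ringHom_ext
      rw [Ideal.Quotient.lift_comp_mk]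
      apply hg₀uniq
      change (g'.comp (Ideal.Quotient.mk _)).comp (algebraMap R H) = _
      rw [RingHom.comp_assoc, ← hcomp, ← RingHom.comp_assoc, hg']

/-- Transport of the henselization property along an isomorphism of base rings. -/
theorem isPairHenselization_of_ringEquiv {R' R : Type u} [CommRing R'] [CommRing R]
    (e : R' ≃+* R) (J' : Ideal R') {B : Type u} [CommRing B] [Algebra R B] [Algebra R' B]
    (halg : algebraMap R' B = (algebraMap R B).comp (e : R' →+* R))
    (hB : Hens2.IsPairHenselization R (J'.map (e : R' →+* R)) B) :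
    Hens2.IsPairHenselization R' J' B := by
  have hideal : J'.map (algebraMap R' B) = (J'.map (e : R' →+* R)).map (algebraMap R B) := by
    rw [Ideal.map_map, halg]
  refine ⟨hideal ▸ hB.1, fun C _ JC f hC hIJ => ?_⟩
  have h1 : (J'.map (e : R' →+* R)).map (f.comp (e.symm : R →+* R')) ≤ JC := by
    rw [Ideal.map_map]
    have : (f.comp (e.symm : R →+* R')).comp (e : R' →+* R) = f := by
      ext x; simp
    rw [this]; exact hIJ
  obtain ⟨g, hg, hguniq⟩ := hB.2 C JC (f.comp (e.symm : R →+* R')) hC h1
  simp only at hg hguniq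
  refine ⟨g, ?_, ?_⟩
  · change g.comp (algebraMap R' B) = f
    rw [halg, ← RingHom.comp_assoc, hg]
    ext x; simp
  · intro g' hg'
    change g'.comp (algebraMap R' B) = f at hg'
    apply hguniq
    rw [halg, ← RingHom.comp_assoc] at hg'
    rw [← hg']
    ext x; simp

/-- General form of "henselization commutes with quotients": if `π : R₁ → R` and `φ : H → B`
are surjective, compatible, and `ker φ = (ker π) H`, then `B` is a henselization of
`(R, J₁ R)` as soon as `H` is one of `(R₁, J₁)`. -/
theorem isPairHenselization_of_surjective {R₁ : Type u} [CommRing R₁] (J₁ : Ideal R₁)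
    {H : Type u} [CommRing H] [Algebra R₁ H] (hH : Hens2.IsPairHenselization R₁ J₁ H)
    {R : Type u} [CommRing R] (π : R₁ →+* R) (hπ : Function.Surjective π)
    {B : Type u} [CommRing B] [Algebra R B] (φ : H →+* B) (hφ : Function.Surjective φ)
    (hker : RingHom.ker φ = (RingHom.ker π).map (algebraMap R₁ H))
    (hcomp : (algebraMap R B).comp π = φ.comp (algebraMap R₁ H)) :
    Hens2.IsPairHenselization R (J₁.map π) B := by
  have hideal : (J₁.map π).map (algebraMap R B) = (J₁.map (algebraMap R₁ H)).map φ := by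
    rw [Ideal.map_map, Ideal.map_map, hcomp]
  refine ⟨?_, fun C _ JC f hCJ hIJ => ?_⟩
  · rw [hideal]
    haveI := hH.1
    exact Groth.Agent.Lib.Helper37.henselianRing_map_of_surjective φ hφ _
  · have hIJ₀ : J₁.map (f.comp π) ≤ JC := by
      rw [← Ideal.map_map]; exact hIJ
    obtain ⟨g₀, hg₀, hg₀uniq⟩ := hH.2 C JC (f.comp π) hCJ hIJ₀
    simp only at hg₀ hg₀uniq
    have hle : RingHom.ker φ ≤ RingHom.ker g₀ := by
      rw [hker, Ideal.map_le_iff_le_comap]
      intro k hk
      change g₀ (algebraMap R₁ H k) = 0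
      have := congr($hg₀ k)
      change g₀ (algebraMap R₁ H k) = f (π k) at this
      rw [this, (RingHom.mem_ker).mp hk, map_zero]
    let g : B →+* C := RingHom.liftOfSurjective φ hφ ⟨g₀, hle⟩
    have hgφ : g.comp φ = g₀ := RingHom.liftOfRightInverse_comp _ _ _ _
    refine ⟨g, ?_, ?_⟩
    · change g.comp (algebraMap R B) = f
      apply RingHom.cancel_right hπ |>.mp
      rw [RingHom.comp_assoc, hcomp, ← RingHom.comp_assoc, hgφ, hg₀]
    · intro g' hg'
      change g'.comp (algebraMap R B) = f at hg'
      apply RingHom.cancel_right hφ |>.mp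
      rw [hgφ]
      apply hg₀uniq
      rw [RingHom.comp_assoc, ← hcomp, ← RingHom.comp_assoc, hg']

end Groth.Agent.Lib.Helper90.PairHz
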