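import Mathlib
import Groth.Agent.Lib.Helper90.P1Irr

set_option linter.style.haveILetI false
set_option linter.unusedSectionVars false

namespace Groth.Agent.Lib.Helper90.PnLine

open CategoryTheory CategoryTheory.Limits AlgebraicGeometry MvPolynomial
open Groth.Agent.Lib.Proj Groth.Agent.Lib.Helper90.P1Chart

universe u

section Shear

variable (n : ℕ) (R : Type u) [CommRing R] (i j : Fin (n + 1)) (ε : R)

/-- the shear `X_i ↦ X_i + ε X_j` -/
noncomputable def shearAlg : MvPolynomial (Fin (n + 1)) R →ₐ[R] MvPolynomial (Fin (n + 1)) R :=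
  aeval (fun l => if l = i then X i + C ε * X j else X l)

theorem shearAlg_X_self : shearAlg n R i j ε (X i) = X i + C ε * X j := by
  simp [shearAlg]

theorem shearAlg_X_of_ne (l : Fin (n + 1)) (h : l ≠ i) : shearAlg n R i j ε (X l) = X l := by
  simp [shearAlg, h]

theorem shearAlg_isHomogeneous {d : ℕ} {x : MvPolynomial (Fin (n + 1)) R}
    (hx : x.IsHomogeneous d) : (shearAlg n R i j ε x).IsHomogeneous d := by
  have := hx.aeval (S := R) (n := 1) (fun l => if l = i then X i + C ε * X j else X l) (by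
    intro l
    split_ifs
    · exact (isHomogeneous_X R i).add (isHomogeneous_C_mul_X ε j)
    · exact isHomogeneous_X R l)
  rw [one_mul] at this
  exact this

/-- the shear as a graded ring hom -/
noncomputable def shear : CohB1.polyGrading n R →+*ᵍ CohB1.polyGrading n R where
  toRingHom := (shearAlg n R i j ε).toRingHom
  map_mem := fun hx => (mem_homogeneousSubmodule _ _).mpr
    (shearAlg_isHomogeneous n R i j ε ((mem_homogeneousSubmodule _ _).mp hx))

theorem shear_apply (x : MvPolynomial (Fin (n + 1)) R) :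
    shear n R i j ε x = shearAlg n R i j ε x := rfl

theorem shear_shear (hij : i ≠ j) (x : MvPolynomial (Fin (n + 1)) R) :
    shear n R i j ε (shear n R i j (-ε) x) = x := by
  have : (shearAlg n R i j ε).comp (shearAlg n R i j (-ε)) = AlgHom.id R _ := by
    apply MvPolynomial.algHom_ext
    intro l
    by_cases h : l = i
    · subst h
      simp [shearAlg_X_self, shearAlg_X_of_ne n R l j ε j hij.symm]
    · simp [shearAlg_X_of_ne n R i j _ l h]
  exact AlgHom.congr_fun this x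

theorem irrelevant_le_map_shear (hij : i ≠ j) :
    HomogeneousIdeal.irrelevant (CohB1.polyGrading n R) ≤
      (HomogeneousIdeal.irrelevant (CohB1.polyGrading n R)).map (shear n R i j ε) := by
  rw [HomogeneousIdeal.irrelevant_le]
  intro d hd x hx
  have hx' : x ∈ CohB1.polyGrading n R d := hx
  have h1 : shear n R i j (-ε) x ∈ HomogeneousIdeal.irrelevant (CohB1.polyGrading n R) :=
    HomogeneousIdeal.mem_irrelevant_of_mem _ hd ((shear n R i j (-ε)).map_mem hx')
  have h2 := Ideal.mem_map_of_mem (shear n R i j ε).toRingHom h1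
  change (shear n R i j ε) (shear n R i j (-ε) x) ∈ _ at h2
  rw [shear_shear n R i j ε hij] at h2
  exact h2

end Shear

section Psi

variable (n : ℕ) (K : Type u) [CommRing K]

/-- abbreviation for the grading of `ℤ[X₀..Xₙ]` -/
noncomputable abbrev gr : ℕ → Submodule (ULift.{u} ℤ) (MvPolynomial (Fin (n + 1)) (ULift.{u} ℤ)) :=
  CohB1.polyGrading n (ULift.{u} ℤ)

variable (φ : gr.{u} n →+*ᵍ gr.{u} n)
  (hφ : HomogeneousIdeal.irrelevant (gr.{u} n) ≤ (HomogeneousIdeal.irrelevant (gr.{u} n)).map φ)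

/-- `Proj.map` with the types of `ProjSpace` -/
noncomputable def projMap : CohB1.ProjSpace n (ULift.{u} ℤ) ⟶ CohB1.ProjSpace n (ULift.{u} ℤ) :=
  Proj.map φ hφ

/-- the induced endomorphism of `ℙⁿ_K` -/
noncomputable def psi : CohB1.ProjSpaceOver n (Spec (CommRingCat.of K)) ⟶
    CohB1.ProjSpaceOver n (Spec (CommRingCat.of K)) :=
  pullback.map _ _ _ _ (projMap n φ hφ) (𝟙 _) (𝟙 _) (specULiftZIsTerminal.hom_ext _ _)
    (by simp)

/-- the projection to `ℙⁿ_ℤ` -/
noncomputable def fstK : CohB1.ProjSpaceOver n (Spec (CommRingCat.of K)) ⟶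
    CohB1.ProjSpace n (ULift.{u} ℤ) :=
  pullback.fst _ _

theorem hom_ext_K {W : Scheme.{u}} (a b : W ⟶ CohB1.ProjSpaceOver n (Spec (CommRingCat.of K)))
    (h1 : a ≫ fstK n K = b ≫ fstK n K)
    (h2 : a ≫ CohB1.ProjSpaceOver.toBase n (Spec (CommRingCat.of K)) =
      b ≫ CohB1.ProjSpaceOver.toBase n (Spec (CommRingCat.of K))) : a = b :=
  pullback.hom_ext h1 h2

theorem psi_fst : psi n K φ hφ ≫ fstK n K = fstK n K ≫ projMap n φ hφ :=
  pullback.lift_fst _ _ _

theorem psi_toBase : psi n K φ hφ ≫ CohB1.ProjSpaceOver.toBase n (Spec (CommRingCat.of K)) =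
    CohB1.ProjSpaceOver.toBase n (Spec (CommRingCat.of K)) :=
  (pullback.lift_snd _ _ _).trans (Category.comp_id _)

theorem projMap_congr {φ₁ φ₂ : gr.{u} n →+*ᵍ gr.{u} n} (h : φ₁ = φ₂)
    (h₁ : HomogeneousIdeal.irrelevant (gr.{u} n) ≤ (HomogeneousIdeal.irrelevant (gr.{u} n)).map φ₁)
    (h₂ : HomogeneousIdeal.irrelevant (gr.{u} n) ≤ (HomogeneousIdeal.irrelevant (gr.{u} n)).map φ₂) :
    projMap n φ₁ h₁ = projMap n φ₂ h₂ := by
  subst h
  rfl

theorem projMap_comp_eq_id (φ' : gr.{u} n →+*ᵍ gr.{u} n)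
    (hφ' : HomogeneousIdeal.irrelevant (gr.{u} n) ≤ (HomogeneousIdeal.irrelevant (gr.{u} n)).map φ')
    (h : ∀ x, φ' (φ x) = x) : projMap n φ' hφ' ≫ projMap n φ hφ = 𝟙 _ := by
  have h1 : φ'.comp φ = GradedRingHom.id (gr.{u} n) := GradedRingHom.ext (fun x => h x)
  have h2 : projMap n φ' hφ' ≫ projMap n φ hφ =
      projMap n (φ'.comp φ) (HomogeneousIdeal.irrelevant_le_map_comp hφ hφ') :=
    (Proj.map_comp φ φ' hφ hφ').symm
  rw [h2, projMap_congr n h1 _ (by simp)]
  exact Proj.map_id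

theorem psi_comp_eq_id (φ' : gr.{u} n →+*ᵍ gr.{u} n)
    (hφ' : HomogeneousIdeal.irrelevant (gr.{u} n) ≤ (HomogeneousIdeal.irrelevant (gr.{u} n)).map φ')
    (h : ∀ x, φ' (φ x) = x) : psi n K φ' hφ' ≫ psi n K φ hφ = 𝟙 _ := by
  apply hom_ext_K
  · rw [Category.assoc, psi_fst, ← Category.assoc, psi_fst, Category.assoc,
      projMap_comp_eq_id n φ hφ φ' hφ' h, Category.comp_id, Category.id_comp]
  · rw [Category.assoc, psi_toBase, psi_toBase, Category.id_comp]

end Psi

section Criterion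

variable (n : ℕ)

/-- L1: membership of a chart point in `D₊(ℓ)` -/
theorem chart_mem_basicOpen (R : Type u) [CommRing R] (i : Fin (n + 1))
    (ℓ : MvPolynomial (Fin (n + 1)) R) (hℓ : ℓ ∈ CohB1.polyGrading n R 1)
    (w : Spec (CommRingCat.of (MvPolynomial {j : Fin (n + 1) // j ≠ i} R)))
    (hw : dehom n R i ℓ ∉ (show PrimeSpectrum _ from w).asIdeal) :
    (chart n R i).base w ∈ Proj.basicOpen (CohB1.polyGrading n R) ℓ := by
  change (chart' n R i).base w ∈ Proj.basicOpen (CohB1.polyGrading n R) ℓ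
  unfold chart'
  set w' := (Spec.map (awayXEquiv n R i).toCommRingCatIso.hom).base w with hw'
  change (Proj.awayι (CohB1.polyGrading n R) (X i) (X_mem n R i) Nat.one_pos).base w' ∈
    Proj.basicOpen (CohB1.polyGrading n R) ℓ
  have h3 : w' ∈ (Proj.awayι (CohB1.polyGrading n R) (X i) (X_mem n R i) Nat.one_pos) ⁻¹ᵁ
      Proj.basicOpen (CohB1.polyGrading n R) ℓ := by
    rw [Proj.awayι_preimage_basicOpen (CohB1.polyGrading n R) (X_mem n R i) Nat.one_pos
      hℓ Nat.one_pos]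
    intro hmem
    have hmem' : awayXEquiv n R i
        (HomogeneousLocalization.Away.isLocalizationElem (X_mem n R i) hℓ) ∈
        (show PrimeSpectrum _ from w).asIdeal := hmem
    rw [awayXEquiv_mk, map_pow, pow_one] at hmem'
    exact hw hmem'
  exact h3

variable (k : Type u) [CommRing k]

/-- L2 -/
theorem fstK_chartK_mem_basicOpen (i : Fin (n + 1))
    (ℓ : MvPolynomial (Fin (n + 1)) (ULift.{u} ℤ)) (hℓ : ℓ ∈ gr.{u} n 1)
    (y : Spec (CommRingCat.of (MvPolynomial {j : Fin (n + 1) // j ≠ i} k)))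
    (hy : MvPolynomial.map (coeff k) (dehom n (ULift.{u} ℤ) i ℓ) ∉
      (show PrimeSpectrum _ from y).asIdeal) :
    (fstK n k).base ((chartK n k i).base y) ∈ Proj.basicOpen (gr.{u} n) ℓ := by
  have h1 : (fstK n k).base ((chartK n k i).base y) =
      (chart n (ULift.{u} ℤ) i).base ((affMap n k i).base y) := by
    have := (isPullback_chartK n k i).w
    have h2 := congrArg (fun f => f.base y) this
    exact h2.symm
  rw [h1]
  exact chart_mem_basicOpen n (ULift.{u} ℤ) i ℓ hℓ _ hy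

/-- L3 -/
theorem mem_range_chartK_of_fstK_mem (i' : Fin (n + 1))
    (z : CohB1.ProjSpaceOver n (Spec (CommRingCat.of k)))
    (hz : (fstK n k).base z ∈ Proj.basicOpen (gr.{u} n) (X i')) :
    z ∈ Set.range (chartK n k i').base := by
  rw [range_chartK, range_chart]
  exact hz

end Criterion

section LinkSigma

variable {k : Type u} [Field k] {σ : Type} (K : Type u) [Field K] [Algebra k K]

/-- the line through two points of affine space (general variable type) -/
noncomputable def line' (αA αB : MvPolynomial σ k →+* K) :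
    MvPolynomial σ k →+* MvPolynomial {j : Fin (1 + 1) // j ≠ 0} K :=
  eval₂Hom ((C : K →+* MvPolynomial {j : Fin (1 + 1) // j ≠ 0} K).comp (algebraMap k K))
    (fun i => C (αA (X i)) + X tvar * C (αB (X i) - αA (X i)))

theorem eval_zero_comp_line' (αA αB : MvPolynomial σ k →+* K)
    (hA : αA.comp (C : k →+* MvPolynomial σ k) = algebraMap k K) :
    (MvPolynomial.eval (fun _ => (0 : K))).comp (line' K αA αB) = αA := by
  apply MvPolynomial.ringHom_ext
  · intro r
    simp [line', ← hA]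
  · intro i
    simp [line']

theorem eval_one_comp_line' (αA αB : MvPolynomial σ k →+* K)
    (hB : αB.comp (C : k →+* MvPolynomial σ k) = algebraMap k K) :
    (MvPolynomial.eval (fun _ => (1 : K))).comp (line' K αA αB) = αB := by
  apply MvPolynomial.ringHom_ext
  · intro r
    simp [line', ← hB]
  · intro i
    simp [line']

theorem line'_comp_C (αA αB : MvPolynomial σ k →+* K) :
    (line' K αA αB).comp (C : k →+* MvPolynomial σ k) =
      (C : K →+* MvPolynomial {j : Fin (1 + 1) // j ≠ 0} K).comp (algebraMap k K) := by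
  ext r
  simp [line']

theorem exists_ringHom_of_pt' (p : Spec (CommRingCat.of K) ⟶ Spec (CommRingCat.of (MvPolynomial σ k)))
    (hp : p ≫ Spec.map (CommRingCat.ofHom (algebraMap k (MvPolynomial σ k))) = REq.specMap k K) :
    ∃ α : MvPolynomial σ k →+* K, Spec.map (CommRingCat.ofHom α) = p ∧
      α.comp (C : k →+* MvPolynomial σ k) = algebraMap k K := by
  refine ⟨(Spec.preimage p).hom, ?_, ?_⟩
  · rw [CommRingCat.ofHom_hom, Spec.map_preimage]
  · have h1 : Spec.map (CommRingCat.ofHom (algebraMap k (MvPolynomial σ k)) ≫ Spec.preimage p) =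
        Spec.map (CommRingCat.ofHom (algebraMap k K)) := by
      rw [Spec.map_comp, Spec.map_preimage]
      exact hp
    have h2 := Spec.map_injective h1
    have h3 := congrArg (fun f => f.hom) h2
    exact h3

variable {Y : Scheme.{u}} (g : Y ⟶ Spec (CommRingCat.of k))
  (V' : (Spec (CommRingCat.of (MvPolynomial σ k))).Opens) (b : (V' : Scheme.{u}) ⟶ Y)
  (hb : b ≫ g = V'.ι ≫ Spec.map (CommRingCat.ofHom (algebraMap k (MvPolynomial σ k))))

include hb in
theorem elemLink' (A B : REq.Pts g K) (α β : Spec (CommRingCat.of K) ⟶ (V' : Scheme.{u}))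
    (hαπ : α ≫ V'.ι ≫ Spec.map (CommRingCat.ofHom (algebraMap k (MvPolynomial σ k))) =
      REq.specMap k K)
    (hβπ : β ≫ V'.ι ≫ Spec.map (CommRingCat.ofHom (algebraMap k (MvPolynomial σ k))) =
      REq.specMap k K)
    (hA : α ≫ b = A.1) (hB : β ≫ b = B.1) : REq.ElemLink g K A B := by
  set π := Spec.map (CommRingCat.ofHom (algebraMap k (MvPolynomial σ k))) with hπ
  obtain ⟨αA, hαA, hAC⟩ := exists_ringHom_of_pt' K (α ≫ V'.ι)
    (by rw [Category.assoc]; exact hαπ)
  obtain ⟨αB, hαB, hBC⟩ := exists_ringHom_of_pt' K (β ≫ V'.ι)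
    (by rw [Category.assoc]; exact hβπ)
  set ℓ := line' K αA αB with hℓ
  set L : Spec (CommRingCat.of (MvPolynomial {j : Fin (1 + 1) // j ≠ 0} K)) ⟶
    Spec (CommRingCat.of (MvPolynomial σ k)) := Spec.map (CommRingCat.ofHom ℓ) with hL
  have hLπ : L ≫ π = Spec.map (CommRingCat.ofHom
      (C : K →+* MvPolynomial {j : Fin (1 + 1) // j ≠ 0} K)) ≫ REq.specMap k K := by
    rw [hL, hπ, ← Spec.map_comp, REq.specMap, ← Spec.map_comp]
    congr 1
    apply CommRingCat.hom_ext
    exact line'_comp_C K αA αB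
  set O := L ⁻¹ᵁ V' with hO
  set j := chartK 1 K 0 with hj
  set iso := j.isoImage O with hiso
  have key : ∀ (c : K) (αx : MvPolynomial σ k →+* K)
      (γ : Spec (CommRingCat.of K) ⟶ (V' : Scheme.{u})) (P : REq.Pts g K),
      (MvPolynomial.eval (fun _ => c)).comp ℓ = αx →
      Spec.map (CommRingCat.ofHom αx) = γ ≫ V'.ι → γ ≫ b = P.1 →
      ∃ a' : Spec (CommRingCat.of K) ⟶ ((j ''ᵁ O : (REq.P1K K).Opens) : Scheme.{u}),
        a' ≫ (j ''ᵁ O).ι ≫ REq.P1K.toSpec K = 𝟙 _ ∧
        a' ≫ (iso.inv ≫ (L ∣_ V') ≫ b) = P.1 := by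
    intro c αx γ P hc hαx hγ
    set a₀ : Spec (CommRingCat.of K) ⟶
        Spec (CommRingCat.of (MvPolynomial {j : Fin (1 + 1) // j ≠ 0} K)) :=
      Spec.map (CommRingCat.ofHom (MvPolynomial.eval (fun _ => c))) with ha₀
    have ha₀L : a₀ ≫ L = γ ≫ V'.ι := by
      rw [ha₀, hL, ← Spec.map_comp, ← hαx, ← hc]
      rfl
    have hrange : Set.range a₀.base ⊆ Set.range O.ι.base := by
      rintro _ ⟨x, rfl⟩
      rw [Scheme.Opens.range_ι]
      change L.base (a₀.base x) ∈ V'
      have : L.base (a₀.base x) = (a₀ ≫ L).base x := rfl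
      rw [this, ha₀L]
      exact (γ.base x).2
    set l₀ := IsOpenImmersion.lift O.ι a₀ hrange with hl₀
    have hl₀fac : l₀ ≫ O.ι = a₀ := IsOpenImmersion.lift_fac _ _ _
    refine ⟨l₀ ≫ iso.hom, ?_, ?_⟩
    · rw [Category.assoc, Scheme.Hom.isoImage_hom_ι_assoc, reassoc_of% hl₀fac]
      change a₀ ≫ j ≫ CohB1.ProjSpaceOver.toBase 1 (Spec (CommRingCat.of K)) = 𝟙 _
      rw [hj, chartK_toBase, ha₀, ← Spec.map_comp, ← Spec.map_id]
      congr 1
      apply CommRingCat.hom_ext
      ext r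
      simp
    · rw [Category.assoc, Iso.hom_inv_id_assoc]
      have h1 : l₀ ≫ (L ∣_ V') = γ := by
        rw [← cancel_mono V'.ι, Category.assoc, morphismRestrict_ι, reassoc_of% hl₀fac, ha₀L]
      rw [reassoc_of% h1, hγ]
  obtain ⟨a', ha'1, ha'2⟩ := key 0 αA α A (eval_zero_comp_line' K αA αB hAC) hαA hA
  obtain ⟨b', hb'1, hb'2⟩ := key 1 αB β B (eval_one_comp_line' K αA αB hBC) hαB hB
  refine ⟨j ''ᵁ O, iso.inv ≫ (L ∣_ V') ≫ b, a', b', ?_, ha'1, hb'1, ha'2, hb'2⟩
  rw [Category.assoc, Category.assoc, hb, morphismRestrict_ι_assoc, hLπ]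
  rw [← Scheme.Hom.isoImage_inv_ι_assoc j O]
  change _ = iso.inv ≫ O.ι ≫ j ≫ CohB1.ProjSpaceOver.toBase 1 (Spec (CommRingCat.of K)) ≫ _
  have hjb : j ≫ CohB1.ProjSpaceOver.toBase 1 (Spec (CommRingCat.of K)) = Spec.map (CommRingCat.ofHom
      (C : K →+* MvPolynomial {j : Fin (1 + 1) // j ≠ 0} K)) := chartK_toBase 1 K 0
  rw [reassoc_of% hjb]

end LinkSigma

section Core

variable {k : Type u} [Field k] (n : ℕ) (K : Type u) [Field K] [Algebra k K]

/-- L4 -/
theorem mem_range_chartK_psi (φ' : gr.{u} n →+*ᵍ gr.{u} n)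
    (hφ' : HomogeneousIdeal.irrelevant (gr.{u} n) ≤ (HomogeneousIdeal.irrelevant (gr.{u} n)).map φ')
    (iA i' : Fin (n + 1)) (αA : MvPolynomial {j : Fin (n + 1) // j ≠ iA} k →+* K)
    (hne : αA (MvPolynomial.map (coeff k) (dehom n (ULift.{u} ℤ) iA (φ' (X i')))) ≠ 0)
    (pt : Spec (CommRingCat.of K)) :
    (psi n k φ' hφ').base ((chartK n k iA).base ((Spec.map (CommRingCat.ofHom αA)).base pt)) ∈
      Set.range (chartK n k i').base := by
  apply mem_range_chartK_of_fstK_mem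
  set y := (Spec.map (CommRingCat.ofHom αA)).base pt with hy
  have h1 : (fstK n k).base ((psi n k φ' hφ').base ((chartK n k iA).base y)) =
      (projMap n φ' hφ').base ((fstK n k).base ((chartK n k iA).base y)) :=
    congrArg (fun f => f.base ((chartK n k iA).base y)) (psi_fst n k φ' hφ')
  rw [h1]
  have h2 : (fstK n k).base ((chartK n k iA).base y) ∈ Proj.basicOpen (gr.{u} n) (φ' (X i')) := by
    apply fstK_chartK_mem_basicOpen n k iA (φ' (X i')) (φ'.map_mem (X_mem n _ i')) y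
    intro hmem
    have hmem' : αA (MvPolynomial.map (coeff k) (dehom n (ULift.{u} ℤ) iA (φ' (X i')))) ∈
        (show PrimeSpectrum K from pt).asIdeal := hmem
    exact (show PrimeSpectrum K from pt).isPrime.ne_top
      (Ideal.eq_top_of_isUnit_mem _ hmem' (IsUnit.mk0 _ hne))
  exact h2

variable (V : (CohB1.ProjSpaceOver n (Spec (CommRingCat.of k))).Opens)

theorem core (A B : REq.Pts (V.ι ≫ CohB1.ProjSpaceOver.toBase n (Spec (CommRingCat.of k))) K)
    (Ψ Ψ' : CohB1.ProjSpaceOver n (Spec (CommRingCat.of k)) ⟶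
      CohB1.ProjSpaceOver n (Spec (CommRingCat.of k)))
    (hΨ : Ψ' ≫ Ψ = 𝟙 _)
    (hΨb : Ψ ≫ CohB1.ProjSpaceOver.toBase n (Spec (CommRingCat.of k)) =
      CohB1.ProjSpaceOver.toBase n (Spec (CommRingCat.of k)))
    (i' : Fin (n + 1))
    (hA : Set.range (A.1 ≫ V.ι ≫ Ψ').base ⊆ Set.range (chartK n k i').base)
    (hB : Set.range (B.1 ≫ V.ι ≫ Ψ').base ⊆ Set.range (chartK n k i').base) :
    REq.ElemLink (V.ι ≫ CohB1.ProjSpaceOver.toBase n (Spec (CommRingCat.of k))) K A B := by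
  set c := chartK n k i' ≫ Ψ with hc
  set V' := c ⁻¹ᵁ V with hV'
  have hcb : c ≫ CohB1.ProjSpaceOver.toBase n (Spec (CommRingCat.of k)) = Spec.map (CommRingCat.ofHom
      (algebraMap k (MvPolynomial {j : Fin (n + 1) // j ≠ i'} k))) := by
    rw [hc, Category.assoc, hΨb]
    exact chartK_toBase n k i'
  have hb : (c ∣_ V) ≫ (V.ι ≫ CohB1.ProjSpaceOver.toBase n (Spec (CommRingCat.of k))) = V'.ι ≫ Spec.map (CommRingCat.ofHom
      (algebraMap k (MvPolynomial {j : Fin (n + 1) // j ≠ i'} k))) := by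
    rw [morphismRestrict_ι_assoc, hcb]
  -- points
  have key : ∀ P : REq.Pts (V.ι ≫ CohB1.ProjSpaceOver.toBase n (Spec (CommRingCat.of k))) K,
      Set.range (P.1 ≫ V.ι ≫ Ψ').base ⊆ Set.range (chartK n k i').base →
      ∃ γ : Spec (CommRingCat.of K) ⟶ (V' : Scheme.{u}),
        γ ≫ V'.ι ≫ Spec.map (CommRingCat.ofHom
          (algebraMap k (MvPolynomial {j : Fin (n + 1) // j ≠ i'} k))) = REq.specMap k K ∧
        γ ≫ (c ∣_ V) = P.1 := by
    intro P hP
    set γ₀ := IsOpenImmersion.lift (chartK n k i') (P.1 ≫ V.ι ≫ Ψ') hP with hγ₀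
    have hγ₀fac : γ₀ ≫ chartK n k i' = P.1 ≫ V.ι ≫ Ψ' := IsOpenImmersion.lift_fac _ _ _
    have hγ₀c : γ₀ ≫ c = P.1 ≫ V.ι := by
      rw [hc, reassoc_of% hγ₀fac, hΨ, Category.comp_id]
    have hrange : Set.range γ₀.base ⊆ Set.range V'.ι.base := by
      rintro _ ⟨x, rfl⟩
      rw [Scheme.Opens.range_ι]
      change c.base (γ₀.base x) ∈ V
      have : c.base (γ₀.base x) = (γ₀ ≫ c).base x := rfl
      rw [this, hγ₀c]
      exact (P.1.base x).2
    set γ := IsOpenImmersion.lift V'.ι γ₀ hrange with hγ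
    have hγfac : γ ≫ V'.ι = γ₀ := IsOpenImmersion.lift_fac _ _ _
    refine ⟨γ, ?_, ?_⟩
    · rw [reassoc_of% hγfac, ← hcb, reassoc_of% hγ₀c]
      exact P.2
    · rw [← cancel_mono V.ι, Category.assoc, morphismRestrict_ι, reassoc_of% hγfac, hγ₀c]
  obtain ⟨α, hα1, hα2⟩ := key A hA
  obtain ⟨β, hβ1, hβ2⟩ := key B hB
  exact elemLink' K (V.ι ≫ CohB1.ProjSpaceOver.toBase n (Spec (CommRingCat.of k))) V' (c ∣_ V) hb A B α β hα1 hβ1 hα2 hβ2

end Core

section Main

variable {k : Type u} [Field k] (n : ℕ) (K : Type u) [Field K] [Algebra k K]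
  (V : (CohB1.ProjSpaceOver n (Spec (CommRingCat.of k))).Opens)

/-- a `K`-point of `ℙⁿ_k` factors through a chart -/
theorem exists_chart_factor
    (p : Spec (CommRingCat.of K) ⟶ CohB1.ProjSpaceOver n (Spec (CommRingCat.of k))) :
    ∃ (i : Fin (n + 1)) (α : MvPolynomial {j : Fin (n + 1) // j ≠ i} k →+* K),
      Spec.map (CommRingCat.ofHom α) ≫ chartK n k i = p := by
  let pt : Spec (CommRingCat.of K) := (⟨⊥, Ideal.isPrime_bot⟩ : PrimeSpectrum K)
  obtain ⟨i, hi⟩ := exists_mem_range_chartK n k (p.base pt)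
  have hr : Set.range p.base ⊆ Set.range (chartK n k i).base := by
    rintro _ ⟨y, rfl⟩
    have : y = pt := Subsingleton.elim (α := PrimeSpectrum K) _ _
    rw [this]
    exact hi
  set γ := IsOpenImmersion.lift (chartK n k i) p hr with hγdef
  have hγ : γ ≫ chartK n k i = p := IsOpenImmersion.lift_fac _ _ _
  exact ⟨i, (Spec.preimage γ).hom, by rw [CommRingCat.ofHom_hom, Spec.map_preimage, hγ]⟩

theorem main (A B : REq.Pts (V.ι ≫ CohB1.ProjSpaceOver.toBase n (Spec (CommRingCat.of k))) K) :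
    REq.ElemLink (V.ι ≫ CohB1.ProjSpaceOver.toBase n (Spec (CommRingCat.of k))) K A B := by
  obtain ⟨iA, αA, hαA⟩ := exists_chart_factor n K (A.1 ≫ V.ι)
  obtain ⟨iB, αB, hαB⟩ := exists_chart_factor n K (B.1 ≫ V.ι)
  by_cases hAB : iA = iB
  · subst hAB
    refine core n K V A B (𝟙 _) (𝟙 _) (Category.comp_id _) (Category.id_comp _) iA ?_ ?_
    · rw [Category.comp_id, ← hαA]
      rintro _ ⟨y, rfl⟩
      exact ⟨_, rfl⟩
    · rw [Category.comp_id, ← hαB]
      rintro _ ⟨y, rfl⟩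
      exact ⟨_, rfl⟩
  · have hBA : iB ≠ iA := fun h => hAB h.symm
    have gen : ∀ (ε : ULift.{u} ℤ) (i' : Fin (n + 1)),
        αA (MvPolynomial.map (coeff k) (dehom n (ULift.{u} ℤ) iA
          (shear n (ULift.{u} ℤ) iA iB ε (X i')))) ≠ 0 →
        αB (MvPolynomial.map (coeff k) (dehom n (ULift.{u} ℤ) iB
          (shear n (ULift.{u} ℤ) iA iB ε (X i')))) ≠ 0 →
        REq.ElemLink (V.ι ≫ CohB1.ProjSpaceOver.toBase n (Spec (CommRingCat.of k))) K A B := by
      intro ε i' h1 h2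
      refine core n K V A B
        (psi n k (shear n (ULift.{u} ℤ) iA iB (-ε)) (irrelevant_le_map_shear n _ iA iB (-ε) hAB))
        (psi n k (shear n (ULift.{u} ℤ) iA iB ε) (irrelevant_le_map_shear n _ iA iB ε hAB))
        (psi_comp_eq_id n k _ _ _ _ (fun x => shear_shear n _ iA iB ε hAB x))
        (psi_toBase n k _ _) i' ?_ ?_
      · rw [← Category.assoc, ← hαA]
        rintro _ ⟨y, rfl⟩
        exact mem_range_chartK_psi n K _ _ iA i' αA h1 y
      · rw [← Category.assoc, ← hαB]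
        rintro _ ⟨y, rfl⟩
        exact mem_range_chartK_psi n K _ _ iB i' αB h2 y
    by_cases hb : αB (X ⟨iA, hAB⟩) = 0
    · by_cases ha : αA (X ⟨iB, hBA⟩) = 0
      · apply gen 1 iA
        · simp [shear_apply, shearAlg_X_self, dehom_X_of_ne n _ iA iB hBA, ha]
        · simp [shear_apply, shearAlg_X_self, dehom_X_of_ne n _ iB iA hAB, hb]
      · apply gen 0 iB
        · simp [shear_apply, shearAlg_X_of_ne n (ULift.{u} ℤ) iA iB 0 iB hBA, dehom_X_of_ne n _ iA iB hBA, ha]
        · simp [shear_apply, shearAlg_X_of_ne n (ULift.{u} ℤ) iA iB 0 iB hBA]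
    · apply gen 0 iA
      · simp [shear_apply, shearAlg_X_self]
      · simp [shear_apply, shearAlg_X_self, dehom_X_of_ne n _ iB iA hAB, hb]

end Main

end Groth.Agent.Lib.Helper90.PnLine
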