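import Mathlib

set_option linter.style.haveILetI false
set_option linter.unusedSectionVars false

namespace Groth.Agent.Lib.Helper90.RetractRat

open CategoryTheory CategoryTheory.Limits AlgebraicGeometry

universe u

/-- a morphism from a local scheme `Spec A` whose closed point lands in an open factors through
that open. -/
theorem exists_lift_of_closedPoint_mem {X : Scheme.{u}} (V : X.Opens)
    (A : Type u) [CommRing A] [IsLocalRing A] (h : Spec (CommRingCat.of A) ⟶ X)
    (hpt : h.base (IsLocalRing.closedPoint A) ∈ V) :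
    ∃ h' : Spec (CommRingCat.of A) ⟶ (V : Scheme.{u}), h' ≫ V.ι = h := by
  have hr : Set.range h.base ⊆ Set.range V.ι.base := by
    rw [Scheme.Opens.range_ι]
    rintro _ ⟨p, rfl⟩
    have hsp : (p : PrimeSpectrum A) ⤳ IsLocalRing.closedPoint A :=
      IsLocalRing.specializes_closedPoint p
    exact (hsp.map h.continuous).mem_open V.2 hpt
  exact ⟨IsOpenImmersion.lift V.ι h hr, IsOpenImmersion.lift_fac _ _ _⟩

theorem fwd (k : Type u) [Field k] (X : Scheme.{u}) (f : X ⟶ Spec (CommRingCat.of k))
    (U : X.Opens) (n : ℕ) (Y : (Spec (CommRingCat.of (MvPolynomial (Fin n) k))).Opens)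
    (a : (U : Scheme.{u}) ⟶ (Y : Scheme.{u})) (b : (Y : Scheme.{u}) ⟶ (U : Scheme.{u}))
    (hab : a ≫ b = 𝟙 (U : Scheme.{u}))
    (ha : a ≫ Y.ι ≫ Spec.map (CommRingCat.ofHom (algebraMap k (MvPolynomial (Fin n) k))) =
      U.ι ≫ f)
    (hb : b ≫ U.ι ≫ f =
      Y.ι ≫ Spec.map (CommRingCat.ofHom (algebraMap k (MvPolynomial (Fin n) k))))
    (A : Type u) [CommRing A] [IsLocalRing A] [Algebra k A]
    (g : Spec (CommRingCat.of (IsLocalRing.ResidueField A)) ⟶ (U : Scheme.{u}))
    (hg : g ≫ U.ι ≫ f =
      Spec.map (CommRingCat.ofHom ((IsLocalRing.residue A).comp (algebraMap k A)))) :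
    ∃ g' : Spec (CommRingCat.of A) ⟶ (U : Scheme.{u}),
      Spec.map (CommRingCat.ofHom (IsLocalRing.residue A)) ≫ g' = g ∧
      g' ≫ U.ι ≫ f = Spec.map (CommRingCat.ofHom (algebraMap k A)) := by
  set m : Spec (CommRingCat.of (IsLocalRing.ResidueField A)) ⟶
      Spec (CommRingCat.of (MvPolynomial (Fin n) k)) := g ≫ a ≫ Y.ι with hm
  set θ : CommRingCat.of (MvPolynomial (Fin n) k) ⟶ CommRingCat.of (IsLocalRing.ResidueField A) :=
    Spec.preimage m with hθdef
  have hθ : Spec.map θ = m := Spec.map_preimage m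
  have hθC : CommRingCat.ofHom (algebraMap k (MvPolynomial (Fin n) k)) ≫ θ =
      CommRingCat.ofHom ((IsLocalRing.residue A).comp (algebraMap k A)) := by
    apply Spec.map_injective
    rw [Spec.map_comp, hθ, hm, Category.assoc, Category.assoc, ha, hg]
  have hsurj : Function.Surjective (IsLocalRing.residue A) := Ideal.Quotient.mk_surjective
  choose c hc using fun i : Fin n => hsurj (θ.hom (MvPolynomial.X i))
  let θ' : MvPolynomial (Fin n) k →ₐ[k] A := MvPolynomial.aeval c
  have h1 : CommRingCat.ofHom θ'.toRingHom ≫ CommRingCat.ofHom (IsLocalRing.residue A) = θ := by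
    apply CommRingCat.hom_ext
    apply MvPolynomial.ringHom_ext
    · intro r
      have := congrArg (fun φ => φ.hom r) hθC
      simp only [CommRingCat.hom_comp, CommRingCat.hom_ofHom, RingHom.comp_apply] at this ⊢
      rw [← MvPolynomial.algebraMap_eq, this]
      simp [θ']
    · intro i
      simp only [CommRingCat.hom_comp, CommRingCat.hom_ofHom, RingHom.comp_apply]
      simp only [θ', AlgHom.toRingHom_eq_coe, RingHom.coe_coe, MvPolynomial.aeval_X]
      exact hc i
  set h : Spec (CommRingCat.of A) ⟶ Spec (CommRingCat.of (MvPolynomial (Fin n) k)) :=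
    Spec.map (CommRingCat.ofHom θ'.toRingHom) with hh
  have hh1 : Spec.map (CommRingCat.ofHom (IsLocalRing.residue A)) ≫ h = m := by
    rw [hh, ← Spec.map_comp, h1, hθ]
  have hpt : h.base (IsLocalRing.closedPoint A) ∈ Y := by
    let t : Spec (CommRingCat.of (IsLocalRing.ResidueField A)) :=
      IsLocalRing.closedPoint (IsLocalRing.ResidueField A)
    have e1 : (Spec.map (CommRingCat.ofHom (IsLocalRing.residue A))).base t =
        IsLocalRing.closedPoint A := IsLocalRing.PrimeSpectrum.comap_residue A t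
    rw [← e1, ← Scheme.Hom.comp_apply, hh1, hm, ← Category.assoc, Scheme.Hom.comp_apply]
    exact ((g ≫ a).base t).2
  obtain ⟨h', hh'⟩ := exists_lift_of_closedPoint_mem Y A h hpt
  refine ⟨h' ≫ b, ?_, ?_⟩
  · have e2 : Spec.map (CommRingCat.ofHom (IsLocalRing.residue A)) ≫ h' = g ≫ a := by
      rw [← cancel_mono Y.ι, Category.assoc, hh', hh1, hm, Category.assoc]
    rw [← Category.assoc, e2, Category.assoc, hab, Category.comp_id]
  · rw [Category.assoc, hb, ← Category.assoc, hh', hh, ← Spec.map_comp]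
    congr 1
    apply CommRingCat.hom_ext
    ext r
    simp [θ']

end Groth.Agent.Lib.Helper90.RetractRat
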