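import Mathlib

set_option linter.style.haveILetI false
set_option linter.unusedSectionVars false

namespace Groth.Agent.Lib.Helper90.RetractRat

open CategoryTheory CategoryTheory.Limits AlgebraicGeometry

universe u

open MvPolynomial in
theorem alg_core {k : Type u} [Field k] {n : ℕ} {B : Type u} [CommRing B] [IsDomain B]
    (π : MvPolynomial (Fin n) k →+* B) (hπ : Function.Surjective π)
    (P : Ideal (MvPolynomial (Fin n) k)) [P.IsPrime] (hP : P = RingHom.ker π)
    (φ : B →+* Localization.AtPrime P)
    (h1 : ∀ r : k, φ (π (C r)) = algebraMap k (Localization.AtPrime P) r)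
    (h2 : ∀ x : MvPolynomial (Fin n) k, IsLocalRing.residue (Localization.AtPrime P) (φ (π x)) =
      IsLocalRing.residue (Localization.AtPrime P) (algebraMap _ (Localization.AtPrime P) x)) :
    ∃ q : MvPolynomial (Fin n) k, π q ≠ 0 ∧ ∃ (χ : B →+* Localization.Away q),
      (∀ r : k, χ (π (C r)) =
        algebraMap (MvPolynomial (Fin n) k) (Localization.Away q) (C r)) ∧
      (IsLocalization.Away.map (Localization.Away q) (Localization.Away (π q)) π q).comp χ =
        algebraMap B (Localization.Away (π q)) := by
  classical
  obtain ⟨⟨q, hq⟩, hqint⟩ := IsLocalization.exist_integer_multiples_of_finite P.primeCompl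
    (fun i : Fin n => φ (π (X i)))
  choose p hp using hqint
  have hp' : ∀ i, algebraMap _ (Localization.AtPrime P) (p i) =
      algebraMap _ (Localization.AtPrime P) q * φ (π (X i)) := by
    intro i
    rw [hp i, Algebra.smul_def]
  have hqP : q ∉ P := hq
  have hπq : π q ≠ 0 := by
    intro h0
    apply hqP
    rw [hP]
    exact h0
  refine ⟨q, hπq, ?_⟩
  have hunit : IsUnit (algebraMap (MvPolynomial (Fin n) k) (Localization.AtPrime P) q) :=
    IsLocalization.map_units (Localization.AtPrime P) (⟨q, hq⟩ : P.primeCompl)
  let lam : Localization.Away q →+* Localization.AtPrime P := IsLocalization.Away.lift q hunit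
  have hlam : ∀ a, lam (algebraMap _ (Localization.Away q) a) =
      algebraMap _ (Localization.AtPrime P) a := fun a => IsLocalization.Away.lift_eq q hunit a
  let qq : Submonoid.powers q := ⟨q, Submonoid.mem_powers q⟩
  let c : Fin n → Localization.Away q := fun i => IsLocalization.mk' (Localization.Away q) (p i) qq
  have hcspec : ∀ i, c i * algebraMap _ (Localization.Away q) q =
      algebraMap _ (Localization.Away q) (p i) := fun i =>
    IsLocalization.mk'_spec (Localization.Away q) (p i) qq
  have hc : ∀ i, lam (c i) = φ (π (X i)) := by
    intro i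
    have e1 : lam (c i) * algebraMap _ (Localization.AtPrime P) q =
        φ (π (X i)) * algebraMap _ (Localization.AtPrime P) q := by
      rw [← hlam q, ← map_mul, hcspec i, hlam, hp' i, hlam, mul_comm]
    exact hunit.mul_left_injective e1
  let φq : MvPolynomial (Fin n) k →+* Localization.Away q :=
    eval₂Hom ((algebraMap (MvPolynomial (Fin n) k) (Localization.Away q)).comp C) c
  have hφqC : ∀ r : k, φq (C r) = algebraMap (MvPolynomial (Fin n) k) (Localization.Away q) (C r) := by
    intro r
    simp [φq]
  have hφqX : ∀ i, φq (X i) = c i := by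
    intro i
    simp [φq]
  have hcomp : lam.comp φq = φ.comp π := by
    apply MvPolynomial.ringHom_ext
    · intro r
      rw [RingHom.comp_apply, RingHom.comp_apply, hφqC, hlam, h1,
        IsScalarTower.algebraMap_apply k (MvPolynomial (Fin n) k) (Localization.AtPrime P),
        MvPolynomial.algebraMap_eq]
    · intro i
      rw [RingHom.comp_apply, RingHom.comp_apply, hφqX, hc]
  have hinjA : Function.Injective (algebraMap (MvPolynomial (Fin n) k) (Localization.AtPrime P)) :=
    IsLocalization.injective (Localization.AtPrime P) P.primeCompl_le_nonZeroDivisors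
  have hlaminj : Function.Injective lam := by
    rw [injective_iff_map_eq_zero]
    intro x hx
    obtain ⟨a, s, rfl⟩ := IsLocalization.exists_mk'_eq (Submonoid.powers q) x
    have e1 : lam (IsLocalization.mk' (Localization.Away q) a s) *
        lam (algebraMap _ (Localization.Away q) (s : MvPolynomial (Fin n) k)) =
        algebraMap _ (Localization.AtPrime P) a := by
      rw [← map_mul, IsLocalization.mk'_spec, hlam]
    rw [hx, zero_mul] at e1
    have ha : a = 0 := hinjA (by rw [← e1, map_zero])
    rw [ha, IsLocalization.mk'_zero]
  have hker : ∀ x, π x = 0 → φq x = 0 := by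
    intro x hx
    apply hlaminj
    have := congrArg (fun g => g x) hcomp
    simp only [RingHom.comp_apply] at this
    rw [this, hx, map_zero, map_zero]
  let χ : B →+* Localization.Away q := RingHom.liftOfSurjective π hπ
    ⟨φq, fun x hx => RingHom.mem_ker.mpr (hker x (RingHom.mem_ker.mp hx))⟩
  have hχ : ∀ x, χ (π x) = φq x := fun x =>
    RingHom.liftOfRightInverse_comp_apply _ _ _ _ x
  refine ⟨χ, fun r => by rw [hχ, hφqC], ?_⟩
  have hmem : ∀ i, p i - X i * q ∈ P := by
    intro i
    have hmax : algebraMap _ (Localization.AtPrime P) (p i - X i * q) ∈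
        IsLocalRing.maximalIdeal (Localization.AtPrime P) := by
      rw [map_sub, map_mul, hp' i]
      have e : algebraMap (MvPolynomial (Fin n) k) (Localization.AtPrime P) q * φ (π (X i)) -
          algebraMap (MvPolynomial (Fin n) k) (Localization.AtPrime P) (X i) *
            algebraMap (MvPolynomial (Fin n) k) (Localization.AtPrime P) q =
          algebraMap (MvPolynomial (Fin n) k) (Localization.AtPrime P) q *
            (φ (π (X i)) - algebraMap (MvPolynomial (Fin n) k) (Localization.AtPrime P) (X i)) := by
        ring
      rw [e]
      apply Ideal.mul_mem_left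
      have hz : IsLocalRing.residue (Localization.AtPrime P)
          (φ (π (X i)) - algebraMap (MvPolynomial (Fin n) k) (Localization.AtPrime P) (X i)) = 0 := by
        rw [map_sub, h2, sub_self]
      exact (IsLocalRing.residue_eq_zero_iff _).mp hz
    exact (IsLocalization.AtPrime.to_map_mem_maximal_iff (Localization.AtPrime P) P _).mp hmax
  have hπp : ∀ i, π (p i) = π (X i) * π q := by
    intro i
    have := hmem i
    rw [hP, RingHom.mem_ker, map_sub, map_mul, sub_eq_zero] at this
    exact this
  rw [← RingHom.cancel_right hπ]
  have hmapeq : ∀ a, IsLocalization.Away.map (Localization.Away q) (Localization.Away (π q)) π q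
      (algebraMap _ (Localization.Away q) a) = algebraMap B (Localization.Away (π q)) (π a) := by
    intro a
    unfold IsLocalization.Away.map
    rw [IsLocalization.map_eq]
  apply MvPolynomial.ringHom_ext
  · intro r
    simp only [RingHom.comp_apply]
    rw [hχ, hφqC, hmapeq]
  · intro i
    simp only [RingHom.comp_apply]
    rw [hχ, hφqX]
    have hu : IsUnit (algebraMap B (Localization.Away (π q)) (π q)) :=
      IsLocalization.Away.algebraMap_isUnit (π q)
    apply hu.mul_left_injective
    show _ * _ = _ * _
    rw [← hmapeq q, ← map_mul, hcspec i, hmapeq, hmapeq, hπp i, map_mul]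

end Groth.Agent.Lib.Helper90.RetractRat
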