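import Mathlib
import Groth.Agent.Lib.Helper90.RetractRat1
import Groth.Agent.Lib.Helper90.RetractRat2

set_option linter.style.haveILetI false
set_option linter.unusedSectionVars false

namespace Groth.Agent.Lib.Helper90.RetractRat

open CategoryTheory CategoryTheory.Limits AlgebraicGeometry TopologicalSpace

universe u

theorem exists_lift_of_closedPoint_mem_range {X Z : Scheme.{u}} (j : Z ⟶ X) [IsOpenImmersion j]
    (A : Type u) [CommRing A] [IsLocalRing A] (h : Spec (CommRingCat.of A) ⟶ X)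
    (hpt : h.base (IsLocalRing.closedPoint A) ∈ Set.range j.base) :
    ∃ h' : Spec (CommRingCat.of A) ⟶ Z, h' ≫ j = h := by
  have hr : Set.range h.base ⊆ Set.range j.base := by
    rintro _ ⟨p, rfl⟩
    have hsp : (p : PrimeSpectrum A) ⤳ IsLocalRing.closedPoint A :=
      IsLocalRing.specializes_closedPoint p
    exact (hsp.map h.continuous).mem_open j.isOpenEmbedding.isOpen_range hpt
  exact ⟨IsOpenImmersion.lift j h hr, IsOpenImmersion.lift_fac _ _ _⟩

theorem bwd (k : Type u) [Field k] (X : Scheme.{u})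
    (f : X ⟶ Spec (CommRingCat.of k)) [IsIntegral X] [LocallyOfFiniteType f]
    (V : X.Opens) (hVne : (V : Set X).Nonempty)
    (hV : ∀ (A : Type u) [CommRing A] [IsLocalRing A] [Algebra k A]
        (g : Spec (CommRingCat.of (IsLocalRing.ResidueField A)) ⟶ (V : Scheme.{u})),
        g ≫ V.ι ≫ f =
          Spec.map (CommRingCat.ofHom ((IsLocalRing.residue A).comp (algebraMap k A))) →
        ∃ g' : Spec (CommRingCat.of A) ⟶ (V : Scheme.{u}),
          Spec.map (CommRingCat.ofHom (IsLocalRing.residue A)) ≫ g' = g ∧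
          g' ≫ V.ι ≫ f = Spec.map (CommRingCat.ofHom (algebraMap k A))) :
    ∃ (U : X.Opens) (n : ℕ) (Y : (Spec (CommRingCat.of (MvPolynomial (Fin n) k))).Opens)
        (a : (U : Scheme.{u}) ⟶ (Y : Scheme.{u})) (b : (Y : Scheme.{u}) ⟶ (U : Scheme.{u})),
        (U : Set X).Nonempty ∧ a ≫ b = 𝟙 (U : Scheme.{u}) ∧
        a ≫ Y.ι ≫ Spec.map (CommRingCat.ofHom (algebraMap k (MvPolynomial (Fin n) k))) =
          U.ι ≫ f ∧
        b ≫ U.ι ≫ f =
          Y.ι ≫ Spec.map (CommRingCat.ofHom (algebraMap k (MvPolynomial (Fin n) k))) := by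
  obtain ⟨x, hx⟩ := hVne
  obtain ⟨_, ⟨W, hW, rfl⟩, hxW, hWV⟩ :=
    X.isBasis_affineOpens.exists_subset_of_mem_open hx V.2
  replace hW : IsAffineOpen W := hW
  haveI : Nonempty W := ⟨⟨x, hxW⟩⟩
  haveI : IsDomain Γ(X, W) := inferInstance
  let φ₀ : CommRingCat.of k ⟶ Γ(X, W) := Spec.preimage (hW.fromSpec ≫ f)
  have hφ₀ : Spec.map φ₀ = hW.fromSpec ≫ f := Spec.map_preimage _
  have hft : φ₀.hom.FiniteType := by
    have : LocallyOfFiniteType (Spec.map φ₀) := by rw [hφ₀]; infer_instance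
    exact (HasRingHomProperty.Spec_iff (P := @LocallyOfFiniteType)).mp this
  letI : Algebra k Γ(X, W) := φ₀.hom.toAlgebra
  have hft' : Algebra.FiniteType k Γ(X, W) := hft
  obtain ⟨n, π0, hπ0⟩ := Algebra.FiniteType.iff_quotient_mvPolynomial''.mp hft'
  let π : MvPolynomial (Fin n) k →+* Γ(X, W) := π0.toRingHom
  have hπ : Function.Surjective π := hπ0
  have hπC : ∀ r : k, π (MvPolynomial.C r) = φ₀.hom r := by
    intro r
    have := π0.commutes r
    rw [MvPolynomial.algebraMap_eq] at this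
    exact this
  let P : Ideal (MvPolynomial (Fin n) k) := RingHom.ker π
  haveI : P.IsPrime := RingHom.ker_isPrime π
  let ρ₀ : MvPolynomial (Fin n) k →+* IsLocalRing.ResidueField (Localization.AtPrime P) :=
    (IsLocalRing.residue (Localization.AtPrime P)).comp (algebraMap _ (Localization.AtPrime P))
  have hρ₀ : ∀ y, π y = 0 → ρ₀ y = 0 := by
    intro y hy
    have hyP : y ∈ P := hy
    show IsLocalRing.residue (Localization.AtPrime P) (algebraMap _ (Localization.AtPrime P) y) = 0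
    rw [IsLocalRing.residue_eq_zero_iff]
    exact (IsLocalization.AtPrime.to_map_mem_maximal_iff (Localization.AtPrime P) P y).mpr hyP
  let ψ : Γ(X, W) →+* IsLocalRing.ResidueField (Localization.AtPrime P) :=
    RingHom.liftOfSurjective π hπ
      ⟨ρ₀, fun y hy => RingHom.mem_ker.mpr (hρ₀ y (RingHom.mem_ker.mp hy))⟩
  have hψ : ∀ y, ψ (π y) = ρ₀ y := fun y => RingHom.liftOfRightInverse_comp_apply _ _ _ _ y
  let g₀ : Spec (CommRingCat.of (IsLocalRing.ResidueField (Localization.AtPrime P))) ⟶ X :=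
    Spec.map (CommRingCat.ofHom ψ) ≫ hW.fromSpec
  have hg₀W : ∀ t, g₀.base t ∈ Set.range hW.fromSpec.base := by
    intro t
    exact ⟨(Spec.map (CommRingCat.ofHom ψ)).base t, by rw [← Scheme.Hom.comp_apply]⟩
  have hg₀r : Set.range g₀.base ⊆ Set.range V.ι.base := by
    rw [Scheme.Opens.range_ι]
    rintro _ ⟨t, rfl⟩
    apply hWV
    have := hg₀W t
    rw [hW.range_fromSpec] at this
    exact this
  let g := IsOpenImmersion.lift V.ι g₀ hg₀r
  have hgι : g ≫ V.ι = g₀ := IsOpenImmersion.lift_fac _ _ _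
  have hg : g ≫ V.ι ≫ f = Spec.map (CommRingCat.ofHom
      ((IsLocalRing.residue (Localization.AtPrime P)).comp
        (algebraMap k (Localization.AtPrime P)))) := by
    rw [← Category.assoc, hgι]
    show (Spec.map _ ≫ hW.fromSpec) ≫ f = _
    rw [Category.assoc, ← hφ₀, ← Spec.map_comp]
    congr 1
    apply CommRingCat.hom_ext
    ext r
    simp only [CommRingCat.hom_comp, CommRingCat.hom_ofHom, RingHom.comp_apply]
    rw [← hπC r, hψ]
    show IsLocalRing.residue (Localization.AtPrime P)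
      (algebraMap _ (Localization.AtPrime P) (MvPolynomial.C r)) = _
    rw [← MvPolynomial.algebraMap_eq, ← IsScalarTower.algebraMap_apply]
  obtain ⟨g', hg'1, hg'2⟩ := hV (Localization.AtPrime P) g hg
  have hpt : (g' ≫ V.ι).base (IsLocalRing.closedPoint (Localization.AtPrime P)) ∈
      Set.range hW.fromSpec.base := by
    let t : Spec (CommRingCat.of (IsLocalRing.ResidueField (Localization.AtPrime P))) :=
      IsLocalRing.closedPoint _
    have e1 : (Spec.map (CommRingCat.ofHom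
        (IsLocalRing.residue (Localization.AtPrime P)))).base t =
        IsLocalRing.closedPoint (Localization.AtPrime P) :=
      IsLocalRing.PrimeSpectrum.comap_residue (Localization.AtPrime P) t
    rw [← e1, ← Scheme.Hom.comp_apply, ← Category.assoc, hg'1, hgι]
    exact hg₀W t
  obtain ⟨g'', hg''⟩ := exists_lift_of_closedPoint_mem_range hW.fromSpec
    (Localization.AtPrime P) (g' ≫ V.ι) hpt
  let φ : Γ(X, W) ⟶ CommRingCat.of (Localization.AtPrime P) := Spec.preimage g''
  have hφ : Spec.map φ = g'' := Spec.map_preimage _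
  have hφ1 : φ ≫ CommRingCat.ofHom (IsLocalRing.residue (Localization.AtPrime P)) =
      CommRingCat.ofHom ψ := by
    apply Spec.map_injective
    rw [Spec.map_comp, hφ, ← cancel_mono hW.fromSpec, Category.assoc, hg'', ← Category.assoc,
      hg'1, hgι]
  have hφ2 : φ₀ ≫ φ = CommRingCat.ofHom (algebraMap k (Localization.AtPrime P)) := by
    apply Spec.map_injective
    rw [Spec.map_comp, hφ, hφ₀, ← Category.assoc, hg'', Category.assoc, hg'2]
  obtain ⟨q, hπq, χ, hχC, hχ⟩ := alg_core π hπ P rfl φ.hom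
    (by
      intro r
      rw [hπC]
      exact congrArg (fun m => m.hom r) hφ2)
    (by
      intro y
      have := congrArg (fun m => m.hom (π y)) hφ1
      simp only [CommRingCat.hom_comp, CommRingCat.hom_ofHom, RingHom.comp_apply] at this
      rw [this, hψ]
      rfl)
  -- schemes
  let Rq := Localization.Away q
  let Bq := Localization.Away (π q)
  let πq : Rq →+* Bq := IsLocalization.Away.map Rq Bq π q
  have hπqmap : ∀ y, πq (algebraMap _ Rq y) = algebraMap Γ(X, W) Bq (π y) := by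
    intro y
    show IsLocalization.Away.map Rq Bq π q (algebraMap _ Rq y) = _
    unfold IsLocalization.Away.map
    rw [IsLocalization.map_eq]
  let jB : Spec (CommRingCat.of Bq) ⟶ Spec Γ(X, W) :=
    Spec.map (CommRingCat.ofHom (algebraMap Γ(X, W) Bq))
  let jR : Spec (CommRingCat.of Rq) ⟶ Spec (CommRingCat.of (MvPolynomial (Fin n) k)) :=
    Spec.map (CommRingCat.ofHom (algebraMap (MvPolynomial (Fin n) k) Rq))
  haveI : IsOpenImmersion jB := inferInstance
  haveI : IsOpenImmersion jR := inferInstance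
  let b₀ : Spec (CommRingCat.of Rq) ⟶ Spec Γ(X, W) := Spec.map (CommRingCat.ofHom χ)
  let a₀ : Spec (CommRingCat.of Bq) ⟶ Spec (CommRingCat.of Rq) := Spec.map (CommRingCat.ofHom πq)
  have hab₀ : a₀ ≫ b₀ = jB := by
    show Spec.map _ ≫ Spec.map _ = Spec.map _
    rw [← Spec.map_comp, ← CommRingCat.ofHom_comp, hχ]
  let j : Spec (CommRingCat.of Bq) ⟶ X := jB ≫ hW.fromSpec
  let U : X.Opens := j.opensRange
  let e : Spec (CommRingCat.of Bq) ≅ (U : Scheme.{u}) :=
    IsOpenImmersion.isoOfRangeEq j U.ι (by rw [Scheme.Opens.range_ι]; rfl)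
  have he : e.hom ≫ U.ι = j := IsOpenImmersion.isoOfRangeEq_hom_fac _ _ _
  let Y₀ : (Spec (CommRingCat.of Rq)).Opens := b₀ ⁻¹ᵁ jB.opensRange
  let j' : (Y₀ : Scheme.{u}) ⟶ Spec (CommRingCat.of (MvPolynomial (Fin n) k)) := Y₀.ι ≫ jR
  let Y : (Spec (CommRingCat.of (MvPolynomial (Fin n) k))).Opens := j'.opensRange
  let e' : (Y₀ : Scheme.{u}) ≅ (Y : Scheme.{u}) :=
    IsOpenImmersion.isoOfRangeEq j' Y.ι (by rw [Scheme.Opens.range_ι]; rfl)
  have he' : e'.hom ≫ Y.ι = j' := IsOpenImmersion.isoOfRangeEq_hom_fac _ _ _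
  have ha₀r : Set.range a₀.base ⊆ Set.range Y₀.ι.base := by
    rw [Scheme.Opens.range_ι]
    rintro _ ⟨t, rfl⟩
    show b₀.base (a₀.base t) ∈ Set.range jB.base
    rw [← Scheme.Hom.comp_apply, hab₀]
    exact ⟨t, rfl⟩
  let a₁ : Spec (CommRingCat.of Bq) ⟶ (Y₀ : Scheme.{u}) := IsOpenImmersion.lift Y₀.ι a₀ ha₀r
  have ha₁ : a₁ ≫ Y₀.ι = a₀ := IsOpenImmersion.lift_fac _ _ _
  have hb₀r : Set.range (Y₀.ι ≫ b₀).base ⊆ Set.range jB.base := by
    rintro _ ⟨y, rfl⟩
    rw [Scheme.Hom.comp_apply]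
    have := y.2
    exact this
  let b₁ : (Y₀ : Scheme.{u}) ⟶ Spec (CommRingCat.of Bq) :=
    IsOpenImmersion.lift jB (Y₀.ι ≫ b₀) hb₀r
  have hb₁ : b₁ ≫ jB = Y₀.ι ≫ b₀ := IsOpenImmersion.lift_fac _ _ _
  have hab₁ : a₁ ≫ b₁ = 𝟙 _ := by
    rw [← cancel_mono jB, Category.assoc, hb₁, ← Category.assoc, ha₁, hab₀, Category.id_comp]
  refine ⟨U, n, Y, e.inv ≫ a₁ ≫ e'.hom, e'.inv ≫ b₁ ≫ e.hom, ?_, ?_, ?_, ?_⟩
  · have hinj : Function.Injective (algebraMap Γ(X, W) Bq) :=
      IsLocalization.injective Bq (powers_le_nonZeroDivisors_of_noZeroDivisors hπq)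
    haveI : Nontrivial Bq := hinj.nontrivial
    obtain ⟨t⟩ : Nonempty (PrimeSpectrum Bq) := inferInstance
    exact ⟨j.base t, ⟨t, rfl⟩⟩
  · simp only [Category.assoc, Iso.hom_inv_id_assoc]
    rw [← Category.assoc a₁, hab₁, Category.id_comp, Iso.inv_hom_id]
  · simp only [Category.assoc]
    rw [← Category.assoc e'.hom, he']
    show e.inv ≫ a₁ ≫ (Y₀.ι ≫ jR) ≫ _ = _
    rw [Category.assoc, ← Category.assoc a₁, ha₁]
    have hR : U.ι ≫ f = e.inv ≫ j ≫ f := by
      rw [← he, Category.assoc, Iso.inv_hom_id_assoc]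
    rw [hR]
    congr 1
    show Spec.map _ ≫ Spec.map _ ≫ Spec.map _ = (Spec.map _ ≫ hW.fromSpec) ≫ f
    rw [Category.assoc, ← hφ₀, ← Spec.map_comp, ← Spec.map_comp, ← Spec.map_comp]
    congr 1
    apply CommRingCat.hom_ext
    ext r
    simp only [CommRingCat.hom_comp, CommRingCat.hom_ofHom, RingHom.comp_apply]
    rw [hπqmap, MvPolynomial.algebraMap_eq, hπC]
  · simp only [Category.assoc]
    rw [← Category.assoc e.hom, he]
    have hR : Y.ι ≫ Spec.map (CommRingCat.ofHom (algebraMap k (MvPolynomial (Fin n) k))) =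
        e'.inv ≫ j' ≫ Spec.map (CommRingCat.ofHom (algebraMap k (MvPolynomial (Fin n) k))) := by
      rw [← he', Category.assoc, Iso.inv_hom_id_assoc]
    rw [hR]
    show e'.inv ≫ b₁ ≫ (jB ≫ hW.fromSpec) ≫ f = e'.inv ≫ (Y₀.ι ≫ jR) ≫ _
    congr 1
    rw [Category.assoc, ← Category.assoc b₁, hb₁, Category.assoc, Category.assoc]
    congr 1
    show Spec.map _ ≫ hW.fromSpec ≫ f = Spec.map _ ≫ Spec.map _
    rw [← hφ₀, ← Spec.map_comp, ← Spec.map_comp]
    congr 1
    apply CommRingCat.hom_ext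
    ext r
    simp only [CommRingCat.hom_comp, CommRingCat.hom_ofHom, RingHom.comp_apply]
    rw [← hπC, hχC]
    rfl

end Groth.Agent.Lib.Helper90.RetractRat
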