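import Mathlib
import Groth.Agent.Lib.Helper90.RetractRat3

set_option linter.style.haveILetI false
set_option linter.unusedSectionVars false

namespace Groth.Agent.Lib.Helper90.RetractRat

open CategoryTheory CategoryTheory.Limits AlgebraicGeometry TopologicalSpace

universe u

theorem exists_lift_affine (k : Type u) [Field k] (σ : Type u) (A : Type u) [CommRing A]
    [IsLocalRing A] [Algebra k A]
    (m : Spec (CommRingCat.of (IsLocalRing.ResidueField A)) ⟶
      Spec (CommRingCat.of (MvPolynomial σ k)))
    (hm : m ≫ Spec.map (CommRingCat.ofHom (MvPolynomial.C : k →+* MvPolynomial σ k)) =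
      Spec.map (CommRingCat.ofHom ((IsLocalRing.residue A).comp (algebraMap k A)))) :
    ∃ h : Spec (CommRingCat.of A) ⟶ Spec (CommRingCat.of (MvPolynomial σ k)),
      Spec.map (CommRingCat.ofHom (IsLocalRing.residue A)) ≫ h = m ∧
      h ≫ Spec.map (CommRingCat.ofHom (MvPolynomial.C : k →+* MvPolynomial σ k)) =
        Spec.map (CommRingCat.ofHom (algebraMap k A)) := by
  set θ : CommRingCat.of (MvPolynomial σ k) ⟶ CommRingCat.of (IsLocalRing.ResidueField A) :=
    Spec.preimage m with hθdef
  have hθ : Spec.map θ = m := Spec.map_preimage m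
  have hθC : CommRingCat.ofHom (MvPolynomial.C : k →+* MvPolynomial σ k) ≫ θ =
      CommRingCat.ofHom ((IsLocalRing.residue A).comp (algebraMap k A)) := by
    apply Spec.map_injective
    rw [Spec.map_comp, hθ, hm]
  have hsurj : Function.Surjective (IsLocalRing.residue A) := Ideal.Quotient.mk_surjective
  choose c hc using fun i : σ => hsurj (θ.hom (MvPolynomial.X i))
  let θ' : MvPolynomial σ k →ₐ[k] A := MvPolynomial.aeval c
  have h1 : CommRingCat.ofHom θ'.toRingHom ≫ CommRingCat.ofHom (IsLocalRing.residue A) = θ := by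
    apply CommRingCat.hom_ext
    apply MvPolynomial.ringHom_ext
    · intro r
      have := congrArg (fun φ => φ.hom r) hθC
      simp only [CommRingCat.hom_comp, CommRingCat.hom_ofHom, RingHom.comp_apply] at this ⊢
      rw [this]
      simp [θ']
    · intro i
      simp only [CommRingCat.hom_comp, CommRingCat.hom_ofHom, RingHom.comp_apply]
      simp only [θ', AlgHom.toRingHom_eq_coe, RingHom.coe_coe, MvPolynomial.aeval_X]
      exact hc i
  refine ⟨Spec.map (CommRingCat.ofHom θ'.toRingHom), ?_, ?_⟩
  · rw [← Spec.map_comp, h1, hθ]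
  · rw [← Spec.map_comp]
    congr 1
    apply CommRingCat.hom_ext
    ext r
    simp [θ']

theorem exists_kpt_of_nonempty_open (k : Type u) [Field k] [Infinite k] (σ : Type u)
    (V : (Spec (CommRingCat.of (MvPolynomial σ k))).Opens)
    (hV : (V : Set (Spec (CommRingCat.of (MvPolynomial σ k)))).Nonempty) :
    ∃ p : Spec (CommRingCat.of k) ⟶ Spec (CommRingCat.of (MvPolynomial σ k)),
      Set.range p.base ⊆ (V : Set _) ∧
      p ≫ Spec.map (CommRingCat.ofHom (MvPolynomial.C : k →+* MvPolynomial σ k)) = 𝟙 _ := by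
  obtain ⟨x, hx⟩ := hV
  obtain ⟨_, ⟨g, rfl⟩, hxg, hgV⟩ :=
    (PrimeSpectrum.isTopologicalBasis_basic_opens (R := MvPolynomial σ k)).exists_subset_of_mem_open
      hx V.2
  have hg0 : g ≠ 0 := by
    rintro rfl
    exact hxg (Submodule.zero_mem _)
  obtain ⟨c, hc⟩ : ∃ c : σ → k, MvPolynomial.eval c g ≠ 0 := by
    by_contra hcon
    simp only [not_exists, not_not] at hcon
    exact hg0 (MvPolynomial.funext (fun c => by rw [hcon c, map_zero]))
  set α : MvPolynomial σ k →+* k := MvPolynomial.eval c with hα
  have hαg : IsUnit (α g) := IsUnit.mk0 _ hc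
  refine ⟨Spec.map (CommRingCat.ofHom α), ?_, ?_⟩
  · rintro _ ⟨y, rfl⟩
    apply hgV
    change g ∉ (PrimeSpectrum.comap α y).asIdeal
    intro hmem
    have hmem' : α g ∈ (show PrimeSpectrum k from y).asIdeal := hmem
    exact (show PrimeSpectrum k from y).isPrime.ne_top (Ideal.eq_top_of_isUnit_mem _ hmem' hαg)
  · rw [← Spec.map_comp, ← Spec.map_id]
    congr 1
    apply CommRingCat.hom_ext
    ext r
    simp [hα]

end Groth.Agent.Lib.Helper90.RetractRat
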