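import Mathlib
import Groth.Agent.Lib.Helper90.RetractRat4

set_option linter.style.haveILetI false
set_option linter.unusedSectionVars false

namespace Groth.Agent.Lib.Helper90.RetractRat

open CategoryTheory CategoryTheory.Limits AlgebraicGeometry TopologicalSpace

universe u

theorem direct_factor (k : Type u) [Field k] [Infinite k]
    (X Y : Scheme.{u}) (f : X ⟶ Spec (CommRingCat.of k)) (g : Y ⟶ Spec (CommRingCat.of k))
    [IsIntegral X] [LocallyOfFiniteType f]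
    [IsIntegral (pullback f g)]
    [Scheme.IsRationalOver (pullback.fst f g ≫ f)] :
    ∃ (U : X.Opens) (n : ℕ) (Y' : (Spec (CommRingCat.of (MvPolynomial (Fin n) k))).Opens)
        (a : (U : Scheme.{u}) ⟶ (Y' : Scheme.{u})) (b : (Y' : Scheme.{u}) ⟶ (U : Scheme.{u})),
        (U : Set X).Nonempty ∧ a ≫ b = 𝟙 (U : Scheme.{u}) ∧
        a ≫ Y'.ι ≫ Spec.map (CommRingCat.ofHom (algebraMap k (MvPolynomial (Fin n) k))) =
          U.ι ≫ f ∧
        b ≫ U.ι ≫ f =
          Y'.ι ≫ Spec.map (CommRingCat.ofHom (algebraMap k (MvPolynomial (Fin n) k))) := by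
  obtain ⟨σ, τ, hτ⟩ :=
    Scheme.IsRationalOver.exists_birationalOver_affineSpace (pullback.fst f g ≫ f)
  -- hτ : τ.iso.hom ≫ τ.target.ι ≫ (𝔸 ↘ Spec k) = τ.source.ι ≫ (fst ≫ f)
  have hτ' : τ.iso.hom ≫ τ.target.ι ≫ (𝔸(σ; Spec (CommRingCat.of k)) ↘ Spec (CommRingCat.of k)) =
      τ.source.ι ≫ pullback.fst f g ≫ f := hτ
  let e := AffineSpace.SpecIso σ (CommRingCat.of k)
  have heover : e.inv ≫ (𝔸(σ; Spec (CommRingCat.of k)) ↘ Spec (CommRingCat.of k)) =
      Spec.map (CommRingCat.ofHom (MvPolynomial.C : k →+* MvPolynomial σ k)) :=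
    AffineSpace.SpecIso_inv_over (CommRingCat.of k)
  have heover' : (𝔸(σ; Spec (CommRingCat.of k)) ↘ Spec (CommRingCat.of k)) =
      e.hom ≫ Spec.map (CommRingCat.ofHom (MvPolynomial.C : k →+* MvPolynomial σ k)) := by
    rw [← heover, Iso.hom_inv_id_assoc]
  -- nonempty target
  haveI : Nonempty ↥(pullback f g) := inferInstance
  obtain ⟨z⟩ : Nonempty ↥(pullback f g) := inferInstance
  obtain ⟨o, ho⟩ : (τ.source : Set ↥(pullback f g)).Nonempty := τ.dense_source.nonempty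
  let o' : ↥(τ.target : Scheme.{u}) := τ.iso.hom.base ⟨o, ho⟩
  let O'' : (Spec (CommRingCat.of (MvPolynomial σ k))).Opens := e.inv ⁻¹ᵁ τ.target
  have hO''ne : (O'' : Set (Spec (CommRingCat.of (MvPolynomial σ k)))).Nonempty := by
    refine ⟨e.hom.base (τ.target.ι.base o'), ?_⟩
    show e.inv.base (e.hom.base (τ.target.ι.base o')) ∈ τ.target
    rw [← Scheme.Hom.comp_apply, Iso.hom_inv_id]
    exact o'.2
  obtain ⟨z₁, hz₁r, hz₁⟩ := exists_kpt_of_nonempty_open k σ O'' hO''ne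
  -- the k-point of the target
  let z₀ : Spec (CommRingCat.of k) ⟶ 𝔸(σ; Spec (CommRingCat.of k)) := z₁ ≫ e.inv
  have hz₀r : Set.range z₀.base ⊆ Set.range τ.target.ι.base := by
    rw [Scheme.Opens.range_ι]
    rintro _ ⟨t, rfl⟩
    have : z₁.base t ∈ O'' := hz₁r ⟨t, rfl⟩
    rw [Scheme.Hom.comp_apply]
    exact this
  let z₀' : Spec (CommRingCat.of k) ⟶ (τ.target : Scheme.{u}) :=
    IsOpenImmersion.lift τ.target.ι z₀ hz₀r
  have hz₀' : z₀' ≫ τ.target.ι = z₀ := IsOpenImmersion.lift_fac _ _ _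
  let w : Spec (CommRingCat.of k) ⟶ pullback f g := z₀' ≫ τ.iso.inv ≫ τ.source.ι
  have hw : w ≫ pullback.fst f g ≫ f = 𝟙 _ := by
    show (z₀' ≫ τ.iso.inv ≫ τ.source.ι) ≫ pullback.fst f g ≫ f = 𝟙 _
    rw [Category.assoc, Category.assoc, ← hτ', Iso.inv_hom_id_assoc, ← Category.assoc, hz₀']
    show (z₁ ≫ e.inv) ≫ _ = _
    rw [Category.assoc, heover, hz₁]
  let y₀ : Spec (CommRingCat.of k) ⟶ Y := w ≫ pullback.snd f g
  have hy₀ : y₀ ≫ g = 𝟙 _ := by
    show (w ≫ pullback.snd f g) ≫ g = 𝟙 _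
    rw [Category.assoc, ← pullback.condition, hw]
  let s : X ⟶ pullback f g := pullback.lift (𝟙 X) (f ≫ y₀)
    (by rw [Category.id_comp, Category.assoc, hy₀, Category.comp_id])
  have hs1 : s ≫ pullback.fst f g = 𝟙 X := pullback.lift_fst _ _ _
  have hs2 : s ≫ pullback.snd f g = f ≫ y₀ := pullback.lift_snd _ _ _
  let V : X.Opens := s ⁻¹ᵁ τ.source
  have hws : (w ≫ pullback.fst f g) ≫ s = w := by
    apply pullback.hom_ext
    · rw [Category.assoc, hs1, Category.comp_id]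
    · rw [Category.assoc, hs2, ← Category.assoc, Category.assoc w, hw, Category.id_comp]
  have hVne : (V : Set X).Nonempty := by
    let t : Spec (CommRingCat.of k) := IsLocalRing.closedPoint k
    refine ⟨(w ≫ pullback.fst f g).base t, ?_⟩
    show s.base ((w ≫ pullback.fst f g).base t) ∈ τ.source
    rw [← Scheme.Hom.comp_apply, hws]
    show (z₀' ≫ τ.iso.inv ≫ τ.source.ι).base t ∈ τ.source
    rw [← Category.assoc, Scheme.Hom.comp_apply]
    exact ((z₀' ≫ τ.iso.inv).base t).2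
  apply bwd k X f V hVne
  intro A _ _ _ g₁ hg₁
  -- m₁ : Spec κ → Z lands in source
  have hm₁r : Set.range (g₁ ≫ V.ι ≫ s).base ⊆ Set.range τ.source.ι.base := by
    rw [Scheme.Opens.range_ι]
    rintro _ ⟨t, rfl⟩
    rw [← Category.assoc, Scheme.Hom.comp_apply, Scheme.Hom.comp_apply]
    exact (g₁.base t).2
  let m₁' : Spec (CommRingCat.of (IsLocalRing.ResidueField A)) ⟶ (τ.source : Scheme.{u}) :=
    IsOpenImmersion.lift τ.source.ι (g₁ ≫ V.ι ≫ s) hm₁r
  have hm₁' : m₁' ≫ τ.source.ι = g₁ ≫ V.ι ≫ s := IsOpenImmersion.lift_fac _ _ _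
  let m₂ : Spec (CommRingCat.of (IsLocalRing.ResidueField A)) ⟶ 𝔸(σ; Spec (CommRingCat.of k)) :=
    m₁' ≫ τ.iso.hom ≫ τ.target.ι
  have hm₂ : m₂ ≫ (𝔸(σ; Spec (CommRingCat.of k)) ↘ Spec (CommRingCat.of k)) =
      Spec.map (CommRingCat.ofHom ((IsLocalRing.residue A).comp (algebraMap k A))) := by
    show (m₁' ≫ τ.iso.hom ≫ τ.target.ι) ≫ _ = _
    rw [Category.assoc, Category.assoc, hτ', ← Category.assoc, hm₁', Category.assoc,
      Category.assoc, ← Category.assoc s, hs1, Category.id_comp, hg₁]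
  obtain ⟨h₀, hh₀1, hh₀2⟩ := exists_lift_affine k σ A (m₂ ≫ e.hom) (by
    rw [Category.assoc, ← heover', hm₂])
  let h : Spec (CommRingCat.of A) ⟶ 𝔸(σ; Spec (CommRingCat.of k)) := h₀ ≫ e.inv
  have hh1 : Spec.map (CommRingCat.ofHom (IsLocalRing.residue A)) ≫ h = m₂ := by
    show _ ≫ h₀ ≫ e.inv = _
    rw [← Category.assoc, hh₀1, Category.assoc, Iso.hom_inv_id, Category.comp_id]
  have hh2 : h ≫ (𝔸(σ; Spec (CommRingCat.of k)) ↘ Spec (CommRingCat.of k)) =
      Spec.map (CommRingCat.ofHom (algebraMap k A)) := by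
    show (h₀ ≫ e.inv) ≫ _ = _
    rw [Category.assoc, heover, hh₀2]
  let t₀ : Spec (CommRingCat.of (IsLocalRing.ResidueField A)) :=
    IsLocalRing.closedPoint (IsLocalRing.ResidueField A)
  have e1 : (Spec.map (CommRingCat.ofHom (IsLocalRing.residue A))).base t₀ =
      IsLocalRing.closedPoint A := IsLocalRing.PrimeSpectrum.comap_residue A t₀
  have hpt : h.base (IsLocalRing.closedPoint A) ∈ τ.target := by
    rw [← e1, ← Scheme.Hom.comp_apply, hh1]
    show (m₁' ≫ τ.iso.hom ≫ τ.target.ι).base t₀ ∈ τ.target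
    rw [← Category.assoc, Scheme.Hom.comp_apply]
    exact ((m₁' ≫ τ.iso.hom).base t₀).2
  obtain ⟨h', hh'⟩ := exists_lift_of_closedPoint_mem τ.target A h hpt
  let g₂ : Spec (CommRingCat.of A) ⟶ X := h' ≫ τ.iso.inv ≫ τ.source.ι ≫ pullback.fst f g
  have hres : Spec.map (CommRingCat.ofHom (IsLocalRing.residue A)) ≫ h' = m₁' ≫ τ.iso.hom := by
    rw [← cancel_mono τ.target.ι, Category.assoc, hh', hh1, Category.assoc]
  have hg₂1 : Spec.map (CommRingCat.ofHom (IsLocalRing.residue A)) ≫ g₂ = g₁ ≫ V.ι := by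
    show _ ≫ h' ≫ τ.iso.inv ≫ τ.source.ι ≫ pullback.fst f g = _
    rw [← Category.assoc, hres, Category.assoc, Iso.hom_inv_id_assoc, ← Category.assoc, hm₁',
      Category.assoc, Category.assoc, hs1, Category.comp_id]
  have hg₂pt : g₂.base (IsLocalRing.closedPoint A) ∈ V := by
    rw [← e1, ← Scheme.Hom.comp_apply, hg₂1, Scheme.Hom.comp_apply]
    exact (g₁.base t₀).2
  obtain ⟨g', hg'⟩ := exists_lift_of_closedPoint_mem V A g₂ hg₂pt
  refine ⟨g', ?_, ?_⟩
  · rw [← cancel_mono V.ι, Category.assoc, hg', hg₂1]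
  · rw [← Category.assoc, hg']
    show (h' ≫ τ.iso.inv ≫ τ.source.ι ≫ pullback.fst f g) ≫ f = _
    rw [Category.assoc, Category.assoc, Category.assoc, ← hτ', Iso.inv_hom_id_assoc,
      ← Category.assoc, hh', hh2]

end Groth.Agent.Lib.Helper90.RetractRat
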