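import Mathlib
import Groth.Agent.S0501
import Groth.Agent.S0502

/-!
Sections of etale morphisms over a local ring versus strict henselianity (helper90).
-/

set_option autoImplicit false
set_option linter.style.haveILetI false
set_option linter.unusedSectionVars false
universe u

open AlgebraicGeometry CategoryTheory IsLocalRing Polynomial

namespace Groth.Agent.Lib.Helper90.SHensSection

/-- residue field trick: over a local ring with separably closed residue field, an etale algebra
with a prime over the maximal ideal has trivial residue field extension there. -/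
theorem exists_tau (A : Type u) [CommRing A] [IsLocalRing A] [IsSepClosed (ResidueField A)]
    (B : Type u) [CommRing B] [Algebra A B] [Algebra.Etale A B] (q : Ideal B) [q.IsPrime]
    (hq : q.comap (algebraMap A B) = maximalIdeal A) :
    ∃ τ : q.ResidueField →+* ResidueField A,
      τ.comp (algebraMap A q.ResidueField) = (residue A).comp (algebraMap A A) := by
  haveI : q.LiesOver (maximalIdeal A) := ⟨hq.symm⟩
  haveI : IsLocalHom (algebraMap A (Localization.AtPrime q)) := by
    constructor
    intro a ha
    by_contra hna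
    have hmem : a ∈ maximalIdeal A := (mem_maximalIdeal a).mpr hna
    rw [← hq] at hmem
    have h2 : algebraMap A (Localization.AtPrime q) a ∈ maximalIdeal (Localization.AtPrime q) := by
      rw [IsScalarTower.algebraMap_apply A B (Localization.AtPrime q)]
      exact (IsLocalization.AtPrime.to_map_mem_maximal_iff (Localization.AtPrime q) q _).mpr hmem
    exact (mem_maximalIdeal _).mp h2 ha
  haveI : Algebra.FormallyUnramified A (Localization.AtPrime q) :=
    Algebra.FormallyUnramified.comp A B (Localization.AtPrime q)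
  haveI : Algebra.EssFiniteType A (Localization.AtPrime q) :=
    Algebra.EssFiniteType.comp A B (Localization.AtPrime q)
  have hsurj : Function.Surjective
      (algebraMap (ResidueField A) (ResidueField (Localization.AtPrime q))) :=
    IsSepClosed.algebraMap_surjective (ResidueField A) (ResidueField (Localization.AtPrime q))
  have hbij : Function.Bijective
      (algebraMap (ResidueField A) (ResidueField (Localization.AtPrime q))) :=
    ⟨(algebraMap (ResidueField A) (ResidueField (Localization.AtPrime q))).injective, hsurj⟩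
  let e := RingEquiv.ofBijective _ hbij
  refine ⟨e.symm.toRingHom, ?_⟩
  ext a
  simp only [RingHom.comp_apply, RingEquiv.toRingHom_eq_coe, RingHom.coe_coe, Algebra.algebraMap_self,
    RingHom.id_apply]
  rw [RingEquiv.symm_apply_eq]
  change algebraMap A q.ResidueField a = algebraMap (ResidueField A) _ (residue A a)
  rw [IsScalarTower.algebraMap_apply A (ResidueField A) q.ResidueField]
  rfl

theorem exists_section (A : Type u) [CommRing A] [HenselianLocalRing A]
    [IsSepClosed (ResidueField A)]
    (X : Scheme.{u}) (f : X ⟶ Spec (CommRingCat.of A)) [Etale f] (x : X)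
    (hx : f.base x = closedPoint A) :
    ∃ u : Spec (CommRingCat.of A) ⟶ X, u ≫ f = 𝟙 _ ∧ u.base (closedPoint A) = x := by
  obtain ⟨U, hU, hxU, -⟩ := exists_isAffineOpen_mem_and_subset (x := x) (U := ⊤) trivial
  let ψ : CommRingCat.of A ⟶ Γ(X, U) := Spec.preimage (hU.fromSpec ≫ f)
  have hψ : Spec.map ψ = hU.fromSpec ≫ f := Spec.map_preimage _
  have het : Etale (Spec.map ψ) := by rw [hψ]; infer_instance
  have het' : ψ.hom.Etale := (HasRingHomProperty.Spec_iff (P := @Etale)).mp het
  letI : Algebra A Γ(X, U) := ψ.hom.toAlgebra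
  haveI : Algebra.Etale A Γ(X, U) := het'
  let y : Spec Γ(X, U) := hU.primeIdealOf ⟨x, hxU⟩
  have hy : hU.fromSpec y = x := hU.fromSpec_primeIdealOf ⟨x, hxU⟩
  have hq : y.asIdeal.comap (algebraMap A Γ(X, U)) = maximalIdeal A := by
    have h1 : (Spec.map ψ) y = closedPoint A := by
      rw [hψ]
      change f (hU.fromSpec y) = _
      rw [hy]; exact hx
    have h2 := congrArg PrimeSpectrum.asIdeal h1
    exact h2
  obtain ⟨τ, hτ⟩ := exists_tau A Γ(X, U) y.asIdeal hq
  obtain ⟨ρ, ⟨hρ1, hρ2⟩, -⟩ := Groth.Agent.S0501.result A A Γ(X, U) y.asIdeal τ hτ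
  let u : Spec (CommRingCat.of A) ⟶ X := Spec.map (CommRingCat.ofHom ρ.toRingHom) ≫ hU.fromSpec
  refine ⟨u, ?_, ?_⟩
  · change (Spec.map (CommRingCat.ofHom ρ.toRingHom) ≫ hU.fromSpec) ≫ f = _
    rw [Category.assoc, ← hψ, ← Spec.map_comp]
    have : ψ ≫ CommRingCat.ofHom ρ.toRingHom = 𝟙 _ := by
      ext a
      exact ρ.commutes a
    rw [this, Spec.map_id]
  · change hU.fromSpec ((Spec.map (CommRingCat.ofHom ρ.toRingHom)) (closedPoint A)) = x
    have : (Spec.map (CommRingCat.ofHom ρ.toRingHom)) (closedPoint A) = y := by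
      apply PrimeSpectrum.ext
      exact hρ1
    rw [this, hy]

/-- From sections to retractions of etale algebras. -/
theorem exists_retraction (A : Type u) [CommRing A] [IsLocalRing A]
    (H : ∀ (X : Scheme.{u}) (f : X ⟶ Spec (CommRingCat.of A)), Etale f →
        ∀ x : X, f.base x = closedPoint A →
          ∃ u : Spec (CommRingCat.of A) ⟶ X, u ≫ f = 𝟙 _ ∧ u.base (closedPoint A) = x)
    (B : Type u) [CommRing B] [Algebra A B] [Algebra.Etale A B] (q : Ideal B) [q.IsPrime]
    (hq : q.comap (algebraMap A B) = maximalIdeal A) :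
    ∃ ρ : B →ₐ[A] A, q = (maximalIdeal A).comap ρ.toRingHom := by
  let f : Spec (CommRingCat.of B) ⟶ Spec (CommRingCat.of A) :=
    Spec.map (CommRingCat.ofHom (algebraMap A B))
  have hf : Etale f := by
    rw [HasRingHomProperty.Spec_iff (P := @Etale)]
    change (algebraMap A B).Etale
    rw [RingHom.etale_algebraMap]
    infer_instance
  let x : Spec (CommRingCat.of B) := ⟨q, inferInstance⟩
  have hx : f.base x = closedPoint A := by
    apply PrimeSpectrum.ext
    exact hq
  obtain ⟨u, hu1, hu2⟩ := H _ f hf x hx
  let ρ' : CommRingCat.of B ⟶ CommRingCat.of A := Spec.preimage u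
  have hρ' : Spec.map ρ' = u := Spec.map_preimage _
  have hcomp : CommRingCat.ofHom (algebraMap A B) ≫ ρ' = 𝟙 _ := by
    apply Spec.map_injective
    rw [Spec.map_comp, hρ', Spec.map_id]
    exact hu1
  have hcomm : ∀ a : A, ρ'.hom (algebraMap A B a) = a := by
    intro a
    have := congrArg (fun g => g.hom a) hcomp
    exact this
  refine ⟨{ ρ'.hom with commutes' := hcomm }, ?_⟩
  have h3 : (Spec.map ρ') (closedPoint A) = x := by rw [hρ']; exact hu2
  have h4 := congrArg PrimeSpectrum.asIdeal h3
  exact h4.symm

/-- Retractions of etale algebras with a prime over the maximal ideal force the residue field to be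
separably closed. -/
theorem isSepClosed_of_retraction (A : Type u) [CommRing A] [IsLocalRing A]
    (H : ∀ (B : Type u) [CommRing B] [Algebra A B] [Algebra.Etale A B] (q : Ideal B) [q.IsPrime],
      q.comap (algebraMap A B) = maximalIdeal A → Nonempty (B →ₐ[A] A)) :
    IsSepClosed (ResidueField A) := by
  apply IsSepClosed.of_exists_root
  intro gb hgm hgirr hgsep
  have hl : gb ∈ Polynomial.lifts (residue A) := by
    rw [Polynomial.lifts_iff_coeff_lifts]
    intro n
    exact residue_surjective _
  obtain ⟨g, hg1, -, hg3⟩ := Polynomial.lifts_and_natDegree_eq_and_monic hl hgm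
  let P : StandardEtalePair A :=
    { f := g, monic_f := hg3, g := derivative g, cond := ⟨1, 0, 1, by simp⟩ }
  haveI : Fact (Irreducible gb) := ⟨hgirr⟩
  let K := AdjoinRoot gb
  have haeval : ∀ Q : A[X], aeval (AdjoinRoot.root gb) Q =
      eval (AdjoinRoot.root gb) ((Q.map (residue A)).map (algebraMap (ResidueField A) K)) := by
    intro Q
    rw [Polynomial.map_map, Polynomial.eval_map]
    rfl
  have h1 : aeval (AdjoinRoot.root gb) g = 0 := by
    rw [haeval, hg1, eval_map_algebraMap, AdjoinRoot.aeval_eq, AdjoinRoot.mk_self]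
  have h2 : IsUnit (aeval (AdjoinRoot.root gb) (derivative g)) := by
    rw [haeval, ← derivative_map, hg1, eval_map_algebraMap]
    refine IsUnit.mk0 _ (hgsep.aeval_derivative_ne_zero ?_)
    rw [AdjoinRoot.aeval_eq, AdjoinRoot.mk_self]
  have hmap : P.HasMap (AdjoinRoot.root gb) := ⟨h1, h2⟩
  let φ : P.Ring →ₐ[A] K := P.lift _ hmap
  let q : Ideal P.Ring := RingHom.ker φ.toRingHom
  haveI : q.IsPrime := RingHom.ker_isPrime _
  have hq : q.comap (algebraMap A P.Ring) = maximalIdeal A := by
    ext a
    rw [Ideal.mem_comap, RingHom.mem_ker]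
    change φ (algebraMap A P.Ring a) = 0 ↔ _
    rw [φ.commutes, IsScalarTower.algebraMap_apply A (ResidueField A) K,
      map_eq_zero_iff _ (algebraMap (ResidueField A) K).injective]
    exact residue_eq_zero_iff a
  obtain ⟨ρ⟩ := H P.Ring q hq
  refine ⟨residue A (ρ P.X), ?_⟩
  have h3 : aeval (ρ P.X) g = 0 := by
    rw [Polynomial.aeval_algHom_apply, show aeval P.X g = 0 from P.hasMap_X.1, map_zero]
  rw [← hg1, Polynomial.eval_map, Polynomial.eval₂_at_apply]
  have : eval (ρ P.X) g = aeval (ρ P.X) g := (Polynomial.coe_aeval_eq_eval (ρ P.X) ▸ rfl)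
  rw [this, h3, map_zero]

/-- Main equivalence. -/
theorem main (A : Type u) [CommRing A] [IsLocalRing A] :
    (HenselianLocalRing A ∧ IsSepClosed (IsLocalRing.ResidueField A)) ↔
      ∀ (X : Scheme.{u}) (f : X ⟶ Spec (CommRingCat.of A)), Etale f →
        ∀ x : X, f.base x = IsLocalRing.closedPoint A →
          ∃ u : Spec (CommRingCat.of A) ⟶ X, u ≫ f = 𝟙 _ ∧ u.base (IsLocalRing.closedPoint A) = x := by
  constructor
  · rintro ⟨h1, h2⟩ X f hf x hx
    exact exists_section A X f x hx
  · intro H
    have hret : ∀ (B : Type u) [CommRing B] [Algebra A B] [Algebra.Etale A B] (q : Ideal B)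
        [q.IsPrime], q.comap (algebraMap A B) = maximalIdeal A → Nonempty (B →ₐ[A] A) := by
      intro B _ _ _ q _ hq
      obtain ⟨ρ, -⟩ := exists_retraction A H B q hq
      exact ⟨ρ⟩
    refine ⟨Groth.Agent.S0502.result A ?_, isSepClosed_of_retraction A hret⟩
    intro S _ _ _ q _ hq _
    exact hret S q hq.over.symm

end Groth.Agent.Lib.Helper90.SHensSection
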