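import Mathlib
import Groth.Prelude.Def_EssEt
import Groth.Agent.Lib.Helper37.Hz11
import Groth.Agent.Lib.Helper90.EssEtSub

set_option autoImplicit false
set_option linter.style.haveILetI false
set_option linter.unusedSectionVars false
universe u

namespace Groth.Agent.Lib.Helper90.SHensUnion

open IsLocalRing Groth.Agent.Lib.Helper37.Hz

/-- Every finite subset of a strict henselization lies in a local essentially etale
subalgebra whose units are exactly its elements that are units in the strict henselization. -/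
theorem exists_essEtale_sub (A S : Type u) [CommRing A] [IsLocalRing A]
    [CommRing S] [IsLocalRing S] [Algebra A S] [IsLocalHom (algebraMap A S)]
    [Hensel.IsStrictHenselization A S] (σ : Finset S) :
    ∃ E : Subalgebra A S, (σ : Set S) ⊆ E ∧ (∀ x ∈ E, IsUnit x → ∃ y ∈ E, x * y = 1) ∧
      ∃ _ : IsLocalRing E, EGA4loc.IsEssentiallyEtale A E := by
  classical
  haveI : Module.FaithfullyFlat A S := faithfullyFlat_of_isStrictHenselization A S
  obtain ⟨e⟩ := nonempty_algEquiv_SHens A S
  obtain ⟨i, y, hy⟩ := exists_of_finite (R := A) (Ω := SepCl A) (fun k : σ => e k.1)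
  let ρ : Localization.AtPrime (ptKer i.θ) →ₐ[A] S :=
    (e.symm : SHens A →ₐ[A] S).comp (of i)
  haveI hρl : IsLocalHom ρ.toRingHom := by
    constructor
    intro z hz
    have h1 : IsUnit (e (ρ z)) := hz.map e
    have h2 : e (ρ z) = of i z := e.apply_symm_apply _
    rw [h2] at h1
    exact (isLocalHom_of i).map_nonunit z h1
  have hinj : Function.Injective ρ := Groth.Agent.Lib.Helper90.EssEtSub.injective_of_flat _ ρ
  let eE : Localization.AtPrime (ptKer i.θ) ≃ₐ[A] ρ.range := AlgEquiv.ofInjective ρ hinj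
  refine ⟨ρ.range, ?_, ?_, ?_⟩
  · intro k hk
    refine ⟨y ⟨k, hk⟩, ?_⟩
    change e.symm (of i (y ⟨k, hk⟩)) = k
    rw [hy ⟨k, hk⟩]
    exact e.symm_apply_apply k
  · rintro x ⟨z, rfl⟩ hx
    have hz : IsUnit z := hρl.map_nonunit z hx
    obtain ⟨w, hw⟩ := hz.exists_right_inv
    exact ⟨ρ w, ⟨w, rfl⟩, by
      change ρ z * ρ w = 1
      rw [← map_mul, hw, map_one]⟩
  · refine ⟨eE.toRingEquiv.isLocalRing, ?_⟩
    exact ⟨i.Ring, inferInstance, inferInstance, ptKer i.θ, inferInstance, inferInstance,
      comap_ptKer i.θ, ⟨eE.symm⟩⟩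

end Groth.Agent.Lib.Helper90.SHensUnion
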