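import Mathlib

set_option linter.style.haveILetI false
set_option linter.unusedSectionVars false

namespace Groth.Agent.Lib.Helper90.SecIso

open IsLocalRing

theorem finset_kill {B : Type*} [CommRing B] (q : Ideal B) [q.IsPrime] (t : Finset B)
    (h : ∀ b ∈ t, ∃ g : B, g ∉ q ∧ g * b = 0) : ∃ g : B, g ∉ q ∧ ∀ b ∈ t, g * b = 0 := by
  classical
  induction t using Finset.induction_on with
  | empty => exact ⟨1, fun h1 => (Ideal.ne_top_iff_one q).mp (Ideal.IsPrime.ne_top ‹_›) h1, by simp⟩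
  | insert a t _ ih =>
    obtain ⟨g₁, hg₁, h₁⟩ := ih (fun b hb => h b (Finset.mem_insert_of_mem hb))
    obtain ⟨g₂, hg₂, h₂⟩ := h a (Finset.mem_insert_self a t)
    refine ⟨g₁ * g₂, fun hmem => ?_, ?_⟩
    · rcases Ideal.IsPrime.mem_or_mem ‹_› hmem with h' | h'
      · exact hg₁ h'
      · exact hg₂ h'
    · intro b hb
      rcases Finset.mem_insert.mp hb with rfl | hb
      · rw [mul_assoc, h₂, mul_zero]
      · rw [mul_comm g₁ g₂, mul_assoc, h₁ b hb, mul_zero]

theorem ring_core {A B R' : Type*} [CommRing A] [CommRing B] [CommRing R'] [Algebra B R']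
    (φ : A →+* B) (σ : B →+* A) (hσφ : ∀ a, σ (φ a) = a)
    (p : Ideal A) [p.IsPrime] (q : Ideal B) [q.IsPrime] (hq : q = p.comap σ)
    [IsLocalization.AtPrime R' q]
    (hI : (RingHom.ker σ).FG)
    (fib : ∀ b, σ b = 0 → algebraMap B R' b ∈ p.map ((algebraMap B R').comp φ)) :
    ∃ g : B, g ∉ q ∧ ∀ b, σ b = 0 → g * b = 0 := by
  haveI : IsLocalRing R' := IsLocalization.AtPrime.isLocalRing R' q
  let alg : B →+* R' := algebraMap B R'
  let ρ' : B →+* B := φ.comp σ
  have hρ'I : ∀ b, σ (b - ρ' b) = 0 := by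
    intro b
    rw [map_sub]
    show σ b - σ (φ (σ b)) = 0
    rw [hσφ, sub_self]
  have hmemq : ∀ b, b ∈ q ↔ σ b ∈ p := by
    intro b; rw [hq, Ideal.mem_comap]
  have hρ'q : ∀ g : q.primeCompl, IsUnit ((alg.comp ρ') g) := by
    intro g
    refine IsLocalization.map_units R' (M := q.primeCompl) ⟨ρ' g, ?_⟩
    show ρ' g ∉ q
    rw [hmemq]
    show σ (φ (σ g)) ∉ p
    rw [hσφ, ← hmemq]
    exact g.2
  let ρ : R' →+* R' := IsLocalization.lift (M := q.primeCompl) hρ'q
  have hρalg : ∀ b, ρ (alg b) = alg (ρ' b) := fun b => IsLocalization.lift_eq _ _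
  let M : Ideal R' := (RingHom.ker σ).map alg
  have hM : M.FG := hI.map _
  have hyM : ∀ y : R', y - ρ y ∈ M := by
    intro y
    obtain ⟨⟨b, g⟩, hy⟩ := IsLocalization.surj q.primeCompl y
    have hy' : y * alg g = alg b := hy
    have hy2 : ρ y * alg (ρ' g) = alg (ρ' b) := by
      rw [← hρalg, ← hρalg, ← map_mul, hy']
    have hu : IsUnit (alg g * alg (ρ' g)) :=
      (IsLocalization.map_units R' g).mul (hρ'q g)
    rw [← Ideal.mul_unit_mem_iff_mem M hu]
    have e : (y - ρ y) * (alg g * alg (ρ' g)) =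
        alg ((b - ρ' b) * ρ' g - ρ' b * (g - ρ' g)) := by
      rw [map_sub, map_mul, map_mul, map_sub, map_sub, ← hy', ← hy2]
      ring
    rw [e]
    apply Ideal.mem_map_of_mem
    rw [RingHom.mem_ker, map_sub, map_mul, map_mul, hρ'I, hρ'I, zero_mul, mul_zero, sub_zero]
  have hqm : ∀ b ∈ q, alg b ∈ maximalIdeal R' := by
    intro b hb
    rw [← IsLocalization.AtPrime.map_eq_maximalIdeal q R']
    exact Ideal.mem_map_of_mem _ hb
  have hPm : p.map (alg.comp φ) ≤ maximalIdeal R' := by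
    rw [Ideal.map_le_iff_le_comap]
    intro a ha
    rw [Ideal.mem_comap]
    apply hqm
    rw [hmemq, hσφ]
    exact ha
  have hmM : maximalIdeal R' * M ≤ maximalIdeal R' := Ideal.mul_le_left
  have hP : ∀ z ∈ p.map (alg.comp φ), z - ρ z ∈ maximalIdeal R' * M := by
    intro z hz
    unfold Ideal.map at hz
    induction hz using Submodule.span_induction with
    | mem z hz =>
      obtain ⟨a, _, rfl⟩ := hz
      have : ρ ((alg.comp φ) a) = (alg.comp φ) a := by
        show ρ (alg (φ a)) = alg (φ a)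
        rw [hρalg]
        show alg (φ (σ (φ a))) = alg (φ a)
        rw [hσφ]
      rw [this, sub_self]
      exact Ideal.zero_mem _
    | zero => rw [map_zero, sub_zero]; exact Ideal.zero_mem _
    | add z₁ z₂ _ _ h₁ h₂ =>
      have : z₁ + z₂ - ρ (z₁ + z₂) = (z₁ - ρ z₁) + (z₂ - ρ z₂) := by rw [map_add]; ring
      rw [this]
      exact Ideal.add_mem _ h₁ h₂
    | smul r z hz ih =>
      have hzm : z ∈ maximalIdeal R' := hPm hz
      have hρzm : ρ z ∈ maximalIdeal R' := by
        have : ρ z = z - (z - ρ z) := by ring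
        rw [this]
        exact Ideal.sub_mem _ hzm (hmM ih)
      have : r • z - ρ (r • z) = r * (z - ρ z) + ρ z * (r - ρ r) := by
        rw [smul_eq_mul, map_mul]; ring
      rw [this]
      exact Ideal.add_mem _ (Ideal.mul_mem_left _ _ ih) (Ideal.mul_mem_mul hρzm (hyM r))
  have hMle : M ≤ maximalIdeal R' • M := by
    rw [smul_eq_mul]
    show (RingHom.ker σ).map alg ≤ _
    rw [Ideal.map_le_iff_le_comap]
    intro b hb
    rw [RingHom.mem_ker] at hb
    rw [Ideal.mem_comap]
    have h0 : ρ (alg b) = 0 := by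
      rw [hρalg]
      show alg (φ (σ b)) = 0
      rw [hb, map_zero, map_zero]
    have := hP (alg b) (fib b hb)
    rwa [h0, sub_zero] at this
  have hMbot : M = ⊥ := by
    refine Submodule.eq_bot_of_le_smul_of_le_jacobson_bot (maximalIdeal R') M hM hMle ?_
    rw [IsLocalRing.jacobson_eq_maximalIdeal ⊥ bot_ne_top]
  obtain ⟨s, hs⟩ := hI
  have key : ∀ b ∈ s, ∃ g : B, g ∉ q ∧ g * b = 0 := by
    intro b hb
    have hbk : b ∈ RingHom.ker σ := by rw [← hs]; exact Ideal.subset_span hb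
    have : alg b ∈ M := Ideal.mem_map_of_mem _ hbk
    rw [hMbot, Ideal.mem_bot] at this
    obtain ⟨g, hg⟩ := (IsLocalization.map_eq_zero_iff q.primeCompl R' b).mp this
    exact ⟨g, g.2, hg⟩
  obtain ⟨g, hgq, hg⟩ := finset_kill q s key
  refine ⟨g, hgq, fun b hb => ?_⟩
  have hbk : b ∈ Ideal.span (s : Set B) := by rw [hs, RingHom.mem_ker]; exact hb
  clear hb
  unfold Ideal.span at hbk
  induction hbk using Submodule.span_induction with
  | mem z hz => exact hg z hz
  | zero => rw [mul_zero]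
  | add z₁ z₂ _ _ h₁ h₂ => rw [mul_add, h₁, h₂, add_zero]
  | smul r z _ ih => rw [smul_eq_mul, mul_left_comm, ih, mul_zero]

end Groth.Agent.Lib.Helper90.SecIso
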