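import Mathlib

set_option linter.style.haveILetI false
set_option linter.unusedSectionVars false

namespace Groth.Agent.Lib.Helper90.SecIso

open CategoryTheory CategoryTheory.Limits AlgebraicGeometry

universe u

theorem choose_affines {X S : Scheme.{u}} (π : X ⟶ S) (ε : S ⟶ X) (hε : ε ≫ π = 𝟙 S)
    (x : X) (hx : ε (π x) = x) (W : X.Opens) (hxW : x ∈ W) :
    ∃ (S' : S.Opens) (X' : X.Opens), IsAffineOpen S' ∧ IsAffineOpen X' ∧ x ∈ X' ∧ X' ≤ W ∧
      X' ≤ π ⁻¹ᵁ S' ∧ S' ≤ ε ⁻¹ᵁ X' := by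
  obtain ⟨S₀, hS₀, hsS₀, -⟩ := exists_isAffineOpen_mem_and_subset (x := π x) (U := ⊤) trivial
  have hxW' : x ∈ W ⊓ π ⁻¹ᵁ S₀ := ⟨hxW, hsS₀⟩
  obtain ⟨X₀, hX₀, hxX₀, hX₀W⟩ := exists_isAffineOpen_mem_and_subset hxW'
  have hX₀W' : X₀ ≤ W ⊓ π ⁻¹ᵁ S₀ := hX₀W
  have hsV : π x ∈ ε ⁻¹ᵁ X₀ := by
    show ε (π x) ∈ X₀
    rw [hx]; exact hxX₀
  obtain ⟨a, haV, hsa⟩ := hS₀.exists_basicOpen_le ⟨π x, hsV⟩ hsS₀
  have e₀ : X₀ ≤ π ⁻¹ᵁ S₀ := hX₀W'.trans inf_le_right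
  refine ⟨S.basicOpen a, X.basicOpen (π.appLE S₀ X₀ e₀ a), hS₀.basicOpen a, hX₀.basicOpen _,
    ?_, ?_, ?_, ?_⟩
  · rw [Scheme.basicOpen_appLE]; exact ⟨hxX₀, hsa⟩
  · exact (X.basicOpen_le _).trans (hX₀W'.trans inf_le_left)
  · rw [Scheme.basicOpen_appLE]; exact inf_le_right
  · intro t ht
    rw [Scheme.basicOpen_appLE]
    refine ⟨haV ht, ?_⟩
    show π (ε t) ∈ S.basicOpen a
    have : π (ε t) = t := by
      rw [← Scheme.Hom.comp_apply, hε]; rfl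
    rw [this]; exact ht

theorem fibre_ext {X S : Scheme.{u}} (π : X ⟶ S) (s : S)
    (hs : IsIso (π.fiberToSpecResidueField s))
    {T : Scheme.{u}} (t₁ t₂ : T ⟶ X) (c : T ⟶ Spec (S.residueField s))
    (h₁ : t₁ ≫ π = c ≫ S.fromSpecResidueField s) (h₂ : t₂ ≫ π = c ≫ S.fromSpecResidueField s) :
    t₁ = t₂ := by
  let l₁ : T ⟶ π.fiber s := pullback.lift t₁ c h₁
  let l₂ : T ⟶ π.fiber s := pullback.lift t₂ c h₂
  have e₁ : l₁ ≫ π.fiberToSpecResidueField s = c := pullback.lift_snd _ _ _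
  have e₂ : l₂ ≫ π.fiberToSpecResidueField s = c := pullback.lift_snd _ _ _
  have : l₁ = l₂ := by rw [← cancel_mono (π.fiberToSpecResidueField s), e₁, e₂]
  have f₁ : l₁ ≫ π.fiberι s = t₁ := pullback.lift_fst _ _ _
  have f₂ : l₂ ≫ π.fiberι s = t₂ := pullback.lift_fst _ _ _
  rw [← f₁, ← f₂, this]

theorem fib_stalk {X S : Scheme.{u}} (π : X ⟶ S) (ε : S ⟶ X) (hε : ε ≫ π = 𝟙 S) (x : X)
    (hs : IsIso (π.fiberToSpecResidueField (π x)))
    (S' : S.Opens) (X' : X.Opens) (hS' : IsAffineOpen S') (hX' : IsAffineOpen X') (hxX' : x ∈ X')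
    (hsS' : π x ∈ S') (e₂ : S' ≤ ε ⁻¹ᵁ X') (b : Γ(X, X')) (hb : ε.appLE X' S' e₂ b = 0) :
    X.presheaf.germ X' x hxX' b ∈
      (IsLocalRing.maximalIdeal (S.presheaf.stalk (π x))).map (π.stalkMap x).hom := by
  let R := S.presheaf.stalk (π x)
  let R' := X.presheaf.stalk x
  let m := IsLocalRing.maximalIdeal R
  let φst : R →+* R' := (π.stalkMap x).hom
  let J : Ideal R' := m.map φst
  let C := R' ⧸ J
  let quot : R' →+* C := Ideal.Quotient.mk J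
  let κC : S.residueField (π x) →+* C := Ideal.Quotient.lift m (quot.comp φst) (fun a ha => by
    show quot (φst a) = 0
    exact Ideal.Quotient.eq_zero_iff_mem.mpr (Ideal.mem_map_of_mem _ ha))
  let t₁ : Spec (.of C) ⟶ X := Spec.map (CommRingCat.ofHom quot) ≫ X.fromSpecStalk x
  let c : Spec (.of C) ⟶ Spec (S.residueField (π x)) := Spec.map (CommRingCat.ofHom κC)
  let t₂ : Spec (.of C) ⟶ X := c ≫ S.fromSpecResidueField (π x) ≫ ε
  have hsq : π.stalkMap x ≫ CommRingCat.ofHom quot =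
      S.residue (π x) ≫ CommRingCat.ofHom κC := by
    ext a; rfl
  have h₁ : t₁ ≫ π = c ≫ S.fromSpecResidueField (π x) := by
    show (Spec.map _ ≫ X.fromSpecStalk x) ≫ π = Spec.map _ ≫ (Spec.map _ ≫ S.fromSpecStalk (π x))
    rw [Category.assoc, ← Scheme.SpecMap_stalkMap_fromSpecStalk, ← Category.assoc,
      ← Category.assoc]
    congr 1
    rw [← Spec.map_comp, ← Spec.map_comp]
    exact congrArg Spec.map hsq
  have h₂ : t₂ ≫ π = c ≫ S.fromSpecResidueField (π x) := by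
    show (c ≫ _ ≫ ε) ≫ π = _
    rw [Category.assoc, Category.assoc, hε, Category.comp_id]
  have ht := fibre_ext π (π x) hs t₁ t₂ c h₁ h₂
  have ex : X.fromSpecStalk x = Spec.map (X.presheaf.germ X' x hxX') ≫ hX'.fromSpec :=
    (hX'.fromSpecStalk_eq_fromSpecStalk hxX').symm
  have es : S.fromSpecStalk (π x) = Spec.map (S.presheaf.germ S' (π x) hsS') ≫ hS'.fromSpec :=
    (hS'.fromSpecStalk_eq_fromSpecStalk hsS').symm
  have eε : hS'.fromSpec ≫ ε = Spec.map (ε.appLE X' S' e₂) ≫ hX'.fromSpec :=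
    (IsAffineOpen.SpecMap_appLE_fromSpec ε hX' hS' e₂).symm
  have ht' : Spec.map (X.presheaf.germ X' x hxX' ≫ CommRingCat.ofHom quot) ≫ hX'.fromSpec =
      Spec.map (ε.appLE X' S' e₂ ≫ S.presheaf.germ S' (π x) hsS' ≫ S.residue (π x) ≫
        CommRingCat.ofHom κC) ≫ hX'.fromSpec := by
    simp only [Spec.map_comp, Category.assoc]
    rw [← ex, ← eε, ← Category.assoc (Spec.map (S.presheaf.germ S' (π x) hsS')), ← es]
    exact ht
  rw [cancel_mono] at ht'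
  have h3 := Spec.map_injective ht'
  have h4 := congrArg (fun f => f.hom b) h3
  simp only [CommRingCat.hom_comp, RingHom.comp_apply] at h4
  rw [hb, map_zero, map_zero, map_zero] at h4
  exact Ideal.Quotient.eq_zero_iff_mem.mp h4

end Groth.Agent.Lib.Helper90.SecIso
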