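import Mathlib
import Groth.Agent.Lib.Helper90.SecIso1
import Groth.Agent.Lib.Helper90.SecIso2

set_option linter.style.haveILetI false
set_option linter.unusedSectionVars false

namespace Groth.Agent.Lib.Helper90.SecIso

open CategoryTheory CategoryTheory.Limits AlgebraicGeometry

universe u

theorem appLE_id_of_eq {S : Scheme.{u}} (S' : S.Opens) (f : S ⟶ S) (hf : f = 𝟙 S)
    (e : S' ≤ f ⁻¹ᵁ S') : f.appLE S' S' e = 𝟙 _ := by
  subst hf
  rw [Scheme.Hom.appLE, Scheme.Hom.id_app]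
  erw [Category.id_comp]
  exact S.presheaf.map_id _

theorem exists_open_section {X S : Scheme.{u}} (π : X ⟶ S) (ε : S ⟶ X) (hε : ε ≫ π = 𝟙 S)
    (x : X) (hx : ε (π x) = x)
    (hfp : ∃ W : X.Opens, x ∈ W ∧ LocallyOfFinitePresentation (W.ι ≫ π))
    (hs : IsIso (π.fiberToSpecResidueField (π x))) :
    ∃ V : X.Opens, x ∈ V ∧ V.ι ≫ π ≫ ε = V.ι := by
  obtain ⟨W, hxW, hW⟩ := hfp
  obtain ⟨S', X', hS', hX', hxX', hX'W, e₁, e₂⟩ := choose_affines π ε hε x hx W hxW
  have hsS' : π x ∈ S' := e₁ hxX'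
  let φ := π.appLE S' X' e₁
  let σ := ε.appLE X' S' e₂
  have hφσ : φ ≫ σ = 𝟙 _ := by
    show π.appLE S' X' e₁ ≫ ε.appLE X' S' e₂ = _
    rw [Scheme.Hom.appLE_comp_appLE]
    exact appLE_id_of_eq S' _ hε _
  have hσφ : ∀ a, σ.hom (φ.hom a) = a := by
    intro a
    have := congrArg (fun f => f.hom a) hφσ
    exact this
  have hfpφ : φ.hom.FinitePresentation := by
    have h1 : LocallyOfFinitePresentation (hX'.fromSpec ≫ π) := by
      have : hX'.fromSpec = hX'.isoSpec.inv ≫ X.homOfLE hX'W ≫ W.ι := by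
        rw [X.homOfLE_ι]; rfl
      rw [this, Category.assoc, Category.assoc]
      infer_instance
    have h2 : hX'.fromSpec ≫ π = Spec.map φ ≫ hS'.fromSpec :=
      (IsAffineOpen.SpecMap_appLE_fromSpec π hS' hX' e₁).symm
    rw [h2] at h1
    have h3 : LocallyOfFinitePresentation (Spec.map φ) :=
      MorphismProperty.of_postcomp (W := @LocallyOfFinitePresentation) (Spec.map φ)
        hS'.fromSpec (inferInstance : IsOpenImmersion hS'.fromSpec) h1
    exact (LocallyOfFinitePresentation.SpecMap_iff φ).mp h3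
  have hI : (RingHom.ker σ.hom).FG := by
    letI : Algebra Γ(S, S') Γ(X, X') := φ.hom.toAlgebra
    haveI hfpAlg : Algebra.FinitePresentation Γ(S, S') Γ(X, X') := hfpφ
    let σa : Γ(X, X') →ₐ[Γ(S, S')] Γ(S, S') := { σ.hom with commutes' := fun a => hσφ a }
    have hsurj : Function.Surjective σa := fun a => ⟨φ.hom a, hσφ a⟩
    exact Algebra.FinitePresentation.ker_fG_of_surjective σa hsurj
  let p := (hS'.primeIdealOf ⟨π x, hsS'⟩).asIdeal
  let q := (hX'.primeIdealOf ⟨x, hxX'⟩).asIdeal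
  have hq : q = p.comap σ.hom := by
    have h1 := IsAffineOpen.comap_primeIdealOf_appLE (f := ε) (x := π x) X' hX' S' hS' e₂ hsS'
    have h2 : hX'.primeIdealOf ⟨ε (π x), e₂ hsS'⟩ = hX'.primeIdealOf ⟨x, hxX'⟩ := by
      congr 1; exact Subtype.ext hx
    exact congrArg PrimeSpectrum.asIdeal (h1.trans h2).symm
  letI algX : Algebra Γ(X, X') (X.presheaf.stalk x) :=
    TopCat.Presheaf.algebra_section_stalk X.presheaf ⟨x, hxX'⟩
  haveI locX : IsLocalization.AtPrime (X.presheaf.stalk x) q := hX'.isLocalization_stalk ⟨x, hxX'⟩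
  have hnat : S.presheaf.germ S' (π x) hsS' ≫ π.stalkMap x = φ ≫ X.presheaf.germ X' x hxX' := by
    rw [Scheme.Hom.germ_stalkMap]
    show _ = (π.app S' ≫ X.presheaf.map _) ≫ _
    rw [Category.assoc, X.presheaf.germ_res]
  have fib : ∀ b, σ.hom b = 0 → algebraMap Γ(X, X') (X.presheaf.stalk x) b ∈
      p.map ((algebraMap Γ(X, X') (X.presheaf.stalk x)).comp φ.hom) := by
    intro b hb
    have h1 := fib_stalk π ε hε x hs S' X' hS' hX' hxX' hsS' e₂ b hb
    letI algS : Algebra Γ(S, S') (S.presheaf.stalk (π x)) :=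
      TopCat.Presheaf.algebra_section_stalk S.presheaf ⟨π x, hsS'⟩
    haveI locS : IsLocalization.AtPrime (S.presheaf.stalk (π x)) p :=
      hS'.isLocalization_stalk ⟨π x, hsS'⟩
    rw [← IsLocalization.AtPrime.map_eq_maximalIdeal p (S.presheaf.stalk (π x)),
      Ideal.map_map] at h1
    have h2 : (π.stalkMap x).hom.comp (algebraMap Γ(S, S') (S.presheaf.stalk (π x))) =
        (algebraMap Γ(X, X') (X.presheaf.stalk x)).comp φ.hom :=
      congrArg CommRingCat.Hom.hom hnat
    rw [h2] at h1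
    exact h1
  obtain ⟨g, hgq, hg⟩ := ring_core φ.hom σ.hom hσφ p q hq hI fib
  let V : X.Opens := X.basicOpen g
  have hV : IsAffineOpen V := hX'.basicOpen g
  have hVX' : V ≤ X' := X.basicOpen_le g
  have hxV : x ∈ V := by
    rw [X.mem_basicOpen g x hxX']
    exact (IsLocalization.AtPrime.isUnit_to_map_iff (X.presheaf.stalk x) q g).mpr hgq
  refine ⟨V, hxV, ?_⟩
  have e₁' : V ≤ π ⁻¹ᵁ S' := hVX'.trans e₁
  have hring : σ ≫ π.appLE S' V e₁' = X.presheaf.map (homOfLE hVX').op := by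
    have h1 : π.appLE S' V e₁' = φ ≫ X.presheaf.map (homOfLE hVX').op :=
      (Scheme.Hom.appLE_map π e₁ (homOfLE hVX').op).symm
    rw [h1]
    ext b
    show (X.presheaf.map (homOfLE hVX').op).hom (φ.hom (σ.hom b)) =
      (X.presheaf.map (homOfLE hVX').op).hom b
    have hz : σ.hom (b - φ.hom (σ.hom b)) = 0 := by rw [map_sub, hσφ, sub_self]
    have h2 := hg _ hz
    have h3 := congrArg (X.presheaf.map (homOfLE hVX').op).hom h2
    rw [map_mul, map_zero, map_sub] at h3
    have hu : IsUnit ((X.presheaf.map (homOfLE hVX').op).hom g) :=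
      X.toRingedSpace.isUnit_res_basicOpen g
    have h4 := (hu.mul_right_eq_zero).mp h3
    exact (sub_eq_zero.mp h4).symm
  have key : hV.fromSpec ≫ π ≫ ε = hV.fromSpec := by
    rw [← Category.assoc, ← IsAffineOpen.SpecMap_appLE_fromSpec π hS' hV e₁', Category.assoc,
      ← IsAffineOpen.SpecMap_appLE_fromSpec ε hX' hS' e₂, ← Category.assoc, ← Spec.map_comp,
      hring]
    exact hX'.map_fromSpec hV (homOfLE hVX').op
  haveI : IsAffine V := hV
  have hfs : hV.fromSpec = hV.isoSpec.inv ≫ V.ι := rfl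
  rw [hfs, Category.assoc] at key
  exact (cancel_epi hV.isoSpec.inv).mp key

end Groth.Agent.Lib.Helper90.SecIso
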