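import Mathlib
import Groth.Agent.Lib.Helper90.SecIso3

set_option linter.style.haveILetI false
set_option linter.unusedSectionVars false

namespace Groth.Agent.Lib.Helper90.SecIso

open CategoryTheory CategoryTheory.Limits AlgebraicGeometry

universe u

theorem main (X S : Scheme.{u}) (π : X ⟶ S) (ε : S ⟶ X) (hε : ε ≫ π = 𝟙 S)
    (hcl : IsClosedMap π.base) (s : S)
    (hfp : ∃ W : X.Opens, ε.base s ∈ W ∧ LocallyOfFinitePresentation (W.ι ≫ π))
    (hs : IsIso (π.fiberToSpecResidueField s)) :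
    ∃ U : S.Opens, s ∈ U ∧ IsIso (π ∣_ U) := by
  have hπε : ∀ t : S, π (ε t) = t := fun t => by
    rw [← Scheme.Hom.comp_apply, hε]; rfl
  let x : X := ε s
  have hπx : π x = s := hπε s
  have hx : ε (π x) = x := by rw [hπx]
  have hs' : IsIso (π.fiberToSpecResidueField (π x)) := by rw [hπx]; exact hs
  obtain ⟨V, hxV, hV⟩ := exists_open_section π ε hε x hx hfp hs'
  have hfib : ∀ y : X, π y = s → y = x := by
    intro y hy
    haveI := hs
    have hsub : Subsingleton (π.fiber s) :=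
      (π.fiberToSpecResidueField s).homeomorph.injective.subsingleton
    have hy' : y ∈ Set.range (π.fiberι s) := by rw [Scheme.Hom.range_fiberι]; exact hy
    have hx' : x ∈ Set.range (π.fiberι s) := by rw [Scheme.Hom.range_fiberι]; exact hπx
    obtain ⟨a, rfl⟩ := hy'
    obtain ⟨b, hb⟩ := hx'
    rw [← hb, Subsingleton.elim a b]
  let Z : Set S := π.base '' (V : Set X)ᶜ
  have hZ : IsClosed Z := hcl _ V.isOpen.isClosed_compl
  let U : S.Opens := ⟨Zᶜ, hZ.isOpen_compl⟩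
  have hsU : s ∈ U := by
    rintro ⟨y, hyV, hy⟩
    exact hyV (hfib y hy ▸ hxV)
  have hUV : π ⁻¹ᵁ U ≤ V := by
    intro y hy
    by_contra hyV
    exact hy ⟨y, hyV, rfl⟩
  refine ⟨U, hsU, ?_⟩
  have hrange : Set.range (U.ι ≫ ε).base ⊆ Set.range (π ⁻¹ᵁ U).ι.base := by
    rintro _ ⟨t, rfl⟩
    rw [Scheme.Opens.range_ι]
    show π ((U.ι ≫ ε) t) ∈ U
    rw [Scheme.Hom.comp_apply, hπε]
    exact t.2
  let εU : (U : Scheme.{u}) ⟶ (π ⁻¹ᵁ U : Scheme.{u}) :=
    IsOpenImmersion.lift (π ⁻¹ᵁ U).ι (U.ι ≫ ε) hrange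
  have hεU : εU ≫ (π ⁻¹ᵁ U).ι = U.ι ≫ ε := IsOpenImmersion.lift_fac _ _ _
  refine ⟨εU, ?_, ?_⟩
  · rw [← cancel_mono (π ⁻¹ᵁ U).ι, Category.assoc, hεU, ← Category.assoc, morphismRestrict_ι,
      Category.assoc, Category.id_comp, ← X.homOfLE_ι hUV, Category.assoc, hV]
  · rw [← cancel_mono U.ι, Category.assoc, morphismRestrict_ι, ← Category.assoc, hεU,
      Category.assoc, hε, Category.id_comp, Category.comp_id]

end Groth.Agent.Lib.Helper90.SecIso
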