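import Mathlib
import Groth.Agent.Lib.Helper90.SmoothLiftAux

set_option autoImplicit false
set_option linter.style.haveILetI false
set_option linter.unusedSectionVars false
universe u

namespace Groth.Agent.Lib.Helper90.SmoothLift

open KaehlerDifferential TensorProduct

section Stage2

variable {R : Type u} [CommRing R] (I : Ideal R) {n m : ℕ}

theorem exists_smooth_of_nbhd
    (f : Fin m → MvPolynomial (Fin n) R) (b₀ : Fin n → Fin m → MvPolynomial (Fin n) R)
    (𝔞 : Ideal (MvPolynomial (Fin n) R))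
    (h𝔞 : 𝔞 = I.map (algebraMap R (MvPolynomial (Fin n) R)) ⊔ Ideal.span (Set.range f))
    (W : Type u) [CommRing W] [Algebra (MvPolynomial (Fin n) R) W]
    [Algebra.Etale (MvPolynomial (Fin n) R) W]
    (hbij : Function.Bijective (algebraMap (MvPolynomial (Fin n) R ⧸ 𝔞)
        (W ⧸ 𝔞.map (algebraMap (MvPolynomial (Fin n) R) W))))
    (E : Matrix (Fin m) (Fin m) W) (hE : E * E = E)
    (hEE : ∀ j l, E j l - algebraMap (MvPolynomial (Fin n) R) W
          (∑ i, MvPolynomial.pderiv i (f j) * b₀ i l) ∈ 𝔞.map (algebraMap _ W))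
    (u : W) (hu1 : u - 1 ∈ 𝔞.map (algebraMap (MvPolynomial (Fin n) R) W))
    (hu2 : ∀ x ∈ 𝔞.map (algebraMap (MvPolynomial (Fin n) R) W),
            u * x ∈ Ideal.span (Set.range (kgen f E)) ⊔
              I.map ((algebraMap (MvPolynomial (Fin n) R) W).comp
                (algebraMap R (MvPolynomial (Fin n) R)))) :
    ∃ (S : Type u) (_ : CommRing S) (_ : Algebra R S) (_ : Algebra (MvPolynomial (Fin n) R) S)
      (_ : IsScalarTower R (MvPolynomial (Fin n) R) S),
      Algebra.Smooth R S ∧ ∃ g : S →ₐ[MvPolynomial (Fin n) R] MvPolynomial (Fin n) R ⧸ 𝔞,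
        RingHom.ker g.toRingHom = I.map (algebraMap R S) := by
  classical
  letI algRW : Algebra R W := ((algebraMap (MvPolynomial (Fin n) R) W).comp
    (algebraMap R (MvPolynomial (Fin n) R))).toAlgebra
  haveI : IsScalarTower R (MvPolynomial (Fin n) R) W := IsScalarTower.of_algebraMap_eq (fun _ => rfl)
  have hτ : ∀ j l, ∃ τ : Fin n → W, D R W (E j l) =
      ∑ i, τ i • D R W (algebraMap (MvPolynomial (Fin n) R) W (MvPolynomial.X i)) :=
    fun j l => exists_D_eq_sum (E j l)
  choose τ hτ using hτ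
  have hf𝔞 : ∀ l, f l ∈ 𝔞 := fun l => by
    rw [h𝔞]; exact Ideal.mem_sup_right (Ideal.subset_span ⟨l, rfl⟩)
  have hfW : ∀ l, algebraMap (MvPolynomial (Fin n) R) W (f l) ∈ 𝔞.map (algebraMap _ W) :=
    fun l => Ideal.mem_map_of_mem _ (hf𝔞 l)
  have hK₀ : Ideal.span (Set.range (kgen f E)) ≤ 𝔞.map (algebraMap _ W) := by
    rw [Ideal.span_le]
    rintro _ ⟨j, rfl⟩
    exact Ideal.sum_mem _ fun l _ => Ideal.mul_mem_left _ _ (hfW l)
  have hiW : I.map ((algebraMap (MvPolynomial (Fin n) R) W).comp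
      (algebraMap R (MvPolynomial (Fin n) R))) ≤ 𝔞.map (algebraMap _ W) := by
    rw [← Ideal.map_map]
    exact Ideal.map_mono (h𝔞 ▸ le_sup_left)
  obtain ⟨b, hb⟩ : ∃ b : Matrix (Fin n) (Fin m) W,
      b = Matrix.of fun i p => algebraMap (MvPolynomial (Fin n) R) W (b₀ i p) := ⟨_, rfl⟩
  obtain ⟨h', hh'⟩ : ∃ h' : W, h' = (lamMat f E τ b).det := ⟨_, rfl⟩
  have hh1 : h' - 1 ∈ 𝔞.map (algebraMap (MvPolynomial (Fin n) R) W) := by
    rw [hh', hb]
    exact det_lamMat_sub_one_mem _ f hfW E hE τ b₀ hEE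
  obtain ⟨s, hs⟩ : ∃ s : W, s = u * h' := ⟨_, rfl⟩
  have hs1 : s - 1 ∈ 𝔞.map (algebraMap (MvPolynomial (Fin n) R) W) := by
    have : s - 1 = (u - 1) * h' + (h' - 1) := by rw [hs]; ring
    rw [this]
    exact Ideal.add_mem _ (Ideal.mul_mem_right _ _ hu1) hh1
  -- the localisation
  let P := Localization.Away s
  haveI : IsScalarTower R (MvPolynomial (Fin n) R) P := IsScalarTower.of_algebraMap_eq (fun r => by
    rw [IsScalarTower.algebraMap_apply R W P, IsScalarTower.algebraMap_apply R (MvPolynomial (Fin n) R) W,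
      ← IsScalarTower.algebraMap_apply (MvPolynomial (Fin n) R) W P])
  haveI : Algebra.FormallyEtale W P := Algebra.FormallyEtale.of_isLocalization (Submonoid.powers s)
  haveI : Algebra.FormallyEtale (MvPolynomial (Fin n) R) P :=
    Algebra.FormallyEtale.comp (MvPolynomial (Fin n) R) W P
  haveI : Algebra.FinitePresentation W P := IsLocalization.Away.finitePresentation s
  haveI : Algebra.FinitePresentation (MvPolynomial (Fin n) R) P :=
    Algebra.FinitePresentation.trans (MvPolynomial (Fin n) R) W P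
  haveI : Algebra.FinitePresentation R P :=
    Algebra.FinitePresentation.trans R (MvPolynomial (Fin n) R) P
  have hsunit : IsUnit (algebraMap W P s) := IsLocalization.Away.algebraMap_isUnit s
  have hsmul : algebraMap W P s = algebraMap W P u * algebraMap W P h' := by
    rw [← map_mul]; exact congrArg _ hs
  have huunit : IsUnit (algebraMap W P u) := by
    rw [hsmul] at hsunit
    exact isUnit_of_mul_isUnit_left hsunit
  have hhunit : IsUnit (algebraMap W P h') := by
    rw [hsmul] at hsunit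
    exact isUnit_of_mul_isUnit_right hsunit
  -- ideals in `P`
  obtain ⟨EP, hEP⟩ : ∃ EP : Matrix (Fin m) (Fin m) P, EP = E.map (algebraMap W P) := ⟨_, rfl⟩
  have hKmap : (Ideal.span (Set.range (kgen f E))).map (algebraMap W P) =
      Ideal.span (Set.range (kgen f EP)) := by
    rw [Ideal.map_span, hEP]
    congr 1
    ext x
    constructor
    · rintro ⟨_, ⟨j, rfl⟩, rfl⟩; exact ⟨j, kgen_map f E j⟩
    · rintro ⟨j, rfl⟩; exact ⟨_, ⟨j, rfl⟩, (kgen_map f E j).symm⟩
  have hiPmap : (I.map ((algebraMap (MvPolynomial (Fin n) R) W).comp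
      (algebraMap R (MvPolynomial (Fin n) R)))).map (algebraMap W P) = I.map (algebraMap R P) := by
    rw [Ideal.map_map]
    congr 1
  have h𝔄P : (𝔞.map (algebraMap (MvPolynomial (Fin n) R) W)).map (algebraMap W P) =
      Ideal.span (Set.range (kgen f EP)) ⊔ I.map (algebraMap R P) := by
    apply le_antisymm
    · rw [Ideal.map_le_iff_le_comap]
      intro x hx
      rw [Ideal.mem_comap]
      have h1 := Ideal.mem_map_of_mem (algebraMap W P) (hu2 x hx)
      rw [Ideal.map_sup, hKmap, hiPmap, map_mul] at h1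
      exact (Ideal.unit_mul_mem_iff_mem _ huunit).mp h1
    · rw [← hKmap, ← hiPmap, ← Ideal.map_sup]
      exact Ideal.map_mono (sup_le hK₀ hiW)
  -- the map to `C ⧸ 𝔞`
  let e : (MvPolynomial (Fin n) R ⧸ 𝔞) ≃ₐ[MvPolynomial (Fin n) R]
      (W ⧸ 𝔞.map (algebraMap (MvPolynomial (Fin n) R) W)) :=
    AlgEquiv.ofBijective (IsScalarTower.toAlgHom (MvPolynomial (Fin n) R)
      (MvPolynomial (Fin n) R ⧸ 𝔞) (W ⧸ 𝔞.map (algebraMap (MvPolynomial (Fin n) R) W))) hbij
  let ψW : W →ₐ[MvPolynomial (Fin n) R] MvPolynomial (Fin n) R ⧸ 𝔞 :=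
    (e.symm : (W ⧸ 𝔞.map (algebraMap (MvPolynomial (Fin n) R) W)) →ₐ[MvPolynomial (Fin n) R]
      (MvPolynomial (Fin n) R ⧸ 𝔞)).comp
      (Ideal.Quotient.mkₐ (MvPolynomial (Fin n) R) (𝔞.map (algebraMap (MvPolynomial (Fin n) R) W)))
  have hψker : RingHom.ker ψW.toRingHom = 𝔞.map (algebraMap (MvPolynomial (Fin n) R) W) := by
    ext w
    rw [RingHom.mem_ker]
    change e.symm (Ideal.Quotient.mk _ w) = 0 ↔ _
    rw [EmbeddingLike.map_eq_zero_iff, Ideal.Quotient.eq_zero_iff_mem]
  have hψs : ψW s = 1 := by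
    have h0 : ψW.toRingHom (s - 1) = 0 := by
      rw [← RingHom.mem_ker, hψker]; exact hs1
    have h1 : ψW (s - 1) = 0 := h0
    rw [map_sub, map_one, sub_eq_zero] at h1
    exact h1
  have hψunit : ∀ y : Submonoid.powers s, IsUnit (ψW y) := by
    rintro ⟨_, k, rfl⟩
    rw [map_pow, hψs, one_pow]; exact isUnit_one
  let ψP : P →ₐ[MvPolynomial (Fin n) R] MvPolynomial (Fin n) R ⧸ 𝔞 :=
    IsLocalization.liftAlgHom (M := Submonoid.powers s) (f := ψW) hψunit
  have hψPker : RingHom.ker ψP.toRingHom =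
      Ideal.span (Set.range (kgen f EP)) ⊔ I.map (algebraMap R P) := by
    rw [← h𝔄P, ← hψker]
    exact ker_lift_eq_map (Submonoid.powers s) ψW.toRingHom hψunit
  obtain ⟨K, hK⟩ : ∃ K : Ideal P, K = Ideal.span (Set.range (kgen f EP)) := ⟨_, rfl⟩
  have hKψ : ∀ a ∈ K, ψP a = 0 := by
    intro a ha
    have : a ∈ RingHom.ker ψP.toRingHom := by
      rw [hψPker, ← hK]; exact Ideal.mem_sup_left ha
    exact this
  have hEP2 : EP * EP = EP := by rw [hEP, ← Matrix.map_mul, hE]
  have hτP : ∀ j l, D R P (EP j l) = ∑ i, algebraMap W P (τ j l i) •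
      D R P (algebraMap (MvPolynomial (Fin n) R) P (MvPolynomial.X i)) := by
    intro j l
    have h1 := congrArg (KaehlerDifferential.map R R W P) (hτ j l)
    rw [KaehlerDifferential.map_D, map_sum] at h1
    rw [hEP, Matrix.map_apply]
    refine h1.trans (Finset.sum_congr rfl fun i _ => ?_)
    rw [map_smul, KaehlerDifferential.map_D, ← IsScalarTower.algebraMap_apply, algebraMap_smul]
  have hΛP : IsUnit (lamMat f EP (fun j l i => algebraMap W P (τ j l i))
      (b.map (algebraMap W P))).det := by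
    rw [hEP, det_lamMat_map, ← hh']
    exact hhunit
  have hfs : Algebra.FormallySmooth R (P ⧸ K) := by
    let Ext : Algebra.Extension.{u} R (P ⧸ K) :=
      Algebra.Extension.ofSurjective (Ideal.Quotient.mkₐ R K) (Ideal.Quotient.mkₐ_surjective R K)
    letI iA : Algebra (MvPolynomial (Fin n) R) Ext.Ring :=
      (inferInstance : Algebra (MvPolynomial (Fin n) R) P)
    haveI iT : IsScalarTower R (MvPolynomial (Fin n) R) Ext.Ring :=
      (inferInstance : IsScalarTower R (MvPolynomial (Fin n) R) P)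
    haveI iE : Algebra.FormallyEtale (MvPolynomial (Fin n) R) Ext.Ring :=
      (inferInstance : Algebra.FormallyEtale (MvPolynomial (Fin n) R) P)
    have hker : Ideal.span (Set.range (kgen f EP)) = Ext.ker :=
      hK.symm.trans (Ideal.Quotient.mkₐ_ker R K).symm
    exact formallySmooth_of_kgen Ext f EP hEP2 (fun j l i => algebraMap W P (τ j l i)) hτP
      (b.map (algebraMap W P)) hΛP hker
  have hfp : Algebra.FinitePresentation R (P ⧸ K) :=
    Algebra.FinitePresentation.quotient (hK ▸ Submodule.fg_span (Set.finite_range _))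
  refine ⟨P ⧸ K, inferInstance, inferInstance, inferInstance, inferInstance, ⟨hfs, hfp⟩,
    Ideal.Quotient.liftₐ K ψP hKψ, ?_⟩
  have h1 : RingHom.ker (Ideal.Quotient.liftₐ K ψP hKψ).toRingHom =
      (RingHom.ker ψP.toRingHom).map (Ideal.Quotient.mk K) :=
    Ideal.ker_quotient_lift (I := K) ψP.toRingHom (fun a ha => hKψ a ha)
  rw [h1, hψPker, Ideal.map_sup, ← hK, Ideal.map_quotient_self, bot_sup_eq, Ideal.map_map]
  rfl

end Stage2

end Groth.Agent.Lib.Helper90.SmoothLift
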