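import Mathlib
import Groth.Agent.Lib.Helper90.SmoothLiftAux
import Groth.Agent.Lib.Helper90.EtaleNbhdMatrix

set_option autoImplicit false
set_option linter.style.haveILetI false
set_option linter.unusedSectionVars false
universe u

namespace Groth.Agent.Lib.Helper90.SmoothLift

open KaehlerDifferential TensorProduct

section Core

variable {R : Type u} [CommRing R] (I : Ideal R) {n m : ℕ}

/-- Stage 1: the étale neighbourhood `W`, the idempotent matrix `E`, and the unit `u`. -/
theorem exists_nbhd_data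
    (f : Fin m → MvPolynomial (Fin n) R) (b₀ : Fin n → Fin m → MvPolynomial (Fin n) R)
    (𝔞 : Ideal (MvPolynomial (Fin n) R))
    (h𝔞 : 𝔞 = I.map (algebraMap R (MvPolynomial (Fin n) R)) ⊔ Ideal.span (Set.range f))
    (H1 : ∀ j, f j - ∑ l, (∑ i, MvPolynomial.pderiv i (f j) * b₀ i l) * f l ∈
      𝔞 ^ 2 ⊔ I.map (algebraMap R (MvPolynomial (Fin n) R)))
    (H2 : ∀ j p, (∑ l, (∑ i, MvPolynomial.pderiv i (f j) * b₀ i l) *
          (∑ i, MvPolynomial.pderiv i (f l) * b₀ i p)) -
        (∑ i, MvPolynomial.pderiv i (f j) * b₀ i p) ∈ 𝔞) :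
    ∃ (W : Type u) (_ : CommRing W) (_ : Algebra (MvPolynomial (Fin n) R) W),
      Algebra.Etale (MvPolynomial (Fin n) R) W ∧
      Function.Bijective (algebraMap (MvPolynomial (Fin n) R ⧸ 𝔞)
        (W ⧸ 𝔞.map (algebraMap (MvPolynomial (Fin n) R) W))) ∧
      ∃ E : Matrix (Fin m) (Fin m) W, E * E = E ∧
        (∀ j l, E j l - algebraMap (MvPolynomial (Fin n) R) W
          (∑ i, MvPolynomial.pderiv i (f j) * b₀ i l) ∈ 𝔞.map (algebraMap _ W)) ∧
        ∃ u : W, u - 1 ∈ 𝔞.map (algebraMap (MvPolynomial (Fin n) R) W) ∧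
          ∀ x ∈ 𝔞.map (algebraMap (MvPolynomial (Fin n) R) W),
            u * x ∈ Ideal.span (Set.range (kgen f E)) ⊔
              I.map ((algebraMap (MvPolynomial (Fin n) R) W).comp
                (algebraMap R (MvPolynomial (Fin n) R))) := by
  classical
  let Et : Fin m → Fin m → MvPolynomial (Fin n) R :=
    fun j l => ∑ i, MvPolynomial.pderiv i (f j) * b₀ i l
  let pbar : Matrix (Fin m) (Fin m) (MvPolynomial (Fin n) R ⧸ 𝔞) :=
    Matrix.of fun j l => Ideal.Quotient.mk 𝔞 (Et j l)
  have hp : IsIdempotentElem pbar := by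
    ext j p
    rw [Matrix.mul_apply]
    simp only [pbar, Matrix.of_apply]
    simp_rw [← map_mul]
    rw [← map_sum, Ideal.Quotient.eq]
    exact H2 j p
  obtain ⟨W, _, _, hWet, hbij, E, hE, hEp⟩ :=
    Groth.Agent.Lib.Helper90.EtaleNbhd.exists_etale_lift_idempotent_matrix 𝔞 m pbar hp
  refine ⟨W, inferInstance, inferInstance, hWet, hbij, E, hE, ?_⟩
  have hEE : ∀ j l, E j l - algebraMap (MvPolynomial (Fin n) R) W (Et j l) ∈
      𝔞.map (algebraMap _ W) := by
    intro j l
    have := congrFun (congrFun hEp j) l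
    simp only [Matrix.map_apply, pbar, Matrix.of_apply] at this
    exact Ideal.Quotient.eq.mp this
  refine ⟨hEE, ?_⟩
  have hf𝔞 : ∀ l, f l ∈ 𝔞 := fun l => by
    rw [h𝔞]; exact Ideal.mem_sup_right (Ideal.subset_span ⟨l, rfl⟩)
  have hfW : ∀ l, algebraMap (MvPolynomial (Fin n) R) W (f l) ∈ 𝔞.map (algebraMap _ W) :=
    fun l => Ideal.mem_map_of_mem _ (hf𝔞 l)
  have hK₀ : Ideal.span (Set.range (kgen f E)) ≤ 𝔞.map (algebraMap _ W) := by
    rw [Ideal.span_le]
    rintro _ ⟨j, rfl⟩
    exact Ideal.sum_mem _ fun l _ => Ideal.mul_mem_left _ _ (hfW l)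
  apply exists_unit_nakayama (𝔞.map (algebraMap (MvPolynomial (Fin n) R) W))
    (I.map ((algebraMap (MvPolynomial (Fin n) R) W).comp
                (algebraMap R (MvPolynomial (Fin n) R))))
    (Ideal.span (Set.range (kgen f E)))
    (fun l => algebraMap (MvPolynomial (Fin n) R) W (f l))
  · rw [h𝔞, Ideal.map_sup, Ideal.map_map, Ideal.map_span]
    congr 2
    ext x
    simp
  · intro j
    have e1 : algebraMap (MvPolynomial (Fin n) R) W (f j) = kgen f E j +
        (algebraMap (MvPolynomial (Fin n) R) W (f j - ∑ l, Et j l * f l) -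
          ∑ l, (E j l - algebraMap (MvPolynomial (Fin n) R) W (Et j l)) *
            algebraMap (MvPolynomial (Fin n) R) W (f l)) := by
      unfold kgen
      simp only [map_sub, map_sum, map_mul, sub_mul, Finset.sum_sub_distrib]
      ring
    rw [e1]
    refine Ideal.add_mem _ (Ideal.mem_sup_left (Ideal.mem_sup_left
      (Ideal.subset_span ⟨j, rfl⟩))) (Ideal.sub_mem _ ?_ ?_)
    · have := Ideal.mem_map_of_mem (algebraMap (MvPolynomial (Fin n) R) W) (H1 j)
      rw [Ideal.map_sup, Ideal.map_pow, Ideal.map_map] at this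
      rw [sup_assoc, sup_comm (I.map _), ← sup_assoc]
      exact Ideal.mem_sup_right this |> fun h => by
        rw [sup_assoc]; exact h
    · refine Ideal.mem_sup_right ?_
      rw [pow_two]
      exact Ideal.sum_mem _ fun l _ => Ideal.mul_mem_mul (hEE j l) (hfW l)

end Core

end Groth.Agent.Lib.Helper90.SmoothLift
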