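import Mathlib

/-!
Etale-local splitting of integral algebras: basic lemmas (helper90).
-/

set_option autoImplicit false
set_option linter.style.haveILetI false
set_option linter.unusedSectionVars false
universe u

open Polynomial TensorProduct

namespace Groth.Agent.Lib.Helper90.SplitInt

/-- `p'` is a point of `R'` over `p` with trivial residue field extension, in elementwise form. -/
def RationalOver {R R' : Type*} [CommRing R] [CommRing R'] [Algebra R R'] (p : Ideal R)
    (p' : Ideal R') : Prop :=
  p'.comap (algebraMap R R') = p ∧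
    ∀ a : R', ∃ c d : R, d ∉ p ∧ algebraMap R R' d * a - algebraMap R R' c ∈ p'

section Rational

variable {R R' R'' : Type*} [CommRing R] [CommRing R'] [CommRing R''] [Algebra R R']
  [Algebra R' R''] [Algebra R R''] [IsScalarTower R R' R'']

theorem RationalOver.trans {p : Ideal R} {p' : Ideal R'} {p'' : Ideal R''} [p'.IsPrime]
    (h : RationalOver p p') (h' : RationalOver p' p'') : RationalOver p p'' := by
  refine ⟨?_, ?_⟩
  · rw [IsScalarTower.algebraMap_eq R R' R'', ← Ideal.comap_comap, h'.1, h.1]
  · intro a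
    obtain ⟨c', d', hd', hcd'⟩ := h'.2 a
    obtain ⟨c₁, d₁, hd₁, h1⟩ := h.2 c'
    obtain ⟨c₂, d₂, hd₂, h2⟩ := h.2 d'
    have hc₂ : c₂ ∉ p := by
      intro hc
      have h3 : algebraMap R R' c₂ ∈ p' := by
        rw [← h.1] at hc; exact hc
      have h4 : algebraMap R R' d₂ * d' ∈ p' := by
        have := p'.add_mem h2 h3
        simpa using this
      rcases Ideal.IsPrime.mem_or_mem inferInstance h4 with h5 | h5
      · exact hd₂ (by rw [← h.1]; exact h5)
      · exact hd' h5
    refine ⟨d₂ * c₁, d₁ * c₂, ?_, ?_⟩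
    · intro hmem
      haveI : p.IsPrime := by rw [← h.1]; exact Ideal.comap_isPrime _ _
      rcases Ideal.IsPrime.mem_or_mem inferInstance hmem with h5 | h5
      · exact hd₁ h5
      · exact hc₂ h5
    · have e1 : algebraMap R' R'' (algebraMap R R' d₁ * c' - algebraMap R R' c₁) ∈ p'' := by
        have : algebraMap R R' d₁ * c' - algebraMap R R' c₁ ∈ p''.comap (algebraMap R' R'') := by
          rw [h'.1]; exact h1
        exact this
      have e2 : algebraMap R' R'' (algebraMap R R' d₂ * d' - algebraMap R R' c₂) ∈ p'' := by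
        have : algebraMap R R' d₂ * d' - algebraMap R R' c₂ ∈ p''.comap (algebraMap R' R'') := by
          rw [h'.1]; exact h2
        exact this
      simp only [map_sub, map_mul, ← IsScalarTower.algebraMap_apply R R' R''] at e1 e2
      have key : algebraMap R R'' (d₁ * c₂) * a - algebraMap R R'' (d₂ * c₁) =
          algebraMap R R'' d₁ * algebraMap R R'' d₂ * (algebraMap R' R'' d' * a - algebraMap R' R'' c')
          - algebraMap R R'' d₁ * a *
            (algebraMap R R'' d₂ * algebraMap R' R'' d' - algebraMap R R'' c₂)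
          + algebraMap R R'' d₂ *
            (algebraMap R R'' d₁ * algebraMap R' R'' c' - algebraMap R R'' c₁) := by
        simp only [map_mul]; ring
      rw [key]
      exact p''.add_mem (p''.sub_mem (p''.mul_mem_left _ hcd') (p''.mul_mem_left _ e2))
        (p''.mul_mem_left _ e1)

theorem RationalOver.away {p : Ideal R} [p.IsPrime] (c : R) (hc : c ∉ p) :
    (p.map (algebraMap R (Localization.Away c))).IsPrime ∧
      RationalOver p (p.map (algebraMap R (Localization.Away c))) := by
  have hdisj : Disjoint (Submonoid.powers c : Set R) (p : Set R) := by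
    rw [Ideal.disjoint_powers_iff_notMem]
    · exact hc
    · exact Ideal.IsPrime.isRadical inferInstance
  refine ⟨IsLocalization.isPrime_of_isPrime_disjoint (Submonoid.powers c) _ p inferInstance hdisj,
    IsLocalization.under_map_of_isPrime_disjoint (Submonoid.powers c) _ inferInstance hdisj, ?_⟩
  intro a
  obtain ⟨x, s, rfl⟩ := IsLocalization.exists_mk'_eq (Submonoid.powers c) a
  refine ⟨x, s, ?_, ?_⟩
  · intro hs
    exact Set.disjoint_left.mp hdisj s.2 hs
  · rw [mul_comm, IsLocalization.mk'_spec, sub_self]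
    exact zero_mem _

theorem RationalOver.of_quotient {I : Ideal R} [I.IsPrime]
    (h1 : ∀ a' : R', ∃ a : R, a' - algebraMap R R' a ∈ I.map (algebraMap R R'))
    (h2 : ∀ a : R, algebraMap R R' a ∈ I.map (algebraMap R R') → a ∈ I) :
    (I.map (algebraMap R R')).IsPrime ∧ RationalOver I (I.map (algebraMap R R')) := by
  refine ⟨⟨?_, ?_⟩, ?_, ?_⟩
  · intro htop
    have : algebraMap R R' 1 ∈ I.map (algebraMap R R') := by rw [htop]; trivial
    exact (Ideal.IsPrime.ne_top inferInstance) ((Ideal.eq_top_iff_one I).mpr (h2 1 this))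
  · intro x y hxy
    obtain ⟨a, ha⟩ := h1 x
    obtain ⟨b, hb⟩ := h1 y
    set J := I.map (algebraMap R R') with hJ
    have hab : algebraMap R R' (a * b) ∈ J := by
      have : algebraMap R R' (a * b) = x * y - (x - algebraMap R R' a) * y
          - algebraMap R R' a * (y - algebraMap R R' b) := by
        rw [map_mul]; ring
      rw [this]
      exact J.sub_mem (J.sub_mem hxy (J.mul_mem_right _ ha)) (J.mul_mem_left _ hb)
    rcases Ideal.IsPrime.mem_or_mem inferInstance (h2 _ hab) with h | h
    · left
      have : x = (x - algebraMap R R' a) + algebraMap R R' a := by ring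
      rw [this]
      exact J.add_mem ha (Ideal.mem_map_of_mem _ h)
    · right
      have : y = (y - algebraMap R R' b) + algebraMap R R' b := by ring
      rw [this]
      exact J.add_mem hb (Ideal.mem_map_of_mem _ h)
  · apply le_antisymm
    · intro a ha
      exact h2 a ha
    · exact Ideal.le_comap_map
  · intro a'
    obtain ⟨a, ha⟩ := h1 a'
    exact ⟨a, 1, fun h => (Ideal.IsPrime.ne_top inferInstance) ((Ideal.eq_top_iff_one I).mpr h),
      by simpa using ha⟩

end Rational

section Kill

variable {R' T' : Type*} [CommRing R'] [CommRing T'] [Algebra R' T'] [Algebra.IsIntegral R' T']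

theorem exists_mul_eq_zero_of_forall_mem (p' : Ideal R') [p'.IsPrime] (f : T')
    (hf : IsIdempotentElem f)
    (h : ∀ r : Ideal T', r.IsPrime → r.comap (algebraMap R' T') = p' → f ∈ r) :
    ∃ s : R', s ∉ p' ∧ algebraMap R' T' s * f = 0 := by
  by_contra hcon
  push Not at hcon
  have hle : (Ideal.span {1 - f}).comap (algebraMap R' T') ≤ p' := by
    intro a ha
    by_contra hap
    apply hcon a hap
    rw [Ideal.mem_comap, Ideal.mem_span_singleton'] at ha
    obtain ⟨y, hy⟩ := ha
    rw [← hy, mul_assoc, sub_mul, one_mul, hf.eq, sub_self, mul_zero]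
  obtain ⟨Q, hQI, hQp, hQ⟩ := Ideal.exists_ideal_over_prime_of_isIntegral p' _ hle
  have h1 : f ∈ Q := h Q hQp hQ
  have h2 : 1 - f ∈ Q := hQI (Ideal.subset_span rfl)
  have h3 : (1 : T') ∈ Q := by
    have := Q.add_mem h1 h2
    simpa using this
  exact hQp.ne_top ((Ideal.eq_top_iff_one Q).mpr h3)

end Kill

section Unique

variable {R R' T : Type*} [CommRing R] [CommRing R'] [CommRing T] [Algebra R R'] [Algebra R T]

theorem RationalOver.exists_sub_mem {p : Ideal R} [p.IsPrime] {p' : Ideal R'}
    (h : RationalOver p p') (x : R' ⊗[R] T) :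
    ∃ (d : R) (t : T), d ∉ p ∧ algebraMap R (R' ⊗[R] T) d * x - 1 ⊗ₜ t ∈
      p'.map (algebraMap R' (R' ⊗[R] T)) := by
  induction x using TensorProduct.induction_on with
  | zero => exact ⟨1, 0, fun h1 => (Ideal.IsPrime.ne_top inferInstance)
      ((Ideal.eq_top_iff_one p).mpr h1), by simp⟩
  | tmul a t =>
    obtain ⟨c, d, hd, hcd⟩ := h.2 a
    refine ⟨d, c • t, hd, ?_⟩
    have : algebraMap R (R' ⊗[R] T) d * a ⊗ₜ[R] t - 1 ⊗ₜ[R] (c • t) =
        algebraMap R' (R' ⊗[R] T) (algebraMap R R' d * a - algebraMap R R' c) * (1 ⊗ₜ t) := by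
      rw [Algebra.TensorProduct.algebraMap_apply, Algebra.TensorProduct.algebraMap_apply,
        Algebra.TensorProduct.tmul_mul_tmul, Algebra.TensorProduct.tmul_mul_tmul, one_mul, mul_one,
        Algebra.algebraMap_self, RingHom.id_apply, TensorProduct.sub_tmul]
      congr 1
      rw [Algebra.algebraMap_eq_smul_one, TensorProduct.smul_tmul]
    rw [this]
    exact Ideal.mul_mem_right _ _ (Ideal.mem_map_of_mem _ hcd)
  | add x y hx hy =>
    obtain ⟨d₁, t₁, hd₁, h1⟩ := hx
    obtain ⟨d₂, t₂, hd₂, h2⟩ := hy
    refine ⟨d₁ * d₂, d₂ • t₁ + d₁ • t₂, ?_, ?_⟩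
    · intro hmem
      rcases Ideal.IsPrime.mem_or_mem inferInstance hmem with h5 | h5
      · exact hd₁ h5
      · exact hd₂ h5
    · set J := p'.map (algebraMap R' (R' ⊗[R] T)) with hJ
      have : algebraMap R (R' ⊗[R] T) (d₁ * d₂) * (x + y) - 1 ⊗ₜ[R] (d₂ • t₁ + d₁ • t₂) =
          algebraMap R (R' ⊗[R] T) d₂ * (algebraMap R (R' ⊗[R] T) d₁ * x - 1 ⊗ₜ t₁) +
          algebraMap R (R' ⊗[R] T) d₁ * (algebraMap R (R' ⊗[R] T) d₂ * y - 1 ⊗ₜ t₂) := by
        rw [TensorProduct.tmul_add, TensorProduct.tmul_smul, TensorProduct.tmul_smul,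
          Algebra.smul_def, Algebra.smul_def, map_mul]
        ring
      rw [this]
      exact J.add_mem (J.mul_mem_left _ h1) (J.mul_mem_left _ h2)

theorem RationalOver.mem_iff {p : Ideal R} [p.IsPrime] {p' : Ideal R'}
    (h : RationalOver p p') (r : Ideal (R' ⊗[R] T)) [r.IsPrime]
    (hr : r.comap (algebraMap R' (R' ⊗[R] T)) = p') (x : R' ⊗[R] T) (d : R) (t : T) (hd : d ∉ p)
    (hx : algebraMap R (R' ⊗[R] T) d * x - 1 ⊗ₜ t ∈ p'.map (algebraMap R' (R' ⊗[R] T))) :
    x ∈ r ↔ t ∈ r.comap (Algebra.TensorProduct.includeRight : T →ₐ[R] R' ⊗[R] T) := by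
  have hle : p'.map (algebraMap R' (R' ⊗[R] T)) ≤ r := by
    rw [Ideal.map_le_iff_le_comap, hr]
  have hdr : algebraMap R (R' ⊗[R] T) d ∉ r := by
    intro hmem
    apply hd
    rw [← h.1, ← hr, Ideal.mem_comap, Ideal.mem_comap, ← IsScalarTower.algebraMap_apply]
    exact hmem
  have hx' := hle hx
  rw [Ideal.mem_comap]
  change x ∈ r ↔ (1 : R') ⊗ₜ[R] t ∈ r
  constructor
  · intro hxr
    have := r.sub_mem (r.mul_mem_left (algebraMap R (R' ⊗[R] T) d) hxr) hx'
    simpa using this
  · intro htr
    have : algebraMap R (R' ⊗[R] T) d * x ∈ r := by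
      have := r.add_mem hx' htr
      simpa using this
    rcases Ideal.IsPrime.mem_or_mem inferInstance this with h5 | h5
    · exact absurd h5 hdr
    · exact h5

theorem RationalOver.eq_of_comap_eq {p : Ideal R} [p.IsPrime] {p' : Ideal R'}
    (h : RationalOver p p') (r₁ r₂ : Ideal (R' ⊗[R] T)) [r₁.IsPrime] [r₂.IsPrime]
    (h₁ : r₁.comap (algebraMap R' (R' ⊗[R] T)) = p')
    (h₂ : r₂.comap (algebraMap R' (R' ⊗[R] T)) = p')
    (hT : r₁.comap (Algebra.TensorProduct.includeRight : T →ₐ[R] R' ⊗[R] T) =
      r₂.comap (Algebra.TensorProduct.includeRight : T →ₐ[R] R' ⊗[R] T)) : r₁ = r₂ := by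
  ext x
  obtain ⟨d, t, hd, hx⟩ := h.exists_sub_mem (T := T) x
  rw [h.mem_iff r₁ h₁ x d t hd hx, h.mem_iff r₂ h₂ x d t hd hx, hT]

end Unique

section Exists

variable {R R' T : Type*} [CommRing R] [CommRing R'] [CommRing T] [Algebra R R'] [Algebra R T]

theorem RationalOver.residueField_bijective {p : Ideal R} [p.IsPrime] {p' : Ideal R'} [p'.IsPrime]
    (h : RationalOver p p') :
    Function.Bijective (Ideal.ResidueField.map p p' (algebraMap R R') h.1.symm) := by
  refine ⟨RingHom.injective _, ?_⟩
  intro y
  set ι := Ideal.ResidueField.map p p' (algebraMap R R') h.1.symm with hι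
  obtain ⟨z, rfl⟩ := IsLocalRing.residue_surjective y
  obtain ⟨a, b, rfl⟩ := IsLocalization.exists_mk'_eq p'.primeCompl z
  obtain ⟨c₁, d₁, hd₁, h1⟩ := h.2 a
  obtain ⟨c₂, d₂, hd₂, h2⟩ := h.2 (b : R')
  have hφ : ∀ x : R, algebraMap R' p'.ResidueField (algebraMap R R' x) =
      ι (algebraMap R p.ResidueField x) := by
    intro x
    rw [hι, Ideal.ResidueField.map_algebraMap]
  have hne : ∀ x : R, x ∉ p → ι (algebraMap R p.ResidueField x) ≠ 0 := by
    intro x hx h0
    rw [map_eq_zero_iff _ ι.injective, Ideal.algebraMap_residueField_eq_zero] at h0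
    exact hx h0
  have e1 : ι (algebraMap R p.ResidueField d₁) * algebraMap R' p'.ResidueField a =
      ι (algebraMap R p.ResidueField c₁) := by
    have := (Ideal.algebraMap_residueField_eq_zero (I := p')).mpr h1
    rw [map_sub, map_mul, hφ, hφ, sub_eq_zero] at this
    exact this
  have e2 : ι (algebraMap R p.ResidueField d₂) * algebraMap R' p'.ResidueField (b : R') =
      ι (algebraMap R p.ResidueField c₂) := by
    have := (Ideal.algebraMap_residueField_eq_zero (I := p')).mpr h2
    rw [map_sub, map_mul, hφ, hφ, sub_eq_zero] at this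
    exact this
  have hb : algebraMap R' p'.ResidueField (b : R') ≠ 0 := by
    intro h0
    rw [Ideal.algebraMap_residueField_eq_zero] at h0
    exact b.2 h0
  have e3 : IsLocalRing.residue _ (IsLocalization.mk' (Localization.AtPrime p') a b) *
      algebraMap R' p'.ResidueField (b : R') = algebraMap R' p'.ResidueField a := by
    rw [IsScalarTower.algebraMap_apply R' (Localization.AtPrime p') p'.ResidueField,
      IsScalarTower.algebraMap_apply R' (Localization.AtPrime p') p'.ResidueField,
      IsLocalRing.ResidueField.algebraMap_eq, ← map_mul, IsLocalization.mk'_spec]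
  have hd1 := hne d₁ hd₁
  have hd2 := hne d₂ hd₂
  have hc2 : ι (algebraMap R p.ResidueField c₂) ≠ 0 := by
    rw [← e2]; exact mul_ne_zero hd2 hb
  refine ⟨(algebraMap R p.ResidueField c₁ / algebraMap R p.ResidueField d₁) /
    (algebraMap R p.ResidueField c₂ / algebraMap R p.ResidueField d₂), ?_⟩
  rw [map_div₀, map_div₀, map_div₀]
  rw [← e1, ← e2] 
  field_simp
  rw [← e3]
  ring

theorem RationalOver.exists_prime {p : Ideal R} [p.IsPrime] {p' : Ideal R'} [p'.IsPrime]
    (h : RationalOver p p') (q : Ideal T) [q.IsPrime] (hq : q.comap (algebraMap R T) = p) :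
    ∃ r : Ideal (R' ⊗[R] T), r.IsPrime ∧ r.comap (algebraMap R' (R' ⊗[R] T)) = p' ∧
      r.comap (Algebra.TensorProduct.includeRight : T →ₐ[R] R' ⊗[R] T) = q := by
  let ι := Ideal.ResidueField.map p p' (algebraMap R R') h.1.symm
  let e := RingEquiv.ofBijective ι h.residueField_bijective
  let j := Ideal.ResidueField.map p q (algebraMap R T) hq.symm
  let α₀ : R' →+* q.ResidueField := (j.comp e.symm.toRingHom).comp (algebraMap R' p'.ResidueField)
  have hα : ∀ x : R, α₀ (algebraMap R R' x) = algebraMap R q.ResidueField x := by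
    intro x
    simp only [α₀, RingHom.comp_apply, RingEquiv.toRingHom_eq_coe, RingHom.coe_coe]
    have : algebraMap R' p'.ResidueField (algebraMap R R' x) = e (algebraMap R p.ResidueField x) := by
      rw [RingEquiv.ofBijective_apply]
      exact (Ideal.ResidueField.map_algebraMap p p' (algebraMap R R') h.1.symm x).symm
    rw [this, RingEquiv.symm_apply_apply, Ideal.ResidueField.map_algebraMap,
      ← IsScalarTower.algebraMap_apply]
  let α : R' →ₐ[R] q.ResidueField := { α₀ with commutes' := hα }
  let β : T →ₐ[R] q.ResidueField := IsScalarTower.toAlgHom R T q.ResidueField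
  let ψ : R' ⊗[R] T →ₐ[R] q.ResidueField := Algebra.TensorProduct.productMap α β
  refine ⟨RingHom.ker ψ.toRingHom, RingHom.ker_isPrime _, ?_, ?_⟩
  · ext a
    rw [Ideal.mem_comap, RingHom.mem_ker]
    change ψ (algebraMap R' (R' ⊗[R] T) a) = 0 ↔ _
    rw [Algebra.TensorProduct.algebraMap_apply, Algebra.algebraMap_self, RingHom.id_apply,
      Algebra.TensorProduct.productMap_apply_tmul, map_one, mul_one]
    change (j.comp e.symm.toRingHom) (algebraMap R' p'.ResidueField a) = 0 ↔ _
    rw [map_eq_zero_iff _ (j.comp e.symm.toRingHom).injective,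
      Ideal.algebraMap_residueField_eq_zero]
  · ext t
    rw [Ideal.mem_comap, RingHom.mem_ker]
    change ψ ((1 : R') ⊗ₜ[R] t) = 0 ↔ _
    rw [Algebra.TensorProduct.productMap_apply_tmul, map_one, one_mul]
    change algebraMap T q.ResidueField t = 0 ↔ _
    rw [Ideal.algebraMap_residueField_eq_zero]

end Exists

section Idem

variable {A' T' : Type*} [CommRing A'] [CommRing T'] [Algebra A' T']

theorem idem_of_factor (p' : Ideal A') (c : T') (P G H u v : A'[X]) (hP : aeval c P = 0)
    (hGH : G * H = P) (huv : u * G + v * H = 1) (a : ℕ) (ha : 0 < a)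
    (hG : G.map (Ideal.Quotient.mk p') = X ^ a) :
    IsIdempotentElem (aeval c (u * G)) ∧
      ∀ r : Ideal T', r.IsPrime → p' ≤ r.comap (algebraMap A' T') →
        (c ∈ r → aeval c (u * G) ∈ r) ∧ (c ∉ r → 1 - aeval c (u * G) ∈ r) := by
  have hsum : aeval c (u * G) + aeval c (v * H) = 1 := by
    rw [← map_add, huv, map_one]
  have hprod : aeval c (u * G) * aeval c (v * H) = 0 := by
    have : aeval c (u * G) * aeval c (v * H) = aeval c (u * v) * aeval c (G * H) := by
      simp only [map_mul]; ring
    rw [this, hGH, hP, mul_zero]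
  have hone : 1 - aeval c (u * G) = aeval c (v * H) := by rw [← hsum]; ring
  refine ⟨?_, ?_⟩
  · change aeval c (u * G) * aeval c (u * G) = aeval c (u * G)
    have : aeval c (u * G) * aeval c (u * G) =
        aeval c (u * G) * (aeval c (u * G) + aeval c (v * H)) - aeval c (u * G) * aeval c (v * H) := by
      ring
    rw [this, hsum, hprod, mul_one, sub_zero]
  · intro r hr hle
    -- the quotient domain
    let π := Ideal.Quotient.mk r
    have hker : p' ≤ RingHom.ker (π.comp (algebraMap A' T')) := by
      intro x hx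
      rw [RingHom.mem_ker, RingHom.comp_apply, Ideal.Quotient.eq_zero_iff_mem]
      exact hle hx
    let ι : A' ⧸ p' →+* T' ⧸ r := Ideal.Quotient.lift p' (π.comp (algebraMap A' T')) hker
    have hι : ι.comp (Ideal.Quotient.mk p') = π.comp (algebraMap A' T') := by
      ext x; rfl
    have hGc : π (aeval c G) = (π c) ^ a := by
      have h1 : π (aeval c G) = eval (π c) (G.map (π.comp (algebraMap A' T'))) := by
        rw [aeval_def, Polynomial.hom_eval₂, Polynomial.eval_map]
      rw [h1, ← hι, ← Polynomial.map_map, hG, Polynomial.map_pow, Polynomial.map_X, eval_pow, eval_X]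
    constructor
    · intro hc
      have hc0 : π c = 0 := Ideal.Quotient.eq_zero_iff_mem.mpr hc
      rw [← Ideal.Quotient.eq_zero_iff_mem, map_mul, map_mul] 
      change π (aeval c u) * π (aeval c G) = 0
      rw [hGc, hc0, zero_pow (Nat.pos_iff_ne_zero.mp ha), mul_zero]
    · intro hc
      have hc0 : π c ≠ 0 := fun h => hc (Ideal.Quotient.eq_zero_iff_mem.mp h)
      haveI : IsDomain (T' ⧸ r) := Ideal.Quotient.isDomain r
      have hGne : π (aeval c G) ≠ 0 := by rw [hGc]; exact pow_ne_zero _ hc0
      have hGH0 : π (aeval c G) * π (aeval c H) = 0 := by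
        rw [← map_mul, ← map_mul, hGH, hP, map_zero]
      have hH0 : π (aeval c H) = 0 := (mul_eq_zero.mp hGH0).resolve_left hGne
      rw [hone, ← Ideal.Quotient.eq_zero_iff_mem, map_mul, map_mul]
      change π (aeval c v) * π (aeval c H) = 0
      rw [hH0, mul_zero]

end Idem

section PI

variable {R' A : Type*} [CommRing R'] [CommRing A] [Algebra R' A]

theorem exists_div_residueField (r : Ideal A) [r.IsPrime] (x : r.ResidueField) :
    ∃ a b : A, b ∉ r ∧ x * algebraMap A r.ResidueField b = algebraMap A r.ResidueField a := by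
  obtain ⟨z, rfl⟩ := IsLocalRing.residue_surjective x
  obtain ⟨a, b, rfl⟩ := IsLocalization.exists_mk'_eq r.primeCompl z
  refine ⟨a, b, b.2, ?_⟩
  rw [IsScalarTower.algebraMap_apply A (Localization.AtPrime r) r.ResidueField,
    IsScalarTower.algebraMap_apply A (Localization.AtPrime r) r.ResidueField,
    IsLocalRing.ResidueField.algebraMap_eq, ← map_mul, IsLocalization.mk'_spec]

theorem isPurelyInseparable_of_generators (p' : Ideal R') [p'.IsPrime] (r : Ideal A) [r.IsPrime]
    (h : p' = r.comap (algebraMap R' A)) (G : Set A) (hG : Algebra.adjoin R' G = ⊤)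
    (hpi : ∀ g ∈ G, ∃ n : ℕ, (algebraMap A r.ResidueField g) ^ (ringExpChar p'.ResidueField) ^ n ∈
      (Ideal.ResidueField.map p' r (algebraMap R' A) h).range) :
    letI := (Ideal.ResidueField.map p' r (algebraMap R' A) h).toAlgebra
    IsPurelyInseparable p'.ResidueField r.ResidueField := by
  letI := (Ideal.ResidueField.map p' r (algebraMap R' A) h).toAlgebra
  have halg : algebraMap p'.ResidueField r.ResidueField =
      Ideal.ResidueField.map p' r (algebraMap R' A) h := RingHom.algebraMap_toAlgebra _
  have h1 : ∀ y : A, algebraMap A r.ResidueField y ∈ perfectClosure p'.ResidueField r.ResidueField := by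
    intro y
    have hy : y ∈ Algebra.adjoin R' G := by rw [hG]; trivial
    induction hy using Algebra.adjoin_induction with
    | mem g hg =>
      obtain ⟨n, hn⟩ := hpi g hg
      rw [mem_perfectClosure_iff]
      exact ⟨n, by rw [halg]; exact hn⟩
    | algebraMap a =>
      have : algebraMap A r.ResidueField (algebraMap R' A a) =
          algebraMap p'.ResidueField r.ResidueField (algebraMap R' p'.ResidueField a) := by
        rw [halg, Ideal.ResidueField.map_algebraMap]
      rw [this]
      exact IntermediateField.algebraMap_mem _ _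
    | add x y _ _ hx hy => rw [map_add]; exact add_mem hx hy
    | mul x y _ _ hx hy => rw [map_mul]; exact mul_mem hx hy
  have h2 : ∀ x : r.ResidueField, x ∈ perfectClosure p'.ResidueField r.ResidueField := by
    intro x
    obtain ⟨a, b, hb, hab⟩ := exists_div_residueField r x
    have hb0 : algebraMap A r.ResidueField b ≠ 0 := by
      intro h0
      rw [Ideal.algebraMap_residueField_eq_zero] at h0
      exact hb h0
    have : x = algebraMap A r.ResidueField a / algebraMap A r.ResidueField b := by
      rw [← hab, mul_div_assoc, div_self hb0, mul_one]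
    rw [this]
    exact div_mem (h1 a) (h1 b)
  rw [isPurelyInseparable_iff_pow_mem p'.ResidueField (ringExpChar p'.ResidueField)]
  intro x
  exact mem_perfectClosure_iff.mp (h2 x)

/-- Elementwise consequence of pure inseparability of a residue field extension. -/
theorem exists_pow_sub_mem_of_isPurelyInseparable (p' : Ideal R') [p'.IsPrime] (r : Ideal A)
    [r.IsPrime] (h : p' = r.comap (algebraMap R' A))
    (hpi : letI := (Ideal.ResidueField.map p' r (algebraMap R' A) h).toAlgebra
      IsPurelyInseparable p'.ResidueField r.ResidueField) (y : A) :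
    ∃ (n : ℕ) (c d : R'), d ∉ p' ∧
      algebraMap R' A d * y ^ (ringExpChar p'.ResidueField) ^ n - algebraMap R' A c ∈ r := by
  letI := (Ideal.ResidueField.map p' r (algebraMap R' A) h).toAlgebra
  have halg : algebraMap p'.ResidueField r.ResidueField =
      Ideal.ResidueField.map p' r (algebraMap R' A) h := RingHom.algebraMap_toAlgebra _
  obtain ⟨n, z, hz⟩ := IsPurelyInseparable.pow_mem p'.ResidueField (ringExpChar p'.ResidueField)
    (algebraMap A r.ResidueField y)
  obtain ⟨c, d, hd, hcd⟩ := exists_div_residueField p' z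
  refine ⟨n, c, d, hd, ?_⟩
  rw [← Ideal.algebraMap_residueField_eq_zero, map_sub, map_mul, map_pow, ← hz, sub_eq_zero]
  have e1 : algebraMap A r.ResidueField (algebraMap R' A d) =
      algebraMap p'.ResidueField r.ResidueField (algebraMap R' p'.ResidueField d) := by
    rw [halg, Ideal.ResidueField.map_algebraMap]
  have e2 : algebraMap A r.ResidueField (algebraMap R' A c) =
      algebraMap p'.ResidueField r.ResidueField (algebraMap R' p'.ResidueField c) := by
    rw [halg, Ideal.ResidueField.map_algebraMap]
  rw [e1, e2, ← hcd, map_mul, mul_comm]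

end PI

end Groth.Agent.Lib.Helper90.SplitInt
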