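import Groth.Agent.Lib.Helper90.EtaleNbhdFactor

set_option autoImplicit false
set_option linter.style.haveILetI false
set_option linter.unusedSectionVars false
universe u

open Polynomial TensorProduct

namespace Groth.Agent.Lib.Helper90.SplitInt

/-- Simultaneous etale-local lifting of finitely many coprime factorizations `f_j ≡ X^{a_j} * h_j`
modulo `I`. -/
theorem exists_etale_multi_lift {A : Type u} [CommRing A] (I : Ideal A) :
    ∀ (n : ℕ) (f : Fin n → A[X]) (a : Fin n → ℕ) (h : Fin n → (A ⧸ I)[X]),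
    (∀ j, (f j).Monic) → (∀ j, (h j).Monic) →
    (∀ j, IsCoprime ((X : (A ⧸ I)[X]) ^ a j) (h j)) →
    (∀ j, (f j).map (Ideal.Quotient.mk I) = X ^ a j * h j) →
    ∃ (A' : Type u) (_ : CommRing A') (_ : Algebra A A'), Algebra.Etale A A' ∧
      (∀ a' : A', ∃ x : A, a' - algebraMap A A' x ∈ I.map (algebraMap A A')) ∧
      (∀ x : A, algebraMap A A' x ∈ I.map (algebraMap A A') → x ∈ I) ∧
      ∀ j, ∃ G H u v : A'[X], G * H = (f j).map (algebraMap A A') ∧ u * G + v * H = 1 ∧
        G.map (Ideal.Quotient.mk (I.map (algebraMap A A'))) = X ^ a j := by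
  intro n
  induction n generalizing A with
  | zero =>
    intro f a h _ _ _ _
    refine ⟨A, inferInstance, inferInstance, inferInstance, fun a' => ⟨a', by simp⟩, ?_, fun j => j.elim0⟩
    intro x hx
    rwa [Algebra.algebraMap_self, Ideal.map_id] at hx
  | succ n ih =>
    intro f a h hf hh hcop hfgh
    -- lift the last one first
    obtain ⟨A₁, _, _, hA₁, hbij, g', h', hg'm, hh'm, hcop', hfgh', hg', hh'⟩ :=
      Groth.Agent.Lib.Helper90.EtaleNbhd.exists_etale_lift_coprime_monic_factorization I
        (f (Fin.last n)) (hf _) (X ^ a (Fin.last n)) (h (Fin.last n)) (monic_X_pow _) (hh _)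
        (hcop _) (hfgh _)
    set I₁ := I.map (algebraMap A A₁) with hI₁
    -- transport remaining data
    let ψ : A ⧸ I →+* A₁ ⧸ I₁ := algebraMap (A ⧸ I) (A₁ ⧸ I₁)
    have hψ : ψ.comp (Ideal.Quotient.mk I) = (Ideal.Quotient.mk I₁).comp (algebraMap A A₁) := by
      ext x; rfl
    obtain ⟨A₂, _, _, hA₂, hs₂, hi₂, hfac₂⟩ := ih (A := A₁) I₁
      (fun j => (f j.castSucc).map (algebraMap A A₁)) (fun j => a j.castSucc)
      (fun j => (h j.castSucc).map ψ)
      (fun j => (hf _).map _) (fun j => (hh _).map _)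
      (fun j => by
        have := (hcop j.castSucc).map (Polynomial.mapRingHom ψ)
        simpa using this)
      (fun j => by
        rw [Polynomial.map_map, ← hψ, ← Polynomial.map_map, hfgh, Polynomial.map_mul,
          Polynomial.map_pow, Polynomial.map_X])
    letI : Algebra A A₂ := ((algebraMap A₁ A₂).comp (algebraMap A A₁)).toAlgebra
    haveI : IsScalarTower A A₁ A₂ := IsScalarTower.of_algebraMap_eq' rfl
    have hI₂ : I₁.map (algebraMap A₁ A₂) = I.map (algebraMap A A₂) := by
      rw [hI₁, Ideal.map_map, ← IsScalarTower.algebraMap_eq]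
    have hsurj₁ : ∀ a' : A₁, ∃ x : A, a' - algebraMap A A₁ x ∈ I₁ := by
      intro a'
      obtain ⟨y, hy⟩ := hbij.2 (Ideal.Quotient.mk I₁ a')
      obtain ⟨x, rfl⟩ := Ideal.Quotient.mk_surjective y
      refine ⟨x, ?_⟩
      rw [← Ideal.Quotient.eq_zero_iff_mem, map_sub, sub_eq_zero, ← hy]
      rfl
    have hinj₁ : ∀ x : A, algebraMap A A₁ x ∈ I₁ → x ∈ I := by
      intro x hx
      rw [← Ideal.Quotient.eq_zero_iff_mem] at hx ⊢
      apply hbij.1
      rw [map_zero]
      exact hx
    refine ⟨A₂, inferInstance, inferInstance, Algebra.Etale.comp A A₁ A₂, ?_, ?_, ?_⟩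
    · intro a''
      obtain ⟨y, hy⟩ := hs₂ a''
      obtain ⟨x, hx⟩ := hsurj₁ y
      refine ⟨x, ?_⟩
      rw [hI₂] at hy
      have : a'' - algebraMap A A₂ x = (a'' - algebraMap A₁ A₂ y) +
          algebraMap A₁ A₂ (y - algebraMap A A₁ x) := by
        rw [map_sub, ← IsScalarTower.algebraMap_apply]; ring
      rw [this]
      refine Ideal.add_mem _ hy ?_
      rw [← hI₂]
      exact Ideal.mem_map_of_mem _ hx
    · intro x hx
      apply hinj₁
      apply hi₂
      rw [hI₂, ← IsScalarTower.algebraMap_apply]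
      exact hx
    · intro j
      refine Fin.lastCases ?_ (fun j => ?_) j
      · obtain ⟨u, v, huv⟩ := hcop'
        refine ⟨g'.map (algebraMap A₁ A₂), h'.map (algebraMap A₁ A₂), u.map (algebraMap A₁ A₂),
          v.map (algebraMap A₁ A₂), ?_, ?_, ?_⟩
        · rw [← Polynomial.map_mul, ← hfgh', Polynomial.map_map, ← IsScalarTower.algebraMap_eq]
        · rw [← Polynomial.map_mul, ← Polynomial.map_mul, ← Polynomial.map_add, huv,
            Polynomial.map_one]
        · have hle : I₁ ≤ (I.map (algebraMap A A₂)).comap (algebraMap A₁ A₂) := by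
            rw [← Ideal.map_le_iff_le_comap, hI₂]
          have hq : (Ideal.Quotient.mk (I.map (algebraMap A A₂))).comp (algebraMap A₁ A₂) =
              (Ideal.quotientMap _ (algebraMap A₁ A₂) hle).comp (Ideal.Quotient.mk I₁) := by
            ext x; rfl
          rw [Polynomial.map_map, hq, ← Polynomial.map_map, hg', Polynomial.map_pow,
            Polynomial.map_X, Polynomial.map_pow, Polynomial.map_X]
      · obtain ⟨G, H, u, v, hGH, huv, hG⟩ := hfac₂ j
        refine ⟨G, H, u, v, ?_, huv, ?_⟩
        · rw [hGH, Polynomial.map_map, ← IsScalarTower.algebraMap_eq]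
        · rw [← hI₂]
          exact hG

end Groth.Agent.Lib.Helper90.SplitInt
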