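import Groth.Agent.Lib.Helper90.SplitInt1
import Groth.Agent.Lib.Helper90.SplitInt2

/-!
Etale-local splitting of an integral algebra with finitely many primes over `p`, all with purely
inseparable residue fields (helper90).
-/

set_option autoImplicit false
set_option linter.style.haveILetI false
set_option linter.unusedSectionVars false
universe u

open Polynomial TensorProduct

namespace Groth.Agent.Lib.Helper90.SplitInt

section Sep

variable {R T : Type*} [CommRing R] [CommRing T] [Algebra R T] [Algebra.IsIntegral R T]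

theorem exists_separating_polys (p : Ideal R) [p.IsPrime] (n : ℕ) (q : Fin n → Ideal T)
    (hqinj : Function.Injective q) (hqp : ∀ j, (q j).IsPrime)
    (hq : ∀ j, (q j).comap (algebraMap R T) = p) :
    ∃ (t : Fin n → T) (P : Fin n → R[X]) (a : Fin n → ℕ) (Qb : Fin n → (R ⧸ p)[X]) (c : Fin n → R),
      (∀ j, t j ∈ q j) ∧ (∀ i j, i ≠ j → t j ∉ q i) ∧ (∀ j, (P j).Monic) ∧
      (∀ j, aeval (t j) (P j) = 0) ∧ (∀ j, 0 < a j) ∧ (∀ j, (Qb j).Monic) ∧
      (∀ j, (P j).map (Ideal.Quotient.mk p) = X ^ a j * Qb j) ∧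
      (∀ j, (Qb j).coeff 0 = Ideal.Quotient.mk p (c j)) ∧ (∀ j, c j ∉ p) := by
  classical
  have hincomp : ∀ i j, i ≠ j → ¬ q j ≤ q i := by
    intro i j hij hle
    haveI := hqp j
    have hne : q j ≠ q i := fun h => hij (hqinj h).symm
    have hlt : q j < q i := lt_of_le_of_ne hle hne
    have := Ideal.IsIntegral.comap_lt_comap (R := R) hlt
    rw [hq, hq] at this
    exact lt_irrefl _ this
  have ht : ∀ j, ∃ t, t ∈ q j ∧ ∀ i, i ≠ j → t ∉ q i := by
    intro j
    have hnot : ¬ ((q j : Set T) ⊆ ⋃ i ∈ ((Finset.univ.erase j : Finset (Fin n)) : Set (Fin n)), q i) := by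
      rw [Ideal.subset_union_prime j j (fun i _ _ _ => hqp i)]
      rintro ⟨i, hi, hle⟩
      exact hincomp i j (Finset.ne_of_mem_erase hi) hle
    rw [Set.not_subset] at hnot
    obtain ⟨t, htj, htn⟩ := hnot
    refine ⟨t, htj, fun i hij hti => htn ?_⟩
    simp only [Finset.coe_erase, Finset.coe_univ, Set.mem_sdiff, Set.mem_univ, Set.mem_singleton_iff,
      true_and, Set.mem_iUnion, SetLike.mem_coe, exists_prop]
    exact ⟨i, hij, hti⟩
  choose t ht1 ht2 using ht
  have hP : ∀ j, ∃ P : R[X], P.Monic ∧ aeval (t j) P = 0 := fun j =>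
    Algebra.IsIntegral.isIntegral (R := R) (t j)
  choose P hP1 hP2 using hP
  haveI : Nontrivial (R ⧸ p) := Ideal.Quotient.nontrivial_iff.mpr (Ideal.IsPrime.ne_top inferInstance)
  have hPb0 : ∀ j, (P j).map (Ideal.Quotient.mk p) ≠ 0 := fun j => ((hP1 j).map _).ne_zero
  have hfac : ∀ j, ∃ Qb : (R ⧸ p)[X], (P j).map (Ideal.Quotient.mk p) =
      X ^ ((P j).map (Ideal.Quotient.mk p)).rootMultiplicity 0 * Qb ∧ ¬ X ∣ Qb := by
    intro j
    have := exists_eq_pow_rootMultiplicity_mul_and_not_dvd _ (hPb0 j) (0 : R ⧸ p)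
    simpa using this
  choose Qb hQ1 hQ2 using hfac
  have hc : ∀ j, ∃ c : R, (Qb j).coeff 0 = Ideal.Quotient.mk p c := fun j =>
    ⟨_, (Ideal.Quotient.mk_surjective _).choose_spec.symm⟩
  choose c hc using hc
  refine ⟨t, P, fun j => ((P j).map (Ideal.Quotient.mk p)).rootMultiplicity 0, Qb, c, ht1,
    fun i j hij => ht2 j i hij, hP1, hP2, ?_, ?_, hQ1, hc, ?_⟩
  · intro j
    rw [rootMultiplicity_pos (hPb0 j), IsRoot.def, eval_map, eval₂_at_zero,
      Ideal.Quotient.eq_zero_iff_mem, ← hq j, Ideal.mem_comap]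
    have h1 : aeval (t j) (P j) = t j * aeval (t j) (divX (P j)) + algebraMap R T ((P j).coeff 0) := by
      have h0 := congrArg (aeval (t j)) (X_mul_divX_add (P j))
      simp only [map_add, map_mul, aeval_X, aeval_C] at h0
      exact h0.symm
    rw [hP2 j] at h1
    have h2 : algebraMap R T ((P j).coeff 0) = - (t j * aeval (t j) (divX (P j))) := by
      linear_combination -h1
    rw [h2]
    exact (q j).neg_mem ((q j).mul_mem_right _ (ht1 j))
  · intro j
    have hm : ((P j).map (Ideal.Quotient.mk p)).Monic := (hP1 j).map _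
    rw [hQ1 j] at hm
    exact (monic_X_pow _).of_mul_monic_left hm
  · intro j hcj
    apply hQ2 j
    rw [X_dvd_iff, hc j, Ideal.Quotient.eq_zero_iff_mem]
    exact hcj

end Sep

theorem exists_lifted_idempotents {R T : Type u} [CommRing R] [CommRing T] [Algebra R T]
    [Algebra.IsIntegral R T] (p : Ideal R) [p.IsPrime] (n : ℕ) (q : Fin n → Ideal T)
    (hqinj : Function.Injective q) (hqp : ∀ j, (q j).IsPrime)
    (hq : ∀ j, (q j).comap (algebraMap R T) = p) :
    ∃ (A' : Type u) (_ : CommRing A') (_ : Algebra R A') (p' : Ideal A'), Algebra.Etale R A' ∧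
      p'.IsPrime ∧ RationalOver p p' ∧ ∃ e : Fin n → A' ⊗[R] T, (∀ j, IsIdempotentElem (e j)) ∧
        ∀ r : Ideal (A' ⊗[R] T), r.IsPrime → r.comap (algebraMap A' (A' ⊗[R] T)) = p' →
          ∀ i, r.comap (Algebra.TensorProduct.includeRight : T →ₐ[R] A' ⊗[R] T) = q i →
            e i ∈ r ∧ ∀ j, j ≠ i → 1 - e j ∈ r := by
  classical
  obtain ⟨t, P, a, Qb, c, ht1, ht2, hP1, hP2, ha, hQm, hfac, hc, hcp⟩ :=
    exists_separating_polys p n q hqinj hqp hq
  -- localize at the product of the `c j`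
  obtain ⟨c₀, hc₀⟩ : ∃ c₀ : R, c₀ = ∏ j, c j := ⟨_, rfl⟩
  have hc₀p : c₀ ∉ p := by
    rw [hc₀, Ideal.IsPrime.prod_mem_iff]
    rintro ⟨j, -, hj⟩
    exact hcp j hj
  obtain ⟨hIprime, hIrat⟩ := RationalOver.away (p := p) c₀ hc₀p
  set A := Localization.Away c₀ with hA
  set I := p.map (algebraMap R A) with hI
  haveI := hIprime
  let ψ : R ⧸ p →+* A ⧸ I := Ideal.quotientMap I (algebraMap R A) Ideal.le_comap_map
  have hψ : ψ.comp (Ideal.Quotient.mk p) = (Ideal.Quotient.mk I).comp (algebraMap R A) := by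
    ext x; rfl
  have hunit : ∀ j, IsUnit (algebraMap R A (c j)) := by
    intro j
    have h1 : IsUnit (algebraMap R A c₀) := IsLocalization.Away.algebraMap_isUnit c₀
    have hdiv : c j ∣ c₀ := by
      rw [hc₀]; exact Finset.dvd_prod_of_mem c (Finset.mem_univ j)
    exact isUnit_of_dvd_unit (map_dvd (algebraMap R A) hdiv) h1
  have hcop : ∀ j, IsCoprime ((X : (A ⧸ I)[X]) ^ a j) ((Qb j).map ψ) := by
    intro j
    apply IsCoprime.pow_left
    have hu : IsUnit (((Qb j).map ψ).coeff 0) := by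
      rw [coeff_map, hc j]
      have : ψ (Ideal.Quotient.mk p (c j)) = Ideal.Quotient.mk I (algebraMap R A (c j)) := rfl
      rw [this]
      exact (hunit j).map _
    obtain ⟨w, hw⟩ := hu
    refine ⟨-(C (↑w⁻¹ : A ⧸ I) * divX ((Qb j).map ψ)), C (↑w⁻¹ : A ⧸ I), ?_⟩
    have h0 := X_mul_divX_add ((Qb j).map ψ)
    have h1 : -(C (↑w⁻¹ : A ⧸ I) * divX ((Qb j).map ψ)) * X + C (↑w⁻¹ : A ⧸ I) * (Qb j).map ψ =
        C (↑w⁻¹ : A ⧸ I) * ((Qb j).map ψ - X * divX ((Qb j).map ψ)) := by ring
    rw [h1]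
    have h2 : (Qb j).map ψ - X * divX ((Qb j).map ψ) = C (((Qb j).map ψ).coeff 0) := by
      linear_combination -h0
    rw [h2, ← C_mul, ← hw, Units.inv_mul, C_1]
  obtain ⟨A', _, _, hA', hs, hi, hfacs⟩ := exists_etale_multi_lift I n
    (fun j => (P j).map (algebraMap R A)) a (fun j => (Qb j).map ψ)
    (fun j => (hP1 j).map _) (fun j => (hQm j).map _) hcop
    (fun j => by
      rw [Polynomial.map_map, ← hψ, ← Polynomial.map_map, hfac, Polynomial.map_mul,
        Polynomial.map_pow, Polynomial.map_X])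
  letI : Algebra R A' := ((algebraMap A A').comp (algebraMap R A)).toAlgebra
  haveI : IsScalarTower R A A' := IsScalarTower.of_algebraMap_eq' rfl
  obtain ⟨hp'prime, hp'rat⟩ := RationalOver.of_quotient (I := I) hs hi
  set p' := I.map (algebraMap A A') with hp'
  haveI := hp'prime
  have hrat : RationalOver p p' := hIrat.trans hp'rat
  haveI : Algebra.Etale R A := inferInstance
  refine ⟨A', inferInstance, inferInstance, p', Algebra.Etale.comp R A A', hp'prime, hrat, ?_⟩
  choose G H u v hGH huv hG using hfacs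
  have hP' : ∀ j, aeval ((1 : A') ⊗ₜ[R] t j) (((P j).map (algebraMap R A)).map (algebraMap A A')) = 0 := by
    intro j
    rw [Polynomial.map_map, ← IsScalarTower.algebraMap_eq, Polynomial.aeval_map_algebraMap]
    have : (1 : A') ⊗ₜ[R] t j = (Algebra.TensorProduct.includeRight : T →ₐ[R] A' ⊗[R] T) (t j) := rfl
    rw [this, Polynomial.aeval_algHom_apply, hP2 j, map_zero]
  have key := fun j => idem_of_factor p' ((1 : A') ⊗ₜ[R] t j) _ (G j) (H j) (u j) (v j) (hP' j)
    (hGH j) (huv j) (a j) (ha j) (hG j)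
  refine ⟨fun j => aeval ((1 : A') ⊗ₜ[R] t j) (u j * G j), fun j => (key j).1, ?_⟩
  intro r hr hrp i hri
  have hmem : ∀ j, (1 : A') ⊗ₜ[R] t j ∈ r ↔ t j ∈ q i := by
    intro j
    rw [← hri, Ideal.mem_comap]
    rfl
  refine ⟨((key i).2 r hr hrp.ge).1 ((hmem i).mpr (ht1 i)), fun j hji => ?_⟩
  exact ((key j).2 r hr hrp.ge).2 (fun h => ht2 i j hji.symm ((hmem j).mp h))

section Over

variable {R A' T : Type*} [CommRing R] [CommRing A'] [CommRing T] [Algebra R A'] [Algebra R T]

theorem comap_includeRight_over (p : Ideal R) (p' : Ideal A') (hp : p'.comap (algebraMap R A') = p)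
    (r : Ideal (A' ⊗[R] T)) (hr : r.comap (algebraMap A' (A' ⊗[R] T)) = p') :
    (r.comap (Algebra.TensorProduct.includeRight : T →ₐ[R] A' ⊗[R] T)).comap (algebraMap R T) = p := by
  rw [← hp, ← hr]
  ext x
  simp only [Ideal.mem_comap]
  rw [AlgHom.commutes, ← IsScalarTower.algebraMap_apply]

end Over

theorem exists_complete_idempotents {R T : Type u} [CommRing R] [CommRing T] [Algebra R T]
    [Algebra.IsIntegral R T] (p : Ideal R) [p.IsPrime] (n : ℕ) (q : Fin n → Ideal T)
    (hqinj : Function.Injective q) (hqp : ∀ j, (q j).IsPrime)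
    (hq : ∀ j, (q j).comap (algebraMap R T) = p)
    (hall : ∀ q' : Ideal T, q'.IsPrime → q'.comap (algebraMap R T) = p → ∃ i, q' = q i) :
    ∃ (A'' : Type u) (_ : CommRing A'') (_ : Algebra R A'') (p'' : Ideal A''), Algebra.Etale R A'' ∧
      p''.IsPrime ∧ RationalOver p p'' ∧ ∃ f : Fin n → A'' ⊗[R] T,
        CompleteOrthogonalIdempotents f ∧
        ∀ r : Ideal (A'' ⊗[R] T), r.IsPrime → r.comap (algebraMap A'' (A'' ⊗[R] T)) = p'' →
          ∀ i, r.comap (Algebra.TensorProduct.includeRight : T →ₐ[R] A'' ⊗[R] T) = q i →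
            f i ∉ r ∧ ∀ j, j ≠ i → f j ∈ r := by
  classical
  obtain ⟨A', _, _, p', hA', hp'prime, hrat, e, he, hprop⟩ :=
    exists_lifted_idempotents p n q hqinj hqp hq
  haveI := hp'prime
  -- orthogonalize
  let f : Fin n → A' ⊗[R] T := fun j => (1 - e j) * ∏ l ∈ Finset.univ.erase j, e l
  have hprodidem : ∀ s : Finset (Fin n), IsIdempotentElem (∏ l ∈ s, e l) := by
    intro s
    exact Finset.prod_induction _ IsIdempotentElem (fun a b ha hb => ha.mul hb)
      IsIdempotentElem.one (fun l _ => he l)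
  have hfidem : ∀ j, IsIdempotentElem (f j) := fun j => (he j).one_sub.mul (hprodidem _)
  have hfortho : Pairwise (fun i j => f i * f j = 0) := by
    intro i j hij
    have h1 : ∏ l ∈ Finset.univ.erase j, e l =
        e i * ∏ l ∈ (Finset.univ.erase j).erase i, e l :=
      (Finset.mul_prod_erase _ _ (Finset.mem_erase.mpr ⟨hij, Finset.mem_univ i⟩)).symm
    have h2 : (1 - e i) * e i = 0 := by
      rw [sub_mul, one_mul, (he i).eq, sub_self]
    change (1 - e i) * _ * ((1 - e j) * _) = 0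
    rw [h1]
    generalize (∏ l ∈ Finset.univ.erase i, e l) = Pi
    generalize (∏ l ∈ (Finset.univ.erase j).erase i, e l) = Pji
    have : (1 - e i) * Pi * ((1 - e j) * (e i * Pji)) =
        ((1 - e i) * e i) * (Pi * ((1 - e j) * Pji)) := by ring
    rw [this, h2, zero_mul]
  have hforth : OrthogonalIdempotents f := ⟨hfidem, hfortho⟩
  set finf : A' ⊗[R] T := 1 - ∑ j, f j with hfinf
  have hfinfidem : IsIdempotentElem finf := hforth.isIdempotentElem_sum.one_sub
  -- property
  have hprop' : ∀ r : Ideal (A' ⊗[R] T), r.IsPrime → r.comap (algebraMap A' (A' ⊗[R] T)) = p' →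
      ∀ i, r.comap (Algebra.TensorProduct.includeRight : T →ₐ[R] A' ⊗[R] T) = q i →
        f i ∉ r ∧ ∀ j, j ≠ i → f j ∈ r := by
    intro r hr hrp i hri
    obtain ⟨h1, h2⟩ := hprop r hr hrp i hri
    have hnot : ∀ x : A' ⊗[R] T, x ∈ r → 1 - x ∉ r := by
      intro x hx hx'
      have := r.add_mem hx hx'
      rw [add_sub_cancel] at this
      exact hr.ne_top ((Ideal.eq_top_iff_one r).mpr this)
    constructor
    · intro hfi
      rcases hr.mem_or_mem hfi with h | h
      · exact hnot _ h1 h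
      · rw [Ideal.IsPrime.prod_mem_iff] at h
        obtain ⟨l, hl, hel⟩ := h
        have := hnot _ (h2 l (Finset.ne_of_mem_erase hl))
        rw [sub_sub_cancel] at this
        exact this hel
    · intro j hji
      apply r.mul_mem_left
      rw [Ideal.IsPrime.prod_mem_iff]
      exact ⟨i, Finset.mem_erase.mpr ⟨hji.symm, Finset.mem_univ i⟩, h1⟩
  have hfinfmem : ∀ r : Ideal (A' ⊗[R] T), r.IsPrime →
      r.comap (algebraMap A' (A' ⊗[R] T)) = p' → finf ∈ r := by
    intro r hr hrp
    haveI := hr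
    obtain ⟨i, hi⟩ := hall _ (Ideal.comap_isPrime _ r) (comap_includeRight_over p p' hrat.1 r hrp)
    obtain ⟨h1, h2⟩ := hprop' r hr hrp i hi
    have h3 : 1 - f i ∈ r := by
      have : f i * (1 - f i) ∈ r := by
        rw [mul_sub, mul_one, (hfidem i).eq, sub_self]; exact zero_mem _
      exact (hr.mem_or_mem this).resolve_left h1
    have h4 : finf = (1 - f i) - ∑ j ∈ Finset.univ.erase i, f j := by
      rw [hfinf, ← Finset.add_sum_erase _ _ (Finset.mem_univ i)]; ring
    rw [h4]
    exact r.sub_mem h3 (r.sum_mem (fun j hj => h2 j (Finset.ne_of_mem_erase hj)))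
  obtain ⟨s', hs'p, hs'⟩ := exists_mul_eq_zero_of_forall_mem p' finf hfinfidem hfinfmem
  -- localize
  obtain ⟨hp''prime, hp''rat⟩ := RationalOver.away (p := p') s' hs'p
  set A'' := Localization.Away s' with hA''
  set p'' := p'.map (algebraMap A' A'') with hp''
  haveI := hp''prime
  have hrat'' : RationalOver p p'' := hrat.trans hp''rat
  haveI : Algebra.Etale A' A'' := inferInstance
  refine ⟨A'', inferInstance, inferInstance, p'', Algebra.Etale.comp R A' A'', hp''prime, hrat'', ?_⟩
  let φ : A' ⊗[R] T →ₐ[R] A'' ⊗[R] T :=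
    Algebra.TensorProduct.map (IsScalarTower.toAlgHom R A' A'') (AlgHom.id R T)
  have hφleft : ∀ x : A', φ (algebraMap A' (A' ⊗[R] T) x) =
      algebraMap A'' (A'' ⊗[R] T) (algebraMap A' A'' x) := by
    intro x
    simp only [Algebra.TensorProduct.algebraMap_apply, Algebra.algebraMap_self, RingHom.id_apply]
    rfl
  have hφright : ∀ t : T, φ ((1 : A') ⊗ₜ[R] t) = (1 : A'') ⊗ₜ[R] t := by
    intro t
    simp [φ]
  have hφfinf : φ finf = 0 := by
    have h1 : φ (algebraMap A' (A' ⊗[R] T) s' * finf) = 0 := by rw [hs', map_zero]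
    rw [map_mul, hφleft] at h1
    have hu : IsUnit (algebraMap A'' (A'' ⊗[R] T) (algebraMap A' A'' s')) :=
      (IsLocalization.Away.algebraMap_isUnit s').map _
    exact (hu.mul_right_eq_zero).mp h1
  refine ⟨fun j => φ (f j), ⟨hforth.map φ.toRingHom, ?_⟩, ?_⟩
  · have : ∑ j, φ (f j) = φ (∑ j, f j) := (map_sum φ _ _).symm
    rw [this]
    have h2 : ∑ j, f j = 1 - finf := by rw [hfinf]; ring
    rw [h2, map_sub, map_one, hφfinf, sub_zero]
  · intro r hr hrp i hri
    haveI := hr
    have hr' : (r.comap φ.toRingHom).IsPrime := Ideal.comap_isPrime _ r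
    have hrp' : (r.comap φ.toRingHom).comap (algebraMap A' (A' ⊗[R] T)) = p' := by
      rw [← hp''rat.1, ← hrp]
      ext x
      simp only [Ideal.mem_comap]
      change φ (algebraMap A' (A' ⊗[R] T) x) ∈ r ↔ _
      rw [hφleft]
    have hri' : (r.comap φ.toRingHom).comap
        (Algebra.TensorProduct.includeRight : T →ₐ[R] A' ⊗[R] T) = q i := by
      rw [← hri]
      ext t
      simp only [Ideal.mem_comap]
      change φ ((1 : A') ⊗ₜ[R] t) ∈ r ↔ (1 : A'') ⊗ₜ[R] t ∈ r
      rw [hφright]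
    obtain ⟨h1, h2⟩ := hprop' _ hr' hrp' i hri'
    exact ⟨fun h => h1 h, fun j hj => h2 j hj⟩

theorem split {R T : Type u} [CommRing R] [CommRing T] [Algebra R T] [Algebra.IsIntegral R T]
    (p : Ideal R) [p.IsPrime]
    (hfin : {q : PrimeSpectrum T | q.asIdeal.comap (algebraMap R T) = p}.Finite)
    (hpi : ∀ (q : PrimeSpectrum T) (hq : q.asIdeal.comap (algebraMap R T) = p),
      letI := (Ideal.ResidueField.map p q.asIdeal (algebraMap R T) hq.symm).toAlgebra
      IsPurelyInseparable p.ResidueField q.asIdeal.ResidueField) :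
    ∃ (R' : Type u) (_ : CommRing R') (_ : Algebra R R') (p' : PrimeSpectrum R'),
      Algebra.Etale R R' ∧ p'.asIdeal.comap (algebraMap R R') = p ∧
      ∃ (m : ℕ) (A : Fin m → Type u) (_ : ∀ j, CommRing (A j)) (_ : ∀ j, Algebra R' (A j))
        (_ : R' ⊗[R] T ≃ₐ[R'] (Π j, A j)),
        ∀ j, Algebra.IsIntegral R' (A j) ∧ ∃ (r : PrimeSpectrum (A j))
          (hr : r.asIdeal.comap (algebraMap R' (A j)) = p'.asIdeal),
          (∀ r' : PrimeSpectrum (A j), r'.asIdeal.comap (algebraMap R' (A j)) = p'.asIdeal → r' = r) ∧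
          letI := (Ideal.ResidueField.map p'.asIdeal r.asIdeal (algebraMap R' (A j)) hr.symm).toAlgebra
          IsPurelyInseparable p'.asIdeal.ResidueField r.asIdeal.ResidueField := by
  classical
  obtain ⟨n, qf, hqf⟩ := hfin.fin_embedding
  let q : Fin n → Ideal T := fun j => (qf j).asIdeal
  have hqinj : Function.Injective q := fun i j hij => qf.injective (PrimeSpectrum.ext hij)
  have hqp : ∀ j, (q j).IsPrime := fun j => (qf j).isPrime
  have hq : ∀ j, (q j).comap (algebraMap R T) = p := by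
    intro j
    have : qf j ∈ Set.range qf := ⟨j, rfl⟩
    rw [hqf] at this
    exact this
  have hall : ∀ q' : Ideal T, q'.IsPrime → q'.comap (algebraMap R T) = p → ∃ i, q' = q i := by
    intro q' hq' hq'p
    have : (⟨q', hq'⟩ : PrimeSpectrum T) ∈ Set.range qf := by rw [hqf]; exact hq'p
    obtain ⟨i, hi⟩ := this
    exact ⟨i, by rw [← show (qf i).asIdeal = q' from congrArg PrimeSpectrum.asIdeal hi]⟩
  obtain ⟨R', _, _, p', hR', hp'prime, hrat, f, hf, hprop⟩ :=
    exists_complete_idempotents p n q hqinj hqp hq hall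
  haveI := hp'prime
  refine ⟨R', inferInstance, inferInstance, ⟨p', hp'prime⟩, hR', hrat.1, n,
    fun j => (R' ⊗[R] T) ⧸ Ideal.span {1 - f j}, fun j => inferInstance, fun j => inferInstance,
    AlgEquiv.ofBijective (AlgHom.pi (fun j => Ideal.Quotient.mkₐ R' (Ideal.span {1 - f j})))
      hf.bijective_pi, ?_⟩
  intro j
  set J := Ideal.span {1 - f j} with hJ
  let π := Ideal.Quotient.mk J
  have hπsurj : Function.Surjective π := Ideal.Quotient.mk_surjective
  have halg : ∀ x : R', algebraMap R' ((R' ⊗[R] T) ⧸ J) x = π (algebraMap R' (R' ⊗[R] T) x) :=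
    fun x => rfl
  refine ⟨Algebra.IsIntegral.of_surjective (Ideal.Quotient.mkₐ R' J) hπsurj, ?_⟩
  -- existence
  obtain ⟨r₀, hr₀prime, hr₀p, hr₀q⟩ := hrat.exists_prime (q j) (hq j)
  haveI := hr₀prime
  have hfj : f j ∉ r₀ := (hprop r₀ hr₀prime hr₀p j hr₀q).1
  have hJle : J ≤ r₀ := by
    rw [hJ, Ideal.span_singleton_le_iff_mem]
    have : f j * (1 - f j) ∈ r₀ := by
      rw [mul_sub, mul_one, (hf.idem j).eq, sub_self]; exact zero_mem _
    exact (hr₀prime.mem_or_mem this).resolve_left hfj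
  have hker : RingHom.ker π ≤ r₀ := by rw [Ideal.mk_ker]; exact hJle
  have hrtprime : (r₀.map π).IsPrime := Ideal.map_isPrime_of_surjective hπsurj hker
  have hcm : (r₀.map π).comap π = r₀ := Ideal.comap_map_mk hJle
  have hr : (r₀.map π).comap (algebraMap R' ((R' ⊗[R] T) ⧸ J)) = p' := by
    have h0 : (r₀.map π).comap (algebraMap R' ((R' ⊗[R] T) ⧸ J)) =
        ((r₀.map π).comap π).comap (algebraMap R' (R' ⊗[R] T)) := rfl
    rw [h0, hcm, hr₀p]
  refine ⟨⟨r₀.map π, hrtprime⟩, hr, ?_, ?_⟩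
  · -- uniqueness
    intro r' hr'
    apply PrimeSpectrum.ext
    change r'.asIdeal = r₀.map π
    have h1 : (r'.asIdeal.comap π).IsPrime := Ideal.comap_isPrime _ _
    have h2 : (r'.asIdeal.comap π).comap (algebraMap R' (R' ⊗[R] T)) = p' := hr'
    have h3 : 1 - f j ∈ r'.asIdeal.comap π := by
      rw [Ideal.mem_comap]
      have : π (1 - f j) = 0 := Ideal.Quotient.eq_zero_iff_mem.mpr (Ideal.subset_span rfl)
      rw [this]; exact zero_mem _
    have h4 : f j ∉ r'.asIdeal.comap π := by
      intro h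
      have := (r'.asIdeal.comap π).add_mem h h3
      rw [add_sub_cancel] at this
      exact h1.ne_top ((Ideal.eq_top_iff_one _).mpr this)
    obtain ⟨i, hi⟩ := hall _ (Ideal.comap_isPrime _ (r'.asIdeal.comap π))
      (comap_includeRight_over p p' hrat.1 _ h2)
    have hij : i = j := by
      by_contra hne
      exact h4 ((hprop _ h1 h2 i hi).2 j (fun h => hne h.symm))
    rw [hij] at hi
    have h5 : r'.asIdeal.comap π = r₀ :=
      hrat.eq_of_comap_eq _ _ h2 hr₀p (hi.trans hr₀q.symm)
    rw [← h5, Ideal.map_comap_of_surjective π hπsurj]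
  · -- pure inseparability
    have hG : Algebra.adjoin R' (Set.range (fun t : T => π ((1 : R') ⊗ₜ[R] t))) = ⊤ := by
      rw [eq_top_iff]
      rintro y -
      obtain ⟨x, rfl⟩ := hπsurj y
      induction x using TensorProduct.induction_on with
      | zero => rw [map_zero]; exact zero_mem _
      | tmul a t =>
        have h0 : a ⊗ₜ[R] t = a • ((1 : R') ⊗ₜ[R] t) := by
          rw [TensorProduct.smul_tmul', smul_eq_mul, mul_one]
        have : π (a ⊗ₜ[R] t) = a • π ((1 : R') ⊗ₜ[R] t) := by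
          rw [h0]
          exact map_smul (Ideal.Quotient.mkₐ R' J) a _
        rw [this]
        exact Subalgebra.smul_mem _ (Algebra.subset_adjoin (Set.mem_range_self t)) _
      | add x y hx hy => rw [map_add]; exact add_mem hx hy
    refine isPurelyInseparable_of_generators p' (r₀.map π) hr.symm _ hG ?_
    rintro g ⟨t, rfl⟩
    obtain ⟨k, c, d, hd, hcd⟩ := exists_pow_sub_mem_of_isPurelyInseparable p (q j) (hq j).symm
      (hpi ⟨q j, hqp j⟩ (hq j)) t
    -- exponents agree
    let ι := Ideal.ResidueField.map p p' (algebraMap R R') hrat.1.symm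
    haveI : ExpChar p'.ResidueField (ringExpChar p.ResidueField) :=
      expChar_of_injective_ringHom ι.injective _
    rw [ringExpChar.eq p'.ResidueField (ringExpChar p.ResidueField)]
    set E := (ringExpChar p.ResidueField) ^ k with hE
    set μ := algebraMap ((R' ⊗[R] T) ⧸ J) (r₀.map π).ResidueField with hμ
    set ρ := Ideal.ResidueField.map p' (r₀.map π) (algebraMap R' ((R' ⊗[R] T) ⧸ J)) hr.symm with hρ
    have hmem : π ((1 : R') ⊗ₜ[R] (algebraMap R T d * t ^ E - algebraMap R T c)) ∈ r₀.map π := by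
      apply Ideal.mem_map_of_mem
      have : (algebraMap R T d * t ^ E - algebraMap R T c) ∈
          r₀.comap (Algebra.TensorProduct.includeRight : T →ₐ[R] R' ⊗[R] T) := by
        rw [hr₀q]; exact hcd
      exact this
    have hexp : π ((1 : R') ⊗ₜ[R] (algebraMap R T d * t ^ E - algebraMap R T c)) =
        algebraMap R' _ (algebraMap R R' d) * (π ((1 : R') ⊗ₜ[R] t)) ^ E -
          algebraMap R' _ (algebraMap R R' c) := by
      rw [halg, halg, ← map_pow, ← map_mul, ← map_sub]
      congr 1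
      change (Algebra.TensorProduct.includeRight : T →ₐ[R] R' ⊗[R] T) _ = _
      rw [map_sub, map_mul, map_pow, AlgHom.commutes, AlgHom.commutes,
        IsScalarTower.algebraMap_apply R R' (R' ⊗[R] T), IsScalarTower.algebraMap_apply R R' (R' ⊗[R] T)]
      rfl
    rw [hexp] at hmem
    have h0 := (Ideal.algebraMap_residueField_eq_zero (I := r₀.map π)).mpr hmem
    rw [map_sub, map_mul, map_pow, sub_eq_zero] at h0
    have e1 : ∀ x : R', μ (algebraMap R' _ x) = ρ (algebraMap R' p'.ResidueField x) := by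
      intro x
      rw [hρ, Ideal.ResidueField.map_algebraMap]
    rw [e1, e1] at h0
    have hdne : ρ (algebraMap R' p'.ResidueField (algebraMap R R' d)) ≠ 0 := by
      intro hz
      rw [map_eq_zero_iff _ ρ.injective, Ideal.algebraMap_residueField_eq_zero, ← Ideal.mem_comap,
        hrat.1] at hz
      exact hd hz
    refine ⟨k, ?_⟩
    rw [RingHom.mem_range]
    refine ⟨algebraMap R' p'.ResidueField (algebraMap R R' c) /
      algebraMap R' p'.ResidueField (algebraMap R R' d), ?_⟩
    rw [map_div₀, ← h0, mul_div_assoc, mul_comm, div_mul_cancel₀ _ hdne]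

end Groth.Agent.Lib.Helper90.SplitInt
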