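import Groth.Agent.Lib.Helper70.EtaleNbhdRing
import Groth.Agent.Lib.Helper90.SplitInt1

/-!
Etale-local splitting of integral algebras: enlarging the residue field (helper90).
-/

set_option autoImplicit false
set_option linter.style.haveILetI false
set_option linter.unusedSectionVars false
universe u

open Polynomial TensorProduct IntermediateField

namespace Groth.Agent.Lib.Helper90.SplitInt

section FieldCore

theorem mem_range_of_splits {k M L Ω : Type*} [Field k] [Field M] [Field L] [Field Ω]
    (ιM : k →+* M) (ιL : k →+* L) (α : L →+* Ω) (β : M →+* Ω)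
    (hcomm : α.comp ιL = β.comp ιM) (μ : k[X]) (hμ : μ.Monic) (z : M) (hz : eval₂ ιM z μ = 0)
    (hs : (μ.map ιL).Splits) : β z ∈ α.range := by
  have h1 : μ.map ιL = ((μ.map ιL).roots.map (fun a => X - C a)).prod :=
    hs.eq_prod_roots_of_monic (hμ.map _)
  have h2 : μ.map (β.comp ιM) = (((μ.map ιL).roots.map (fun a => X - C a)).prod).map α := by
    rw [← h1, Polynomial.map_map, hcomm]
  have h3 : eval (β z) (μ.map (β.comp ιM)) = 0 := by
    rw [eval_map, ← Polynomial.hom_eval₂, hz, map_zero]
  rw [h2, Polynomial.map_multiset_prod, Multiset.map_map, eval_multiset_prod, Multiset.map_map,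
    Multiset.prod_eq_zero_iff, Multiset.mem_map] at h3
  obtain ⟨l, -, hl⟩ := h3
  simp only [Function.comp_apply, Polynomial.map_sub, Polynomial.map_X, Polynomial.map_C, eval_sub,
    eval_X, eval_C] at hl
  exact ⟨l, (sub_eq_zero.mp hl).symm⟩

theorem exists_pow_mem_range {k M L Ω : Type*} [Field k] [Field M] [Field L] [Field Ω]
    [Algebra k M] [Algebra k L] [Algebra.IsAlgebraic k M] [Normal k L]
    (hemb : Nonempty (separableClosure k M →ₐ[k] L)) (α : L →+* Ω) (β : M →+* Ω)
    (hcomm : α.comp (algebraMap k L) = β.comp (algebraMap k M)) (y : M) :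
    ∃ n : ℕ, (β y) ^ (ringExpChar k) ^ n ∈ α.range := by
  obtain ⟨σ⟩ := hemb
  haveI : IsPurelyInseparable (separableClosure k M) M := separableClosure.isPurelyInseparable k M
  haveI : ExpChar (separableClosure k M) (ringExpChar k) :=
    expChar_of_injective_algebraMap (algebraMap k (separableClosure k M)).injective _
  obtain ⟨n, z, hz⟩ := IsPurelyInseparable.pow_mem (separableClosure k M) (ringExpChar k) y
  refine ⟨n, ?_⟩
  rw [← map_pow, ← hz]
  have hint : IsIntegral k z := Algebra.IsIntegral.isIntegral z
  have hmin : minpoly k (σ z) = minpoly k z := minpoly.algHom_eq σ σ.injective z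
  have hs : ((minpoly k z).map (algebraMap k L)).Splits := by
    rw [← hmin]
    exact Normal.splits inferInstance (σ z)
  refine mem_range_of_splits (algebraMap k M) (algebraMap k L) α β hcomm (minpoly k z)
    (minpoly.monic hint) _ ?_ hs
  have : eval₂ (algebraMap k M) (algebraMap (separableClosure k M) M z) (minpoly k z) =
      aeval (algebraMap (separableClosure k M) M z) (minpoly k z) := rfl
  rw [this, Polynomial.aeval_algebraMap_apply, minpoly.aeval, map_zero]

end FieldCore

section NormalSep

theorem exists_normal_sep {k : Type u} [Field k] (n : ℕ) (K : Fin n → Type u) [∀ i, Field (K i)]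
    [∀ i, Algebra k (K i)] [∀ i, FiniteDimensional k (K i)] [∀ i, Algebra.IsSeparable k (K i)] :
    ∃ (L : Type u) (_ : Field L) (_ : Algebra k L), FiniteDimensional k L ∧
      Algebra.IsSeparable k L ∧ Normal k L ∧ ∀ i, Nonempty (K i →ₐ[k] L) := by
  let Ω := AlgebraicClosure k
  have hsepRange : ∀ i (f : K i →ₐ[k] Ω), Algebra.IsSeparable k f.fieldRange := by
    intro i f
    exact Algebra.IsSeparable.of_algHom k (K i) (AlgEquiv.ofInjectiveField f).symm.toAlgHom
  haveI hsepN : ∀ i, Algebra.IsSeparable k (IntermediateField.normalClosure k (K i) Ω) := by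
    intro i
    haveI := hsepRange i
    change Algebra.IsSeparable k (⨆ f : K i →ₐ[k] Ω, f.fieldRange : IntermediateField k Ω)
    infer_instance
  let L : IntermediateField k Ω := ⨆ i, IntermediateField.normalClosure k (K i) Ω
  haveI : FiniteDimensional k L := IntermediateField.finiteDimensional_iSup_of_finite
  haveI : Algebra.IsSeparable k L := IntermediateField.isSeparable_iSup k Ω
  haveI : Normal k L := IntermediateField.normal_iSup k Ω _
  refine ⟨L, inferInstance, inferInstance, inferInstance, inferInstance, inferInstance, fun i => ?_⟩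
  let σ : K i →ₐ[k] Ω := IsAlgClosed.lift
  have hle : σ.fieldRange ≤ L :=
    (σ.fieldRange_le_normalClosure).trans (le_iSup (fun i => IntermediateField.normalClosure k (K i) Ω) i)
  exact ⟨σ.codRestrict L.toSubalgebra (fun x => hle ⟨x, rfl⟩)⟩

end NormalSep

theorem exists_etale_residue {R : Type u} [CommRing R] (p : Ideal R) [p.IsPrime] (L : Type u)
    [Field L] [Algebra p.ResidueField L] [FiniteDimensional p.ResidueField L]
    [Algebra.IsSeparable p.ResidueField L] :
    ∃ (R₁ : Type u) (_ : CommRing R₁) (_ : Algebra R R₁) (p₁ : Ideal R₁) (_ : p₁.IsPrime)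
      (hp : p = p₁.comap (algebraMap R R₁)) (Φ : p₁.ResidueField ≃+* L), Algebra.Etale R R₁ ∧
      ∀ ξ : p.ResidueField, Φ (Ideal.ResidueField.map p p₁ (algebraMap R R₁) hp ξ) =
        algebraMap p.ResidueField L ξ := by
  have hχ : ∀ z : p.ResidueField, ∃ a b : R, algebraMap R p.ResidueField b ≠ 0 ∧
      z * algebraMap R p.ResidueField b = algebraMap R p.ResidueField a := by
    intro z
    obtain ⟨a, b, hb, hab⟩ := exists_div_residueField p z
    refine ⟨a, b, ?_, hab⟩
    intro h0
    rw [Ideal.algebraMap_residueField_eq_zero] at h0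
    exact hb h0
  obtain ⟨P, φ, θ, hφ, hφX, hθ⟩ :=
    Groth.Agent.Lib.Helper70.EtaleNbhdRing.exists_standardEtalePair (k := L)
      (algebraMap R p.ResidueField) hχ
  let p₁ : Ideal P.Ring := RingHom.ker φ
  haveI hp₁ : p₁.IsPrime := RingHom.ker_isPrime φ
  have hp : p = p₁.comap (algebraMap R P.Ring) := by
    rw [RingHom.comap_ker, hφ]
    ext x
    rw [RingHom.mem_ker, RingHom.comp_apply, map_eq_zero_iff _ (algebraMap p.ResidueField L).injective,
      Ideal.algebraMap_residueField_eq_zero]
  have hunits : p₁.primeCompl ≤ (IsUnit.submonoid L).comap φ := by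
    intro x hx
    rw [Submonoid.mem_comap, IsUnit.mem_submonoid_iff]
    exact IsUnit.mk0 _ (fun h0 => hx (RingHom.mem_ker.mpr h0))
  let φb : p₁.ResidueField →+* L := Ideal.ResidueField.lift p₁ φ le_rfl hunits
  have hφb : ∀ x : P.Ring, φb (algebraMap P.Ring p₁.ResidueField x) = φ x := fun x =>
    Ideal.ResidueField.lift_algebraMap p₁ φ le_rfl hunits x
  have hcompat : ∀ ξ : p.ResidueField, φb (Ideal.ResidueField.map p p₁ (algebraMap R P.Ring) hp ξ) =
      algebraMap p.ResidueField L ξ := by
    intro ξ
    have : φb.comp (Ideal.ResidueField.map p p₁ (algebraMap R P.Ring) hp) =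
        algebraMap p.ResidueField L := by
      apply Ideal.ResidueField.ringHom_ext
      ext x
      simp only [RingHom.comp_apply]
      rw [Ideal.ResidueField.map_algebraMap, hφb]
      exact congrArg (fun g => g x) hφ
    exact congrArg (fun g => g ξ) this
  have hsurj : Function.Surjective φb := by
    let S : IntermediateField p.ResidueField L :=
      Subfield.toIntermediateField φb.fieldRange (fun ξ => ⟨_, hcompat ξ⟩)
    have hθS : θ ∈ S := ⟨algebraMap P.Ring p₁.ResidueField P.X, by rw [hφb, hφX]⟩
    have hle : p.ResidueField⟮θ⟯ ≤ S := adjoin_simple_le_iff.mpr hθS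
    rw [hθ] at hle
    intro l
    exact hle (show l ∈ (⊤ : IntermediateField p.ResidueField L) from trivial)
  exact ⟨P.Ring, inferInstance, inferInstance, p₁, hp₁, hp,
    RingEquiv.ofBijective φb ⟨φb.injective, hsurj⟩, inferInstance, hcompat⟩

section Alg

variable {R S : Type*} [CommRing R] [CommRing S] [Algebra R S] [Algebra.IsIntegral R S]

theorem isAlgebraic_residueField (p : Ideal R) [p.IsPrime] (q : Ideal S) [q.IsPrime]
    (h : p = q.comap (algebraMap R S)) :
    letI := (Ideal.ResidueField.map p q (algebraMap R S) h).toAlgebra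
    Algebra.IsAlgebraic p.ResidueField q.ResidueField := by
  letI := (Ideal.ResidueField.map p q (algebraMap R S) h).toAlgebra
  have halg : algebraMap p.ResidueField q.ResidueField =
      Ideal.ResidueField.map p q (algebraMap R S) h := RingHom.algebraMap_toAlgebra _
  have h1 : ∀ s : S, IsIntegral p.ResidueField (algebraMap S q.ResidueField s) := by
    intro s
    obtain ⟨P, hP, hPs⟩ := Algebra.IsIntegral.isIntegral (R := R) s
    refine ⟨P.map (algebraMap R p.ResidueField), hP.map _, ?_⟩
    rw [eval₂_map]
    have : (algebraMap p.ResidueField q.ResidueField).comp (algebraMap R p.ResidueField) =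
        (algebraMap S q.ResidueField).comp (algebraMap R S) := by
      ext x
      simp only [RingHom.comp_apply]
      rw [halg, Ideal.ResidueField.map_algebraMap]
    rw [this, ← Polynomial.hom_eval₂, hPs, map_zero]
  constructor
  intro x
  obtain ⟨a, b, hb, hab⟩ := exists_div_residueField q x
  have hb0 : algebraMap S q.ResidueField b ≠ 0 := by
    intro h0
    rw [Ideal.algebraMap_residueField_eq_zero] at h0
    exact hb h0
  have : x = algebraMap S q.ResidueField a * (algebraMap S q.ResidueField b)⁻¹ := by
    rw [← hab, mul_assoc, mul_inv_cancel₀ hb0, mul_one]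
  rw [this]
  exact ((h1 a).isAlgebraic).mul ((h1 b).isAlgebraic).inv

end Alg

end Groth.Agent.Lib.Helper90.SplitInt
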