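import Groth.Agent.Lib.Helper90.SplitInt3
import Groth.Agent.Lib.Helper90.SplitInt4

/-!
Etale localization splitting an integral algebra at a prime with finitely many primes above it and
finite separable residue degrees (helper90).
-/

set_option autoImplicit false
set_option linter.style.haveILetI false
set_option linter.unusedSectionVars false
universe u

open Polynomial TensorProduct IntermediateField

namespace Groth.Agent.Lib.Helper90.SplitInt

theorem finite_primes_tensor {R R₁ S : Type u} [CommRing R] [CommRing R₁] [CommRing S]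
    [Algebra R R₁] [Algebra R S] [Algebra.Etale R R₁] (p : Ideal R) (p₁ : Ideal R₁)
    (hp : p₁.comap (algebraMap R R₁) = p)
    (hfin : {q : PrimeSpectrum S | q.asIdeal.comap (algebraMap R S) = p}.Finite) :
    {r : PrimeSpectrum (R₁ ⊗[R] S) | r.asIdeal.comap (algebraMap R₁ (R₁ ⊗[R] S)) = p₁}.Finite := by
  haveI : Algebra.QuasiFinite R R₁ := inferInstance
  let e : S ⊗[R] R₁ ≃ₐ[R] R₁ ⊗[R] S := Algebra.TensorProduct.comm R S R₁
  let G : PrimeSpectrum (R₁ ⊗[R] S) → PrimeSpectrum (S ⊗[R] R₁) := PrimeSpectrum.comap e.toRingHom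
  have hG : Function.Injective G := by
    apply PrimeSpectrum.comap_injective_of_surjective
    exact e.surjective
  have hfin2 := Algebra.QuasiFinite.finite_comap_preimage (R := S) (S := S ⊗[R] R₁) hfin
  refine (hfin2.preimage hG.injOn).subset ?_
  intro r hr
  simp only [Set.mem_preimage, Set.mem_ofPred_eq] at hr ⊢
  change ((r.asIdeal.comap e.toRingHom).comap (algebraMap S (S ⊗[R] R₁))).comap (algebraMap R S) = p
  have h1 : ((r.asIdeal.comap e.toRingHom).comap (algebraMap S (S ⊗[R] R₁))) =
      r.asIdeal.comap (Algebra.TensorProduct.includeRight : S →ₐ[R] R₁ ⊗[R] S) := by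
    ext s
    simp only [Ideal.mem_comap]
    have : e.toRingHom (algebraMap S (S ⊗[R] R₁) s) =
        (Algebra.TensorProduct.includeRight : S →ₐ[R] R₁ ⊗[R] S) s := by
      simp [e, Algebra.TensorProduct.algebraMap_apply]
    rw [this]
  rw [h1]
  exact comap_includeRight_over p p₁ hp r.asIdeal hr

theorem exists_etale_pi {R S : Type u} [CommRing R] [CommRing S] [Algebra R S]
    [Algebra.IsIntegral R S] (p : Ideal R) [p.IsPrime]
    (hfin : {q : PrimeSpectrum S | q.asIdeal.comap (algebraMap R S) = p}.Finite)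
    (hsep : ∀ (q : PrimeSpectrum S) (hq : q.asIdeal.comap (algebraMap R S) = p),
      letI := (Ideal.ResidueField.map p q.asIdeal (algebraMap R S) hq.symm).toAlgebra
      Module.Finite p.ResidueField (separableClosure p.ResidueField q.asIdeal.ResidueField)) :
    ∃ (R₁ : Type u) (_ : CommRing R₁) (_ : Algebra R R₁) (p₁ : Ideal R₁) (_ : p₁.IsPrime),
      Algebra.Etale R R₁ ∧ p₁.comap (algebraMap R R₁) = p ∧
      ∀ (r : PrimeSpectrum (R₁ ⊗[R] S))
        (hr : r.asIdeal.comap (algebraMap R₁ (R₁ ⊗[R] S)) = p₁),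
        letI := (Ideal.ResidueField.map p₁ r.asIdeal (algebraMap R₁ (R₁ ⊗[R] S)) hr.symm).toAlgebra
        IsPurelyInseparable p₁.ResidueField r.asIdeal.ResidueField := by
  classical
  obtain ⟨n, qf, hqf⟩ := hfin.fin_embedding
  have hq : ∀ j, (qf j).asIdeal.comap (algebraMap R S) = p := by
    intro j
    have : qf j ∈ Set.range qf := ⟨j, rfl⟩
    rw [hqf] at this
    exact this
  have hall : ∀ q' : Ideal S, q'.IsPrime → q'.comap (algebraMap R S) = p →
      ∃ i, (qf i).asIdeal = q' := by
    intro q' hq' hq'p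
    have : (⟨q', hq'⟩ : PrimeSpectrum S) ∈ Set.range qf := by rw [hqf]; exact hq'p
    obtain ⟨i, hi⟩ := this
    exact ⟨i, congrArg PrimeSpectrum.asIdeal hi⟩
  letI algK : ∀ i, Algebra p.ResidueField (qf i).asIdeal.ResidueField := fun i =>
    (Ideal.ResidueField.map p (qf i).asIdeal (algebraMap R S) (hq i).symm).toAlgebra
  haveI halgK : ∀ i, Algebra.IsAlgebraic p.ResidueField (qf i).asIdeal.ResidueField := fun i =>
    isAlgebraic_residueField p (qf i).asIdeal (hq i).symm
  haveI hfinK : ∀ i, FiniteDimensional p.ResidueField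
      (separableClosure p.ResidueField (qf i).asIdeal.ResidueField) := fun i => hsep (qf i) (hq i)
  obtain ⟨L, _, _, hLfin, hLsep, hLnorm, hemb⟩ := exists_normal_sep (k := p.ResidueField) n
    (fun i => separableClosure p.ResidueField (qf i).asIdeal.ResidueField)
  obtain ⟨R₁, _, _, p₁, hp₁, hp, Φ, hR₁, hΦ⟩ := exists_etale_residue p L
  refine ⟨R₁, inferInstance, inferInstance, p₁, hp₁, hR₁, hp.symm, ?_⟩
  intro r hr
  have hq'over := comap_includeRight_over p p₁ hp.symm r.asIdeal hr
  obtain ⟨i, hi⟩ := hall _ (Ideal.comap_isPrime _ r.asIdeal) hq'over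
  -- the maps into κ(r)
  let jR : S →+* R₁ ⊗[R] S := (Algebra.TensorProduct.includeRight : S →ₐ[R] R₁ ⊗[R] S).toRingHom
  have hi' : (qf i).asIdeal = r.asIdeal.comap jR := hi
  let β : (qf i).asIdeal.ResidueField →+* r.asIdeal.ResidueField :=
    Ideal.ResidueField.map (qf i).asIdeal r.asIdeal jR hi'
  let ρ : p₁.ResidueField →+* r.asIdeal.ResidueField :=
    Ideal.ResidueField.map p₁ r.asIdeal (algebraMap R₁ (R₁ ⊗[R] S)) hr.symm
  let α : L →+* r.asIdeal.ResidueField := ρ.comp Φ.symm.toRingHom
  have hcomm : α.comp (algebraMap p.ResidueField L) =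
      β.comp (algebraMap p.ResidueField (qf i).asIdeal.ResidueField) := by
    apply Ideal.ResidueField.ringHom_ext
    ext x
    simp only [RingHom.comp_apply, α, RingEquiv.toRingHom_eq_coe, RingHom.coe_coe]
    rw [← hΦ, RingEquiv.symm_apply_apply, Ideal.ResidueField.map_algebraMap]
    have h2 : algebraMap p.ResidueField (qf i).asIdeal.ResidueField (algebraMap R p.ResidueField x) =
        algebraMap S (qf i).asIdeal.ResidueField (algebraMap R S x) := by
      change Ideal.ResidueField.map p (qf i).asIdeal (algebraMap R S) (hq i).symm _ = _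
      rw [Ideal.ResidueField.map_algebraMap]
    rw [h2]
    simp only [ρ, β]
    rw [Ideal.ResidueField.map_algebraMap, Ideal.ResidueField.map_algebraMap]
    congr 1
    change algebraMap R₁ (R₁ ⊗[R] S) (algebraMap R R₁ x) =
      (Algebra.TensorProduct.includeRight : S →ₐ[R] R₁ ⊗[R] S) (algebraMap R S x)
    rw [AlgHom.commutes, ← IsScalarTower.algebraMap_apply]
  have hG : Algebra.adjoin R₁ (Set.range (fun s : S => (1 : R₁) ⊗ₜ[R] s)) = ⊤ := by
    rw [eq_top_iff]
    rintro x -
    induction x using TensorProduct.induction_on with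
    | zero => exact zero_mem _
    | tmul a s =>
      have h0 : a ⊗ₜ[R] s = a • ((1 : R₁) ⊗ₜ[R] s) := by
        rw [TensorProduct.smul_tmul', smul_eq_mul, mul_one]
      rw [h0]
      exact Subalgebra.smul_mem _ (Algebra.subset_adjoin (Set.mem_range_self s)) _
    | add x y hx hy => exact add_mem hx hy
  refine isPurelyInseparable_of_generators p₁ r.asIdeal hr.symm _ hG ?_
  rintro g ⟨s, rfl⟩
  let ι := Ideal.ResidueField.map p p₁ (algebraMap R R₁) hp
  haveI : ExpChar p₁.ResidueField (ringExpChar p.ResidueField) :=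
    expChar_of_injective_ringHom ι.injective _
  rw [ringExpChar.eq p₁.ResidueField (ringExpChar p.ResidueField)]
  obtain ⟨k, hk⟩ := exists_pow_mem_range (k := p.ResidueField) (M := (qf i).asIdeal.ResidueField)
    (L := L) (hemb i) α β hcomm (algebraMap S (qf i).asIdeal.ResidueField s)
  refine ⟨k, ?_⟩
  have hβ : β (algebraMap S (qf i).asIdeal.ResidueField s) =
      algebraMap (R₁ ⊗[R] S) r.asIdeal.ResidueField ((1 : R₁) ⊗ₜ[R] s) := by
    simp only [β]
    rw [Ideal.ResidueField.map_algebraMap]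
    rfl
  rw [hβ] at hk
  obtain ⟨l, hl⟩ := hk
  exact ⟨Φ.symm l, hl⟩

theorem main {R S : Type u} [CommRing R] [CommRing S] [Algebra R S] [Algebra.IsIntegral R S]
    (p : Ideal R) [p.IsPrime] (hfin : {q : PrimeSpectrum S | q.asIdeal.comap (algebraMap R S) = p}.Finite)
    (hsep : ∀ (q : PrimeSpectrum S) (hq : q.asIdeal.comap (algebraMap R S) = p),
      letI := (Ideal.ResidueField.map p q.asIdeal (algebraMap R S) hq.symm).toAlgebra
      Module.Finite p.ResidueField (separableClosure p.ResidueField q.asIdeal.ResidueField)) :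
    ∃ (R' : Type u) (_ : CommRing R') (_ : Algebra R R') (p' : PrimeSpectrum R'), Algebra.Etale R R' ∧ p'.asIdeal.comap (algebraMap R R') = p ∧
      ∃ (m : ℕ) (A : Fin m → Type u) (_ : ∀ j, CommRing (A j)) (_ : ∀ j, Algebra R' (A j)) (e : R' ⊗[R] S ≃ₐ[R'] (Π j, A j)),
        ∀ j, Algebra.IsIntegral R' (A j) ∧ ∃ (r : PrimeSpectrum (A j)) (hr : r.asIdeal.comap (algebraMap R' (A j)) = p'.asIdeal),
          (∀ r' : PrimeSpectrum (A j), r'.asIdeal.comap (algebraMap R' (A j)) = p'.asIdeal → r' = r) ∧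
          letI := (Ideal.ResidueField.map p'.asIdeal r.asIdeal (algebraMap R' (A j)) hr.symm).toAlgebra
          IsPurelyInseparable p'.asIdeal.ResidueField r.asIdeal.ResidueField := by
  obtain ⟨R₁, _, _, p₁, hp₁, hR₁, hp, hpi⟩ := exists_etale_pi p hfin hsep
  have hfin₁ := finite_primes_tensor p p₁ hp hfin
  obtain ⟨R', _, _, p', hR', hp', m, A, _, _, e, hprops⟩ :=
    split (R := R₁) (T := R₁ ⊗[R] S) p₁ hfin₁ hpi
  letI : Algebra R R' := ((algebraMap R₁ R').comp (algebraMap R R₁)).toAlgebra
  haveI : IsScalarTower R R₁ R' := IsScalarTower.of_algebraMap_eq' rfl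
  refine ⟨R', inferInstance, inferInstance, p', Algebra.Etale.comp R R₁ R', ?_, m, A, inferInstance,
    inferInstance, (Algebra.TensorProduct.cancelBaseChange R R₁ R' R' S).symm.trans e, hprops⟩
  rw [IsScalarTower.algebraMap_eq R R₁ R', ← Ideal.comap_comap, hp', hp]

end Groth.Agent.Lib.Helper90.SplitInt
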