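import Mathlib
import Groth.Agent.Lib.Helper16.ClosedDescentComap
import Groth.Agent.Lib.Helper12.NilpotentFiniteType

set_option linter.style.haveILetI false
set_option linter.unusedSectionVars false

open CategoryTheory Limits AlgebraicGeometry TopologicalSpace

universe u

namespace Groth.Agent.Lib.Helper90.Thk1

variable {S S₀ X : Scheme.{u}} [IsAffine S] (i : S₀ ⟶ S) [IsClosedImmersion i] (f : X ⟶ S)

/-- the kernel ideal of `i` on global sections. -/
noncomputable def J : Ideal Γ(S, ⊤) := RingHom.ker i.appTop.hom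

/-- kernel of the base-changed closed immersion on an affine open. -/
theorem ker_app (W : X.affineOpens) :
    RingHom.ker ((pullback.fst f i).app W.1).hom = (J i).map (f.appLE ⊤ W.1 le_top).hom := by
  have h1 := Scheme.Hom.ker_apply (pullback.fst f i) W
  rw [← h1, Scheme.IdealSheafData.ker_fst_of_isClosedImmersion,
    Groth.Agent.Lib.Helper16.ClosedDescentComap.ideal_comap_of_le f i.ker ⟨⊤, isAffineOpen_top S⟩ W
      le_top, Scheme.Hom.ker_apply]
  rfl

/-- nilpotent Nakayama for ring maps. -/
theorem surj_of_nilp {R B C : Type*} [CommRing R] [CommRing B] [CommRing C] (ψ' : R →+* B)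
    (φ : B →+* C) (J : Ideal R) (n : ℕ) (hJ : J ^ n = ⊥)
    (h : ∀ c : C, ∃ b : B, c - φ b ∈ J.map (φ.comp ψ')) : Function.Surjective φ := by
  letI := ψ'.toAlgebra
  letI := (φ.comp ψ').toAlgebra
  let φl : B →ₗ[R] C :=
    { toFun := φ
      map_add' := map_add φ
      map_smul' := fun r b => by
        simp only [Algebra.smul_def, RingHom.id_apply, map_mul]
        rfl }
  have key : LinearMap.range φl = ⊤ := by
    apply Groth.Agent.Lib.Helper12.eq_top_of_sup_smul_top_of_pow_eq_bot J n hJ
    intro c _
    obtain ⟨b, hb⟩ := h c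
    have : c = φ b + (c - φ b) := by ring
    rw [this]
    refine Submodule.add_mem_sup ⟨b, rfl⟩ ?_
    rw [Ideal.smul_top_eq_map]
    exact hb
  intro c
  have : c ∈ LinearMap.range φl := by rw [key]; trivial
  obtain ⟨b, hb⟩ := this
  exact ⟨b, hb⟩

/-- the structure map from global sections of the base to a stalk. -/
noncomputable def stalkStr (x : X) : Γ(S, ⊤) →+* X.presheaf.stalk x :=
  (f.appTop ≫ X.presheaf.germ ⊤ x trivial).hom

theorem germ_comp_appLE (W : X.Opens) (x : X) (hx : x ∈ W) :
    (X.presheaf.germ W x hx).hom.comp (f.appLE ⊤ W le_top).hom = stalkStr f x := by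
  ext r
  simp only [stalkStr, Scheme.Hom.appLE, CommRingCat.hom_comp, RingHom.comp_apply]
  erw [TopCat.Presheaf.germ_res_apply]
  rfl

theorem stalk_ker [Surjective i] (x' : (pullback f i : Scheme.{u}))
    (t : X.presheaf.stalk ((pullback.fst f i).base x'))
    (ht : (pullback.fst f i).stalkMap x' t = 0) :
    t ∈ (J i).map (stalkStr f ((pullback.fst f i).base x')) := by
  let c : pullback f i ⟶ X := pullback.fst f i
  have hemb : Topology.IsClosedEmbedding c.base := c.isClosedEmbedding
  have hopen : IsOpenMap c.base := by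
    have hs : Function.Surjective c.base := (inferInstance : Surjective c).surj
    exact (hemb.isEmbedding.toHomeomorphOfSurjective hs).isOpenMap
  obtain ⟨U, hxU, s, rfl⟩ := X.presheaf.exists_germ_eq t
  rw [Scheme.Hom.germ_stalkMap_apply] at ht
  have h0 : (pullback f i).presheaf.germ (c ⁻¹ᵁ U) x' hxU (0 : Γ(pullback f i, c ⁻¹ᵁ U)) = 0 :=
    map_zero _
  rw [← h0] at ht
  obtain ⟨N', hxN', iU, iV, hres⟩ := (pullback f i).presheaf.germ_eq x' hxU hxU _ _ ht
  let N : X.Opens := ⟨c.base '' (N' : Set _), hopen _ N'.isOpen⟩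
  have hxN : c.base x' ∈ N := ⟨x', hxN', rfl⟩
  obtain ⟨W, hWaff, hxW, hWle⟩ := Opens.isBasis_iff_nbhd.mp X.isBasis_affineOpens
    (show c.base x' ∈ N ⊓ U from ⟨hxN, hxU⟩)
  have hWU : W ≤ U := hWle.trans inf_le_right
  have hWN : c ⁻¹ᵁ W ≤ N' := by
    intro y hy
    obtain ⟨y', hy', hyy⟩ := (hWle.trans inf_le_left) hy
    rw [← hemb.injective hyy]
    exact hy'
  set s' := X.presheaf.map (homOfLE hWU).op s with hs'
  have hgerm : X.presheaf.germ W (c.base x') hxW s' = X.presheaf.germ U (c.base x') hxU s :=
    TopCat.Presheaf.germ_res_apply _ _ _ _ _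
  have hker : s' ∈ RingHom.ker (c.app W).hom := by
    rw [RingHom.mem_ker]
    have nat := c.naturality (homOfLE hWU).op
    have e1 : (c.app W).hom s' =
        ((pullback f i).presheaf.map (homOfLE (c.preimage_mono hWU)).op).hom ((c.app U).hom s) := by
      have := congrArg (fun m => m.hom s) nat
      simpa [hs'] using this.symm
    have e2 : ((pullback f i).presheaf.map (homOfLE (c.preimage_mono hWU)).op) =
        (pullback f i).presheaf.map iU.op ≫ (pullback f i).presheaf.map (homOfLE hWN).op := by
      rw [← Functor.map_comp]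
      rfl
    rw [e1, e2, CommRingCat.hom_comp, RingHom.comp_apply]
    have h3 : ((pullback f i).presheaf.map iU.op).hom ((c.app U).hom s) = 0 := by
      have := hres
      simp at this; exact this
    rw [h3, map_zero]
  rw [ker_app i f ⟨W, hWaff⟩] at hker
  rw [← hgerm, ← germ_comp_appLE f W (c.base x') hxW, ← Ideal.map_map]
  exact Ideal.mem_map_of_mem _ hker

theorem stalkStr_comp {Y' : Scheme.{u}} (u : X ⟶ Y') (g : Y' ⟶ S) (hug : u ≫ g = f) (x : X) :
    (u.stalkMap x).hom.comp (stalkStr g (u.base x)) = stalkStr f x := by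
  subst hug
  ext r
  simp only [stalkStr, CommRingCat.hom_comp, RingHom.comp_apply, Scheme.Hom.comp_appTop]
  erw [Scheme.Hom.germ_stalkMap_apply]
  rfl

/-- surjectivity on stalks descends from the special fibre. -/
theorem surjectiveOnStalks_of_comp [Surjective i] (n : ℕ) (hJ : (J i) ^ n = ⊥)
    {Y' : Scheme.{u}} (u : X ⟶ Y') (g : Y' ⟶ S) (hug : u ≫ g = f)
    [SurjectiveOnStalks (pullback.fst f i ≫ u)] : SurjectiveOnStalks u := by
  constructor
  intro x
  obtain ⟨x', rfl⟩ := (inferInstance : Surjective (pullback.fst f i)).surj x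
  have hcomp : Function.Surjective ((pullback.fst f i ≫ u).stalkMap x') :=
    (pullback.fst f i ≫ u).stalkMap_surjective x'
  rw [Scheme.Hom.stalkMap_comp] at hcomp
  refine surj_of_nilp (stalkStr g (u.base ((pullback.fst f i).base x')))
    (u.stalkMap ((pullback.fst f i).base x')).hom (J i) n hJ ?_
  intro c₀
  obtain ⟨b, hb⟩ := hcomp (((pullback.fst f i).stalkMap x') c₀)
  refine ⟨b, ?_⟩
  rw [stalkStr_comp f u g hug]
  apply stalk_ker i f x'
  rw [map_sub]
  have : ((pullback.fst f i).stalkMap x') ((u.stalkMap ((pullback.fst f i).base x')) b) =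
      ((pullback.fst f i).stalkMap x') c₀ := by
    exact hb
  erw [this]
  exact sub_self _

/-- transfer of (closed) immersions from the special fibre. -/
theorem imm_transfer [Surjective i] (n : ℕ) (hJ : (J i) ^ n = ⊥)
    {Y' : Scheme.{u}} (u : X ⟶ Y') (g : Y' ⟶ S) (hug : u ≫ g = f)
    (uk : pullback f i ⟶ pullback g i)
    (hcomm : pullback.fst f i ≫ u = uk ≫ pullback.fst g i) :
    (IsImmersion uk → IsImmersion u) ∧ (IsClosedImmersion uk → IsClosedImmersion u) := by
  have hsX : Function.Surjective (pullback.fst f i).base :=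
    (inferInstance : Surjective (pullback.fst f i)).surj
  have hsY : Function.Surjective (pullback.fst g i).base :=
    (inferInstance : Surjective (pullback.fst g i)).surj
  let eX : (pullback f i : Scheme.{u}) ≃ₜ X :=
    (pullback.fst f i).isClosedEmbedding.isEmbedding.toHomeomorphOfSurjective hsX
  let eY : (pullback g i : Scheme.{u}) ≃ₜ Y' :=
    (pullback.fst g i).isClosedEmbedding.isEmbedding.toHomeomorphOfSurjective hsY
  have hu : ⇑u.base = eY ∘ uk.base ∘ eX.symm := by
    funext x
    obtain ⟨x', rfl⟩ := eX.surjective x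
    simp only [Function.comp_apply, Homeomorph.symm_apply_apply]
    change (pullback.fst f i ≫ u).base x' = (uk ≫ pullback.fst g i).base x'
    rw [hcomm]
  have hrange : Set.range u.base = eY.symm ⁻¹' (Set.range uk.base) := by
    rw [hu, Set.range_comp, Set.range_comp, eX.symm.surjective.range_eq, Set.image_univ,
      eY.image_eq_preimage_symm]
  have hpre : IsPreimmersion uk → IsPreimmersion u := by
    intro h
    haveI : SurjectiveOnStalks (pullback.fst f i ≫ u) := by
      rw [hcomm]; infer_instance
    haveI := surjectiveOnStalks_of_comp i f n hJ u g hug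
    refine { isEmbedding := ?_ }
    rw [hu]
    exact eY.isEmbedding.comp (uk.isEmbedding.comp eX.symm.isEmbedding)
  constructor
  · intro h
    haveI := hpre inferInstance
    refine { isLocallyClosed_range := ?_ }
    rw [hrange]
    exact uk.isLocallyClosed_range.preimage eY.symm.continuous
  · intro h
    haveI := hpre inferInstance
    apply IsClosedImmersion.of_isPreimmersion
    rw [hrange]
    exact uk.isClosedEmbedding.isClosed_range.preimage eY.symm.continuous

/-- transfer of local finite type from the special fibre. -/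
theorem lft_transfer [IsAffine S₀] (n : ℕ) (hJ : (J i) ^ n = ⊥)
    [LocallyOfFiniteType (pullback.snd f i)] : LocallyOfFiniteType f := by
  rw [HasRingHomProperty.iff_appLE (P := @LocallyOfFiniteType)]
  intro U V e
  have key : (f.appLE ⊤ V.1 le_top).hom.FiniteType := by
    let c : pullback f i ⟶ X := pullback.fst f i
    have hV' : IsAffineOpen (c ⁻¹ᵁ V.1) := V.2.preimage c
    refine Groth.Agent.Lib.Helper12.finiteType_of_nilpotent (f.appLE ⊤ V.1 le_top).hom
      (c.app V.1).hom (J i) n hJ (c.app_surjective V.1 V.2) (ker_app i f V).le ?_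
    have e1 : f.appLE ⊤ V.1 le_top ≫ c.app V.1 =
        i.appTop ≫ (pullback.snd f i).appLE ⊤ (c ⁻¹ᵁ V.1) le_top := by
      rw [Scheme.Hom.app_eq_appLE, Scheme.Hom.appLE_comp_appLE]
      have : i.appTop = i.appLE ⊤ ⊤ le_top := by
        simp [Scheme.Hom.appLE, Scheme.Hom.appTop]
      rw [this, Scheme.Hom.appLE_comp_appLE]
      congr 1
      exact pullback.condition
    have e2 : (c.app V.1).hom.comp (f.appLE ⊤ V.1 le_top).hom =
        ((pullback.snd f i).appLE ⊤ (c ⁻¹ᵁ V.1) le_top).hom.comp i.appTop.hom := by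
      rw [← CommRingCat.hom_comp, ← CommRingCat.hom_comp, e1]
    rw [e2]
    refine RingHom.FiniteType.comp ?_ ?_
    · exact HasRingHomProperty.appLE (P := @LocallyOfFiniteType) (pullback.snd f i) inferInstance
        ⟨⊤, isAffineOpen_top S₀⟩ ⟨c ⁻¹ᵁ V.1, hV'⟩ le_top
    · exact RingHom.FiniteType.of_surjective _ (i.app_surjective ⊤ (isAffineOpen_top S))
  have e3 : S.presheaf.map (homOfLE (le_top : U.1 ≤ ⊤)).op ≫ f.appLE U.1 V.1 e =
      f.appLE ⊤ V.1 le_top := Scheme.Hom.map_appLE _ _ _
  rw [← e3, CommRingCat.hom_comp] at key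
  exact RingHom.FiniteType.of_comp_finiteType key

/-- transfer of quasi-compactness from the special fibre. -/
theorem qc_transfer [IsAffine S₀] [Surjective i]
    [QuasiCompact (pullback.snd f i)] : QuasiCompact f := by
  haveI : CompactSpace (pullback f i : Scheme.{u}) :=
    QuasiCompact.compactSpace_of_compactSpace (pullback.snd f i)
  have hs : Function.Surjective (pullback.fst f i).base :=
    (inferInstance : Surjective (pullback.fst f i)).surj
  haveI : CompactSpace X := by
    constructor
    rw [← hs.range_eq]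
    exact isCompact_range (pullback.fst f i).continuous
  infer_instance

end Groth.Agent.Lib.Helper90.Thk1
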