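import Mathlib
import Groth.Agent.Lib.Helper90.Thk1

set_option linter.style.haveILetI false
set_option linter.unusedSectionVars false

open CategoryTheory Limits AlgebraicGeometry TopologicalSpace

universe u

namespace Groth.Agent.Lib.Helper90.Thk2

open Groth.Agent.Lib.Helper90.Thk1

variable (A : Type u) [CommRing A] [IsArtinianRing A] [IsLocalRing A]

/-- the closed point. -/
noncomputable abbrev cp : Spec (CommRingCat.of (IsLocalRing.ResidueField A)) ⟶
    Spec (CommRingCat.of A) :=
  Spec.map (CommRingCat.ofHom (IsLocalRing.residue A))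

instance : IsClosedImmersion (cp A) :=
  IsClosedImmersion.spec_of_surjective _ IsLocalRing.residue_surjective

instance : Surjective (cp A) := by
  constructor
  intro p
  refine ⟨⟨⊥, Ideal.isPrime_bot⟩, ?_⟩
  apply PrimeSpectrum.ext
  have hmax : p.asIdeal.IsMaximal := IsArtinianRing.isMaximal_of_isPrime p.asIdeal
  rw [IsLocalRing.eq_maximalIdeal hmax]
  change Ideal.comap (IsLocalRing.residue A) ⊥ = _
  rw [← RingHom.ker_eq_comap_bot, IsLocalRing.ker_residue]

theorem J_nilp : ∃ n : ℕ, (J (cp A)) ^ n = ⊥ := by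
  have h1 : IsNilpotent (IsLocalRing.maximalIdeal A) := by
    have := IsArtinianRing.isNilpotent_jacobson_bot (R := A)
    rwa [IsLocalRing.jacobson_eq_maximalIdeal ⊥ bot_ne_top] at this
  obtain ⟨n, hn⟩ := h1
  refine ⟨n, ?_⟩
  let e := Scheme.ΓSpecIso (CommRingCat.of A)
  have hle : J (cp A) ≤ (IsLocalRing.maximalIdeal A).comap e.hom.hom := by
    intro a ha
    rw [Ideal.mem_comap, ← IsLocalRing.ker_residue, RingHom.mem_ker]
    have hnat := Scheme.ΓSpecIso_naturality (CommRingCat.ofHom (IsLocalRing.residue A))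
    have h2 := congrArg (fun m => m.hom a) hnat
    simp only [CommRingCat.hom_comp, RingHom.comp_apply, CommRingCat.hom_ofHom] at h2
    rw [← h2]
    have : ((cp A).appTop).hom a = 0 := ha
    rw [this, map_zero]
  rw [← le_bot_iff]
  calc (J (cp A)) ^ n ≤ ((IsLocalRing.maximalIdeal A).comap e.hom.hom) ^ n :=
        Ideal.pow_right_mono hle n
    _ ≤ ((IsLocalRing.maximalIdeal A) ^ n).comap e.hom.hom := Ideal.le_comap_pow _ _
    _ = ⊥ := by
        rw [hn, Ideal.zero_eq_bot, ← RingHom.ker_eq_comap_bot]
        exact (RingHom.injective_iff_ker_eq_bot _).mp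
          (ConcreteCategory.bijective_of_isIso e.hom).injective

theorem main (X Y : Over (Spec (CommRingCat.of A))) (u : X ⟶ Y) :
    (LocallyOfFiniteType (pullback.snd X.hom (cp A)) → LocallyOfFiniteType X.hom) ∧
    (LocallyOfFiniteType (pullback.snd X.hom (cp A)) → QuasiCompact (pullback.snd X.hom (cp A)) →
      QuasiCompact X.hom) ∧
    (IsImmersion ((Over.pullback (cp A)).map u).left → IsImmersion u.left) ∧
    (IsClosedImmersion ((Over.pullback (cp A)).map u).left → IsClosedImmersion u.left) := by
  obtain ⟨n, hn⟩ := J_nilp A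
  have hcomm : pullback.fst X.hom (cp A) ≫ u.left =
      ((Over.pullback (cp A)).map u).left ≫ pullback.fst Y.hom (cp A) := by
    simp only [Over.pullback_map_left]
    exact (pullback.lift_fst _ _ _).symm
  have h34 := imm_transfer (cp A) X.hom n hn u.left Y.hom (Over.w u)
    ((Over.pullback (cp A)).map u).left hcomm
  exact ⟨fun h => lft_transfer (cp A) X.hom n hn, fun _ h => qc_transfer (cp A) X.hom,
    h34.1, h34.2⟩

end Groth.Agent.Lib.Helper90.Thk2
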