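import Mathlib

set_option autoImplicit false
set_option linter.style.haveILetI false
universe u

namespace Groth.Agent.Lib.Helper90.TruncLift

variable {A : Type u} [CommRing A] (K : Ideal A) {B : Type u} [CommRing B] [Algebra A B]

example : IsScalarTower A (A ⧸ K) (B ⧸ K.map (algebraMap A B)) := inferInstance

section Killed

variable {E : Type*} [CommRing E] [Algebra A E] [Algebra (A ⧸ K) E] [IsScalarTower A (A ⧸ K) E]

include K in
omit [Algebra A B] in
theorem algebraMap_eq_zero_of_mem {a : A} (ha : a ∈ K) : algebraMap A E a = 0 := by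
  rw [IsScalarTower.algebraMap_apply A (A ⧸ K) E, Ideal.Quotient.algebraMap_eq,
    Ideal.Quotient.eq_zero_iff_mem.mpr ha, map_zero]

theorem map_eq_bot : K.map (algebraMap A E) = ⊥ := by
  rw [eq_bot_iff, Ideal.map_le_iff_le_comap]
  intro a ha
  exact algebraMap_eq_zero_of_mem K ha

/-- An `A`-algebra map from `B` into an algebra killed by `K` kills `K B`. -/
theorem algHom_map_le_ker (u : B →ₐ[A] E) : K.map (algebraMap A B) ≤ RingHom.ker u.toRingHom := by
  rw [Ideal.map_le_iff_le_comap]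
  intro a ha
  change u (algebraMap A B a) = 0
  rw [u.commutes]
  exact algebraMap_eq_zero_of_mem K ha

/-- Descent of an `A`-algebra map to the truncation. -/
noncomputable def descend (u : B →ₐ[A] E) : (B ⧸ K.map (algebraMap A B)) →ₐ[A ⧸ K] E :=
  AlgHom.extendScalarsOfSurjective (R := A) (S := A ⧸ K) Ideal.Quotient.mk_surjective
    (Ideal.Quotient.liftₐ (K.map (algebraMap A B)) u (fun _ hx => algHom_map_le_ker K u hx))

@[simp]
theorem descend_mk (u : B →ₐ[A] E) (b : B) :
    descend K u (Ideal.Quotient.mk _ b) = u b := rfl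

end Killed

section Lift

variable {E C : Type u} [CommRing E] [CommRing C] [Algebra A E] [Algebra A C]
  [Algebra (A ⧸ K) E] [IsScalarTower A (A ⧸ K) E]
  [Algebra (A ⧸ K) C] [IsScalarTower A (A ⧸ K) C]

/-- Lifting for the truncation gives lifting for `B` against algebras killed by `K`. -/
theorem exists_lift_of_formallySmooth
    [Algebra.FormallySmooth (A ⧸ K) (B ⧸ K.map (algebraMap A B))]
    (p : E →ₐ[A] C) (hp : Function.Surjective p) (hnil : IsNilpotent (RingHom.ker p.toRingHom))
    (u : B →ₐ[A] C) : ∃ v : B →ₐ[A] E, p.comp v = u := by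
  let p₂ : E →ₐ[A ⧸ K] C :=
    AlgHom.extendScalarsOfSurjective (R := A) (S := A ⧸ K) Ideal.Quotient.mk_surjective p
  let u₂ := descend K u
  have hp₂ : Function.Surjective p₂ := hp
  have hnil₂ : IsNilpotent (RingHom.ker (p₂ : E →+* C)) := hnil
  let v₂ := Algebra.FormallySmooth.liftOfSurjective u₂ p₂ hp₂ hnil₂
  have hv₂ : p₂.comp v₂ = u₂ := Algebra.FormallySmooth.comp_liftOfSurjective u₂ p₂ hp₂ hnil₂
  refine ⟨(v₂.restrictScalars A).comp (Ideal.Quotient.mkₐ A (K.map (algebraMap A B))), ?_⟩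
  ext b
  have := congr($hv₂ (Ideal.Quotient.mk _ b))
  exact this

/-- Uniqueness of lifts for the truncation gives uniqueness for `B`. -/
theorem lift_unique_of_formallyUnramified
    [Algebra.FormallyUnramified (A ⧸ K) (B ⧸ K.map (algebraMap A B))]
    (p : E →ₐ[A] C) (hnil : IsNilpotent (RingHom.ker p.toRingHom))
    (v₁ v₂ : B →ₐ[A] E) (h : p.comp v₁ = p.comp v₂) : v₁ = v₂ := by
  let p₂ : E →ₐ[A ⧸ K] C :=
    AlgHom.extendScalarsOfSurjective (R := A) (S := A ⧸ K) Ideal.Quotient.mk_surjective p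
  have hnil₂ : IsNilpotent (RingHom.ker (p₂ : E →+* C)) := hnil
  have h2 : p₂.comp (descend K v₁) = p₂.comp (descend K v₂) := by
    ext x
    obtain ⟨b, rfl⟩ := Ideal.Quotient.mk_surjective x
    exact congr($h b)
  have h3 := Algebra.FormallyUnramified.lift_unique' p₂ hnil₂ _ _ h2
  ext b
  exact congr($h3 (Ideal.Quotient.mk _ b))

end Lift

section LiftKilled

variable {E C : Type u} [CommRing E] [CommRing C] [Algebra A E] [Algebra A C]

/-- The `A ⧸ K`-algebra structure on an `A`-algebra killed by `K`. -/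
@[reducible] noncomputable def algebraOfKilled (E : Type*) [CommRing E] [Algebra A E]
    (hE : K.map (algebraMap A E) = ⊥) : Algebra (A ⧸ K) E :=
  (Ideal.Quotient.lift K (algebraMap A E) (fun a ha => by
    have := Ideal.mem_map_of_mem (algebraMap A E) ha
    rwa [hE] at this)).toAlgebra

theorem exists_lift_of_killed [Algebra.FormallySmooth (A ⧸ K) (B ⧸ K.map (algebraMap A B))]
    (hE : K.map (algebraMap A E) = ⊥) (hC : K.map (algebraMap A C) = ⊥)
    (p : E →ₐ[A] C) (hp : Function.Surjective p) (hnil : IsNilpotent (RingHom.ker p.toRingHom))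
    (u : B →ₐ[A] C) : ∃ v : B →ₐ[A] E, p.comp v = u := by
  letI := algebraOfKilled K E hE
  letI := algebraOfKilled K C hC
  haveI : IsScalarTower A (A ⧸ K) E := IsScalarTower.of_algebraMap_eq (fun _ => rfl)
  haveI : IsScalarTower A (A ⧸ K) C := IsScalarTower.of_algebraMap_eq (fun _ => rfl)
  exact exists_lift_of_formallySmooth K p hp hnil u

theorem lift_unique_of_killed [Algebra.FormallyUnramified (A ⧸ K) (B ⧸ K.map (algebraMap A B))]
    (hE : K.map (algebraMap A E) = ⊥) (hC : K.map (algebraMap A C) = ⊥)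
    (p : E →ₐ[A] C) (hnil : IsNilpotent (RingHom.ker p.toRingHom))
    (v₁ v₂ : B →ₐ[A] E) (h : p.comp v₁ = p.comp v₂) : v₁ = v₂ := by
  letI := algebraOfKilled K E hE
  letI := algebraOfKilled K C hC
  haveI : IsScalarTower A (A ⧸ K) E := IsScalarTower.of_algebraMap_eq (fun _ => rfl)
  haveI : IsScalarTower A (A ⧸ K) C := IsScalarTower.of_algebraMap_eq (fun _ => rfl)
  exact lift_unique_of_formallyUnramified K p hnil v₁ v₂ h

end LiftKilled

section Converse

/-- The `A`-algebra structure on an `A ⧸ K`-algebra. -/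
theorem formallySmooth_of_lift
    (H : ∀ (E C : Type u) [CommRing E] [CommRing C] [Algebra A E] [Algebra A C],
      K.map (algebraMap A E) = ⊥ → K.map (algebraMap A C) = ⊥ →
      ∀ (p : E →ₐ[A] C), Function.Surjective p → RingHom.ker p.toRingHom ^ 2 = ⊥ →
      ∀ u : B →ₐ[A] C, ∃ v : B →ₐ[A] E, p.comp v = u) :
    Algebra.FormallySmooth (A ⧸ K) (B ⧸ K.map (algebraMap A B)) := by
  apply Algebra.FormallySmooth.of_comp_surjective
  intro E _ _ J hJ f
  letI : Algebra A E := ((algebraMap (A ⧸ K) E).comp (Ideal.Quotient.mk K)).toAlgebra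
  haveI : IsScalarTower A (A ⧸ K) E := IsScalarTower.of_algebraMap_eq (fun _ => rfl)
  have hE : K.map (algebraMap A E) = ⊥ := map_eq_bot K
  have hC : K.map (algebraMap A (E ⧸ J)) = ⊥ := map_eq_bot K
  have hker : RingHom.ker (Ideal.Quotient.mkₐ A J).toRingHom = J := Ideal.mk_ker
  obtain ⟨v, hv⟩ := H E (E ⧸ J) hE hC (Ideal.Quotient.mkₐ A J) Ideal.Quotient.mk_surjective
    (by rw [hker, hJ])
    ((f.restrictScalars A).comp (Ideal.Quotient.mkₐ A (K.map (algebraMap A B))))
  refine ⟨descend K v, ?_⟩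
  ext x
  obtain ⟨b, rfl⟩ := Ideal.Quotient.mk_surjective x
  exact congr($hv b)

theorem formallyUnramified_of_lift_unique
    (H : ∀ (E C : Type u) [CommRing E] [CommRing C] [Algebra A E] [Algebra A C],
      K.map (algebraMap A E) = ⊥ → K.map (algebraMap A C) = ⊥ →
      ∀ (p : E →ₐ[A] C), Function.Surjective p → RingHom.ker p.toRingHom ^ 2 = ⊥ →
      ∀ v₁ v₂ : B →ₐ[A] E, p.comp v₁ = p.comp v₂ → v₁ = v₂) :
    Algebra.FormallyUnramified (A ⧸ K) (B ⧸ K.map (algebraMap A B)) := by
  rw [Algebra.FormallyUnramified.iff_comp_injective]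
  intro E _ _ J hJ f₁ f₂ hf
  letI : Algebra A E := ((algebraMap (A ⧸ K) E).comp (Ideal.Quotient.mk K)).toAlgebra
  haveI : IsScalarTower A (A ⧸ K) E := IsScalarTower.of_algebraMap_eq (fun _ => rfl)
  have hE : K.map (algebraMap A E) = ⊥ := map_eq_bot K
  have hC : K.map (algebraMap A (E ⧸ J)) = ⊥ := map_eq_bot K
  have hker : RingHom.ker (Ideal.Quotient.mkₐ A J).toRingHom = J := Ideal.mk_ker
  have := H E (E ⧸ J) hE hC (Ideal.Quotient.mkₐ A J) Ideal.Quotient.mk_surjective
    (by rw [hker, hJ])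
    ((f₁.restrictScalars A).comp (Ideal.Quotient.mkₐ A (K.map (algebraMap A B))))
    ((f₂.restrictScalars A).comp (Ideal.Quotient.mkₐ A (K.map (algebraMap A B))))
    (by
      ext b
      exact congr($hf (Ideal.Quotient.mk _ b)))
  ext x
  obtain ⟨b, rfl⟩ := Ideal.Quotient.mk_surjective x
  exact congr($this b)

end Converse

end Groth.Agent.Lib.Helper90.TruncLift
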